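import Mathlib
import Cfsg.Prelude.Def_Local
import Cfsg.Prelude.Def_PLocal
import Cfsg.Agent.H2.Cores

/-!
# Elementary tools for `p`-local arguments
-/

set_option autoImplicit false

namespace H13

open Cfsg Subgroup
open scoped commutatorElement

variable {G : Type*} [Group G]

/-! ### membership in products -/

theorem mem_sup_of_le_normalizer {H K : Subgroup G} (h : H ≤ normalizer (K : Set G)) {x : G} :
    x ∈ H ⊔ K ↔ ∃ a ∈ H, ∃ b ∈ K, a * b = x := by
  have := coe_mul_of_left_le_normalizer_right H K h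
  rw [← SetLike.mem_coe, this]
  simp [Set.mem_mul]

theorem mem_sup_of_le_normalizer' {H K : Subgroup G} (h : K ≤ normalizer (H : Set G)) {x : G} :
    x ∈ H ⊔ K ↔ ∃ a ∈ H, ∃ b ∈ K, a * b = x := by
  have := coe_mul_of_right_le_normalizer_left H K h
  rw [← SetLike.mem_coe, this]
  simp [Set.mem_mul]

theorem conj_mem_of_mem_normalizer {H : Subgroup G} {g x : G} (hg : g ∈ normalizer (H : Set G))
    (hx : x ∈ H) : g * x * g⁻¹ ∈ H := (mem_normalizer_iff.mp hg x).mp hx

theorem conj_mem_of_mem_normalizer' {H : Subgroup G} {g x : G} (hg : g ∈ normalizer (H : Set G))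
    (hx : x ∈ H) : g⁻¹ * x * g ∈ H := (mem_normalizer_iff''.mp hg x).mp hx

theorem mem_normalizer_of_finite [Finite G] {H : Subgroup G} {g : G}
    (h : ∀ x ∈ H, g * x * g⁻¹ ∈ H) : g ∈ normalizer (H : Set G) :=
  mem_normalizer_fintype h

theorem mem_normalizer_of_finite' [Finite G] {H : Subgroup G} {g : G}
    (h : ∀ x ∈ H, g⁻¹ * x * g ∈ H) : g ∈ normalizer (H : Set G) := by
  rw [← inv_mem_iff]
  exact mem_normalizer_of_finite (by simpa using h)

theorem normalizer_le_normalizer_centralizer (H : Subgroup G) :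
    normalizer (H : Set G) ≤ normalizer (centralizer (H : Set G) : Set G) := by
  rw [le_normalizer_iff]
  intro g hg c hc
  rw [mem_centralizer_iff] at hc ⊢
  intro x hx
  have := hc _ (conj_mem_of_mem_normalizer' hg hx)
  calc x * (g * c * g⁻¹) = g * (g⁻¹ * x * g * c) * g⁻¹ := by group
    _ = g * (c * (g⁻¹ * x * g)) * g⁻¹ := by rw [this]
    _ = g * c * g⁻¹ * x := by group

theorem le_normalizer_inf {A H K : Subgroup G} (h1 : A ≤ normalizer (H : Set G))
    (h2 : A ≤ normalizer (K : Set G)) : A ≤ normalizer ((H ⊓ K : Subgroup G) : Set G) :=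
  (le_inf h1 h2).trans inf_normalizer_le_normalizer_inf

theorem le_normalizer_sup {A H K : Subgroup G} (h1 : A ≤ normalizer (H : Set G))
    (h2 : A ≤ normalizer (K : Set G)) : A ≤ normalizer ((H ⊔ K : Subgroup G) : Set G) :=
  (le_inf h1 h2).trans (normalizer_inf_normalizer_le_normalizer_sup H K)

theorem le_normalizer_commutator {A H K : Subgroup G} (h1 : A ≤ normalizer (H : Set G))
    (h2 : A ≤ normalizer (K : Set G)) : A ≤ normalizer ((⁅H, K⁆ : Subgroup G) : Set G) := by
  rw [Subgroup.commutator_def, le_normalizer_closure_iff]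
  rintro a ha _ ⟨x, hx, y, hy, rfl⟩
  rw [conjugate_commutatorElement]
  exact subset_closure ⟨_, conj_mem_of_mem_normalizer (h1 ha) hx, _,
    conj_mem_of_mem_normalizer (h2 ha) hy, rfl⟩

theorem le_normalizer_centralizer {A H : Subgroup G} (h : A ≤ normalizer (H : Set G)) :
    A ≤ normalizer (centralizer (H : Set G) : Set G) :=
  h.trans (normalizer_le_normalizer_centralizer H)

theorem centralizer_anti {H K : Subgroup G} (h : H ≤ K) :
    centralizer (K : Set G) ≤ centralizer (H : Set G) := centralizer_le h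

theorem le_normalizer_of_le_centralizer {A H : Subgroup G} (h : A ≤ centralizer (H : Set G)) :
    A ≤ normalizer (H : Set G) := h.trans (centralizer_le_normalizer _)

theorem le_centralizer_sup {A H K : Subgroup G} (h1 : A ≤ centralizer (H : Set G))
    (h2 : A ≤ centralizer (K : Set G)) : A ≤ centralizer ((H ⊔ K : Subgroup G) : Set G) :=
  le_centralizer_iff.mp (sup_le (le_centralizer_iff.mp h1) (le_centralizer_iff.mp h2))

/-- Dedekind's modular law. -/
theorem inf_sup_of_le_normalizer {A B C : Subgroup G} (hAB : A ≤ normalizer (B : Set G))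
    (hAC : A ≤ C) : (A ⊔ B) ⊓ C = A ⊔ (B ⊓ C) := by
  refine le_antisymm ?_ (le_inf (sup_le_sup_left inf_le_left _) (sup_le hAC inf_le_right))
  rintro x ⟨hx, hxC⟩
  obtain ⟨a, ha, b, hb, rfl⟩ := (mem_sup_of_le_normalizer hAB).mp hx
  refine mul_mem (mem_sup_left ha) (mem_sup_right ⟨hb, ?_⟩)
  simpa using C.mul_mem (C.inv_mem (hAC ha)) hxC

theorem inf_sup_of_le_normalizer' {A B C : Subgroup G} (hAB : B ≤ normalizer (A : Set G))
    (hAC : A ≤ C) : (A ⊔ B) ⊓ C = A ⊔ (B ⊓ C) := by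
  refine le_antisymm ?_ (le_inf (sup_le_sup_left inf_le_left _) (sup_le hAC inf_le_right))
  rintro x ⟨hx, hxC⟩
  obtain ⟨a, ha, b, hb, rfl⟩ := (mem_sup_of_le_normalizer' hAB).mp hx
  refine mul_mem (mem_sup_left ha) (mem_sup_right ⟨hb, ?_⟩)
  simpa using C.mul_mem (C.inv_mem (hAC ha)) hxC

theorem isPGroup_sup_of_le_normalizer {p : ℕ} {H K : Subgroup G} (hH : IsPGroup p H)
    (hK : IsPGroup p K) (h : H ≤ normalizer (K : Set G)) : IsPGroup p ↥(H ⊔ K) :=
  IsPGroup.to_sup_of_normal_right' hH hK h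

theorem isPGroup_iff_forall_mem {p : ℕ} {H : Subgroup G} :
    IsPGroup p H ↔ ∀ x ∈ H, ∃ k : ℕ, x ^ p ^ k = 1 := by
  constructor
  · intro h x hx
    obtain ⟨k, hk⟩ := h ⟨x, hx⟩
    exact ⟨k, congrArg Subtype.val hk⟩
  · intro h x
    obtain ⟨k, hk⟩ := h x x.2
    exact ⟨k, Subtype.ext hk⟩

theorem isPGroup_zpowers {p : ℕ} {x : G} {k : ℕ} (h : x ^ p ^ k = 1) :
    IsPGroup p (zpowers x) := by
  rw [isPGroup_iff_forall_mem]
  rintro _ ⟨n, rfl⟩
  refine ⟨k, ?_⟩
  show (x ^ n) ^ p ^ k = 1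
  rw [← zpow_natCast, ← zpow_mul, mul_comm, zpow_mul, zpow_natCast, h, one_zpow]

theorem isMulCommutative_iff_forall_mem {H : Subgroup G} :
    IsMulCommutative H ↔ ∀ x ∈ H, ∀ y ∈ H, x * y = y * x := by
  rw [← le_centralizer_iff_isMulCommutative]
  exact ⟨fun h x hx y hy => (h hy x hx), fun h y hy x hx => h x hx y hy⟩

theorem isMulCommutative_of_le {H K : Subgroup G} (hK : IsMulCommutative K) (h : H ≤ K) :
    IsMulCommutative H := by
  rw [isMulCommutative_iff_forall_mem] at hK ⊢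
  exact fun x hx y hy => hK x (h hx) y (h hy)

/-! ### `p`-parts and `p'`-parts of elements -/

theorem exists_pow_coprime_orderOf [Finite G] {p : ℕ} (hp : p.Prime) (g : G) :
    ∃ k : ℕ, (orderOf (g ^ p ^ k)).Coprime p := by
  obtain ⟨k, m, hm, h⟩ := Nat.exists_eq_pow_mul_and_not_dvd (orderOf_pos g).ne' p hp.ne_one
  refine ⟨k, Nat.Coprime.coprime_dvd_left ?_ ((Nat.Prime.coprime_iff_not_dvd hp).mpr hm).symm⟩
  rw [orderOf_dvd_iff_pow_eq_one, ← pow_mul, ← h, pow_orderOf_eq_one]

/-- every element is a product of a `p`-element and a `p'`-element, both powers of it -/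
theorem exists_p_part [Finite G] {p : ℕ} (hp : p.Prime) (g : G) :
    ∃ a ∈ zpowers g, ∃ b ∈ zpowers g, (∃ k : ℕ, a ^ p ^ k = 1) ∧ (orderOf b).Coprime p ∧
      g = a * b := by
  obtain ⟨k, m, hm, h⟩ := Nat.exists_eq_pow_mul_and_not_dvd (orderOf_pos g).ne' p hp.ne_one
  have hc : Nat.Coprime (p ^ k) m := ((Nat.Prime.coprime_iff_not_dvd hp).mpr hm).pow_left k
  obtain ⟨u, v, huv⟩ := Nat.isCoprime_iff_coprime.mpr hc
  refine ⟨g ^ (v * m), ⟨_, rfl⟩, g ^ (u * (p ^ k : ℕ)), ⟨_, rfl⟩, ⟨k, ?_⟩, ?_, ?_⟩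
  · rw [← zpow_natCast, ← zpow_mul, mul_assoc, mul_comm v, zpow_mul, ← Nat.cast_mul, mul_comm m,
      ← h, zpow_natCast, pow_orderOf_eq_one, one_zpow]
  · refine Nat.Coprime.coprime_dvd_left ?_ ((Nat.Prime.coprime_iff_not_dvd hp).mpr hm).symm
    rw [orderOf_dvd_iff_pow_eq_one, ← zpow_natCast, ← zpow_mul, mul_assoc, mul_comm u, zpow_mul,
      ← Nat.cast_mul, ← h, zpow_natCast, pow_orderOf_eq_one, one_zpow]
  · rw [← zpow_add, add_comm, huv, zpow_one]

theorem isPGroup_of_forall_coprime_eq_one [Finite G] {p : ℕ} (hp : p.Prime) {H : Subgroup G}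
    (h : ∀ g ∈ H, (orderOf g).Coprime p → g = 1) : IsPGroup p H := by
  rw [isPGroup_iff_forall_mem]
  intro x hx
  obtain ⟨k, hk⟩ := exists_pow_coprime_orderOf hp x
  exact ⟨k, h _ (H.pow_mem hx _) hk⟩

theorem eq_one_of_pow_eq_one_of_coprime {p k : ℕ} {x : G} (h : x ^ p ^ k = 1)
    (hc : (orderOf x).Coprime p) : x = 1 := by
  rw [← orderOf_eq_one_iff]
  exact Nat.eq_one_of_dvd_coprimes (hc.pow_right k) dvd_rfl (orderOf_dvd_of_pow_eq_one h)

theorem eq_one_of_mem_isPGroup_of_coprime {p : ℕ} {H : Subgroup G} (hH : IsPGroup p H) {x : G}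
    (hx : x ∈ H) (hc : (orderOf x).Coprime p) : x = 1 := by
  obtain ⟨k, hk⟩ := isPGroup_iff_forall_mem.mp hH x hx
  exact eq_one_of_pow_eq_one_of_coprime hk hc

theorem orderOf_coprime_of_mem {p : ℕ} {H : Subgroup G} (hH : (Nat.card H).Coprime p) {x : G}
    (hx : x ∈ H) : (orderOf x).Coprime p :=
  Nat.Coprime.coprime_dvd_left (orderOf_dvd_natCard H hx) hH

theorem card_coprime_of_forall_orderOf [Finite G] {p : ℕ} [hp : Fact p.Prime] {H : Subgroup G}
    (h : ∀ x ∈ H, (orderOf x).Coprime p) : (Nat.card H).Coprime p := by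
  rw [Nat.coprime_comm, hp.out.coprime_iff_not_dvd]
  intro hd
  obtain ⟨x, hx⟩ := exists_prime_orderOf_dvd_card' p hd
  have := h x x.2
  rw [Subgroup.orderOf_coe, hx] at this
  exact hp.out.one_lt.ne' (Nat.coprime_self _ |>.mp this)

theorem card_zpowers_coprime {p : ℕ} {x : G} (h : (orderOf x).Coprime p) :
    (Nat.card (zpowers x)).Coprime p := by rwa [Nat.card_zpowers]

theorem eq_bot_of_isPGroup_of_le_coprime [Finite G] {p : ℕ} {H K : Subgroup G}
    (hH : IsPGroup p H) (hK : (Nat.card K).Coprime p) (h : H ≤ K) : H = ⊥ :=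
  H2.IsPGroup.eq_bot_of_coprime hH (Nat.Coprime.coprime_dvd_left (card_dvd_of_le h) hK)

theorem inf_eq_bot_of_isPGroup_of_coprime [Finite G] {p : ℕ} {H K : Subgroup G}
    (hH : IsPGroup p H) (hK : (Nat.card K).Coprime p) : H ⊓ K = ⊥ :=
  eq_bot_of_isPGroup_of_le_coprime hH.to_inf_left hK inf_le_right

/-! ### commutators with an element of coprime order -/

theorem conj_pow_eq_of_commute {x y z : G} (h : x * y * x⁻¹ = z * y) (hz : Commute z y) (n : ℕ) :
    x * y ^ n * x⁻¹ = z ^ n * y ^ n := by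
  rw [← conj_pow, h, hz.mul_pow]

/-- If `⁅x, y⁆` commutes with `y`, then `⁅x, y⁆ ^ orderOf y = 1`. -/
theorem commutator_pow_eq_one_of_commute {x y : G} (hz : Commute ⁅x, y⁆ y) {n : ℕ}
    (hn : y ^ n = 1) : ⁅x, y⁆ ^ n = 1 := by
  have := conj_pow_eq_of_commute (x := x) (y := y) (z := ⁅x, y⁆)
    (by rw [commutatorElement_def]; group) hz n
  simpa [hn] using this.symm

theorem commutator_pow_right {x y : G} (hz : Commute ⁅x, y⁆ y) (n : ℕ) :
    ⁅x, y ^ n⁆ = ⁅x, y⁆ ^ n := by
  have := conj_pow_eq_of_commute (x := x) (y := y) (z := ⁅x, y⁆)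
    (by rw [commutatorElement_def]; group) hz n
  rw [commutatorElement_def, this]; group

theorem commutator_pow_left {x y : G} (hz : Commute ⁅x, y⁆ x) (n : ℕ) :
    ⁅x ^ n, y⁆ = ⁅x, y⁆ ^ n := by
  have h : Commute ⁅y, x⁆ x := by rw [← commutatorElement_inv]; exact hz.inv_left
  rw [← commutatorElement_inv, commutator_pow_right h, ← inv_pow, commutatorElement_inv]

/-- a `p'`-element `y` acting trivially on `T / N` and on `N` (a `p`-group) centralizes `T`. -/
theorem mem_centralizer_of_stabilizes {p : ℕ} {T N : Subgroup G} (hN : IsPGroup p N) {y : G}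
    (hy : (orderOf y).Coprime p) (h1 : ∀ t ∈ T, ⁅t, y⁆ ∈ N) (h2 : y ∈ centralizer (N : Set G)) :
    y ∈ centralizer (T : Set G) := by
  intro t ht
  have hc : Commute ⁅t, y⁆ y := h2 _ (h1 t ht)
  have h3 := commutator_pow_eq_one_of_commute hc (pow_orderOf_eq_one y)
  rw [← commutatorElement_eq_one_iff_mul_comm]
  exact eq_one_of_mem_isPGroup_of_coprime hN (h1 t ht)
    (Nat.Coprime.coprime_dvd_left (orderOf_dvd_of_pow_eq_one h3) hy)

/-- a `p`-element `y` acting trivially on `T / N` and on `N` (a `p'`-group) centralizes `T`. -/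
theorem mem_centralizer_of_stabilizes' {p : ℕ} {T N : Subgroup G} (hN : (Nat.card N).Coprime p)
    {y : G} {k : ℕ} (hy : y ^ p ^ k = 1) (h1 : ∀ t ∈ T, ⁅t, y⁆ ∈ N)
    (h2 : y ∈ centralizer (N : Set G)) : y ∈ centralizer (T : Set G) := by
  intro t ht
  have hc : Commute ⁅t, y⁆ y := h2 _ (h1 t ht)
  have h3 := commutator_pow_eq_one_of_commute hc hy
  rw [← commutatorElement_eq_one_iff_mul_comm]
  exact eq_one_of_pow_eq_one_of_coprime h3 (orderOf_coprime_of_mem hN (h1 t ht))

/-- `[U, Q, Q] = 1` with `[U,Q]` a `p`-group and `Q` a `p'`-group gives `[U, Q] = 1`. -/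
theorem le_centralizer_of_commutator_commutator_eq_bot {p : ℕ} {U Q : Subgroup G}
    (hU : IsPGroup p ↥⁅U, Q⁆) (hQ : (Nat.card Q).Coprime p) (h : ⁅⁅U, Q⁆, Q⁆ = ⊥) :
    Q ≤ centralizer (U : Set G) := fun _ hy =>
  mem_centralizer_of_stabilizes hU (orderOf_coprime_of_mem hQ hy)
    (fun _ ht => commutator_mem_commutator ht hy)
    (le_centralizer_iff.mp (commutator_eq_bot_iff_le_centralizer.mp h) hy)

/-! ### nilpotent action -/

theorem commutator_lt_of_isNilpotent {U P : Subgroup G} (hK : Group.IsNilpotent ↥(P ⊔ U))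
    (hPU : P ≤ normalizer (U : Set G)) (hU : U ≠ ⊥) : ⁅U, P⁆ < U := by
  refine lt_of_le_of_ne (le_normalizer_iff_commutator_le_left.mp hPU) fun h => hU ?_
  obtain ⟨n, hn⟩ := (isNilpotent_iff_lowerCentralSeries _).mp hK
  have : ∀ m, U ≤ (P ⊔ U).lowerCentralSeries m := by
    intro m
    induction m with
    | zero => exact le_sup_right
    | succ m ih => rw [Subgroup.lowerCentralSeries_succ]; exact h.ge.trans (commutator_mono ih le_sup_left)
  exact le_bot_iff.mp (hn ▸ this n)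

theorem commutator_lt_of_isPGroup [Finite G] {p : ℕ} [Fact p.Prime] {U P : Subgroup G}
    (hU : IsPGroup p U) (hP : IsPGroup p P) (hPU : P ≤ normalizer (U : Set G)) (hU1 : U ≠ ⊥) :
    ⁅U, P⁆ < U :=
  commutator_lt_of_isNilpotent (isPGroup_sup_of_le_normalizer hP hU hPU).isNilpotent hPU hU1

/-- In a nilpotent group `K`, if `U ≤ K` is normalized by `K` and not contained in `H`, some
element of `U` outside `H` has all its commutators with `K` in `H ⊓ U`. -/
theorem exists_not_mem_commutator_mem {K U H : Subgroup G} (hK : Group.IsNilpotent K)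
    (hUK : U ≤ K) (hKU : K ≤ normalizer (U : Set G)) (hUH : ¬ U ≤ H) :
    ∃ x ∈ U, x ∉ H ∧ ∀ k ∈ K, ⁅x, k⁆ ∈ H ⊓ U := by
  classical
  obtain ⟨n, hn⟩ := (isNilpotent_iff_lowerCentralSeries _).mp hK
  have key : ∀ m, iterCommutator U K m ≤ U ⊓ K.lowerCentralSeries m := by
    intro m
    induction m with
    | zero => exact le_inf le_rfl hUK
    | succ m ih =>
      refine le_inf ?_ ?_
      · exact (commutator_mono (ih.trans inf_le_left) le_rfl).trans
          (le_normalizer_iff_commutator_le_left.mp hKU)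
      · exact commutator_mono (ih.trans inf_le_right) le_rfl
  have hex : ∃ m, iterCommutator U K m ≤ H :=
    ⟨n, (key n).trans (by rw [hn]; simp)⟩
  have h0 : Nat.find hex ≠ 0 := fun h => hUH (by have := Nat.find_spec hex; rwa [h] at this)
  obtain ⟨m, hm⟩ := Nat.exists_eq_succ_of_ne_zero h0
  have h1 : ¬ iterCommutator U K m ≤ H := Nat.find_min hex (by omega)
  have h2 : iterCommutator U K (m + 1) ≤ H := by have := Nat.find_spec hex; rwa [hm] at this
  obtain ⟨x, hx, hxH⟩ := SetLike.not_le_iff_exists.mp h1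
  refine ⟨x, ((key m) hx).1, hxH, fun k hk => ?_⟩
  have : ⁅x, k⁆ ∈ iterCommutator U K (m + 1) := commutator_mem_commutator hx hk
  exact ⟨h2 this, ((key _) this).1⟩

/-- normalizer condition inside a nilpotent subgroup -/
theorem exists_mem_normalizer_of_lt {K H : Subgroup G} (hK : Group.IsNilpotent K) (h : H < K) :
    ∃ x ∈ K, x ∉ H ∧ x ∈ normalizer (H : Set G) := by
  obtain ⟨x, hx, hxH, h2⟩ := exists_not_mem_commutator_mem hK le_rfl le_normalizer
    (not_le_of_gt h)
  refine ⟨x, hx, hxH, ?_⟩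
  have : zpowers x ≤ normalizer (H : Set G) := by
    have h3 : ∀ y ∈ H, x * y * x⁻¹ ∈ H := fun y hy => by
      have := H.mul_mem (h2 y (h.le hy)).1 hy
      simpa [commutatorElement_def] using this
    have h4 : ∀ y ∈ H, x⁻¹ * y * x ∈ H := fun y hy => by
      have h5 : x⁻¹ * y * x ∈ K := K.mul_mem (K.mul_mem (K.inv_mem hx) (h.le hy)) hx
      have := H.mul_mem (H.inv_mem (h2 _ h5).1) hy
      simpa [commutatorElement_def, mul_assoc] using this
    rw [zpowers_le, mem_normalizer_iff]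
    exact fun y => ⟨h3 y, fun hy => by simpa [mul_assoc] using h4 _ hy⟩
  exact this (mem_zpowers x)

theorem lt_inf_normalizer_of_lt {K H : Subgroup G} (hK : Group.IsNilpotent K) (h : H < K) :
    H < K ⊓ normalizer (H : Set G) := by
  obtain ⟨x, hx, hxH, h2⟩ := exists_mem_normalizer_of_lt hK h
  exact lt_of_le_of_ne (le_inf h.le le_normalizer) fun e => hxH (e ▸ ⟨hx, h2⟩)

/-- a nontrivial `p`-subgroup normalized by a `p`-group has nontrivial fixed points -/
theorem inf_centralizer_ne_bot [Finite G] {p : ℕ} [Fact p.Prime] {U P : Subgroup G}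
    (hU : IsPGroup p U) (hP : IsPGroup p P) (hPU : P ≤ normalizer (U : Set G)) (hU1 : U ≠ ⊥) :
    U ⊓ centralizer ((P ⊔ U : Subgroup G) : Set G) ≠ ⊥ := by
  obtain ⟨x, hx, hx1, h⟩ := exists_not_mem_commutator_mem
    (isPGroup_sup_of_le_normalizer hP hU hPU).isNilpotent (le_sup_right : U ≤ P ⊔ U)
    (sup_le hPU le_normalizer) (H := ⊥) (by simpa using hU1)
  intro hb
  apply hx1
  rw [← hb]
  refine ⟨hx, fun k hk => ?_⟩
  have := (mem_inf.mp (h k hk)).1
  rw [mem_bot, commutatorElement_eq_one_iff_mul_comm] at this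
  exact this.symm

/-- Thompson's `P × Q` lemma. -/
theorem p_times_q [Finite G] {p : ℕ} [Fact p.Prime] {P Q : Subgroup G} (hP : IsPGroup p P)
    (hQ : (Nat.card Q).Coprime p) (hPQ : P ≤ centralizer (Q : Set G)) (U : Subgroup G)
    (hU : IsPGroup p U) (hPU : P ≤ normalizer (U : Set G)) (hQU : Q ≤ normalizer (U : Set G))
    (hC : U ⊓ centralizer (P : Set G) ≤ centralizer (Q : Set G)) :
    Q ≤ centralizer (U : Set G) := by
  induction U using WellFoundedLT.induction with
  | ind U ih =>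
  by_cases hU1 : U = ⊥
  · subst hU1; intro x _ y hy; rw [SetLike.mem_coe, mem_bot] at hy; simp [hy]
  have hlt := commutator_lt_of_isPGroup hU hP hPU hU1
  have h1 := ih _ hlt (hU.to_le hlt.le) (normalizer_commutator_ge_right _ _)
    (le_normalizer_commutator hQU (le_normalizer_of_le_centralizer (le_centralizer_iff.mp hPQ)))
    ((inf_le_inf_right _ hlt.le).trans hC)
  have h2 : ⁅⁅U, P⁆, Q⁆ = ⊥ :=
    commutator_eq_bot_iff_le_centralizer.mpr (le_centralizer_iff.mp h1)
  have h3 : ⁅⁅P, Q⁆, U⁆ = ⊥ := by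
    rw [commutator_eq_bot_iff_le_centralizer.mpr hPQ, commutator_bot_left]
  have h4 : ⁅⁅Q, U⁆, P⁆ = ⊥ := commutator_commutator_eq_bot_of_rotate h2 h3
  have h5 : ⁅U, Q⁆ ≤ U := le_normalizer_iff_commutator_le_left.mp hQU
  refine le_centralizer_of_commutator_commutator_eq_bot (hU.to_le h5) hQ ?_
  rw [commutator_eq_bot_iff_le_centralizer]
  refine le_trans (le_inf h5 ?_) hC
  rw [commutator_comm]
  exact commutator_eq_bot_iff_le_centralizer.mp h4

/-! ### relative Sylow theory -/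

theorem exists_conj_mem_of_not_dvd_relIndex [Finite G] {p : ℕ} [Fact p.Prime]
    {L P Q : Subgroup G} (hP : IsPGroup p P) (hi : ¬ p ∣ P.relIndex L) (hQ : IsPGroup p Q)
    (hQL : Q ≤ L) : ∃ l ∈ L, ∀ x ∈ Q, l * x * l⁻¹ ∈ P := by
  let P' : Sylow p L := (hP.comap_subtype (K := L)).toSylow hi
  obtain ⟨R, hR⟩ := (hQ.comap_subtype (K := L)).exists_le_sylow
  obtain ⟨l, hl⟩ := MulAction.exists_smul_eq L R P'
  refine ⟨l, l.2, fun x hx => ?_⟩
  have h1 : (⟨x, hQL hx⟩ : L) ∈ (R : Subgroup L) := hR hx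
  have h2 : l * ⟨x, hQL hx⟩ * l⁻¹ ∈ ((l • R : Sylow p L) : Subgroup L) := by
    rw [Sylow.coe_subgroup_smul]
    exact smul_mem_pointwise_smul _ _ _ h1
  rw [hl] at h2
  exact h2

/-- a `p`-subgroup `P ≤ L` that is maximal among the `p`-subgroups of `L` has index prime
to `p`. -/
theorem not_dvd_relIndex_of_maximal [Finite G] {p : ℕ} [Fact p.Prime] {L P : Subgroup G}
    (hP : IsPGroup p P) (hPL : P ≤ L)
    (hmax : ∀ Q : Subgroup G, IsPGroup p Q → Q ≤ L → P ≤ Q → Q = P) : ¬ p ∣ P.relIndex L := by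
  obtain ⟨R, hR⟩ := (hP.comap_subtype (K := L)).exists_le_sylow
  have h1 : (R : Subgroup L).map L.subtype = P :=
    hmax _ (R.isPGroup'.map _) (map_subtype_le _) fun x hx => ⟨⟨x, hPL hx⟩, hR hx, rfl⟩
  have h2 : P.subgroupOf L = R := by
    rw [← h1]; exact comap_map_eq_self_of_injective L.subtype_injective _
  rw [relIndex, h2]
  exact R.not_dvd_index

theorem eq_of_not_dvd_relIndex [Finite G] {p : ℕ} [hp : Fact p.Prime] {L P Q : Subgroup G}
    (hi : ¬ p ∣ P.relIndex L) (hQ : IsPGroup p Q) (hQL : Q ≤ L) (hPQ : P ≤ Q) : Q = P := by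
  refine le_antisymm ?_ hPQ
  rw [← relIndex_eq_one]
  obtain ⟨n, hn⟩ := hQ.index (P.subgroupOf Q)
  have h1 : P.relIndex Q ∣ P.relIndex L :=
    Dvd.intro _ (relIndex_mul_relIndex P Q L hPQ hQL)
  rw [relIndex, hn] at h1 ⊢
  rcases n with _ | n
  · simp
  · exact absurd ((dvd_pow_self p n.succ_ne_zero).trans h1) hi

/-- every `p`-subgroup of `L` lies in a Sylow `p`-subgroup of `L` (ambient form) -/
theorem exists_sylow_rel [Finite G] {p : ℕ} [Fact p.Prime] {L Q : Subgroup G}
    (hQ : IsPGroup p Q) (hQL : Q ≤ L) :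
    ∃ P : Subgroup G, IsPGroup p P ∧ Q ≤ P ∧ P ≤ L ∧ ¬ p ∣ P.relIndex L := by
  obtain ⟨R, hR⟩ := (hQ.comap_subtype (K := L)).exists_le_sylow
  refine ⟨(R : Subgroup L).map L.subtype, R.isPGroup'.map _,
    fun x hx => ⟨⟨x, hQL hx⟩, hR hx, rfl⟩, map_subtype_le _, ?_⟩
  rw [relIndex, subgroupOf, comap_map_eq_self_of_injective L.subtype_injective]
  exact R.not_dvd_index

theorem not_dvd_relIndex_map_sylow [Finite G] {p : ℕ} [Fact p.Prime] {L : Subgroup G}
    (R : Sylow p L) : ¬ p ∣ ((R : Subgroup L).map L.subtype).relIndex L := by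
  rw [relIndex, subgroupOf, comap_map_eq_self_of_injective L.subtype_injective]
  exact R.not_dvd_index

/-- `P ⊓ N` is a Sylow subgroup of the normal subgroup `N` -/
theorem not_dvd_relIndex_sylow_normal [Finite G] {p : ℕ} [Fact p.Prime] (P : Sylow p G)
    (N : Subgroup G) [N.Normal] : ¬ p ∣ (P : Subgroup G).relIndex N := by
  intro h
  apply P.not_dvd_index
  have h1 := H2.card_sup_mul_card_inf (H := (P : Subgroup G)) (K := N) le_normalizer_of_normal
  have h2 := H2.card_inf_mul_relIndex (P : Subgroup G) N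
  have h3 := H2.card_mul_relIndex (le_sup_left : (P : Subgroup G) ≤ (P : Subgroup G) ⊔ N)
  have h4 : (P : Subgroup G).relIndex ((P : Subgroup G) ⊔ N) = (P : Subgroup G).relIndex N := by
    have hpos : 0 < Nat.card (P : Subgroup G) * Nat.card ↥((P : Subgroup G) ⊓ N) :=
      Nat.mul_pos Nat.card_pos Nat.card_pos
    apply Nat.eq_of_mul_eq_mul_left hpos
    rw [← h2, ← h3] at h1
    linarith
  rw [← h4] at h
  exact h.trans (relIndex_dvd_index_of_le le_sup_left)

/-- Frattini argument, ambient form: `P` Sylow in `L`, `M` normalizes `L`. -/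
theorem frattini_rel [Finite G] {p : ℕ} [Fact p.Prime] {L P : Subgroup G} (hP : IsPGroup p P)
    (hPL : P ≤ L) (hi : ¬ p ∣ P.relIndex L) {g : G} (hg : g ∈ normalizer (L : Set G)) :
    ∃ l ∈ L, l * g ∈ normalizer (P : Set G) := by
  obtain ⟨l, hl, h⟩ := exists_conj_mem_of_not_dvd_relIndex hP hi
    (hP.map (MulAut.conj g).toMonoidHom) (by
      rintro _ ⟨x, hx, rfl⟩
      exact conj_mem_of_mem_normalizer hg (hPL hx))
  refine ⟨l, hl, mem_normalizer_of_finite fun x hx => ?_⟩
  have := h _ ⟨x, hx, rfl⟩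
  simpa [mul_assoc] using this

/-! ### images under homomorphisms with `p'`-kernel -/

section Ker

variable {H : Type*} [Group H] {f : G →* H} {p : ℕ}

theorem normalizer_map_of_coprime_ker [Finite G] [Fact p.Prime] (hf : Function.Surjective f)
    (hk : (Nat.card f.ker).Coprime p) {P : Subgroup G} (hP : IsPGroup p P) :
    normalizer (P.map f : Set H) = (normalizer (P : Set G)).map f := by
  refine le_antisymm ?_ (le_normalizer_map f)
  intro y hy
  obtain ⟨g, rfl⟩ := hf y
  have hg : g ∈ normalizer ((P ⊔ f.ker : Subgroup G) : Set G) := by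
    rw [← comap_map_eq]
    exact le_normalizer_comap f hy
  have hi : ¬ p ∣ P.relIndex (P ⊔ f.ker) := by
    intro hd
    have h1 := H2.card_sup_of_disjoint (H := P) (K := f.ker) le_normalizer_of_normal
      (inf_eq_bot_of_isPGroup_of_coprime hP hk)
    rw [← H2.card_mul_relIndex (le_sup_left : P ≤ P ⊔ f.ker)] at h1
    rw [Nat.eq_of_mul_eq_mul_left Nat.card_pos h1] at hd
    exact (Fact.out : p.Prime).one_lt.ne' (Nat.eq_one_of_dvd_coprimes hk hd dvd_rfl)
  obtain ⟨l, hl, h⟩ := frattini_rel hP le_sup_left hi hg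
  obtain ⟨a, ha, b, hb, rfl⟩ := (mem_sup_of_le_normalizer le_normalizer_of_normal).mp hl
  refine ⟨a⁻¹ * (a * b * g), mul_mem (inv_mem (le_normalizer ha)) h, ?_⟩
  simp [MonoidHom.mem_ker.mp hb]

theorem mem_centralizer_of_map_of_coprime_ker [Finite G] (hk : (Nat.card f.ker).Coprime p)
    {P : Subgroup G} (hP : IsPGroup p P) {g : G} (hg : g ∈ normalizer (P : Set G))
    (h : f g ∈ centralizer (P.map f : Set H)) : g ∈ centralizer (P : Set G) := by
  intro x hx
  have h1 : ⁅g, x⁆ ∈ P ⊓ f.ker := by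
    refine mem_inf.mpr ⟨P.mul_mem (conj_mem_of_mem_normalizer hg hx) (P.inv_mem hx), ?_⟩
    rw [MonoidHom.mem_ker, map_commutatorElement,
      commutatorElement_eq_one_iff_mul_comm]
    exact (h _ ⟨x, hx, rfl⟩).symm
  rw [inf_eq_bot_of_isPGroup_of_coprime hP hk, mem_bot,
    commutatorElement_eq_one_iff_mul_comm] at h1
  exact h1.symm

theorem map_centralizer_le (f : G →* H) (P : Subgroup G) :
    (centralizer (P : Set G)).map f ≤ centralizer (P.map f : Set H) :=
  map_centralizer_le_centralizer_image (P : Set G) f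

theorem centralizer_map_of_coprime_ker [Finite G] [Fact p.Prime] (hf : Function.Surjective f)
    (hk : (Nat.card f.ker).Coprime p) {P : Subgroup G} (hP : IsPGroup p P) :
    centralizer (P.map f : Set H) = (centralizer (P : Set G)).map f := by
  refine le_antisymm ?_ (map_centralizer_le f P)
  intro y hy
  have h1 := centralizer_le_normalizer _ hy
  rw [normalizer_map_of_coprime_ker hf hk hP] at h1
  obtain ⟨g, hg, rfl⟩ := h1
  exact ⟨g, mem_centralizer_of_map_of_coprime_ker hk hP hg hy, rfl⟩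

theorem card_comap_of_surjective (hf : Function.Surjective f) (K : Subgroup H) :
    Nat.card (K.comap f) = Nat.card f.ker * Nat.card K := by
  rw [← H2.card_mul_relIndex (ker_le_comap f K), relIndex_ker, map_comap_eq_self_of_surjective hf]

/-- a `p`-subgroup of the image lifts to a `p`-subgroup -/
theorem exists_isPGroup_map_eq [Finite G] [Fact p.Prime] (hf : Function.Surjective f)
    {Q : Subgroup H} (hQ : IsPGroup p Q) :
    ∃ P : Subgroup G, IsPGroup p P ∧ P.map f = Q ∧ ¬ p ∣ P.relIndex (Q.comap f) := by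
  obtain ⟨P, hP, -, hle, hi⟩ := exists_sylow_rel (p := p) (L := Q.comap f) IsPGroup.of_bot bot_le
  refine ⟨P, hP, ?_, hi⟩
  have : Finite H := Finite.of_surjective f hf
  refine (eq_of_not_dvd_relIndex (L := Q) ?_ hQ le_rfl (map_le_iff_le_comap.mpr hle)).symm
  intro hd
  apply hi
  rw [← map_comap_eq_self_of_surjective hf Q, relIndex_map_map,
    sup_eq_left.mpr (ker_le_comap f Q)] at hd
  exact hd.trans (relIndex_dvd_of_le_left _ le_sup_left)

theorem map_eq_of_not_dvd_relIndex [Finite G] [Fact p.Prime] (hf : Function.Surjective f)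
    {Q : Subgroup H} (hQ : IsPGroup p Q) {P : Subgroup G} (hle : P ≤ Q.comap f)
    (hi : ¬ p ∣ P.relIndex (Q.comap f)) : P.map f = Q := by
  have : Finite H := Finite.of_surjective f hf
  refine (eq_of_not_dvd_relIndex (L := Q) ?_ hQ le_rfl (map_le_iff_le_comap.mpr hle)).symm
  intro hd
  apply hi
  rw [← map_comap_eq_self_of_surjective hf Q, relIndex_map_map,
    sup_eq_left.mpr (ker_le_comap f Q)] at hd
  exact hd.trans (relIndex_dvd_of_le_left _ le_sup_left)

end Ker

end H13
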