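import Mathlib
import Cfsg.Agent.H13.Basic

/-!
# `p`-solvable groups, the upper `p`-series, the Hall–Higman lemma 1.2.3
-/

set_option autoImplicit false

namespace H13

open Cfsg Subgroup
open scoped commutatorElement

variable {G : Type*} [Group G]

/-! ### preimages of cores -/

section Comap

variable {H₁ : Type*} [Group H₁] {H₂ : Type*} [Group H₂] {f₁ : G →* H₁} {f₂ : G →* H₂} {p : ℕ}

theorem comap_pCore_le_of_ker_le (hf₂ : Function.Surjective f₂) (h : f₁.ker ≤ f₂.ker) :
    (pCore p H₁).comap f₁ ≤ (pCore p H₂).comap f₂ := by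
  rw [← map_le_iff_le_comap]
  refine H2.le_pCore (Normal.map inferInstance f₂ hf₂) ?_
  rw [isPGroup_iff_forall_mem]
  rintro _ ⟨x, hx, rfl⟩
  obtain ⟨k, hk⟩ := isPGroup_iff_forall_mem.mp (H2.pCore_isPGroup p H₁) _ hx
  refine ⟨k, ?_⟩
  rw [← map_pow] at hk ⊢
  exact h hk

theorem comap_pCore_eq_of_ker_eq (hf₁ : Function.Surjective f₁) (hf₂ : Function.Surjective f₂)
    (h : f₁.ker = f₂.ker) : (pCore p H₁).comap f₁ = (pCore p H₂).comap f₂ :=
  le_antisymm (comap_pCore_le_of_ker_le hf₂ h.le) (comap_pCore_le_of_ker_le hf₁ h.ge)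

theorem comap_pPrimeCore_le_of_ker_le [Finite G] (hf₁ : Function.Surjective f₁)
    (hf₂ : Function.Surjective f₂) (h : f₁.ker ≤ f₂.ker) :
    (pPrimeCore p H₁).comap f₁ ≤ (pPrimeCore p H₂).comap f₂ := by
  have : Finite H₁ := Finite.of_surjective f₁ hf₁
  rw [← map_le_iff_le_comap]
  refine H2.le_pPrimeCore (Normal.map inferInstance f₂ hf₂) ?_
  refine Nat.Coprime.coprime_dvd_left ?_ (H2.pPrimeCore_coprime p H₁)
  rw [← relIndex_ker]
  refine (relIndex_dvd_of_le_left _ h).trans ?_
  rw [relIndex_ker, map_comap_eq_self_of_surjective hf₁]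

theorem comap_pPrimeCore_eq_of_ker_eq [Finite G] (hf₁ : Function.Surjective f₁)
    (hf₂ : Function.Surjective f₂) (h : f₁.ker = f₂.ker) :
    (pPrimeCore p H₁).comap f₁ = (pPrimeCore p H₂).comap f₂ :=
  le_antisymm (comap_pPrimeCore_le_of_ker_le hf₁ hf₂ h.le)
    (comap_pPrimeCore_le_of_ker_le hf₂ hf₁ h.ge)

/-- intrinsic description of `O_p(G mod ker f)` -/
theorem mem_pCore_iff_of_surjective (hf : Function.Surjective f₁) {a : G} :
    f₁ a ∈ pCore p H₁ ↔
      ∃ D : Subgroup G, D.Normal ∧ a ∈ D ∧ ∀ x ∈ D, ∃ k : ℕ, x ^ p ^ k ∈ f₁.ker := by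
  constructor
  · intro h
    refine ⟨(pCore p H₁).comap f₁, inferInstance, h, fun x hx => ?_⟩
    obtain ⟨k, hk⟩ := isPGroup_iff_forall_mem.mp (H2.pCore_isPGroup p H₁) _ hx
    exact ⟨k, by rwa [MonoidHom.mem_ker, map_pow]⟩
  · rintro ⟨D, hD, ha, h⟩
    refine H2.le_pCore (hD.map f₁ hf) ?_ (mem_map_of_mem f₁ ha)
    rw [isPGroup_iff_forall_mem]
    rintro _ ⟨x, hx, rfl⟩
    obtain ⟨k, hk⟩ := h x hx
    exact ⟨k, by rwa [MonoidHom.mem_ker, map_pow] at hk⟩

theorem mk_mem_pCore_iff {N : Subgroup G} [N.Normal] {a : G} :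
    (QuotientGroup.mk a : G ⧸ N) ∈ pCore p (G ⧸ N) ↔
      ∃ D : Subgroup G, D.Normal ∧ a ∈ D ∧ ∀ x ∈ D, ∃ k : ℕ, x ^ p ^ k ∈ N := by
  have := mem_pCore_iff_of_surjective (p := p) (QuotientGroup.mk'_surjective N) (a := a)
  rwa [QuotientGroup.ker_mk'] at this

theorem comap_pPrimeCore_of_coprime_ker [Finite G] (hf : Function.Surjective f₁)
    (hk : (Nat.card f₁.ker).Coprime p) : (pPrimeCore p H₁).comap f₁ = pPrimeCore p G := by
  rw [← H2.comap_pPrimeCore_mk' f₁.ker hk]
  exact comap_pPrimeCore_eq_of_ker_eq hf (QuotientGroup.mk'_surjective _)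
    (QuotientGroup.ker_mk' _).symm

theorem map_pPrimeCore_of_coprime_ker [Finite G] (hf : Function.Surjective f₁)
    (hk : (Nat.card f₁.ker).Coprime p) : (pPrimeCore p G).map f₁ = pPrimeCore p H₁ := by
  rw [← comap_pPrimeCore_of_coprime_ker hf hk, map_comap_eq_self_of_surjective hf]

theorem comap_pPrimePCore_of_coprime_ker [Finite G] (hf : Function.Surjective f₁)
    (hk : (Nat.card f₁.ker).Coprime p) : (pPrimePCore p H₁).comap f₁ = pPrimePCore p G := by
  unfold pPrimePCore
  rw [comap_comap]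
  refine comap_pCore_eq_of_ker_eq ((QuotientGroup.mk'_surjective _).comp hf)
    (QuotientGroup.mk'_surjective _) ?_
  rw [QuotientGroup.ker_mk', ← MonoidHom.comap_ker, QuotientGroup.ker_mk',
    comap_pPrimeCore_of_coprime_ker hf hk]

theorem map_pPrimePCore_of_coprime_ker [Finite G] (hf : Function.Surjective f₁)
    (hk : (Nat.card f₁.ker).Coprime p) : (pPrimePCore p G).map f₁ = pPrimePCore p H₁ := by
  rw [← comap_pPrimePCore_of_coprime_ker hf hk, map_comap_eq_self_of_surjective hf]

theorem pPrimePCore_eq_comap (hf : Function.Surjective f₁) (hk : f₁.ker = pPrimeCore p G) :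
    pPrimePCore p G = (pCore p H₁).comap f₁ :=
  comap_pCore_eq_of_ker_eq (QuotientGroup.mk'_surjective _) hf
    (by rw [QuotientGroup.ker_mk', hk])

end Comap

instance pPrimePCore_normal (p : ℕ) (G : Type*) [Group G] : (pPrimePCore p G).Normal := by
  unfold pPrimePCore; infer_instance

theorem pPrimeCore_le_pPrimePCore (p : ℕ) (G : Type*) [Group G] :
    pPrimeCore p G ≤ pPrimePCore p G := by
  have := ker_le_comap (QuotientGroup.mk' (pPrimeCore p G)) (pCore p (G ⧸ pPrimeCore p G))
  rwa [QuotientGroup.ker_mk'] at this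

theorem pCore_le_pPrimePCore (p : ℕ) (G : Type*) [Group G] : pCore p G ≤ pPrimePCore p G :=
  map_le_iff_le_comap.mp (H2.map_pCore_le p (QuotientGroup.mk'_surjective _))

theorem pPrimePCore_eq_pCore {p : ℕ} (h : pPrimeCore p G = ⊥) : pPrimePCore p G = pCore p G := by
  rw [pPrimePCore_eq_comap (f₁ := MonoidHom.id G) Function.surjective_id (by simp [h]), comap_id]

theorem map_pPrimePCore_mk' (p : ℕ) (G : Type*) [Group G] :
    (pPrimePCore p G).map (QuotientGroup.mk' (pPrimeCore p G)) = pCore p (G ⧸ pPrimeCore p G) :=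
  map_comap_eq_self_of_surjective (QuotientGroup.mk'_surjective _) _

theorem mem_pPrimePCore_iff {p : ℕ} {a : G} :
    a ∈ pPrimePCore p G ↔
      ∃ D : Subgroup G, D.Normal ∧ a ∈ D ∧ ∀ x ∈ D, ∃ k : ℕ, x ^ p ^ k ∈ pPrimeCore p G :=
  mk_mem_pCore_iff

theorem le_pPrimePCore_of_normal_sup {p : ℕ} {P : Subgroup G} (hP : IsPGroup p P)
    (hn : (pPrimeCore p G ⊔ P).Normal) : pPrimeCore p G ⊔ P ≤ pPrimePCore p G := by
  rw [pPrimePCore, ← map_le_iff_le_comap]
  refine H2.le_pCore (hn.map _ (QuotientGroup.mk'_surjective _)) ?_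
  rw [Subgroup.map_sup, (Subgroup.map_eq_bot_iff _).mpr (by simp), bot_sup_eq]
  exact hP.map _

theorem coprime_card_ker_mk'_pPrimeCore [Finite G] (p : ℕ) :
    (Nat.card (QuotientGroup.mk' (pPrimeCore p G)).ker).Coprime p := by
  rw [QuotientGroup.ker_mk']; exact H2.pPrimeCore_coprime p G

/-! ### `p`-solvable groups -/

theorem relIndex_dvd_of_le_right {N K L : Subgroup G} [N.Normal] (h : K ≤ L) :
    N.relIndex K ∣ N.relIndex L := by
  rw [← QuotientGroup.ker_mk' N, relIndex_ker, relIndex_ker]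
  exact card_dvd_of_le (map_mono h)

theorem relIndex_map_map_dvd {H : Type*} [Group H] (f : G →* H) {N K : Subgroup G} [N.Normal]
    (h : N ≤ K) : (N.map f).relIndex (K.map f) ∣ N.relIndex K := by
  rw [relIndex_map_map]
  have : K ⊔ f.ker = K ⊔ (N ⊔ f.ker) := by rw [← sup_assoc, sup_eq_left.mpr h]
  rw [this, relIndex_sup_right]
  exact relIndex_dvd_of_le_left _ le_sup_left

theorem ppow_or_coprime_of_dvd {p : ℕ} (hp : p.Prime) {a b : ℕ} (h : a ∣ b)
    (hb : (∃ m : ℕ, b = p ^ m) ∨ b.Coprime p) : (∃ m : ℕ, a = p ^ m) ∨ a.Coprime p := by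
  rcases hb with ⟨m, rfl⟩ | hb
  · obtain ⟨k, -, rfl⟩ := (Nat.dvd_prime_pow hp).mp h
    exact Or.inl ⟨k, rfl⟩
  · exact Or.inr (Nat.Coprime.coprime_dvd_left h hb)

theorem isPSolvable_of_injective {p : ℕ} [hp : Fact p.Prime] {H : Type*} [Group H]
    (hG : IsPSolvable p G) (f : H →* G) (hf : Function.Injective f) : IsPSolvable p H := by
  obtain ⟨n, K, h0, h1, hm, hn, hi⟩ := hG
  refine ⟨n, fun i => (K i).comap f, ?_, ?_, fun i j hij => comap_mono (hm hij),
    fun i => (hn i).comap f, fun i => ?_⟩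
  · simp only [h0]; rw [MonoidHom.comap_bot, (MonoidHom.ker_eq_bot_iff f).mpr hf]
  · simp only [h1]; rw [comap_top]
  · refine ppow_or_coprime_of_dvd hp.out ?_ (hi i)
    rw [relIndex_comap]
    have := hn i.castSucc
    exact relIndex_dvd_of_le_right (map_comap_le _ _)

theorem isPSolvable_subgroup {p : ℕ} [Fact p.Prime] (hG : IsPSolvable p G) (H : Subgroup G) :
    IsPSolvable p H := isPSolvable_of_injective hG H.subtype H.subtype_injective

theorem isPSolvable_of_le {p : ℕ} [Fact p.Prime] {H K : Subgroup G} (hK : IsPSolvable p K)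
    (h : H ≤ K) : IsPSolvable p H :=
  isPSolvable_of_injective hK (inclusion h) (inclusion_injective h)

theorem isPSolvable_of_surjective {p : ℕ} [hp : Fact p.Prime] {H : Type*} [Group H]
    (hG : IsPSolvable p G) (f : G →* H) (hf : Function.Surjective f) : IsPSolvable p H := by
  obtain ⟨n, K, h0, h1, hm, hn, hi⟩ := hG
  refine ⟨n, fun i => (K i).map f, ?_, ?_, fun i j hij => map_mono (hm hij),
    fun i => (hn i).map f hf, fun i => ?_⟩
  · simp only [h0]; rw [Subgroup.map_bot]
  · simp only [h1]; rw [map_top_of_surjective f hf]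
  · refine ppow_or_coprime_of_dvd hp.out ?_ (hi i)
    have := hn i.castSucc
    exact relIndex_map_map_dvd f (hm (Fin.castSucc_lt_succ).le)

theorem isPSolvable_quotient {p : ℕ} [Fact p.Prime] (hG : IsPSolvable p G) (N : Subgroup G)
    [N.Normal] : IsPSolvable p (G ⧸ N) :=
  isPSolvable_of_surjective hG _ (QuotientGroup.mk'_surjective N)

theorem isPSolvable_map {p : ℕ} [Fact p.Prime] {H : Type*} [Group H] {K : Subgroup G}
    (hK : IsPSolvable p K) (f : G →* H) : IsPSolvable p (K.map f) :=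
  isPSolvable_of_surjective hK _ (f.subgroupMap_surjective K)

theorem isPSolvable_of_mulEquiv {p : ℕ} [Fact p.Prime] {H : Type*} [Group H]
    (hG : IsPSolvable p G) (e : G ≃* H) : IsPSolvable p H :=
  isPSolvable_of_surjective hG e e.surjective

/-- a nontrivial `p`-solvable group has a nontrivial `p`-core or `p'`-core -/
theorem core_ne_bot_of_isPSolvable [Finite G] {p : ℕ} (hG : IsPSolvable p G) [Nontrivial G] :
    pCore p G ≠ ⊥ ∨ pPrimeCore p G ≠ ⊥ := by
  obtain ⟨n, K, h0, h1, hm, hn, hi⟩ := hG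
  by_contra hc
  push Not at hc
  have : ∀ i : Fin (n + 1), K i = ⊥ := by
    intro i
    induction i using Fin.induction with
    | zero => exact h0
    | succ i ih =>
      have := hi i
      rw [ih, relIndex_bot_left] at this
      rcases this with ⟨m, hm⟩ | h
      · exact le_bot_iff.mp (hc.1 ▸ H2.le_pCore (hn _) (IsPGroup.of_card hm))
      · exact le_bot_iff.mp (hc.2 ▸ H2.le_pPrimeCore (hn _) h)
  exact absurd (h1 ▸ this (Fin.last n)) top_ne_bot

theorem isPSolvable_of_forall_quotient [Finite G] {p : ℕ} [Fact p.Prime]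
    (h : ∀ (N : Subgroup G) [N.Normal], N ≠ ⊤ →
      pCore p (G ⧸ N) ≠ ⊥ ∨ pPrimeCore p (G ⧸ N) ≠ ⊥) : IsPSolvable p G := by
  suffices key : ∀ N : Subgroup G, N.Normal → ∃ (n : ℕ) (H : Fin (n + 1) → Subgroup G),
      H 0 = N ∧ H (Fin.last n) = ⊤ ∧ Monotone H ∧ (∀ i, (H i).Normal) ∧
      ∀ i : Fin n, (∃ m : ℕ, (H i.castSucc).relIndex (H i.succ) = p ^ m) ∨
        ((H i.castSucc).relIndex (H i.succ)).Coprime p from key ⊥ inferInstance
  intro N
  induction N using WellFoundedGT.induction with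
  | ind N ih =>
  intro hN
  by_cases hT : N = ⊤
  · exact ⟨0, fun _ => N, rfl, hT, monotone_const, fun _ => hN, fun i => i.elim0⟩
  have : ∃ M : Subgroup G, M.Normal ∧ N < M ∧
      ((∃ m : ℕ, N.relIndex M = p ^ m) ∨ (N.relIndex M).Coprime p) := by
    have key : ∀ X : Subgroup (G ⧸ N), X ≠ ⊥ → N < X.comap (QuotientGroup.mk' N) ∧
        N.relIndex (X.comap (QuotientGroup.mk' N)) = Nat.card X := by
      intro X hX
      constructor
      · conv_lhs => rw [← QuotientGroup.ker_mk' N, ← MonoidHom.comap_bot]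
        exact (comap_lt_comap_of_surjective (QuotientGroup.mk'_surjective N)).mpr
          (bot_lt_iff_ne_bot.mpr hX)
      · conv => enter [1, 1]; rw [← QuotientGroup.ker_mk' N]
        rw [relIndex_ker, map_comap_eq_self_of_surjective (QuotientGroup.mk'_surjective N)]
    rcases h N hT with h1 | h1
    · refine ⟨_, inferInstance, (key _ h1).1, Or.inl ?_⟩
      rw [(key _ h1).2]
      exact IsPGroup.iff_card.mp (H2.pCore_isPGroup p _)
    · refine ⟨_, inferInstance, (key _ h1).1, Or.inr ?_⟩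
      rw [(key _ h1).2]
      exact H2.pPrimeCore_coprime p _
  obtain ⟨M, hM, hNM, hi⟩ := this
  obtain ⟨n, H, h0, h1, hm, hn, hj⟩ := ih M hNM hM
  refine ⟨n + 1, Fin.cons N H, rfl, h1, ?_, ?_, ?_⟩
  · rw [Fin.monotone_iff_le_succ]
    intro i
    induction i using Fin.cases with
    | zero => simpa [h0] using hNM.le
    | succ i => simpa using hm (Fin.castSucc_lt_succ).le
  · intro i
    induction i using Fin.cases with
    | zero => exact hN
    | succ i => exact hn i
  · intro i
    induction i using Fin.cases with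
    | zero => simpa [h0] using hi
    | succ i => simpa using hj i

theorem isPSolvable_of_isPGroup [Finite G] {p : ℕ} [Fact p.Prime] (hG : IsPGroup p G) :
    IsPSolvable p G :=
  isPSolvable_of_forall_quotient fun N _ hN => Or.inl (by
    rw [H2.pCore_eq_top_iff.mpr (hG.to_quotient N)]
    have : Nontrivial (G ⧸ N) := QuotientGroup.nontrivial_iff.mpr hN
    exact top_ne_bot)

theorem isPSolvable_of_coprime [Finite G] {p : ℕ} [Fact p.Prime] (hG : (Nat.card G).Coprime p) :
    IsPSolvable p G :=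
  isPSolvable_of_forall_quotient fun N _ hN => Or.inr (by
    rw [H2.pPrimeCore_eq_top_iff.mpr
      (Nat.Coprime.coprime_dvd_left (card_quotient_dvd_card N) hG)]
    have : Nontrivial (G ⧸ N) := QuotientGroup.nontrivial_iff.mpr hN
    exact top_ne_bot)

theorem core_ne_bot_of_normal_isPSolvable [Finite G] {p : ℕ} {K : Subgroup G} [K.Normal]
    (hK : IsPSolvable p K) (h1 : K ≠ ⊥) : pCore p G ⊓ K ≠ ⊥ ∨ pPrimeCore p G ⊓ K ≠ ⊥ := by
  have : Nontrivial K := (nontrivial_iff_ne_bot K).mpr h1
  rw [← H2.map_subtype_pCore_eq, ← H2.map_subtype_pPrimeCore_eq, Ne, Ne,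
    map_eq_bot_iff_of_injective _ K.subtype_injective,
    map_eq_bot_iff_of_injective _ K.subtype_injective]
  exact core_ne_bot_of_isPSolvable hK

/-- extensions of `p`-solvable groups are `p`-solvable -/
theorem isPSolvable_of_ker {p : ℕ} [Fact p.Prime] [Finite G] {H : Type*} [Group H] (f : G →* H)
    (hk : IsPSolvable p f.ker) (hH : IsPSolvable p f.range) : IsPSolvable p G := by
  refine isPSolvable_of_forall_quotient fun N _ hN => ?_
  by_cases h : f.ker ≤ N
  · have : Nontrivial (G ⧸ N) := QuotientGroup.nontrivial_iff.mpr hN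
    refine core_ne_bot_of_isPSolvable (isPSolvable_of_surjective
      (isPSolvable_of_mulEquiv hH (QuotientGroup.quotientKerEquivRange f).symm)
      (QuotientGroup.map _ _ (MonoidHom.id G) (by simpa using h)) ?_)
    intro y
    obtain ⟨x, rfl⟩ := QuotientGroup.mk_surjective y
    exact ⟨QuotientGroup.mk x, rfl⟩
  · have hn : (f.ker.map (QuotientGroup.mk' N)).Normal :=
      Normal.map inferInstance _ (QuotientGroup.mk'_surjective N)
    have := core_ne_bot_of_normal_isPSolvable (isPSolvable_map hk (QuotientGroup.mk' N))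
      (by rw [Ne, Subgroup.map_eq_bot_iff, QuotientGroup.ker_mk']; exact h)
    exact this.imp (fun h1 h2 => h1 (by rw [h2, bot_inf_eq]))
      (fun h1 h2 => h1 (by rw [h2, bot_inf_eq]))

theorem isPSolvable_of_normal_of_quotient {p : ℕ} [Fact p.Prime] [Finite G] (N : Subgroup G)
    [N.Normal] (hN : IsPSolvable p N) (hQ : IsPSolvable p (G ⧸ N)) : IsPSolvable p G :=
  isPSolvable_of_ker (QuotientGroup.mk' N) (by rwa [QuotientGroup.ker_mk'])
    (isPSolvable_subgroup hQ _)

theorem isPSolvable_of_isMulCommutative {p : ℕ} [Fact p.Prime] [Finite G] [IsMulCommutative G] :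
    IsPSolvable p G := by
  obtain ⟨P⟩ : Nonempty (Sylow p G) := inferInstance
  have : (P : Subgroup G).Normal := ⟨fun n hn g => by rwa [mul_comm' g n, mul_inv_cancel_right]⟩
  refine isPSolvable_of_normal_of_quotient (P : Subgroup G) (isPSolvable_of_isPGroup P.isPGroup')
    (isPSolvable_of_coprime ?_)
  rw [← index_eq_card, Nat.coprime_comm, (Fact.out : p.Prime).coprime_iff_not_dvd]
  exact P.not_dvd_index

theorem isPSolvable_of_isSolvable {p : ℕ} [Fact p.Prime] [Finite G] [hG : Group.IsSolvable G] :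
    IsPSolvable p G := by
  refine isPSolvable_of_forall_quotient fun N _ hN => ?_
  have : Nontrivial (G ⧸ N) := QuotientGroup.nontrivial_iff.mpr hN
  classical
  obtain ⟨n, hn⟩ := (inferInstance : Group.IsSolvable (G ⧸ N))
  have hex : ∃ n, derivedSeries (G ⧸ N) n = ⊥ := ⟨n, hn⟩
  have h0 : Nat.find hex ≠ 0 := fun h => by
    have := Nat.find_spec hex
    rw [h, derivedSeries_zero] at this
    exact top_ne_bot this
  obtain ⟨m, hm⟩ := Nat.exists_eq_succ_of_ne_zero h0
  have h1 : derivedSeries (G ⧸ N) m ≠ ⊥ := Nat.find_min hex (by omega)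
  have h2 : derivedSeries (G ⧸ N) (m + 1) = ⊥ := by have := Nat.find_spec hex; rwa [hm] at this
  rw [derivedSeries_succ, commutator_self_eq_bot_iff] at h2
  have := derivedSeries_normal (G ⧸ N) m
  have := core_ne_bot_of_normal_isPSolvable (p := p) (K := derivedSeries (G ⧸ N) m)
    isPSolvable_of_isMulCommutative h1
  exact this.imp (fun h1 h2 => h1 (by rw [h2, bot_inf_eq]))
      (fun h1 h2 => h1 (by rw [h2, bot_inf_eq]))

/-! ### Hall–Higman 1.2.3 -/

/-- a normal subgroup `K` with a central `p`-subgroup `Z` of index prime to `p` lies in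
`Z ⊔ O_{p'}(G)`. -/
theorem le_sup_pPrimeCore_of_central [Finite G] {p : ℕ} [Fact p.Prime] {K Z : Subgroup G}
    [K.Normal] (hZ : IsPGroup p Z) (hc : K ≤ centralizer (Z : Set G))
    (hi : (Z.relIndex K).Coprime p) : K ≤ Z ⊔ pPrimeCore p G := by
  have hn : (Z.subgroupOf K).Normal :=
    normal_subgroupOf_of_le_normalizer (le_normalizer_of_le_centralizer hc)
  obtain ⟨n, hn⟩ := IsPGroup.iff_card.mp (hZ.comap_subtype (K := K))
  obtain ⟨H, hH⟩ := exists_right_complement'_of_coprime (N := Z.subgroupOf K)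
    (by rw [subgroupOf, hn]; exact (hi.symm.pow_left n))
  have hHn : H.Normal := by
    constructor
    intro h hh g
    obtain ⟨⟨z, y⟩, rfl⟩ := hH.existsUnique g |>.exists
    have hz : (z : K) * ((y : K) * h * (y : K)⁻¹) = ((y : K) * h * (y : K)⁻¹) * z :=
      Subtype.ext (hc (((y : K) * h * (y : K)⁻¹).2) _ z.2)
    have : (z : K) * y * h * ((z : K) * y)⁻¹ = (y : K) * h * (y : K)⁻¹ := by
      rw [mul_inv_rev, ← mul_assoc, mul_inv_eq_iff_eq_mul, ← hz]; group
    simp only
    rw [this]
    exact H.mul_mem (H.mul_mem y.2 hh) (H.inv_mem y.2)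
  have hH1 : H ≤ pPrimeCore p K := H2.le_pPrimeCore hHn (by rw [← hH.symm.index_eq_card]; exact hi)
  intro x hx
  obtain ⟨⟨z, y⟩, h⟩ := hH.existsUnique ⟨x, hx⟩ |>.exists
  have : x = (z : K) * (y : K) := congrArg Subtype.val h.symm
  rw [this]
  exact mul_mem (mem_sup_left z.2)
    (mem_sup_right (H2.map_subtype_pPrimeCore_le p K ⟨y, hH1 y.2, rfl⟩))

/-- a normal `p`-solvable subgroup centralizing `O_p(G)` lies in `O_p(G)` if `O_{p'}(G) = 1`. -/
theorem le_pCore_of_isPSolvable_of_le_centralizer [Finite G] {p : ℕ} [Fact p.Prime]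
    (hO : pPrimeCore p G = ⊥) {K : Subgroup G} [K.Normal] (hK : IsPSolvable p K)
    (hc : K ≤ centralizer (pCore p G : Set G)) : K ≤ pCore p G := by
  by_contra hle
  set f := QuotientGroup.mk' (pCore p G) with hf
  have hfs : Function.Surjective f := QuotientGroup.mk'_surjective _
  have hn : (K.map f).Normal := Normal.map inferInstance _ hfs
  have h1 := core_ne_bot_of_normal_isPSolvable (isPSolvable_map hK f)
    (by rw [Ne, Subgroup.map_eq_bot_iff, QuotientGroup.ker_mk']; exact hle)
  rw [H2.pCore_quotient_pCore] at h1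
  simp only [bot_inf_eq, ne_eq, not_true_eq_false, false_or] at h1
  apply h1
  set L := (pPrimeCore p (G ⧸ pCore p G)).comap f ⊓ K with hL
  have h2 : L ≤ pCore p G := by
    have := le_sup_pPrimeCore_of_central (K := L) (H2.pCore_isPGroup p G) (inf_le_right.trans hc)
      (by
        conv => enter [1, 1]; rw [← QuotientGroup.ker_mk' (pCore p G)]
        rw [relIndex_ker]
        exact Nat.Coprime.coprime_dvd_left (card_dvd_of_le (map_le_iff_le_comap.mpr inf_le_left))
          (H2.pPrimeCore_coprime p _))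
    rwa [hO, sup_bot_eq] at this
  rw [eq_bot_iff]
  rintro _ ⟨hy, x, hx, rfl⟩
  exact (QuotientGroup.eq_one_iff x).mpr (h2 ⟨hy, hx⟩)

/-- Hall–Higman, Lemma 1.2.3. -/
theorem centralizer_pCore_le_of_isPSolvable [Finite G] {p : ℕ} [Fact p.Prime]
    (hG : IsPSolvable p G) (hO : pPrimeCore p G = ⊥) :
    centralizer (pCore p G : Set G) ≤ pCore p G :=
  le_pCore_of_isPSolvable_of_le_centralizer hO (isPSolvable_subgroup hG _) le_rfl

/-- a normal subgroup `K` with a central `p'`-subgroup `Z` of `p`-power index lies in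
`Z ⊔ O_p(G)`. -/
theorem le_sup_pCore_of_central [Finite G] {p : ℕ} [Fact p.Prime] {K Z : Subgroup G}
    [K.Normal] (hc : K ≤ centralizer (Z : Set G))
    (hi : ∀ x ∈ K, ∃ k : ℕ, x ^ p ^ k ∈ Z) (hZK : Z ≤ K) : K ≤ Z ⊔ pCore p G := by
  obtain ⟨P, hP, -, hPK, hi'⟩ := exists_sylow_rel (p := p) (L := K) IsPGroup.of_bot bot_le
  have hZP : Z ≤ normalizer (P : Set G) :=
    le_normalizer_of_le_centralizer ((le_centralizer_iff.mp hc).trans (centralizer_anti hPK))
  have hsup : Z ⊔ P = K := by
    refine le_antisymm (sup_le hZK hPK) ?_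
    have hn : (Z.subgroupOf K).Normal :=
      normal_subgroupOf_of_le_normalizer (le_normalizer_of_le_centralizer hc)
    have hq : IsPGroup p (K ⧸ Z.subgroupOf K) := by
      intro y
      obtain ⟨x, rfl⟩ := QuotientGroup.mk_surjective y
      obtain ⟨k, hk⟩ := hi x x.2
      exact ⟨k, by rw [← QuotientGroup.mk_pow, QuotientGroup.eq_one_iff]; exact hk⟩
    obtain ⟨n, hn⟩ := IsPGroup.iff_card.mp hq
    rw [← index_eq_card, ← relIndex] at hn
    rw [← relIndex_eq_one]
    have h1 : (Z ⊔ P).relIndex K ∣ p ^ n := hn ▸ relIndex_dvd_of_le_left _ le_sup_left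
    have h2 : (Z ⊔ P).relIndex K ∣ P.relIndex K := relIndex_dvd_of_le_left _ le_sup_right
    exact Nat.eq_one_of_dvd_coprimes
      (((Fact.out : p.Prime).coprime_iff_not_dvd.mpr hi').pow_left n) h1 h2
  have hPn : (P.subgroupOf K).Normal :=
    normal_subgroupOf_of_le_normalizer (hsup ▸ sup_le hZP le_normalizer)
  have h3 : P ≤ pCore p G := fun x hx =>
    H2.map_subtype_pCore_le p K ⟨⟨x, hPK hx⟩, H2.le_pCore hPn hP.comap_subtype hx, rfl⟩
  rw [← hsup]
  exact sup_le_sup_left h3 _

/-- a normal `p`-solvable subgroup centralizing `O_{p'}(G)` lies in `O_{p'}(G)` if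
`O_p(G) = 1`. -/
theorem le_pPrimeCore_of_isPSolvable_of_le_centralizer [Finite G] {p : ℕ} [Fact p.Prime]
    (hO : pCore p G = ⊥) {K : Subgroup G} [K.Normal] (hK : IsPSolvable p K)
    (hc : K ≤ centralizer (pPrimeCore p G : Set G)) : K ≤ pPrimeCore p G := by
  by_contra hle
  set f := QuotientGroup.mk' (pPrimeCore p G) with hf
  have hfs : Function.Surjective f := QuotientGroup.mk'_surjective _
  have hn : (K.map f).Normal := Normal.map inferInstance _ hfs
  have h1 := core_ne_bot_of_normal_isPSolvable (isPSolvable_map hK f)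
    (by rw [Ne, Subgroup.map_eq_bot_iff, QuotientGroup.ker_mk']; exact hle)
  rw [H2.pPrimeCore_quotient_pPrimeCore] at h1
  simp only [bot_inf_eq, ne_eq, not_true_eq_false, or_false] at h1
  apply h1
  set L := (pCore p (G ⧸ pPrimeCore p G)).comap f ⊓ K with hL
  have h2 : L ≤ pPrimeCore p G := by
    have := le_sup_pCore_of_central (p := p) (K := L) (Z := pPrimeCore p G ⊓ L)
      ((inf_le_right.trans hc).trans (centralizer_anti inf_le_left)) (fun x hx => by
        obtain ⟨k, hk⟩ := isPGroup_iff_forall_mem.mp (H2.pCore_isPGroup p _) _ hx.1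
        refine ⟨k, ?_, L.pow_mem hx _⟩
        rw [← map_pow] at hk
        exact (QuotientGroup.eq_one_iff _).mp hk) inf_le_right
    rw [hO, sup_bot_eq] at this
    exact this.trans inf_le_left
  rw [eq_bot_iff]
  rintro _ ⟨hy, x, hx, rfl⟩
  exact (QuotientGroup.eq_one_iff x).mpr (h2 ⟨hy, hx⟩)

/-- Hall–Higman, Lemma 1.2.3, dual form. -/
theorem centralizer_pPrimeCore_le_of_isPSolvable [Finite G] {p : ℕ} [Fact p.Prime]
    (hG : IsPSolvable p G) (hO : pCore p G = ⊥) :
    centralizer (pPrimeCore p G : Set G) ≤ pPrimeCore p G :=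
  le_pPrimeCore_of_isPSolvable_of_le_centralizer hO (isPSolvable_subgroup hG _) le_rfl

/-! ### the upper `p`-series -/

theorem upperPSeries_zero (p : ℕ) (G : Type*) [Group G] : (upperPSeries p G 0).1 = ⊥ := rfl

theorem upperPSeries_succ_of_even (p : ℕ) (G : Type*) [Group G] {n : ℕ} (hn : Even n) :
    (upperPSeries p G (n + 1)).1 =
      (pPrimeCore p (G ⧸ (upperPSeries p G n).1)).comap (QuotientGroup.mk' _) := by
  have : upperPSeries p G (n + 1) = if Even n then
      ⟨(pPrimeCore p (G ⧸ (upperPSeries p G n).1)).comap (QuotientGroup.mk' _), inferInstance⟩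
    else
      ⟨(pCore p (G ⧸ (upperPSeries p G n).1)).comap (QuotientGroup.mk' _), inferInstance⟩ := rfl
  rw [this, if_pos hn]

theorem upperPSeries_succ_of_odd (p : ℕ) (G : Type*) [Group G] {n : ℕ} (hn : ¬ Even n) :
    (upperPSeries p G (n + 1)).1 =
      (pCore p (G ⧸ (upperPSeries p G n).1)).comap (QuotientGroup.mk' _) := by
  have : upperPSeries p G (n + 1) = if Even n then
      ⟨(pPrimeCore p (G ⧸ (upperPSeries p G n).1)).comap (QuotientGroup.mk' _), inferInstance⟩
    else
      ⟨(pCore p (G ⧸ (upperPSeries p G n).1)).comap (QuotientGroup.mk' _), inferInstance⟩ := rfl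
  rw [this, if_neg hn]

theorem upperPSeries_one [Finite G] (p : ℕ) : (upperPSeries p G 1).1 = pPrimeCore p G := by
  rw [upperPSeries_succ_of_even p G (n := 0) (by simp)]
  exact H2.comap_pPrimeCore_mk' _ (by rw [upperPSeries_zero]; simp)

theorem upperPSeries_two [Finite G] (p : ℕ) : (upperPSeries p G 2).1 = pPrimePCore p G := by
  rw [upperPSeries_succ_of_odd p G (n := 1) (by simp)]
  exact (pPrimePCore_eq_comap (QuotientGroup.mk'_surjective _)
    (by rw [QuotientGroup.ker_mk', upperPSeries_one])).symm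

theorem comap_upperPSeries_succ [Finite G] {H : Type*} [Group H] {f : G →* H}
    (hf : Function.Surjective f) {p m n : ℕ} (hmn : Even m ↔ Even n)
    (h : (upperPSeries p H m).1.comap f = (upperPSeries p G n).1) :
    (upperPSeries p H (m + 1)).1.comap f = (upperPSeries p G (n + 1)).1 := by
  have hk : ((QuotientGroup.mk' (upperPSeries p H m).1).comp f).ker =
      (QuotientGroup.mk' (upperPSeries p G n).1).ker := by
    rw [← MonoidHom.comap_ker, QuotientGroup.ker_mk', QuotientGroup.ker_mk', h]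
  by_cases hm : Even m
  · rw [upperPSeries_succ_of_even p H hm, upperPSeries_succ_of_even p G (hmn.mp hm), comap_comap]
    exact comap_pPrimeCore_eq_of_ker_eq ((QuotientGroup.mk'_surjective _).comp hf)
      (QuotientGroup.mk'_surjective _) hk
  · rw [upperPSeries_succ_of_odd p H hm, upperPSeries_succ_of_odd p G (mt hmn.mpr hm),
      comap_comap]
    exact comap_pCore_eq_of_ker_eq ((QuotientGroup.mk'_surjective _).comp hf)
      (QuotientGroup.mk'_surjective _) hk

theorem comap_upperPSeries_of_ker_eq [Finite G] {H : Type*} [Group H] {f : G →* H}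
    (hf : Function.Surjective f) {p k : ℕ} (hk : f.ker = (upperPSeries p G (2 * k)).1) (n : ℕ) :
    (upperPSeries p H n).1.comap f = (upperPSeries p G (2 * k + n)).1 := by
  induction n with
  | zero => rw [upperPSeries_zero, MonoidHom.comap_bot, hk, add_zero]
  | succ n ih => exact comap_upperPSeries_succ hf (by simp [Nat.even_add]) ih

theorem pPrimeCore_quotient_upperPSeries_odd [Finite G] (p k : ℕ) :
    pPrimeCore p (G ⧸ (upperPSeries p G (2 * k + 1)).1) = ⊥ := by
  apply comap_injective (QuotientGroup.mk'_surjective _)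
  rw [MonoidHom.comap_bot, QuotientGroup.ker_mk']
  set f := QuotientGroup.mk' (upperPSeries p G (2 * k)).1
  set g := QuotientGroup.mk' (pPrimeCore p (G ⧸ (upperPSeries p G (2 * k)).1))
  have hk : (g.comp f).ker = (upperPSeries p G (2 * k + 1)).1 := by
    rw [← MonoidHom.comap_ker, QuotientGroup.ker_mk', upperPSeries_succ_of_even p G (by simp)]
  rw [comap_pPrimeCore_eq_of_ker_eq (f₂ := g.comp f) (QuotientGroup.mk'_surjective _)
    ((QuotientGroup.mk'_surjective _).comp (QuotientGroup.mk'_surjective _))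
      (by rw [QuotientGroup.ker_mk', hk]),
    H2.pPrimeCore_quotient_pPrimeCore, MonoidHom.comap_bot, hk]

/-- an element of a `p`-solvable group centralizing a Sylow `p`-subgroup lies in `O_{p',p}` -/
theorem centralizer_sylow_le_pPrimePCore [Finite G] {p : ℕ} [Fact p.Prime]
    (hG : IsPSolvable p G) (S : Sylow p G) :
    centralizer ((S : Subgroup G) : Set G) ≤ pPrimePCore p G := by
  rw [pPrimePCore, ← map_le_iff_le_comap]
  refine (map_centralizer_le _ _).trans (le_trans (centralizer_anti ?_)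
    (centralizer_pCore_le_of_isPSolvable (isPSolvable_quotient hG _)
      (H2.pPrimeCore_quotient_pPrimeCore p G)))
  exact H2.pCore_le_sylow (S.mapSurjective (QuotientGroup.mk'_surjective _))

universe u in
theorem pLengthLE_of_lowerCentralSeries {p : ℕ} [Fact p.Prime] (n : ℕ) :
    ∀ (G : Type u) [Group G] [Finite G], IsPSolvable p G → ∀ S : Sylow p G,
      (S : Subgroup G).lowerCentralSeries n = ⊥ → PLengthLE p n G := by
  induction n with
  | zero =>
    intro G _ _ _ S hS
    rw [PLengthLE, upperPSeries_one, H2.pPrimeCore_eq_top_iff, Nat.coprime_comm,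
      (Fact.out : p.Prime).coprime_iff_not_dvd]
    intro hd
    exact S.ne_bot_of_dvd_card hd hS
  | succ n ih =>
    intro G _ _ hG S hS
    set f := QuotientGroup.mk' (upperPSeries p G (2 * 1)).1
    have hf : Function.Surjective f := QuotientGroup.mk'_surjective _
    have h1 := ih _ (isPSolvable_quotient hG (upperPSeries p G (2 * 1)).1) (S.mapSurjective hf) (by
      rw [Sylow.coe_mapSurjective, ← map_lowerCentralSeries, Subgroup.map_eq_bot_iff,
        QuotientGroup.ker_mk', upperPSeries_two]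
      exact (commutator_eq_bot_iff_le_centralizer.mp hS).trans
        (centralizer_sylow_le_pPrimePCore hG S))
    have h2 := comap_upperPSeries_of_ker_eq hf (p := p) (k := 1) (QuotientGroup.ker_mk' _)
      (2 * n + 1)
    rw [PLengthLE] at h1 ⊢
    rw [h1, comap_top] at h2
    rw [h2]
    congr 2
    ring

end H13
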