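import Mathlib
import Cfsg.Agent.H13.PSolvable

/-!
# `p`-constrained and `p`-stable groups
-/

set_option autoImplicit false

namespace H13

open Cfsg Subgroup
open scoped commutatorElement

variable {G : Type*} [Group G] {p : ℕ}

/-- `C_G(O_p(G)) ≤ O_p(G)` forces `O_{p'}(G) = 1`. -/
theorem pPrimeCore_eq_bot_of_centralizer_le [Finite G]
    (hc : centralizer (pCore p G : Set G) ≤ pCore p G) : pPrimeCore p G = ⊥ :=
  eq_bot_of_isPGroup_of_le_coprime
    ((H2.pCore_isPGroup p G).to_le ((H2.pPrimeCore_le_centralizer_pCore p).trans hc))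
    (H2.pPrimeCore_coprime p G) le_rfl

theorem map_sylow_pPrimePCore [Finite G] [Fact p.Prime] (P : Sylow p ↥(pPrimePCore p G)) :
    ((P : Subgroup ↥(pPrimePCore p G)).map (pPrimePCore p G).subtype).map
      (QuotientGroup.mk' (pPrimeCore p G)) = pCore p (G ⧸ pPrimeCore p G) :=
  map_eq_of_not_dvd_relIndex (QuotientGroup.mk'_surjective _) (H2.pCore_isPGroup p _)
    (map_subtype_le _) (not_dvd_relIndex_map_sylow P)

theorem isPConstrained_iff [Finite G] [Fact p.Prime] :
    IsPConstrained p G ↔ centralizer (pCore p (G ⧸ pPrimeCore p G) : Set (G ⧸ pPrimeCore p G)) ≤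
      pCore p (G ⧸ pPrimeCore p G) := by
  have key : ∀ P : Sylow p ↥(pPrimePCore p G),
      centralizer (((P : Subgroup ↥(pPrimePCore p G)).map (pPrimePCore p G).subtype :
        Subgroup G) : Set G) ≤ pPrimePCore p G ↔
      centralizer (pCore p (G ⧸ pPrimeCore p G) : Set (G ⧸ pPrimeCore p G)) ≤
        pCore p (G ⧸ pPrimeCore p G) := by
    intro P
    conv => enter [2, 1, 1]; rw [← map_sylow_pPrimePCore P]
    rw [centralizer_map_of_coprime_ker (QuotientGroup.mk'_surjective _)
      (coprime_card_ker_mk'_pPrimeCore p) (P.isPGroup'.map _), map_le_iff_le_comap]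
    rfl
  exact ⟨fun h => (key default).mp (h default), fun h P => (key P).mpr h⟩

/-- intrinsic form of `p`-constraint -/
theorem isPConstrained_iff_commutator [Finite G] [Fact p.Prime] :
    IsPConstrained p G ↔
      ∀ x : G, (∀ y ∈ pPrimePCore p G, ⁅x, y⁆ ∈ pPrimeCore p G) → x ∈ pPrimePCore p G := by
  rw [isPConstrained_iff]
  constructor
  · intro h x hx
    refine h fun y hy => ?_
    obtain ⟨y, rfl⟩ := QuotientGroup.mk'_surjective _ y
    have := (QuotientGroup.eq_one_iff _).mpr (hx y hy)
    rw [← QuotientGroup.mk'_apply, map_commutatorElement,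
      commutatorElement_eq_one_iff_mul_comm] at this
    exact this.symm
  · intro h x hx
    obtain ⟨x, rfl⟩ := QuotientGroup.mk'_surjective _ x
    refine h x fun y hy => (QuotientGroup.eq_one_iff _).mp ?_
    rw [← QuotientGroup.mk'_apply, map_commutatorElement, commutatorElement_eq_one_iff_mul_comm]
    exact (hx _ hy).symm

theorem isPConstrained_iff_of_coprime_ker [Finite G] [Fact p.Prime] {H : Type*} [Group H]
    {f : G →* H} (hf : Function.Surjective f) (hk : (Nat.card f.ker).Coprime p) :
    IsPConstrained p G ↔ IsPConstrained p H := by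
  have : Finite H := Finite.of_surjective f hf
  rw [isPConstrained_iff_commutator, isPConstrained_iff_commutator,
    ← comap_pPrimePCore_of_coprime_ker hf hk, ← comap_pPrimeCore_of_coprime_ker hf hk]
  simp only [mem_comap, map_commutatorElement]
  constructor
  · intro h x hx
    obtain ⟨x, rfl⟩ := hf x
    exact h x fun y hy => hx _ hy
  · intro h x hx
    refine h _ fun y hy => ?_
    obtain ⟨y, rfl⟩ := hf y
    exact hx y hy

theorem isPConstrained_of_mulEquiv [Finite G] [Fact p.Prime] {H : Type*} [Group H]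
    (hG : IsPConstrained p G) (e : G ≃* H) : IsPConstrained p H :=
  (isPConstrained_iff_of_coprime_ker (f := (e : G →* H)) e.surjective (by
    rw [(MonoidHom.ker_eq_bot_iff _).mpr e.injective]; simp)).mp hG

theorem isPConstrained_iff_quotient [Finite G] [Fact p.Prime] :
    IsPConstrained p G ↔ IsPConstrained p (G ⧸ pPrimeCore p G) :=
  isPConstrained_iff_of_coprime_ker (QuotientGroup.mk'_surjective _)
    (coprime_card_ker_mk'_pPrimeCore p)

theorem isPConstrained_iff_of_pPrimeCore_eq_bot [Finite G] [Fact p.Prime]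
    (h : pPrimeCore p G = ⊥) :
    IsPConstrained p G ↔ centralizer (pCore p G : Set G) ≤ pCore p G := by
  rw [isPConstrained_iff_commutator, pPrimePCore_eq_pCore h, h]
  simp only [mem_bot, commutatorElement_eq_one_iff_mul_comm]
  exact ⟨fun h x hx => h x fun y hy => (hx y hy).symm, fun h x hx => h fun y hy => (hx y hy).symm⟩

theorem isPConstrained_of_centralizer_le [Finite G] [Fact p.Prime]
    (hc : centralizer (pCore p G : Set G) ≤ pCore p G) : IsPConstrained p G :=
  (isPConstrained_iff_of_pPrimeCore_eq_bot (pPrimeCore_eq_bot_of_centralizer_le hc)).mpr hc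

theorem isPConstrained_of_isPSolvable [Finite G] [Fact p.Prime] (hG : IsPSolvable p G) :
    IsPConstrained p G :=
  isPConstrained_iff.mpr (centralizer_pCore_le_of_isPSolvable (isPSolvable_quotient hG _)
    (H2.pPrimeCore_quotient_pPrimeCore p G))

theorem isPConstrained_of_isSolvable [Finite G] [Fact p.Prime] [Group.IsSolvable G] :
    IsPConstrained p G := isPConstrained_of_isPSolvable isPSolvable_of_isSolvable

/-- S0629 -/
theorem isPConstrained_of_isPSolvable_centralizer [Finite G] [Fact p.Prime]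
    (P : Sylow p ↥(pPrimePCore p G))
    (hsol : IsPSolvable p ↥(centralizer (((P : Subgroup ↥(pPrimePCore p G)).map
      (pPrimePCore p G).subtype : Subgroup G) : Set G))) : IsPConstrained p G := by
  rw [isPConstrained_iff]
  refine le_pCore_of_isPSolvable_of_le_centralizer (H2.pPrimeCore_quotient_pPrimeCore p G) ?_
    le_rfl
  rw [← map_sylow_pPrimePCore P, centralizer_map_of_coprime_ker (QuotientGroup.mk'_surjective _)
      (coprime_card_ker_mk'_pPrimeCore p) (P.isPGroup'.map _)]
  exact isPSolvable_map hsol _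

/-! ### groups with `C(O_p) ≤ O_p` -/

/-- If `C_G(O_p(G)) ≤ O_p(G)`, a `p'`-element centralizing a `p`-subgroup `P` and
`C_{O_p(G)}(P)` is trivial. -/
theorem eq_one_of_centralizes [Finite G] [Fact p.Prime]
    (hc : centralizer (pCore p G : Set G) ≤ pCore p G) {P : Subgroup G} (hP : IsPGroup p P)
    {x : G} (hx : (orderOf x).Coprime p) (h1 : x ∈ centralizer (P : Set G))
    (h2 : x ∈ centralizer ((pCore p G ⊓ centralizer (P : Set G) : Subgroup G) : Set G)) :
    x = 1 := by
  have := p_times_q hP (card_zpowers_coprime hx)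
    (le_centralizer_iff.mp (zpowers_le.mpr h1)) (pCore p G) (H2.pCore_isPGroup p G)
    le_normalizer_of_normal le_normalizer_of_normal (le_centralizer_iff.mp (zpowers_le.mpr h2))
  exact eq_one_of_mem_isPGroup_of_coprime (H2.pCore_isPGroup p G) (hc (this (mem_zpowers x))) hx

/-- ambient form of `K ≤ O_p(H)` -/
theorem le_map_pCore {H K : Subgroup G} (hK : IsPGroup p K) (hKH : K ≤ H)
    (hn : H ≤ normalizer (K : Set G)) : K ≤ (pCore p H).map H.subtype := fun x hx =>
  ⟨⟨x, hKH hx⟩, H2.le_pCore (normal_subgroupOf_of_le_normalizer hn) hK.comap_subtype hx, rfl⟩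

/-- ambient form of `K ≤ O_{p'}(H)` -/
theorem le_map_pPrimeCore {H K : Subgroup G} (hK : (Nat.card K).Coprime p) (hKH : K ≤ H)
    (hn : H ≤ normalizer (K : Set G)) : K ≤ (pPrimeCore p H).map H.subtype := fun x hx =>
  ⟨⟨x, hKH hx⟩, H2.le_pPrimeCore (normal_subgroupOf_of_le_normalizer hn)
    (by rwa [H2.card_subgroupOf_of_le hKH]) hx, rfl⟩

theorem le_normalizer_map_subtype {H : Subgroup G} (K : Subgroup H) [hK : K.Normal] :
    H ≤ normalizer (K.map H.subtype : Set G) := by
  rw [le_normalizer_iff]
  rintro h hh _ ⟨k, hk, rfl⟩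
  exact ⟨_, hK.conj_mem k hk ⟨h, hh⟩, rfl⟩

/-- Bender: `C(O_p) ≤ O_p` passes to normalizers of `p`-subgroups. -/
theorem centralizer_pCore_normalizer_le [Finite G] [Fact p.Prime]
    (hc : centralizer (pCore p G : Set G) ≤ pCore p G) {P : Subgroup G} (hP : IsPGroup p P) :
    centralizer (pCore p (normalizer (P : Set G)) : Set (normalizer (P : Set G))) ≤
      pCore p (normalizer (P : Set G)) := by
  refine H2.le_pCore inferInstance (isPGroup_of_forall_coprime_eq_one Fact.out fun x hx hxo => ?_)
  have hx' : (x : G) ∈ centralizer ((pCore p (normalizer (P : Set G))).map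
      (normalizer (P : Set G)).subtype : Set G) := map_centralizer_le _ _ ⟨x, hx, rfl⟩
  refine Subtype.ext (eq_one_of_centralizes hc hP (by simpa using hxo) ?_ ?_)
  · exact centralizer_anti (le_map_pCore hP le_normalizer le_rfl) hx'
  · refine centralizer_anti (le_map_pCore (H2.pCore_isPGroup p G).to_inf_left
      (inf_le_right.trans (centralizer_le_normalizer _)) ?_) hx'
    exact le_normalizer_inf le_normalizer_of_normal (normalizer_le_normalizer_centralizer P)

/-- `C(O_p) ≤ O_p` passes to normal subgroups. -/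
theorem centralizer_pCore_le_of_normal [Finite G] [Fact p.Prime]
    (hc : centralizer (pCore p G : Set G) ≤ pCore p G) (K : Subgroup G) [hK : K.Normal] :
    centralizer (pCore p K : Set K) ≤ pCore p K := by
  refine H2.le_pCore inferInstance (isPGroup_of_forall_coprime_eq_one Fact.out fun x hx hxo => ?_)
  have hx' : (x : G) ∈ centralizer ((pCore p K).map K.subtype : Set G) :=
    map_centralizer_le _ _ ⟨x, hx, rfl⟩
  rw [H2.map_subtype_pCore_eq] at hx'
  have hxo' : (orderOf (x : G)).Coprime p := by simpa using hxo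
  have := mem_centralizer_of_stabilizes (T := pCore p G) (H2.pCore_isPGroup p G).to_inf_left hxo'
    (fun t ht => commutator_le_inf _ _ (commutator_mem_commutator ht x.2)) hx'
  exact Subtype.ext (eq_one_of_mem_isPGroup_of_coprime (H2.pCore_isPGroup p G) (hc this) hxo')

/-- `C(O_p) ≤ O_p` passes to subgroups containing `O_p(G)`. -/
theorem centralizer_pCore_le_of_pCore_le
    (hc : centralizer (pCore p G : Set G) ≤ pCore p G) {K : Subgroup G} (hK : pCore p G ≤ K) :
    centralizer (pCore p K : Set K) ≤ pCore p K := by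
  intro x hx
  refine H2.pCore_subgroupOf_le p K (hc fun y hy => ?_)
  exact congrArg Subtype.val (hx ⟨y, hK hy⟩ (H2.pCore_subgroupOf_le p K hy))

theorem centralizer_pCore_le_of_mulEquiv {H : Type*} [Group H] (e : G ≃* H)
    (hc : centralizer (pCore p G : Set G) ≤ pCore p G) :
    centralizer (pCore p H : Set H) ≤ pCore p H := by
  intro x hx
  obtain ⟨x, rfl⟩ := e.surjective x
  rw [← H2.map_pCore_equiv p e] at hx ⊢
  refine mem_map_of_mem (e : G →* H) (hc fun y hy => e.injective ?_)
  rw [map_mul, map_mul]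
  exact hx _ ⟨y, hy, rfl⟩

/-! ### normalizers of `p`-subgroups under quotients by `p'`-subgroups -/

section Restrict

variable {H : Type*} [Group H] (f : G →* H)

/-- the restriction of `f` to `A →* B` -/
def restr (A : Subgroup G) (B : Subgroup H) (h : A.map f ≤ B) : A →* B :=
  (f.comp A.subtype).codRestrict B fun x => h ⟨x, x.2, rfl⟩

@[simp] theorem coe_restr {A : Subgroup G} {B : Subgroup H} (h : A.map f ≤ B) (x : A) :
    (restr f A B h x : H) = f x := rfl

theorem restr_surjective {A : Subgroup G} {B : Subgroup H} (h : A.map f = B) :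
    Function.Surjective (restr f A B h.le) := by
  rintro ⟨y, hy⟩
  rw [← h] at hy
  obtain ⟨x, hx, rfl⟩ := hy
  exact ⟨⟨x, hx⟩, rfl⟩

theorem ker_restr {A : Subgroup G} {B : Subgroup H} (h : A.map f ≤ B) :
    (restr f A B h).ker = f.ker.subgroupOf A := by
  ext x
  simp [MonoidHom.mem_ker, mem_subgroupOf, Subtype.ext_iff]

theorem coprime_card_ker_restr {A : Subgroup G} {B : Subgroup H} (h : A.map f ≤ B)
    (hk : (Nat.card f.ker).Coprime p) : (Nat.card (restr f A B h).ker).Coprime p := by
  rw [ker_restr, H2.card_subgroupOf]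
  exact Nat.Coprime.coprime_dvd_left (card_dvd_of_le inf_le_left) hk

end Restrict

theorem isPConstrained_normalizer [Finite G] [Fact p.Prime] (hG : IsPConstrained p G)
    {P : Subgroup G} (hP : IsPGroup p P) : IsPConstrained p ↥(normalizer (P : Set G)) := by
  have h := normalizer_map_of_coprime_ker (QuotientGroup.mk'_surjective _)
    (coprime_card_ker_mk'_pPrimeCore p) hP
  rw [isPConstrained_iff_of_coprime_ker (restr_surjective _ h.symm)
    (coprime_card_ker_restr _ _ (coprime_card_ker_mk'_pPrimeCore p))]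
  exact isPConstrained_of_centralizer_le
    (centralizer_pCore_normalizer_le (isPConstrained_iff.mp hG) (hP.map _))

theorem isPConstrained_of_normal [Finite G] [Fact p.Prime] (hG : IsPConstrained p G)
    (K : Subgroup G) [K.Normal] : IsPConstrained p K := by
  have : (K.map (QuotientGroup.mk' (pPrimeCore p G))).Normal :=
    Normal.map inferInstance _ (QuotientGroup.mk'_surjective _)
  rw [isPConstrained_iff_of_coprime_ker
    (restr_surjective (QuotientGroup.mk' (pPrimeCore p G)) (A := K) rfl)
    (coprime_card_ker_restr _ _ (coprime_card_ker_mk'_pPrimeCore p))]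
  exact isPConstrained_of_centralizer_le
    (centralizer_pCore_le_of_normal (isPConstrained_iff.mp hG) _)

theorem isPConstrained_of_le_normalizer [Finite G] [Fact p.Prime] {H K : Subgroup G}
    (hH : IsPConstrained p H) (hKH : K ≤ H) (hn : H ≤ normalizer (K : Set G)) :
    IsPConstrained p K := by
  have := normal_subgroupOf_of_le_normalizer hn
  exact isPConstrained_of_mulEquiv (isPConstrained_of_normal hH (K.subgroupOf H))
    (subgroupOfEquivOfLe hKH)

theorem isPConstrained_centralizer [Finite G] [Fact p.Prime] (hG : IsPConstrained p G)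
    {P : Subgroup G} (hP : IsPGroup p P) : IsPConstrained p ↥(centralizer (P : Set G)) :=
  isPConstrained_of_le_normalizer (isPConstrained_normalizer hG hP) (centralizer_le_normalizer _)
    (normalizer_le_normalizer_centralizer P)

/-- S0661: `O_{p'}(N_G(P)) = O_{p'}(G) ∩ N_G(P)` in a `p`-constrained group. -/
theorem pPrimeCore_normalizer [Finite G] [Fact p.Prime] (hG : IsPConstrained p G)
    {P : Subgroup G} (hP : IsPGroup p P) :
    (pPrimeCore p ↥(normalizer (P : Set G))).map (normalizer (P : Set G)).subtype =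
      pPrimeCore p G ⊓ normalizer (P : Set G) := by
  have h := normalizer_map_of_coprime_ker (QuotientGroup.mk'_surjective _)
    (coprime_card_ker_mk'_pPrimeCore p) hP
  rw [← comap_pPrimeCore_of_coprime_ker (restr_surjective _ h.symm)
    (coprime_card_ker_restr _ _ (coprime_card_ker_mk'_pPrimeCore p)),
    pPrimeCore_eq_bot_of_centralizer_le
      (centralizer_pCore_normalizer_le (isPConstrained_iff.mp hG) (hP.map _)),
    MonoidHom.comap_bot, ker_restr, QuotientGroup.ker_mk', subgroupOf_map_subtype]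

/-- `O_{p'}(C_G(P)) = O_{p'}(G) ∩ C_G(P)` in a `p`-constrained group. -/
theorem pPrimeCore_centralizer [Finite G] [Fact p.Prime] (hG : IsPConstrained p G)
    {P : Subgroup G} (hP : IsPGroup p P) :
    (pPrimeCore p ↥(centralizer (P : Set G))).map (centralizer (P : Set G)).subtype =
      pPrimeCore p G ⊓ centralizer (P : Set G) := by
  refine le_antisymm (le_inf ?_ (map_subtype_le _)) ?_
  · refine le_trans ?_ ((pPrimeCore_normalizer hG hP).le.trans inf_le_left)
    refine le_map_pPrimeCore (by rw [H2.card_map_subtype]; exact H2.pPrimeCore_coprime p _)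
      ((map_subtype_le _).trans (centralizer_le_normalizer _)) ?_
    rw [le_normalizer_iff]
    rintro g hg _ ⟨x, hx, rfl⟩
    let e : MulAut (centralizer (P : Set G)) := normalizerMonoidHom (centralizer (P : Set G))
      ⟨g, normalizer_le_normalizer_centralizer P hg⟩
    have := characteristic_iff_le_comap.mp
      (H2.pPrimeCore_characteristic p (centralizer (P : Set G))) e hx
    exact ⟨_, this, rfl⟩
  · refine le_map_pPrimeCore (Nat.Coprime.coprime_dvd_left (card_dvd_of_le inf_le_left)
      (H2.pPrimeCore_coprime p G)) inf_le_right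
      (le_normalizer_inf le_normalizer_of_normal le_normalizer)

/-! ### `p`-stability -/

/-- intrinsic form of the conclusion in the definition of `IsPStable` -/
theorem map_subgroupOf_le_pCore_iff {A P : Subgroup G} (hA : A ≤ normalizer (P : Set G)) :
    (A.subgroupOf (normalizer (P : Set G))).map
        (QuotientGroup.mk' ((centralizer (P : Set G)).subgroupOf (normalizer (P : Set G))))
      ≤ pCore p _ ↔
    ∃ D : Subgroup G, A ≤ D ∧ D ≤ normalizer (P : Set G) ∧
      normalizer (P : Set G) ≤ normalizer (D : Set G) ∧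
      ∀ x ∈ D, ∃ k : ℕ, x ^ p ^ k ∈ centralizer (P : Set G) := by
  constructor
  · intro h
    refine ⟨((pCore p _).comap (QuotientGroup.mk' ((centralizer (P : Set G)).subgroupOf
      (normalizer (P : Set G))))).map (normalizer (P : Set G)).subtype, fun a ha => ?_,
      map_subtype_le _, le_normalizer_map_subtype _, ?_⟩
    · exact ⟨⟨a, hA ha⟩, h ⟨⟨a, hA ha⟩, ha, rfl⟩, rfl⟩
    · rintro _ ⟨x, hx, rfl⟩
      obtain ⟨k, hk⟩ := isPGroup_iff_forall_mem.mp (H2.pCore_isPGroup p _) _ hx
      rw [← map_pow] at hk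
      have h5 := (QuotientGroup.eq_one_iff (x ^ p ^ k)).mp hk
      exact ⟨k, h5⟩
  · rintro ⟨D, h1, h2, h3, h4⟩ _ ⟨a, ha, rfl⟩
    refine mk_mem_pCore_iff.mpr ⟨D.subgroupOf _, normal_subgroupOf_of_le_normalizer h3, h1 ha,
      fun x hx => h4 x hx⟩

theorem isPStable_iff : IsPStable p G ↔ Odd p ∧ pCore p G ≠ ⊥ ∧
    ∀ A P : Subgroup G, IsPGroup p A → IsPGroup p P → A ≤ normalizer (P : Set G) →
      P ≤ pPrimePCore p G → (pPrimeCore p G ⊔ P).Normal → ⁅⁅P, A⁆, A⁆ = ⊥ →
      ∃ D : Subgroup G, A ≤ D ∧ D ≤ normalizer (P : Set G) ∧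
        normalizer (P : Set G) ≤ normalizer (D : Set G) ∧
        ∀ x ∈ D, ∃ k : ℕ, x ^ p ^ k ∈ centralizer (P : Set G) := by
  refine and_congr_right fun _ => and_congr_right fun _ => ?_
  refine forall_congr' fun A => forall_congr' fun P => forall_congr' fun _ =>
    forall_congr' fun _ => ?_
  rw [← le_normalizer_iff]
  refine forall_congr' fun h => ?_
  rw [map_subgroupOf_le_pCore_iff h]

theorem isPStableOn_iff {V : Subgroup G} [V.Normal] : IsPStableOn p V ↔
    ∀ a : G, ⁅⁅V, zpowers a⁆, zpowers a⁆ = ⊥ →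
      ∃ D : Subgroup G, D.Normal ∧ a ∈ D ∧
        ∀ x ∈ D, ∃ k : ℕ, x ^ p ^ k ∈ centralizer (V : Set G) := by
  simp only [IsPStableOn, mk_mem_pCore_iff]

theorem inf_comap_map_eq {H : Type*} [Group H] {f : G →* H} {T : Subgroup G} {B : Subgroup H}
    (h : B ≤ T.map f) : (T ⊓ B.comap f).map f = B := by
  refine le_antisymm (map_le_iff_le_comap.mpr inf_le_right) fun y hy => ?_
  obtain ⟨x, hx, rfl⟩ := h hy
  exact ⟨x, ⟨hx, hy⟩, rfl⟩

/-- S0632, for any surjection with kernel of order prime to `p`. -/
theorem isPStable_iff_of_coprime_ker [Finite G] [Fact p.Prime] {H : Type*} [Group H]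
    {f : G →* H} (hf : Function.Surjective f) (hk : (Nat.card f.ker).Coprime p)
    (hO : pCore p G ≠ ⊥) : IsPStable p G ↔ IsPStable p H := by
  have : Finite H := Finite.of_surjective f hf
  have hO' : pCore p H ≠ ⊥ := fun h => hO (eq_bot_of_isPGroup_of_le_coprime
    (H2.pCore_isPGroup p G) hk ((Subgroup.map_eq_bot_iff _).mp
      (le_bot_iff.mp (h ▸ H2.map_pCore_le p hf))))
  have hker : f.ker ≤ pPrimeCore p G := H2.le_pPrimeCore inferInstance hk
  rw [isPStable_iff, isPStable_iff]
  refine and_congr_right fun _ => ⟨fun ⟨_, h⟩ => ⟨hO', ?_⟩, fun ⟨_, h⟩ => ⟨hO, ?_⟩⟩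
  · intro A P hA hP hAP hPO hn hq
    obtain ⟨T, hT, hTm, -⟩ := exists_isPGroup_map_eq hf (isPGroup_sup_of_le_normalizer hA hP hAP)
    have hA' : (T ⊓ A.comap f).map f = A := inf_comap_map_eq (hTm ▸ le_sup_left)
    have hP' : (T ⊓ P.comap f).map f = P := inf_comap_map_eq (hTm ▸ le_sup_right)
    have hN := normalizer_map_of_coprime_ker hf hk (hT.to_inf_left (K := P.comap f))
    rw [hP'] at hN
    obtain ⟨D, h1, h2, h3, h4⟩ := h (T ⊓ A.comap f) (T ⊓ P.comap f) hT.to_inf_left hT.to_inf_left
      (le_normalizer_inf (inf_le_left.trans le_normalizer)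
        (inf_le_right.trans ((comap_mono hAP).trans (le_normalizer_comap f))))
      (inf_le_right.trans (by
        rw [← comap_pPrimePCore_of_coprime_ker hf hk]; exact comap_mono hPO))
      (by
        have : pPrimeCore p G ⊔ T ⊓ P.comap f = (pPrimeCore p H ⊔ P).comap f := by
          rw [← map_pPrimeCore_of_coprime_ker hf hk]
          conv_rhs => rw [← hP', ← Subgroup.map_sup, comap_map_eq]
          exact (sup_eq_left.mpr (hker.trans le_sup_left)).symm
        rw [this]; exact hn.comap f)
      (by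
        refine eq_bot_of_isPGroup_of_le_coprime (hT.to_le ?_) hk ?_
        · exact (commutator_mono ((commutator_mono inf_le_left inf_le_left).trans
            (commutator_le_self T)) inf_le_left).trans (commutator_le_self T)
        · rw [← Subgroup.map_eq_bot_iff, map_commutator, map_commutator, hA', hP', hq])
    refine ⟨D.map f, hA' ▸ map_mono h1, hN ▸ map_mono h2,
      hN ▸ (map_mono h3).trans (le_normalizer_map f), ?_⟩
    rintro _ ⟨x, hx, rfl⟩
    obtain ⟨k, hk⟩ := h4 x hx
    refine ⟨k, ?_⟩
    rw [← map_pow, ← hP']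
    exact map_centralizer_le f _ ⟨_, hk, rfl⟩
  · intro A P hA hP hAP hPO hn hq
    obtain ⟨D, h1, h2, h3, h4⟩ := h (A.map f) (P.map f) (hA.map f) (hP.map f)
      ((map_mono hAP).trans (le_normalizer_map f))
      (by rw [← map_pPrimePCore_of_coprime_ker hf hk]; exact map_mono hPO)
      (by rw [← map_pPrimeCore_of_coprime_ker hf hk, ← Subgroup.map_sup]; exact hn.map f hf)
      (by rw [← map_commutator, ← map_commutator, hq, Subgroup.map_bot])
    refine ⟨D.comap f ⊓ normalizer (P : Set G), le_inf (map_le_iff_le_comap.mp h1) hAP,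
      inf_le_right, le_normalizer_inf ?_ le_normalizer, fun x hx => ?_⟩
    · exact (map_le_iff_le_comap.mp ((le_normalizer_map f).trans h3)).trans
        (le_normalizer_comap f)
    · obtain ⟨k, hk'⟩ := h4 _ hx.1
      exact ⟨k, mem_centralizer_of_map_of_coprime_ker hk hP (pow_mem hx.2 _)
        (by rwa [map_pow])⟩

theorem isPStable_iff_quotient [Finite G] [Fact p.Prime] (hO : pCore p G ≠ ⊥) :
    IsPStable p G ↔ IsPStable p (G ⧸ pPrimeCore p G) :=
  isPStable_iff_of_coprime_ker (QuotientGroup.mk'_surjective _)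
    (coprime_card_ker_mk'_pPrimeCore p) hO

/-- the `p'`-part of a quadratically acting element centralizes a `p`-group -/
theorem mem_centralizer_of_quadratic_of_coprime {V : Subgroup G} (hV : IsPGroup p V) {a b : G}
    (ha : a ∈ normalizer (V : Set G)) (hq : ⁅⁅V, zpowers a⁆, zpowers a⁆ = ⊥)
    (hb : b ∈ zpowers a) (hbo : (orderOf b).Coprime p) : b ∈ centralizer (V : Set G) :=
  mem_centralizer_of_stabilizes
    (hV.to_le (le_normalizer_iff_commutator_le_left.mp (zpowers_le.mpr ha))) hbo
    (fun _ ht => commutator_mem_commutator ht hb)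
    (le_centralizer_iff.mp (commutator_eq_bot_iff_le_centralizer.mp hq) hb)

/-- To check stability on a normal `p`-subgroup it suffices to look at `p`-elements. -/
theorem isPStableOn_of_forall_pElt [Finite G] [Fact p.Prime] {V : Subgroup G} [V.Normal]
    (hV : IsPGroup p V)
    (h : ∀ a : G, (∃ k : ℕ, a ^ p ^ k = 1) → ⁅⁅V, zpowers a⁆, zpowers a⁆ = ⊥ →
      ∃ D : Subgroup G, D.Normal ∧ a ∈ D ∧
        ∀ x ∈ D, ∃ k : ℕ, x ^ p ^ k ∈ centralizer (V : Set G)) : IsPStableOn p V := by
  intro a hq
  obtain ⟨u, hu, v, hv, huk, hvo, rfl⟩ := exists_p_part (Fact.out : p.Prime) a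
  have hle : zpowers u ≤ zpowers (u * v) := zpowers_le.mpr hu
  have h1 := mk_mem_pCore_iff.mpr (h u huk (le_bot_iff.mp
    (hq ▸ commutator_mono (commutator_mono le_rfl hle) hle)))
  have h2 := mem_centralizer_of_quadratic_of_coprime hV (le_normalizer_of_normal (mem_top _)) hq
    hv hvo
  rw [QuotientGroup.mk_mul, (QuotientGroup.eq_one_iff v).mpr h2, mul_one]
  exact h1

/-- a `p`-stable group acts `p`-stably on its normal `p`-subgroups -/
theorem IsPStable.isPStableOn [Finite G] [Fact p.Prime] (hG : IsPStable p G) (V : Subgroup G)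
    [V.Normal] (hV : IsPGroup p V) : IsPStableOn p V := by
  refine isPStableOn_of_forall_pElt hV fun a ⟨k, hk⟩ hq => ?_
  obtain ⟨D, h1, -, h3, h4⟩ := (isPStable_iff.mp hG).2.2 (zpowers a) V (isPGroup_zpowers hk) hV
    le_normalizer_of_normal ((H2.le_pCore inferInstance hV).trans (pCore_le_pPrimePCore p G))
    inferInstance hq
  rw [normalizer_eq_top, top_le_iff, normalizer_eq_top_iff] at h3
  exact ⟨D, h3, h1 (mem_zpowers a), h4⟩

/-- conversely, when `O_{p'}(G) = 1` -/
theorem isPStable_of_forall_isPStableOn [Finite G] (hp : Odd p) (hO : pCore p G ≠ ⊥)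
    (hO' : pPrimeCore p G = ⊥)
    (h : ∀ (V : Subgroup G) [V.Normal], IsPGroup p V → IsPStableOn p V) : IsPStable p G := by
  refine isPStable_iff.mpr ⟨hp, hO, fun A P hA hP hAP _ hn hq => ?_⟩
  rw [hO', bot_sup_eq] at hn
  refine ⟨(pCore p (G ⧸ centralizer (P : Set G))).comap (QuotientGroup.mk' _), fun a ha => ?_,
    le_normalizer_of_normal, le_normalizer_of_normal, fun x hx => ?_⟩
  · have hle : zpowers a ≤ A := zpowers_le.mpr ha
    exact h P hP a (le_bot_iff.mp (hq ▸ commutator_mono (commutator_mono le_rfl hle) hle))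
  · obtain ⟨k, hk⟩ := isPGroup_iff_forall_mem.mp (H2.pCore_isPGroup p _) _ hx
    rw [← map_pow] at hk
    exact ⟨k, (QuotientGroup.eq_one_iff _).mp hk⟩

end H13
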