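import Mathlib
import Cfsg.Prelude.Def_Local
import Cfsg.Prelude.Def_PLocal
import Cfsg.Agent.H13.Basic

/-!
# Commutator calculus in class two and Glauberman's replacement theorem
-/

set_option autoImplicit false

namespace H13

open Cfsg Subgroup
open scoped commutatorElement

variable {G : Type*} [Group G]

/-! ### class two formulas -/

theorem pow_mul_eq_of_commute {x y : G} (hy : Commute ⁅y, x⁆ y) (n : ℕ) :
    y ^ n * x = ⁅y, x⁆ ^ n * x * y ^ n := by
  rw [← commutator_pow_left hy, commutatorElement_def]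
  group

theorem mul_pow_of_commute {x y : G} (hx : Commute ⁅y, x⁆ x) (hy : Commute ⁅y, x⁆ y) (n : ℕ) :
    (x * y) ^ n = x ^ n * y ^ n * ⁅y, x⁆ ^ n.choose 2 := by
  induction n with
  | zero => simp
  | succ n ih =>
    have h1 : ⁅y, x⁆ ^ n.choose 2 * (x * y) = (x * y) * ⁅y, x⁆ ^ n.choose 2 :=
      ((hx.mul_right hy).pow_left _).eq
    have h2 : ⁅y, x⁆ ^ n * (x * y ^ (n + 1)) = (x * y ^ (n + 1)) * ⁅y, x⁆ ^ n :=
      ((hx.mul_right (hy.pow_right _)).pow_left _).eq
    have h3 : (n + 1).choose 2 = n + n.choose 2 := by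
      rw [Nat.choose_succ_succ' n 1, Nat.choose_one_right]
    calc (x * y) ^ (n + 1) = x ^ n * y ^ n * (⁅y, x⁆ ^ n.choose 2 * (x * y)) := by
          rw [pow_succ, ih]; simp only [mul_assoc]
      _ = x ^ n * (y ^ n * x) * y * ⁅y, x⁆ ^ n.choose 2 := by rw [h1]; simp only [mul_assoc]
      _ = x ^ n * (⁅y, x⁆ ^ n * (x * y ^ (n + 1))) * ⁅y, x⁆ ^ n.choose 2 := by
          rw [pow_mul_eq_of_commute hy, pow_succ y]; simp only [mul_assoc]
      _ = _ := by rw [h2, h3, pow_add ⁅y, x⁆, pow_succ x]; simp only [mul_assoc]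

theorem dvd_choose_two_of_odd {n : ℕ} (h : Odd n) : n ∣ n.choose 2 := by
  obtain ⟨k, rfl⟩ := h
  refine ⟨k, ?_⟩
  rw [Nat.choose_two_right, Nat.add_sub_cancel, show (2 * k + 1) * (2 * k) = 2 * ((2 * k + 1) * k) by
    ring, Nat.mul_div_cancel_left _ two_pos]

theorem mul_pow_of_odd {x y : G} (hx : Commute ⁅y, x⁆ x) (hy : Commute ⁅y, x⁆ y) {n : ℕ}
    (hn : Odd n) (h : ⁅y, x⁆ ^ n = 1) : (x * y) ^ n = x ^ n * y ^ n := by
  obtain ⟨k, hk⟩ := dvd_choose_two_of_odd hn
  rw [mul_pow_of_commute hx hy, hk, pow_mul, h, one_pow, mul_one]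

theorem commutator_mul_left_of_commute {x y z : G} (h : Commute x ⁅y, z⁆) :
    ⁅x * y, z⁆ = ⁅y, z⁆ * ⁅x, z⁆ := by
  have : ⁅x * y, z⁆ = x * ⁅y, z⁆ * x⁻¹ * ⁅x, z⁆ := by
    simp only [commutatorElement_def]; group
  rw [this, h.eq, mul_inv_cancel_right]

theorem commutator_mul_right_of_commute {x y z : G} (h : Commute y ⁅x, z⁆) :
    ⁅x, y * z⁆ = ⁅x, y⁆ * ⁅x, z⁆ := by
  have : ⁅x, y * z⁆ = ⁅x, y⁆ * (y * ⁅x, z⁆ * y⁻¹) := by
    simp only [commutatorElement_def]; group
  rw [this, h.eq, mul_inv_cancel_right]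

/-- An abelian subgroup generated by elements of exponent `n` has exponent `n`. -/
theorem pow_eq_one_of_mem_closure_of_comm {s : Set G} (hs : IsMulCommutative (closure s)) {n : ℕ}
    (h : ∀ x ∈ s, x ^ n = 1) {x : G} (hx : x ∈ closure s) : x ^ n = 1 := by
  induction hx using closure_induction with
  | mem x hx => exact h x hx
  | one => exact one_pow n
  | mul x y hx hy ihx ihy =>
    have : Commute x y := isMulCommutative_iff_forall_mem.mp hs x hx y hy
    rw [this.mul_pow, ihx, ihy, one_mul]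
  | inv x hx ih => rw [inv_pow, ih, inv_one]

theorem commutator_eq_bot_iff_forall {H K : Subgroup G} :
    ⁅H, K⁆ = ⊥ ↔ ∀ x ∈ H, ∀ y ∈ K, Commute x y := by
  rw [commutator_eq_bot_iff_le_centralizer]
  exact ⟨fun h x hx y hy => (h hx y hy).symm, fun h x hx y hy => (h x hx y hy).symm⟩

theorem isMulCommutative_iff_commutator_eq_bot {H : Subgroup G} :
    IsMulCommutative H ↔ ⁅H, H⁆ = ⊥ := by
  rw [commutator_eq_bot_iff_forall, isMulCommutative_iff_forall_mem]
  rfl

/-- In a group of class two generated by `s`, if commutators of generators have exponent `n`, so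
does the derived subgroup. -/
theorem pow_eq_one_of_mem_commutator_closure {s : Set G}
    (hc : ⁅⁅closure s, closure s⁆, closure s⁆ = ⊥) {n : ℕ}
    (h : ∀ x ∈ s, ∀ y ∈ s, ⁅x, y⁆ ^ n = 1) {w : G} (hw : w ∈ ⁅closure s, closure s⁆) :
    w ^ n = 1 := by
  set M := closure s with hM
  have hcen : ∀ x ∈ M, ∀ y ∈ M, ∀ z ∈ M, Commute ⁅x, y⁆ z := fun x hx y hy z hz =>
    commutator_eq_bot_iff_forall.mp hc _ (commutator_mem_commutator hx hy) z hz
  have hle : ⁅M, M⁆ ≤ M := commutator_le_self M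
  have key : ∀ x ∈ M, ∀ y ∈ M, ⁅x, y⁆ ^ n = 1 := by
    have step : ∀ y ∈ M, (∀ x ∈ s, ⁅x, y⁆ ^ n = 1) → ∀ x ∈ M, ⁅x, y⁆ ^ n = 1 := by
      intro y hy hs x hx
      rw [← commutator_pow_right (hcen x hx y hy y hy), commutatorElement_eq_one_iff_commute]
      have : M ≤ centralizer {y ^ n} := by
        rw [hM, closure_le]
        intro z hz
        have hzM : z ∈ M := subset_closure hz
        have := hs z hz
        rw [← commutator_pow_right (hcen z hzM y hy y hy), commutatorElement_eq_one_iff_commute]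
          at this
        exact mem_centralizer_singleton_iff.mpr this.eq
      exact mem_centralizer_singleton_iff.mp (this hx)
    intro x hx y hy
    refine step y hy (fun z hz => ?_) x hx
    rw [← commutatorElement_inv, inv_pow, step z (subset_closure hz) (fun u hu => h u hu z hz) y hy,
      inv_one]
  rw [Subgroup.commutator_def] at hw
  refine pow_eq_one_of_mem_closure_of_comm ?_ ?_ hw
  · rw [← Subgroup.commutator_def, isMulCommutative_iff_commutator_eq_bot]
    exact eq_bot_iff.mpr (hc ▸ commutator_mono le_rfl hle)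
  · rintro _ ⟨x, hx, y, hy, rfl⟩
    exact key x hx y hy

/-! ### operators centralizing the derived subgroup -/

section Operator

variable {A B : Subgroup G}

theorem commutator_commutator_derived_eq_bot (hc : ⁅⁅B, B⁆, A⁆ = ⊥) : ⁅⁅B, A⁆, ⁅B, B⁆⁆ = ⊥ := by
  apply commutator_commutator_eq_bot_of_rotate
  · rw [commutator_comm A, hc, commutator_bot_left]
  · refine eq_bot_iff.mpr (hc ▸ commutator_mono ?_ le_rfl)
    exact commutator_mono (commutator_le_self B) le_rfl

theorem commutator_derived_operator_central (hAB : A ≤ normalizer (B : Set G))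
    (hc : ⁅⁅B, B⁆, A⁆ = ⊥) : ⁅⁅⁅B, A⁆, ⁅B, A⁆⁆, B⁆ = ⊥ := by
  have hD : ⁅B, A⁆ ≤ B := le_normalizer_iff_commutator_le_left.mp hAB
  have h := commutator_commutator_derived_eq_bot hc
  rw [commutator_comm] at h
  apply commutator_commutator_eq_bot_of_rotate
  · exact eq_bot_iff.mpr (h ▸ commutator_mono (commutator_mono hD le_rfl) le_rfl)
  · exact eq_bot_iff.mpr (h ▸ commutator_mono (commutator_mono le_rfl hD) le_rfl)

theorem commutator_centralizer_operator (hc : ⁅⁅B, B⁆, A⁆ = ⊥) :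
    ⁅⁅B, A⁆, B ⊓ centralizer (A : Set G)⁆ = ⊥ := by
  apply commutator_commutator_eq_bot_of_rotate
  · rw [commutator_comm A, commutator_eq_bot_iff_le_centralizer.mpr inf_le_right,
      commutator_bot_left]
  · exact eq_bot_iff.mpr (hc ▸ commutator_mono (commutator_mono inf_le_left le_rfl) le_rfl)

/-- The subgroup `[b, A]`. -/
def commElt (b : G) (A : Subgroup G) : Subgroup G :=
  closure {g : G | ∃ a ∈ A, g = b⁻¹ * a * b * a⁻¹}

theorem commElt_le {b : G} (hb : b ∈ B) : commElt b A ≤ ⁅B, A⁆ := by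
  rw [commElt, closure_le]
  rintro _ ⟨a, ha, rfl⟩
  have := commutator_mem_commutator (B.inv_mem hb) ha
  rwa [commutatorElement_def, inv_inv] at this

theorem mem_commElt {b a : G} (ha : a ∈ A) : b⁻¹ * a * b * a⁻¹ ∈ commElt b A :=
  subset_closure ⟨a, ha, rfl⟩

theorem commElt_eq (b : G) (A : Subgroup G) :
    closure {g : G | ∃ a ∈ A, g = a * b⁻¹ * a⁻¹ * b} = commElt b A := by
  apply le_antisymm
  · rw [closure_le]
    rintro _ ⟨a, ha, rfl⟩
    have := (commElt b A).inv_mem (mem_commElt (b := b) ha)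
    simpa [mul_assoc] using this
  · rw [commElt, closure_le]
    rintro _ ⟨a, ha, rfl⟩
    have : a * b⁻¹ * a⁻¹ * b ∈ closure {g : G | ∃ a ∈ A, g = a * b⁻¹ * a⁻¹ * b} :=
      subset_closure ⟨a, ha, rfl⟩
    simpa [mul_assoc] using inv_mem this

theorem sq_eq_one_of_mem_derived_commElt (hAB : A ≤ normalizer (B : Set G))
    (hc : ⁅⁅B, B⁆, A⁆ = ⊥) (hA : IsMulCommutative A) {b : G} (hb : b ∈ B)
    (hM : ⁅⁅commElt b A, A⁆, A⁆ = ⊥) {w : G} (hw : w ∈ ⁅commElt b A, commElt b A⁆) :
    w ^ 2 = 1 := by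
  have hD : ⁅B, A⁆ ≤ B := le_normalizer_iff_commutator_le_left.mp hAB
  have hMD : commElt b A ≤ ⁅B, A⁆ := commElt_le hb
  have h1 := commutator_eq_bot_iff_forall.mp (commutator_commutator_derived_eq_bot hc)
  have h2 := commutator_eq_bot_iff_forall.mp (commutator_derived_operator_central hAB hc)
  have h3 := commutator_eq_bot_iff_forall.mp (commutator_centralizer_operator hc)
  have hAD : A ≤ normalizer ((⁅B, A⁆ : Subgroup G) : Set G) :=
    le_normalizer_commutator hAB le_normalizer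
  have hDA : ⁅⁅B, A⁆, A⁆ ≤ ⁅B, A⁆ := le_normalizer_iff_commutator_le_left.mp hAD
  -- the correction term
  have hf : ∀ u ∈ A, ∀ y ∈ commElt b A, ⁅u, y⁆ ∈ ⁅B, A⁆ ∧ ∀ d ∈ ⁅B, A⁆, Commute d ⁅u, y⁆ := by
    intro u hu y hy
    have hm : ⁅u, y⁆ ∈ ⁅commElt b A, A⁆ := by
      rw [commutator_comm]; exact commutator_mem_commutator hu hy
    have hmD : ⁅u, y⁆ ∈ ⁅B, A⁆ := hDA (commutator_mono hMD le_rfl hm)
    exact ⟨hmD, fun d hd => h3 d hd _
      ⟨hD hmD, commutator_eq_bot_iff_le_centralizer.mp hM hm⟩⟩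
  -- the invariance relation
  have key : ∀ u ∈ A, ∀ v ∈ A,
      ⁅b⁻¹ * u * b * u⁻¹, b⁻¹ * v * b * v⁻¹⁆ * ⁅b, ⁅u, b⁻¹ * v * b * v⁻¹⁆⁆ = 1 := by
    intro u hu v hv
    set x := b⁻¹ * u * b * u⁻¹ with hx
    set y := b⁻¹ * v * b * v⁻¹ with hy
    have hxD : x ∈ ⁅B, A⁆ := hMD (mem_commElt hu)
    have hyD : y ∈ ⁅B, A⁆ := hMD (mem_commElt hv)
    obtain ⟨hfD, hfc⟩ := hf u hu y (mem_commElt hv)
    set f := ⁅u, y⁆ with hfdef
    have e1 : u * ⁅b, b * y⁆ * u⁻¹ = ⁅b, b * y⁆ := by
      have := commutator_eq_bot_iff_forall.mp hc _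
        (commutator_mem_commutator hb (B.mul_mem hb (hD hyD))) u hu
      rw [← this.eq, mul_inv_cancel_right]
    have e2 : u * ⁅b, b * y⁆ * u⁻¹ = b * (x * (b * ⁅x, f * y⁆ * b⁻¹ * ⁅b, f * y⁆) * x⁻¹) * b⁻¹ := by
      simp only [hfdef, hx, commutatorElement_def]; group
    have e3 : ⁅b, b * y⁆ = b * ⁅b, y⁆ * b⁻¹ := by
      simp only [commutatorElement_def]; group
    have hfy : f * y ∈ ⁅B, A⁆ := mul_mem hfD hyD
    have e4 : b * ⁅x, f * y⁆ * b⁻¹ = ⁅x, y⁆ := by
      rw [← (h2 _ (commutator_mem_commutator hxD hfy) b hb).eq, mul_inv_cancel_right,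
        commutator_mul_right_of_commute (h1 f hfD _ (commutator_mem_commutator (hD hxD) (hD hyD))),
        (hfc x hxD).commutator_eq, one_mul]
    have e5 : ⁅b, f * y⁆ = ⁅b, f⁆ * ⁅b, y⁆ :=
      commutator_mul_right_of_commute (h1 f hfD _ (commutator_mem_commutator hb (hD hyD)))
    have e6 : Commute x (⁅x, y⁆ * (⁅b, f⁆ * ⁅b, y⁆)) := h1 x hxD _
      (mul_mem (commutator_mem_commutator (hD hxD) (hD hyD))
        (mul_mem (commutator_mem_commutator hb (hD hfD)) (commutator_mem_commutator hb (hD hyD))))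
    rw [e1, e3, e4, e5, e6.eq, mul_inv_cancel_right] at e2
    have e7 : ⁅b, y⁆ = ⁅x, y⁆ * (⁅b, f⁆ * ⁅b, y⁆) := by simpa using e2
    rw [← mul_assoc] at e7
    exact (mul_eq_right.mp e7.symm)
  refine pow_eq_one_of_mem_commutator_closure ?_ ?_ hw
  · exact eq_bot_iff.mpr ((commutator_derived_operator_central hAB hc) ▸
      commutator_mono (commutator_mono hMD hMD) (hMD.trans hD))
  · rintro _ ⟨u, hu, rfl⟩ _ ⟨v, hv, rfl⟩
    have k1 := key u hu v hv
    have k2 := key v hv u hu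
    set x := b⁻¹ * u * b * u⁻¹ with hx
    set y := b⁻¹ * v * b * v⁻¹ with hy
    have hxD : x ∈ ⁅B, A⁆ := hMD (mem_commElt hu)
    have hyD : y ∈ ⁅B, A⁆ := hMD (mem_commElt hv)
    obtain ⟨hfD, hfc⟩ := hf u hu y (mem_commElt hv)
    obtain ⟨hgD, hgc⟩ := hf v hv x (mem_commElt hu)
    set f := ⁅u, y⁆ with hfdef
    set g := ⁅v, x⁆ with hgdef
    have huv : u * v = v * u := isMulCommutative_iff_forall_mem.mp hA u hu v hv
    have e1 : x * f * y = y * g * x := by
      have a1 : x * f * y = b⁻¹ * (u * v) * b * (u * v)⁻¹ := by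
        simp only [hfdef, hx, hy, commutatorElement_def]; group
      have a2 : y * g * x = b⁻¹ * (v * u) * b * (v * u)⁻¹ := by
        simp only [hgdef, hx, hy, commutatorElement_def]; group
      rw [a1, a2, huv]
    have e2 : g = ⁅x, y⁆ * f := by
      have a1 : x * y * f = y * x * g := by
        rw [mul_assoc x, (hfc y hyD).eq, ← mul_assoc x, e1, mul_assoc y, ← (hgc x hxD).eq,
          mul_assoc y]
      have a2 : Commute (y * x) g := hgc _ (mul_mem hyD hxD)
      have a3 : Commute (y * x) f := hfc _ (mul_mem hyD hxD)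
      calc g = (y * x * g) * (y * x)⁻¹ := by rw [a2.eq, mul_inv_cancel_right]
        _ = x * y * (f * (y * x)⁻¹) := by rw [← a1, mul_assoc]
        _ = x * y * ((y * x)⁻¹ * f) := by rw [a3.inv_left.eq]
        _ = ⁅x, y⁆ * f := by simp only [commutatorElement_def]; group
    have hxy := commutator_mem_commutator hxD hyD
    have e3 : ⁅b, g⁆ = ⁅b, f⁆ := by
      rw [e2, commutator_mul_right_of_commute (h1 _ (commutator_le_self _ hxy) _
        (commutator_mem_commutator hb (hD hfD))), (h2 _ hxy b hb).symm.commutator_eq, one_mul]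
    rw [e3, ← k1, mul_left_inj] at k2
    rw [pow_two]
    nth_rewrite 1 [← k2]
    rw [← commutatorElement_inv x y, inv_mul_cancel]

end Operator

/-! ### the replacement theorem -/

theorem mem_map_conj_inv {A : Subgroup G} {b x : G} :
    x ∈ A.map (MulAut.conj b⁻¹).toMonoidHom ↔ b * x * b⁻¹ ∈ A := by
  constructor
  · rintro ⟨a, ha, rfl⟩
    simpa [mul_assoc] using ha
  · intro h
    exact ⟨_, h, by simp [mul_assoc]⟩

theorem card_map_conj (A : Subgroup G) (b : G) :
    Nat.card (A.map (MulAut.conj b).toMonoidHom) = Nat.card A :=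
  card_map_of_injective (MulAut.conj b).injective

/-- The replacement `A* = (A ∩ A^b) [A, b]`. -/
def repl (b : G) (A : Subgroup G) : Subgroup G :=
  (A ⊓ A.map (MulAut.conj b⁻¹).toMonoidHom) ⊔ commElt b A

theorem repl_le {A Q : Subgroup G} {b : G} (hAQ : A ≤ Q) (hb : b ∈ normalizer (Q : Set G)) :
    repl b A ≤ Q := by
  refine sup_le (inf_le_left.trans hAQ) ?_
  rw [commElt, closure_le]
  rintro _ ⟨a, ha, rfl⟩
  exact mul_mem (conj_mem_of_mem_normalizer' hb (hAQ ha)) (inv_mem (hAQ ha))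

/-- Glauberman's replacement theorem, inside an arbitrary finite group. -/
theorem replacement [Finite G] {A B N : Subgroup G} {b : G} (hA : IsMulCommutative A)
    (hBA : ⁅B, B⁆ ≤ A) (hAN : A ≤ N) (hNA : N ≤ normalizer (A : Set G))
    (hNB : N ≤ normalizer (B : Set G)) (hb : b ∈ B) (hbN : b ∈ normalizer (N : Set G))
    (h2 : ∀ w ∈ ⁅B, B⁆, w ^ 2 = 1 → w = 1) :
    Nat.card (repl b A) = Nat.card A ∧ IsMulCommutative (repl b A) ∧ A ⊓ B ≤ repl b A ∧
      commElt b A ≤ B ∧ repl b A ≤ N ∧ N ≤ normalizer (repl b A : Set G) ∧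
      b ∈ normalizer (repl b A : Set G) ∧
      ∀ e : ℕ, Odd e → (∀ a ∈ A, a ^ e = 1) → ∀ x ∈ repl b A, x ^ e = 1 := by
  have hAB : A ≤ normalizer (B : Set G) := hAN.trans hNB
  have hcomm := isMulCommutative_iff_forall_mem.mp hA
  have hc : ⁅⁅B, B⁆, A⁆ = ⊥ := commutator_eq_bot_iff_forall.mpr fun x hx y hy =>
    hcomm x (hBA hx) y hy
  set A' := A.map (MulAut.conj b⁻¹).toMonoidHom with hA'
  set M := commElt b A with hM
  have hMB : M ≤ B := (commElt_le hb).trans (le_normalizer_iff_commutator_le_left.mp hAB)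
  have hRN : repl b A ≤ N := repl_le hAN hbN
  have hMN : M ≤ N := le_sup_right.trans hRN
  have hA'N : A' ≤ N := fun x hx => by
    have := conj_mem_of_mem_normalizer' hbN (hAN (mem_map_conj_inv.mp hx))
    simpa [mul_assoc] using this
  have hNA' : N ≤ normalizer (A' : Set G) := fun n hn => mem_normalizer_of_finite fun x hx => by
    rw [hA', mem_map_conj_inv] at hx ⊢
    have := conj_mem_of_mem_normalizer (hNA (conj_mem_of_mem_normalizer hbN hn)) hx
    simpa [mul_assoc] using this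
  have hABA : ∀ c ∈ B, ∀ a ∈ A ⊓ B, c * a * c⁻¹ ∈ A ⊓ B := by
    intro c hc a ha
    obtain ⟨haA, haB⟩ := mem_inf.mp ha
    refine mem_inf.mpr ⟨?_, mul_mem (mul_mem hc haB) (inv_mem hc)⟩
    have := mul_mem (hBA (commutator_mem_commutator hc haB)) haA
    simpa [commutatorElement_def] using this
  have hABD : A ⊓ B ≤ A ⊓ A' := fun a ha => ⟨ha.1, mem_map_conj_inv.mpr (hABA b hb a ha).1⟩
  have hDA : ∀ d ∈ A ⊓ A', ∀ a ∈ A, Commute d a := fun d hd a ha => hcomm d hd.1 a ha
  have hDA' : ∀ d ∈ A ⊓ A', ∀ a ∈ A, Commute d (b⁻¹ * a * b) := by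
    intro d hd a ha
    have := hcomm _ (mem_map_conj_inv.mp hd.2) a ha
    calc d * (b⁻¹ * a * b) = b⁻¹ * (b * d * b⁻¹ * a) * b := by group
      _ = b⁻¹ * a * b * d := by rw [this]; group
  have hDM : M ≤ centralizer ((A ⊓ A' : Subgroup G) : Set G) := by
    rw [hM, commElt, closure_le]
    rintro _ ⟨a, ha, rfl⟩ d hd
    exact ((hDA' d hd a ha).mul_right (hDA d hd a ha).inv_right).eq
  have hMA : ⁅M, A⁆ ≤ A := le_normalizer_iff_commutator_le_right.mp (hMN.trans hNA)
  have hMM : ⁅M, M⁆ = ⊥ := by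
    rw [eq_bot_iff]
    intro w hw
    refine h2 w (commutator_mono hMB hMB hw) (sq_eq_one_of_mem_derived_commElt hAB hc hA hb ?_ hw)
    exact commutator_eq_bot_iff_forall.mpr fun x hx y hy => hcomm x (hMA hx) y hy
  have hmem : ∀ {x}, x ∈ repl b A ↔ ∃ d ∈ A ⊓ A', ∃ m ∈ M, d * m = x :=
    mem_sup_of_le_normalizer' (le_normalizer_of_le_centralizer hDM)
  have hRcomm : IsMulCommutative (repl b A) := by
    rw [isMulCommutative_iff_forall_mem]
    intro x hx y hy
    obtain ⟨d, hd, m, hm, rfl⟩ := hmem.mp hx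
    obtain ⟨d', hd', m', hm', rfl⟩ := hmem.mp hy
    have c1 : Commute d d' := hDA d hd d' hd'.1
    have c2 : Commute d m' := hDM hm' d hd
    have c3 : Commute m d' := (show Commute d' m from hDM hm d' hd').symm
    have c4 : Commute m m' := commutator_eq_bot_iff_forall.mp hMM m hm m' hm'
    exact ((c1.mul_right c2).mul_left (c3.mul_right c4)).eq
  have hABR : A ⊓ B ≤ repl b A := hABD.trans le_sup_left
  have hMR : M ≤ repl b A := le_sup_right
  refine ⟨?_, hRcomm, hABR, hMB, hRN, ?_, ?_, ?_⟩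
  · have e1 : repl b A ⊓ A = A' ⊓ A := by
      rw [repl, inf_sup_of_le_normalizer' (le_normalizer_of_le_centralizer hDM) inf_le_left,
        inf_comm A', sup_eq_left]
      exact (le_inf inf_le_right (inf_le_left.trans hMB)).trans hABD
    have e2 : repl b A ⊔ A = A' ⊔ A := by
      apply le_antisymm
      · refine sup_le (sup_le (inf_le_left.trans le_sup_right) ?_) le_sup_right
        rw [commElt, closure_le]
        rintro _ ⟨a, ha, rfl⟩
        exact mul_mem (mem_sup_left (mem_map_conj_inv.mpr (by simpa [mul_assoc] using ha)))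
          (mem_sup_right (inv_mem ha))
      · refine sup_le (fun x hx => ?_) le_sup_right
        have ha := mem_map_conj_inv.mp hx
        have := mul_mem (mem_sup_left (T := A) (hMR (mem_commElt ha))) (mem_sup_right ha)
        simpa [mul_assoc] using this
    have k1 := H2.card_sup_mul_card_inf (hRN.trans hNA)
    have k2 := H2.card_sup_mul_card_inf (hA'N.trans hNA)
    rw [e1, e2, k2, hA', card_map_conj] at k1
    exact (Nat.eq_of_mul_eq_mul_right Nat.card_pos k1).symm
  · intro n hn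
    refine mem_normalizer_of_finite fun x hx => ?_
    obtain ⟨d, hd, m, hm, rfl⟩ := hmem.mp hx
    have e : n * (d * m) * n⁻¹ = (n * d * n⁻¹) * (n * m * n⁻¹) := by group
    rw [e]
    refine mul_mem (mem_sup_left (conj_mem_of_mem_normalizer (le_normalizer_inf hNA hNA' hn) hd)) ?_
    have : M ≤ (repl b A).comap (MulAut.conj n).toMonoidHom := by
      rw [hM, commElt, closure_le]
      rintro _ ⟨a, ha, rfl⟩
      have ha' : n * a * n⁻¹ ∈ A := conj_mem_of_mem_normalizer (hNA hn) ha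
      have hcN : ⁅n, b⁆ ∈ N := by
        have := mul_mem hn (conj_mem_of_mem_normalizer hbN (inv_mem hn))
        simpa [commutatorElement_def, mul_assoc] using this
      have hcB : ⁅n, b⁆ ∈ B := by
        have := mul_mem (conj_mem_of_mem_normalizer (hNB hn) hb) (inv_mem hb)
        simpa [commutatorElement_def, mul_assoc] using this
      have he : ⁅⁅n, b⁆⁻¹, n * a * n⁻¹⁆ ∈ A ⊓ B := by
        refine ⟨?_, ?_⟩
        · have := mul_mem (conj_mem_of_mem_normalizer (hNA (inv_mem hcN)) ha') (inv_mem ha')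
          exact this
        · have := mul_mem (inv_mem hcB) (conj_mem_of_mem_normalizer (hAB ha') hcB)
          simpa [commutatorElement_def, mul_assoc] using this
      have := mul_mem (hABR (hABA _ (inv_mem hb) _ he)) (hMR (mem_commElt ha'))
      change n * (b⁻¹ * a * b * a⁻¹) * n⁻¹ ∈ repl b A
      convert this using 1
      simp only [commutatorElement_def]
      group
    exact this hm
  · refine mem_normalizer_of_finite' fun x hx => ?_
    obtain ⟨d, hd, m, hm, rfl⟩ := hmem.mp hx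
    have e : b⁻¹ * (d * m) * b = (b⁻¹ * d * b * d⁻¹) * d * (⁅b⁻¹, m⁆ * m) := by
      simp only [commutatorElement_def]; group
    rw [e]
    have hbm := commutator_mem_commutator (inv_mem hb) (hMB hm)
    exact mul_mem (mul_mem (hMR (mem_commElt hd.1)) (mem_sup_left hd))
      (mul_mem (hABR ⟨hBA hbm, commutator_le_self B hbm⟩) (hMR hm))
  · intro e he hAe x hx
    obtain ⟨d, hd, m, hm, rfl⟩ := hmem.mp hx
    rw [(show Commute d m from hDM hm d hd).mul_pow, hAe d hd.1, one_mul]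
    refine pow_eq_one_of_mem_closure_of_comm
      (isMulCommutative_iff_commutator_eq_bot.mpr hMM) ?_ hm
    rintro _ ⟨a, ha, rfl⟩
    have hx' : b⁻¹ * a * b ∈ A' := mem_map_conj_inv.mpr (by simpa [mul_assoc] using ha)
    have hc' : ⁅a⁻¹, b⁻¹ * a * b⁆ ∈ A ⊓ A' := by
      refine ⟨?_, ?_⟩
      · have := mul_mem (inv_mem ha) (conj_mem_of_mem_normalizer (hNA (hA'N hx')) ha)
        simpa [commutatorElement_def, mul_assoc] using this
      · exact A'.mul_mem (conj_mem_of_mem_normalizer (hNA' (hAN (inv_mem ha))) hx') (A'.inv_mem hx')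
    rw [mul_pow_of_odd (hDA' _ hc' a ha) (hDA _ hc' _ (inv_mem ha)) he (hAe _ hc'.1), inv_pow,
      hAe a ha, inv_one, mul_one]
    have := conj_pow (i := e) (a := b⁻¹) (b := a)
    rw [inv_inv] at this
    rw [this, hAe a ha, mul_one, inv_mul_cancel]

theorem mem_normalizer_of_commElt_le [Finite G] {A : Subgroup G} {b : G} (h : commElt b A ≤ A) :
    b ∈ normalizer (A : Set G) :=
  mem_normalizer_of_finite' fun a ha => by
    simpa using mul_mem (h (mem_commElt ha)) ha

/-- The element used in the replacement theorem. -/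
theorem exists_replacement_elt [Finite G] {K A B : Subgroup G} (hK : Group.IsNilpotent K)
    (hBK : B ≤ K) (hKB : K ≤ normalizer (B : Set G)) (hnot : ¬ B ≤ normalizer (A : Set G)) :
    ∃ b ∈ B, b ∈ normalizer ((K ⊓ normalizer (A : Set G) : Subgroup G) : Set G) ∧
      b ∉ normalizer (A : Set G) := by
  obtain ⟨b, hb, hbN, h⟩ := exists_not_mem_commutator_mem (H := K ⊓ normalizer (A : Set G)) hK
    hBK hKB (fun h => hnot (h.trans inf_le_right))
  refine ⟨b, hb, mem_normalizer_of_finite fun n hn => ?_, fun h => hbN ⟨hBK hb, h⟩⟩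
  have := mul_mem (h n hn.1).1 hn
  simpa [commutatorElement_def] using this

theorem eq_one_of_sq_eq_one_of_isPGroup {p : ℕ} [hp : Fact p.Prime] (hp2 : p ≠ 2)
    {B : Subgroup G} (hB : IsPGroup p B) {w : G} (hw : w ∈ B) (h : w ^ 2 = 1) : w = 1 :=
  eq_one_of_mem_isPGroup_of_coprime hB hw (Nat.Coprime.coprime_dvd_left
    (orderOf_dvd_of_pow_eq_one h) ((Nat.coprime_primes Nat.prime_two hp.out).mpr hp2.symm))

/-- The replacement theorem in the form used in applications. -/
theorem exists_replacement [Finite G] {K A B : Subgroup G} (hK : Group.IsNilpotent K)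
    (hAK : A ≤ K) (hBK : B ≤ K) (hKB : K ≤ normalizer (B : Set G)) (hA : IsMulCommutative A)
    (hBA : ⁅B, B⁆ ≤ A) (h2 : ∀ w ∈ ⁅B, B⁆, w ^ 2 = 1 → w = 1)
    (hnot : ¬ B ≤ normalizer (A : Set G)) :
    ∃ A' : Subgroup G, Nat.card A' = Nat.card A ∧ IsMulCommutative A' ∧ A ⊓ B < A' ⊓ B ∧
      A' ≤ normalizer (A : Set G) ∧
      (∀ Q : Subgroup G, A ≤ Q → B ≤ normalizer (Q : Set G) → A' ≤ Q) ∧
      ∀ e : ℕ, Odd e → (∀ a ∈ A, a ^ e = 1) → ∀ x ∈ A', x ^ e = 1 := by
  obtain ⟨b, hb, hbN, hbA⟩ := exists_replacement_elt hK hBK hKB hnot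
  obtain ⟨h1, h3, h4, h5, h6, -, -, h7⟩ := replacement hA hBA (le_inf hAK le_normalizer)
    inf_le_right (inf_le_left.trans hKB) hb hbN h2
  refine ⟨repl b A, h1, h3, lt_of_le_of_ne (le_inf h4 inf_le_right) fun h => hbA ?_,
    h6.trans inf_le_right, fun Q hAQ hBQ => repl_le hAQ (hBQ hb), h7⟩
  exact mem_normalizer_of_commElt_le (((le_inf le_sup_right h5).trans h.ge).trans inf_le_left)

end H13
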