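import Mathlib
import Cfsg.Prelude.Def_Local
import Cfsg.Prelude.Def_PLocal
import Cfsg.Agent.H13.Replacement
import Cfsg.Agent.H13.PConstrained
import Cfsg.Agent.H1.Coprime

/-!
# The Baer trick and the Thompson–Bender lemma
-/

set_option autoImplicit false

namespace H13

open Cfsg Subgroup
open scoped commutatorElement

/-- `R` has class at most two and `c ↦ c ^ h` extracts square roots of commutators. -/
class IsBaer (R : Type*) [Group R] (h : ℕ) : Prop where
  cent : ∀ x y z : R, Commute ⁅x, y⁆ z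
  half : ∀ x y : R, ⁅x, y⁆ ^ (2 * h) = ⁅x, y⁆

/-- The underlying set of `R` with the operation `x ∘ y = x y [y, x] ^ h`. -/
def Baer (R : Type*) (_h : ℕ) : Type _ := R

section Baer

variable {R : Type*} [Group R] {h : ℕ}

/-- The identity map `R → Baer R h`. -/
def toBaer (h : ℕ) : R ≃ Baer R h := Equiv.refl R

theorem baer_comm_left [hB : IsBaer R h] (x y z : R) (n : ℕ) (a b : R) :
    ⁅x * y * ⁅a, b⁆ ^ n, z⁆ = ⁅y, z⁆ * ⁅x, z⁆ := by
  rw [commutator_mul_left_of_commute (hB.cent _ _ _).symm, ((hB.cent a b z).pow_left n).commutator_eq,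
    one_mul, commutator_mul_left_of_commute (hB.cent _ _ _).symm]

theorem baer_comm_right [hB : IsBaer R h] (x y z : R) (n : ℕ) (a b : R) :
    ⁅z, x * y * ⁅a, b⁆ ^ n⁆ = ⁅z, x⁆ * ⁅z, y⁆ := by
  rw [commutator_mul_right_of_commute (hB.cent _ _ _).symm,
    ((hB.cent a b z).pow_left n).symm.commutator_eq, mul_one,
    commutator_mul_right_of_commute (hB.cent _ _ _).symm]

noncomputable instance instCommGroupBaer [hB : IsBaer R h] : CommGroup (Baer R h) where
  mul x y := toBaer h ((toBaer h).symm x * (toBaer h).symm y *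
    ⁅(toBaer h).symm y, (toBaer h).symm x⁆ ^ h)
  one := toBaer h 1
  inv x := toBaer h ((toBaer h).symm x)⁻¹
  mul_assoc (x y z : R) := by
    change x * y * ⁅y, x⁆ ^ h * z * ⁅z, x * y * ⁅y, x⁆ ^ h⁆ ^ h =
      x * (y * z * ⁅z, y⁆ ^ h) * ⁅y * z * ⁅z, y⁆ ^ h, x⁆ ^ h
    rw [baer_comm_left (h := h), baer_comm_right (h := h), (hB.cent _ _ _).mul_pow,
      (hB.cent _ _ _).mul_pow]
    have ha : ∀ w, Commute (⁅y, x⁆ ^ h) w := fun w => (hB.cent y x w).pow_left h
    have hb : ∀ w, Commute (⁅z, x⁆ ^ h) w := fun w => (hB.cent z x w).pow_left h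
    calc x * y * ⁅y, x⁆ ^ h * z * (⁅z, x⁆ ^ h * ⁅z, y⁆ ^ h)
        = x * y * (⁅y, x⁆ ^ h * (z * (⁅z, x⁆ ^ h * ⁅z, y⁆ ^ h))) := by simp only [mul_assoc]
      _ = _ := by rw [(ha _).eq, (hb _).eq]; simp only [mul_assoc]
  one_mul (x : R) := by
    change 1 * x * ⁅x, 1⁆ ^ h = x
    simp
  mul_one (x : R) := by
    change x * 1 * ⁅1, x⁆ ^ h = x
    simp
  inv_mul_cancel (x : R) := by
    change x⁻¹ * x * ⁅x, x⁻¹⁆ ^ h = 1
    simp [(Commute.refl x).inv_right.commutator_eq]
  mul_comm (x y : R) := by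
    change x * y * ⁅y, x⁆ ^ h = y * x * ⁅x, y⁆ ^ h
    have e1 : y * x = x * y * ⁅y, x⁆ := by
      rw [← (hB.cent y x _).eq, commutatorElement_def]; group
    rw [e1, ← commutatorElement_inv y x, mul_assoc (x * y), mul_right_inj, inv_pow,
      eq_mul_inv_iff_mul_eq, ← pow_add, ← two_mul, hB.half]

theorem toBaer_mul [IsBaer R h] (x y : R) :
    toBaer h x * toBaer h y = toBaer h (x * y * ⁅y, x⁆ ^ h) := rfl

theorem toBaer_one [IsBaer R h] : toBaer h (1 : R) = 1 := rfl

theorem toBaer_pow [IsBaer R h] (x : R) (n : ℕ) : toBaer h x ^ n = toBaer h (x ^ n) := by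
  induction n with
  | zero => rw [pow_zero, pow_zero, toBaer_one]
  | succ n ih =>
    rw [pow_succ, ih, toBaer_mul, ((Commute.refl x).pow_right n).commutator_eq, one_pow, mul_one,
      pow_succ]

/-- An endomorphism of `R` is an endomorphism of `Baer R h`. -/
noncomputable def baerMap [IsBaer R h] (φ : R →* R) : Baer R h →* Baer R h :=
  MonoidHom.mk' (fun x => toBaer h (φ ((toBaer h).symm x))) fun x y => by
    obtain ⟨x, rfl⟩ := (toBaer h).surjective x
    obtain ⟨y, rfl⟩ := (toBaer h).surjective y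
    rw [toBaer_mul, toBaer_mul]
    simp only [Equiv.symm_apply_apply, map_mul, map_pow, map_commutatorElement]

theorem baerMap_apply [IsBaer R h] (φ : R →* R) (x : R) :
    baerMap φ (toBaer h x) = toBaer h (φ x) := rfl

theorem exists_isBaer [Finite R] (hodd : Odd (Nat.card R)) (hc : ∀ x y z : R, Commute ⁅x, y⁆ z) :
    ∃ h : ℕ, IsBaer R h := by
  obtain ⟨k, hk⟩ := hodd
  refine ⟨k + 1, hc, fun x y => ?_⟩
  rw [show 2 * (k + 1) = Nat.card R + 1 by omega, pow_succ, pow_card_eq_one', one_mul]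

end Baer

variable {G : Type*} [Group G] [Finite G] {p : ℕ} [hp : Fact p.Prime]

theorem bender_class_two (hp2 : p ≠ 2) {E Q U : Subgroup G} (hE : IsPGroup p E)
    (hQ : (Nat.card Q).Coprime p) (hEQ : E ≤ normalizer (Q : Set G)) (hU : IsPGroup p U)
    (hEU : E ≤ normalizer (U : Set G)) (hQU : Q ≤ normalizer (U : Set G))
    (hc : ⁅⁅U, U⁆, U⁆ = ⊥)
    (h : ∀ x ∈ U, x ∈ centralizer (E : Set G) → x ^ p = 1 → x ∈ centralizer (Q : Set G)) :
    Q ≤ centralizer (U : Set G) := by
  classical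
  obtain ⟨n, hn⟩ := hU.exists_card_eq
  obtain ⟨k, hk⟩ : ∃ h : ℕ, IsBaer U h := exists_isBaer
    (by rw [hn]; exact (hp.out.odd_of_ne_two hp2).pow) fun x y z => Subtype.ext
      (commutator_eq_bot_iff_forall.mp hc _ (commutator_mem_commutator x.2 y.2) _ z.2)
  have : Finite (Baer U k) := inferInstanceAs (Finite U)
  have : Fintype Q := Fintype.ofFinite Q
  let c : normalizer (U : Set G) → Baer U k →* Baer U k := fun g =>
    baerMap (U.normalizerMonoidHom g).toMonoidHom
  have hc1 : ∀ x, c 1 x = x := fun x => by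
    obtain ⟨x, rfl⟩ := (toBaer k).surjective x
    simp only [c, map_one, baerMap_apply]
    rfl
  have hcm : ∀ g g' x, c (g * g') x = c g (c g' x) := fun g g' x => by
    obtain ⟨x, rfl⟩ := (toBaer k).surjective x
    simp only [c, map_mul, baerMap_apply]
    rfl
  have hfix : ∀ (g : normalizer (U : Set G)) (x : U),
      c g (toBaer k x) = toBaer k x ↔ (g : G) * x = x * g := fun g x => by
    simp only [c, baerMap_apply, EmbeddingLike.apply_eq_iff_eq]
    rw [Subtype.ext_iff, ← mul_inv_eq_iff_eq_mul]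
    rfl
  let τ : Baer U k →* Baer U k := ∏ q : Q, c ⟨q, hQU q.2⟩
  have hτ : ∀ x, τ x = ∏ q : Q, c ⟨q, hQU q.2⟩ x := fun x => MonoidHom.finsetProd_apply _ _ _
  have h1 : ∀ (q : Q) x, c ⟨q, hQU q.2⟩ (τ x) = τ x := fun q x => by
    rw [hτ, map_prod]
    exact Fintype.prod_equiv (Equiv.mulLeft q) _ _ fun r => (hcm _ _ x).symm
  have h2 : ∀ (e : E) x, τ (c ⟨e, hEU e.2⟩ x) = c ⟨e, hEU e.2⟩ (τ x) := fun e x => by
    rw [hτ, hτ, map_prod]
    refine (Fintype.prod_equiv (Q.normalizerMonoidHom ⟨e, hEQ e.2⟩).toEquiv _ _ fun r => ?_).symm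
    rw [← hcm, ← hcm]
    congr 2
    ext
    change (e : G) * r = (e : G) * r * (e : G)⁻¹ * e
    group
  by_cases hker : τ.ker = ⊥
  · have hsurj : Function.Surjective τ :=
      Finite.injective_iff_surjective.mp ((MonoidHom.ker_eq_bot_iff τ).mp hker)
    intro q hq x hx
    obtain ⟨y, hy⟩ := hsurj (toBaer k ⟨x, hx⟩)
    have := h1 ⟨q, hq⟩ y
    rw [hy] at this
    exact ((hfix _ _).mp this).symm
  exfalso
  let act : MulAction E τ.ker :=
    { smul := fun e x => ⟨c ⟨e, hEU e.2⟩ x, by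
        rw [MonoidHom.mem_ker, h2, x.2, map_one]⟩
      one_smul := fun x => Subtype.ext (hc1 _)
      mul_smul := fun e e' x => Subtype.ext (hcm ⟨e, hEU e.2⟩ ⟨e', hEU e'.2⟩ _) }
  have hpk : IsPGroup p (Baer U k) := IsPGroup.of_card (n := n) hn
  have hdvd : p ∣ Nat.card τ.ker := by
    obtain ⟨m, hm⟩ := (hpk.to_subgroup τ.ker).exists_card_eq
    rw [hm]
    refine dvd_pow_self p fun h0 => hker ?_
    rw [h0, pow_zero] at hm
    exact card_eq_one.mp hm
  obtain ⟨⟨b, hb⟩, hbfix, hb1⟩ := hE.exists_fixed_point_of_prime_dvd_card_of_fixed_point τ.ker hdvd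
    (a := 1) fun e => Subtype.ext (map_one _)
  obtain ⟨x, rfl⟩ := (toBaer k).surjective b
  have hxE : (x : G) ∈ centralizer (E : Set G) := fun e he =>
    (hfix ⟨e, hEU he⟩ x).mp (congrArg Subtype.val (hbfix ⟨e, he⟩))
  have hx1 : x ∉ (⊥ : Subgroup U) := fun hx => hb1 (Subtype.ext
    (congrArg (toBaer k) (mem_bot.mp hx)).symm)
  have hex : ∃ j : ℕ, x ^ p ^ j = 1 := hU x
  let j := Nat.find hex
  have hj : x ^ p ^ j = 1 := Nat.find_spec hex
  have hj0 : j ≠ 0 := fun h0 => hx1 (by rwa [h0, pow_zero, pow_one] at hj)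
  have hy1 : x ^ p ^ (j - 1) ≠ 1 := Nat.find_min hex (Nat.sub_one_lt hj0)
  have hyp : (x ^ p ^ (j - 1)) ^ p = 1 := by
    rw [← pow_mul, ← pow_succ, Nat.sub_add_cancel (Nat.one_le_iff_ne_zero.mpr hj0), hj]
  set y := x ^ p ^ (j - 1) with hy
  have hyQ : (y : G) ∈ centralizer (Q : Set G) :=
    h y y.2 (pow_mem hxE _) (congrArg Subtype.val hyp)
  have hyk : τ (toBaer k y) = 1 := by
    rw [hy, ← toBaer_pow, map_pow, hb, one_pow]
  rw [hτ, Finset.prod_congr rfl fun (q : Q) _ => (hfix ⟨q, hQU q.2⟩ y).mpr (hyQ q q.2),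
    Finset.prod_const, toBaer_pow, ← toBaer_one, (toBaer k).injective.eq_iff,
    Finset.card_univ, ← Nat.card_eq_fintype_card] at hyk
  exact hy1 (eq_one_of_pow_eq_one_of_coprime (k := 1) (by rwa [pow_one])
    (Nat.Coprime.coprime_dvd_left (orderOf_dvd_of_pow_eq_one hyk) hQ))

/-- Bender's extension of the `P × Q`-lemma for odd `p`. -/
theorem bender_lemma (hp2 : p ≠ 2) {E Q : Subgroup G} (hE : IsPGroup p E)
    (hQ : (Nat.card Q).Coprime p) (hEQ : E ≤ normalizer (Q : Set G)) (U : Subgroup G) :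
    IsPGroup p U → E ≤ normalizer (U : Set G) → Q ≤ normalizer (U : Set G) →
    (∀ x ∈ U, x ∈ centralizer (E : Set G) → x ^ p = 1 → x ∈ centralizer (Q : Set G)) →
    Q ≤ centralizer (U : Set G) := by
  induction U using WellFoundedLT.induction with | ind U ih => ?_
  intro hU hEU hQU h
  have hle : ⁅U, Q⁆ ≤ U := le_normalizer_iff_commutator_le_left.mp hQU
  rcases hle.eq_or_lt with h1 | h1
  · by_cases hU1 : U = ⊥
    · rw [hU1]
      intro q _ x hx
      rw [mem_bot.mp hx, one_mul, mul_one]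
    have hlt : ⁅U, U⁆ < U := commutator_lt_of_isPGroup hU hU le_normalizer hU1
    have h2 := ih _ hlt (hU.to_le hlt.le) (le_normalizer_commutator hEU hEU)
      (le_normalizer_commutator hQU hQU) fun x hx => h x (hlt.le hx)
    have h3 := commutator_commutator_derived_eq_bot (A := Q) (B := U)
      (by rwa [commutator_comm, commutator_eq_bot_iff_le_centralizer])
    rw [h1, commutator_comm] at h3
    exact bender_class_two hp2 hE hQ hEQ hU hEU hQU h3 h
  · have h2 := ih _ h1 (hU.to_le hle) (le_normalizer_commutator hEU hEQ)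
      (le_normalizer_commutator hQU le_normalizer) fun x hx => h x (hle hx)
    exact le_centralizer_of_commutator_commutator_eq_bot (hU.to_le hle) hQ
      (by rwa [commutator_comm, commutator_eq_bot_iff_le_centralizer])

omit [Finite G] hp in
/-- The analogue of `bender_lemma` when `E` acts quadratically on `U`. -/
theorem commutator_le_centralizer_of_quadratic {E Q U : Subgroup G}
    (hQ : (Nat.card Q).Coprime p) (hEQ : E ≤ normalizer (Q : Set G)) (hU : IsPGroup p U)
    (hEU : E ≤ normalizer (U : Set G)) (hQU : Q ≤ normalizer (U : Set G))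
    (h1 : ⁅⁅U, E⁆, E⁆ = ⊥)
    (h : U ⊓ centralizer (E : Set G) ≤ centralizer (Q : Set G)) :
    ⁅Q, E⁆ ≤ centralizer (U : Set G) := by
  set Z := ⁅U, E⁆ with hZ
  have hZU : Z ≤ U := le_normalizer_iff_commutator_le_left.mp hEU
  have hZQ : Z ≤ centralizer (Q : Set G) :=
    (le_inf hZU (commutator_eq_bot_iff_le_centralizer.mp h1)).trans h
  have hZE : Z ≤ centralizer (E : Set G) := commutator_eq_bot_iff_le_centralizer.mp h1
  have hQE : ⁅Q, E⁆ ≤ Q := le_normalizer_iff_commutator_le_left.mp hEQ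
  -- the elements acting trivially on `U / Z`
  let K : Subgroup G :=
    { carrier := {g | g ∈ normalizer (U : Set G) ∧ g ∈ centralizer (Z : Set G) ∧
        ∀ u ∈ U, ⁅u, g⁆ ∈ Z}
      one_mem' := ⟨one_mem _, one_mem _, fun u _ => by simp⟩
      mul_mem' := by
        rintro a b ⟨ha1, ha2, ha3⟩ ⟨hb1, hb2, hb3⟩
        refine ⟨mul_mem ha1 hb1, mul_mem ha2 hb2, fun u hu => ?_⟩
        rw [commutator_mul_right_of_commute (show Commute ⁅u, b⁆ a from ha2 _ (hb3 u hu)).symm]
        exact mul_mem (ha3 u hu) (hb3 u hu)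
      inv_mem' := by
        rintro a ⟨ha1, ha2, ha3⟩
        refine ⟨inv_mem ha1, inv_mem ha2, fun u hu => ?_⟩
        have e : ⁅u, a⁻¹⁆ = a⁻¹ * ⁅u, a⁆⁻¹ * a := by simp only [commutatorElement_def]; group
        rw [e, mul_assoc, ha2 _ (inv_mem (ha3 u hu)), inv_mul_cancel_left]
        exact inv_mem (ha3 u hu) }
  have hK : ⁅Q, E⁆ ≤ K := by
    rw [commutator_le]
    intro q hq x hx
    have hxK : x ∈ K := ⟨hEU hx, le_centralizer_iff.mp hZE hx, fun u hu =>
      commutator_mem_commutator hu hx⟩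
    refine mul_mem ?_ (inv_mem hxK)
    have hqZ : q ∈ centralizer (Z : Set G) := le_centralizer_iff.mp hZQ hq
    refine ⟨mul_mem (mul_mem (hQU hq) (hEU hx)) (inv_mem (hQU hq)),
      mul_mem (mul_mem hqZ hxK.2.1) (inv_mem hqZ), fun u hu => ?_⟩
    have e : ⁅u, q * x * q⁻¹⁆ = q * ⁅q⁻¹ * u * q, x⁆ * q⁻¹ := by
      simp only [commutatorElement_def]; group
    have hm := hxK.2.2 _ (conj_mem_of_mem_normalizer' (hQU hq) hu)
    rw [e, ← hqZ _ hm, mul_inv_cancel_right]
    exact hm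
  intro y hy
  exact mem_centralizer_of_stabilizes (hU.to_le hZU) (orderOf_coprime_of_mem hQ (hQE hy))
    (hK hy).2.2 (hK hy).2.1

theorem mem_map_of_centralizes_map {H : Type*} [Group H] {f : G →* H}
    (hf : Function.Surjective f) (hk : (Nat.card f.ker).Coprime p) {E : Subgroup G}
    (hE : IsPGroup p E) {k : ℕ} (h : ∀ x ∈ centralizer (E : Set G), x ^ p ^ k = 1 → x ∈ E)
    {y : H} (hy : y ∈ centralizer (E.map f : Set H)) (hyk : y ^ p ^ k = 1) : y ∈ E.map f := by
  rw [centralizer_map_of_coprime_ker hf hk hE] at hy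
  obtain ⟨c, hc, rfl⟩ := hy
  obtain ⟨a, ha, b, hb, ⟨j, hj⟩, hbo, hab⟩ := exists_p_part hp.out c
  have hb1 : f b = 1 := by
    obtain ⟨m, rfl⟩ := hb
    refine eq_one_of_pow_eq_one_of_coprime (k := k) ?_
      (Nat.Coprime.coprime_dvd_left (orderOf_map_dvd f _) hbo)
    rw [map_zpow, ← zpow_natCast, ← zpow_mul, mul_comm, zpow_mul, zpow_natCast, hyk, one_zpow]
  have hfa : f c = f a := by rw [hab, map_mul, hb1, mul_one]
  refine ⟨a, h a (zpowers_le.mpr hc ha) ?_, hfa.symm⟩
  refine eq_one_of_pow_eq_one_of_coprime (k := j) (by rw [← pow_mul, mul_comm, pow_mul, hj, one_pow])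
    (orderOf_coprime_of_mem hk ?_)
  rw [MonoidHom.mem_ker, map_pow, ← hfa, hyk]

omit hp in
theorem mem_centralizer_of_mem_normal_of_mem_normalizer {U L : Subgroup G} [hUn : U.Normal]
    (hU : IsPGroup p U) (hL : (Nat.card L).Coprime p) {x : G} (hx : x ∈ U)
    (hxL : x ∈ normalizer (L : Set G)) : x ∈ centralizer (L : Set G) := by
  intro l hl
  have : ⁅l, x⁆ ∈ U ⊓ L := mem_inf.mpr
    ⟨mul_mem (hUn.conj_mem x hx l) (inv_mem hx), by
      have := mul_mem hl (conj_mem_of_mem_normalizer hxL (inv_mem hl))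
      simpa [commutatorElement_def, mul_assoc] using this⟩
  rwa [inf_eq_bot_of_isPGroup_of_coprime hU hL, mem_bot,
    commutatorElement_eq_one_iff_mul_comm] at this

/-- The Thompson–Bender lemma, odd `p`. -/
theorem le_pPrimeCore_of_invariant (hp2 : p ≠ 2) (hG : IsPConstrained p G) {E L : Subgroup G}
    (hE : IsPGroup p E) (hΩ : ∀ x ∈ centralizer (E : Set G), x ^ p = 1 → x ∈ E)
    (hL : (Nat.card L).Coprime p) (hEL : E ≤ normalizer (L : Set G)) : L ≤ pPrimeCore p G := by
  have hf := QuotientGroup.mk'_surjective (pPrimeCore p G)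
  have hk := coprime_card_ker_mk'_pPrimeCore (G := G) p
  set f := QuotientGroup.mk' (pPrimeCore p G)
  have hL' : (Nat.card (L.map f)).Coprime p := Nat.Coprime.coprime_dvd_left (card_map_dvd L f) hL
  have hEL' : E.map f ≤ normalizer (L.map f : Set _) := (map_mono hEL).trans (le_normalizer_map f)
  have hU := H2.pCore_isPGroup p (G ⧸ pPrimeCore p G)
  have h1 := bender_lemma hp2 (hE.map f) hL' hEL' _ hU le_normalizer_of_normal
    le_normalizer_of_normal fun x hx hxE hxp =>
      mem_centralizer_of_mem_normal_of_mem_normalizer hU hL' hx (hEL'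
        (mem_map_of_centralizes_map hf hk hE (k := 1) (by simpa using hΩ) hxE (by simpa using hxp)))
  have h2 := eq_bot_of_isPGroup_of_le_coprime
    (hU.to_le (h1.trans (isPConstrained_iff.mp hG))) hL' le_rfl
  rwa [Subgroup.map_eq_bot_iff, QuotientGroup.ker_mk'] at h2

/-- The Thompson–Bender lemma when the Sylow `p`-subgroups have class at most two. -/
theorem le_pPrimeCore_of_invariant_of_class_two (hG : IsPConstrained p G)
    (hcl : ∀ T : Subgroup G, IsPGroup p T → ⁅⁅T, T⁆, T⁆ = ⊥) {E L : Subgroup G}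
    (hE : IsPGroup p E) (hΩ : ∀ x ∈ centralizer (E : Set G), ∀ k : ℕ, x ^ p ^ k = 1 → x ∈ E)
    (hL : (Nat.card L).Coprime p) (hEL : E ≤ normalizer (L : Set G)) : L ≤ pPrimeCore p G := by
  have hf := QuotientGroup.mk'_surjective (pPrimeCore p G)
  have hk := coprime_card_ker_mk'_pPrimeCore (G := G) p
  set f := QuotientGroup.mk' (pPrimeCore p G)
  have hL' : (Nat.card (L.map f)).Coprime p := Nat.Coprime.coprime_dvd_left (card_map_dvd L f) hL
  have hEL' : E.map f ≤ normalizer (L.map f : Set _) := (map_mono hEL).trans (le_normalizer_map f)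
  have hU := H2.pCore_isPGroup p (G ⧸ pPrimeCore p G)
  set U := pCore p (G ⧸ pPrimeCore p G)
  have hc : centralizer (U : Set (G ⧸ pPrimeCore p G)) ≤ U := isPConstrained_iff.mp hG
  have h0 : U ⊓ centralizer (E.map f : Set _) ≤ centralizer (L.map f : Set _) := fun x hx => by
    obtain ⟨k, hxk⟩ := isPGroup_iff_forall_mem.mp hU x hx.1
    exact mem_centralizer_of_mem_normal_of_mem_normalizer hU hL' hx.1 (hEL'
      (mem_map_of_centralizes_map hf hk hE (fun y hy => hΩ y hy k) hx.2 hxk))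
  obtain ⟨T, hT, hTe, -⟩ := exists_isPGroup_map_eq hf
    (isPGroup_sup_of_le_normalizer (hE.map f) hU le_normalizer_of_normal)
  have hq : ⁅⁅U, E.map f⁆, E.map f⁆ = ⊥ := by
    have h1 := congrArg (map f) (hcl T hT)
    rw [map_commutator, map_commutator, hTe, Subgroup.map_bot] at h1
    exact eq_bot_iff.mpr (h1 ▸ commutator_mono (commutator_mono le_sup_right le_sup_left)
      le_sup_left)
  have h1 := commutator_le_centralizer_of_quadratic hL' hEL' hU le_normalizer_of_normal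
    le_normalizer_of_normal hq h0
  have h2 : ⁅L.map f, E.map f⁆ = ⊥ := eq_bot_of_isPGroup_of_le_coprime (hU.to_le (h1.trans hc)) hL'
    (le_normalizer_iff_commutator_le_left.mp hEL')
  rw [commutator_comm, commutator_eq_bot_iff_le_centralizer] at h2
  have h3 := p_times_q (hE.map f) hL' h2 U hU le_normalizer_of_normal le_normalizer_of_normal h0
  have h4 := eq_bot_of_isPGroup_of_le_coprime (hU.to_le (h3.trans hc)) hL' le_rfl
  rwa [Subgroup.map_eq_bot_iff, QuotientGroup.ker_mk'] at h4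

end H13
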