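import Mathlib
import Cfsg.Prelude.Def_Transfer
import Cfsg.Prelude.Def_Local
import Cfsg.Prelude.Def_PLocal
import Cfsg.Agent.H13.Replacement

/-!
# Thompson subgroups

`fam e Q` is the family of abelian subgroups of `Q` of exponent dividing `e` of largest order;
`e = 0` gives the abelian version and `e = p` the elementary abelian version.
-/

set_option autoImplicit false

namespace H13

open Cfsg Subgroup
open scoped commutatorElement

variable {G : Type*} [Group G] {H : Type*} [Group H] {e : ℕ}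

/-- Abelian subgroups of `Q` of exponent dividing `e` and of largest order. -/
def fam (e : ℕ) (Q : Subgroup G) : Set (Subgroup G) :=
  {A | A ≤ Q ∧ IsElementaryAbelian e A ∧
    ∀ B : Subgroup G, B ≤ Q → IsElementaryAbelian e B → Nat.card B ≤ Nat.card A}

theorem isElementaryAbelian_zero {A : Subgroup G} :
    IsElementaryAbelian 0 A ↔ IsMulCommutative A :=
  ⟨fun h => h.1, fun h => ⟨h, fun a _ => pow_zero a⟩⟩

theorem maxElementaryAbelianSubgroups_zero (P : Type*) [Group P] :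
    maxElementaryAbelianSubgroups 0 P = maxAbelianSubgroups P := by
  ext A
  simp only [maxElementaryAbelianSubgroups, maxAbelianSubgroups, isElementaryAbelian_zero]

theorem thompsonSubgroupAOf_eq (P : Subgroup G) :
    thompsonSubgroupAOf P = thompsonSubgroupOf 0 P := by
  rw [thompsonSubgroupAOf, thompsonSubgroupOf, thompsonSubgroupA, thompsonSubgroup,
    maxElementaryAbelianSubgroups_zero]

theorem centerThompsonAOf_eq (P : Subgroup G) :
    centerThompsonAOf P = centerThompsonOf 0 P := by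
  rw [centerThompsonAOf, centerThompsonOf, thompsonSubgroupAOf_eq]

theorem isElementaryAbelian_of_le {A B : Subgroup G} (hB : IsElementaryAbelian e B) (h : A ≤ B) :
    IsElementaryAbelian e A :=
  ⟨isMulCommutative_of_le hB.1 h, fun a ha => hB.2 a (h ha)⟩

theorem isElementaryAbelian_bot : IsElementaryAbelian e (⊥ : Subgroup G) :=
  ⟨isMulCommutative_iff_forall_mem.mpr fun x hx y _ => by rw [mem_bot.mp hx, one_mul, mul_one],
    fun a ha => by rw [mem_bot.mp ha, one_pow]⟩

theorem isElementaryAbelian_map (f : G →* H) {A : Subgroup G} (hA : IsElementaryAbelian e A) :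
    IsElementaryAbelian e (A.map f) := by
  refine ⟨isMulCommutative_iff_forall_mem.mpr ?_, ?_⟩
  · rintro _ ⟨x, hx, rfl⟩ _ ⟨y, hy, rfl⟩
    rw [← map_mul, ← map_mul, isMulCommutative_iff_forall_mem.mp hA.1 x hx y hy]
  · rintro _ ⟨x, hx, rfl⟩
    rw [← map_pow, hA.2 x hx, map_one]

theorem isElementaryAbelian_of_map {f : G →* H} {A : Subgroup G} (hf : Set.InjOn f A)
    (hA : IsElementaryAbelian e (A.map f)) : IsElementaryAbelian e A := by
  refine ⟨isMulCommutative_iff_forall_mem.mpr fun x hx y hy => ?_, fun x hx => ?_⟩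
  · apply hf (mul_mem hx hy) (mul_mem hy hx)
    rw [map_mul, map_mul]
    exact isMulCommutative_iff_forall_mem.mp hA.1 _ ⟨x, hx, rfl⟩ _ ⟨y, hy, rfl⟩
  · apply hf (pow_mem hx e) (one_mem A)
    rw [map_pow, map_one]
    exact hA.2 _ ⟨x, hx, rfl⟩

theorem card_map_of_injOn {f : G →* H} {A : Subgroup G} (hf : Set.InjOn f A) :
    Nat.card (A.map f) = Nat.card A :=
  Nat.card_image_of_injOn hf

theorem injOn_of_inf_ker_eq_bot {f : G →* H} {Q : Subgroup G} (h : Q ⊓ f.ker = ⊥) :
    Set.InjOn f Q := by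
  intro x hx y hy hxy
  have : x⁻¹ * y ∈ Q ⊓ f.ker := mem_inf.mpr ⟨mul_mem (inv_mem hx) hy, by
    rw [MonoidHom.mem_ker, map_mul, map_inv, hxy, inv_mul_cancel]⟩
  rw [h, mem_bot] at this
  exact inv_mul_eq_one.mp this

theorem map_comap_inf_of_le_map {f : G →* H} {Q : Subgroup G} {B : Subgroup H}
    (h : B ≤ Q.map f) : (B.comap f ⊓ Q).map f = B := by
  apply le_antisymm
  · rintro _ ⟨x, hx, rfl⟩
    exact hx.1
  · intro y hy
    obtain ⟨x, hx, rfl⟩ := h hy
    exact ⟨x, ⟨hy, hx⟩, rfl⟩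

theorem map_mem_fam_iff {f : G →* H} {Q A : Subgroup G} (hf : Set.InjOn f Q) (hA : A ≤ Q) :
    A.map f ∈ fam e (Q.map f) ↔ A ∈ fam e Q := by
  constructor
  · rintro ⟨-, h1, h2⟩
    refine ⟨hA, isElementaryAbelian_of_map (hf.mono hA) h1, fun B hB hB' => ?_⟩
    rw [← card_map_of_injOn (hf.mono hA), ← card_map_of_injOn (hf.mono hB)]
    exact h2 _ (map_mono hB) (isElementaryAbelian_map f hB')
  · rintro ⟨-, h1, h2⟩
    refine ⟨map_mono hA, isElementaryAbelian_map f h1, fun B hB hB' => ?_⟩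
    rw [← map_comap_inf_of_le_map hB] at hB' ⊢
    rw [card_map_of_injOn (hf.mono hA), card_map_of_injOn (hf.mono inf_le_right)]
    exact h2 _ inf_le_right (isElementaryAbelian_of_map (hf.mono inf_le_right) hB')

theorem fam_map {f : G →* H} {Q : Subgroup G} (hf : Set.InjOn f Q) :
    fam e (Q.map f) = (fun A => A.map f) '' fam e Q := by
  ext B
  constructor
  · intro hB
    have h := map_comap_inf_of_le_map hB.1
    refine ⟨B.comap f ⊓ Q, (map_mem_fam_iff hf inf_le_right).mp (h.symm ▸ hB), h⟩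
  · rintro ⟨A, hA, rfl⟩
    exact (map_mem_fam_iff hf hA.1).mpr hA

theorem fam_top (e : ℕ) (G : Type*) [Group G] :
    fam e (⊤ : Subgroup G) = maxElementaryAbelianSubgroups e G := by
  ext A
  simp [fam, maxElementaryAbelianSubgroups]

theorem fam_eq_image (e : ℕ) (Q : Subgroup G) :
    fam e Q = (fun A => A.map Q.subtype) '' maxElementaryAbelianSubgroups e Q := by
  rw [← fam_top, ← fam_map Q.subtype_injective.injOn, ← MonoidHom.range_eq_map, range_subtype]

theorem map_sSup_eq (f : G →* H) (s : Set (Subgroup G)) :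
    (sSup s).map f = sSup ((fun A => A.map f) '' s) := by
  rw [sSup_image, sSup_eq_iSup]
  simp only [Subgroup.map_iSup]

theorem thompsonSubgroupOf_eq (e : ℕ) (Q : Subgroup G) :
    thompsonSubgroupOf e Q = sSup (fam e Q) := by
  rw [thompsonSubgroupOf, thompsonSubgroup, map_sSup_eq, fam_eq_image]

theorem thompsonSubgroupOf_top (e : ℕ) (G : Type*) [Group G] :
    thompsonSubgroupOf e (⊤ : Subgroup G) = thompsonSubgroup e G := by
  rw [thompsonSubgroupOf_eq, fam_top, thompsonSubgroup]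

theorem thompsonSubgroupOf_le (e : ℕ) (Q : Subgroup G) : thompsonSubgroupOf e Q ≤ Q :=
  map_subtype_le _

theorem le_thompsonSubgroupOf {Q A : Subgroup G} (hA : A ∈ fam e Q) :
    A ≤ thompsonSubgroupOf e Q := by
  rw [thompsonSubgroupOf_eq]
  exact le_sSup hA

theorem thompsonSubgroupOf_le_iff {Q L : Subgroup G} :
    thompsonSubgroupOf e Q ≤ L ↔ ∀ A ∈ fam e Q, A ≤ L := by
  rw [thompsonSubgroupOf_eq, sSup_le_iff]

theorem thompsonSubgroupOf_map {f : G →* H} {Q : Subgroup G} (hf : Set.InjOn f Q) :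
    thompsonSubgroupOf e (Q.map f) = (thompsonSubgroupOf e Q).map f := by
  rw [thompsonSubgroupOf_eq, thompsonSubgroupOf_eq, map_sSup_eq, fam_map hf]

theorem map_inf_centralizer {f : G →* H} {Q R : Subgroup G} (hf : Set.InjOn f Q) (hR : R ≤ Q) :
    (Q ⊓ centralizer (R : Set G)).map f = Q.map f ⊓ centralizer (R.map f : Set H) := by
  apply le_antisymm
  · exact le_inf (map_mono inf_le_left) ((map_mono inf_le_right).trans (map_centralizer_le f R))
  · rintro _ ⟨⟨x, hx, rfl⟩, h⟩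
    refine ⟨x, ⟨hx, fun y hy => hf (mul_mem (hR hy) hx) (mul_mem hx (hR hy)) ?_⟩, rfl⟩
    rw [map_mul, map_mul]
    exact h _ ⟨y, hy, rfl⟩

theorem centerThompsonOf_le (e : ℕ) (Q : Subgroup G) : centerThompsonOf e Q ≤ Q :=
  inf_le_left.trans (thompsonSubgroupOf_le e Q)

theorem centerThompsonOf_map {f : G →* H} {Q : Subgroup G} (hf : Set.InjOn f Q) :
    centerThompsonOf e (Q.map f) = (centerThompsonOf e Q).map f := by
  rw [centerThompsonOf, centerThompsonOf, thompsonSubgroupOf_map hf,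
    map_inf_centralizer (hf.mono (thompsonSubgroupOf_le e Q)) le_rfl]

theorem mem_normalizer_iff_map_conj {Q : Subgroup G} {g : G} :
    g ∈ normalizer (Q : Set G) ↔ Q.map (MulAut.conj g).toMonoidHom = Q := by
  constructor
  · intro h
    ext x
    constructor
    · rintro ⟨y, hy, rfl⟩
      exact conj_mem_of_mem_normalizer h hy
    · intro hx
      exact ⟨g⁻¹ * x * g, conj_mem_of_mem_normalizer' h hx, by simp [mul_assoc]⟩
  · intro h
    rw [mem_normalizer_iff]
    intro x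
    constructor
    · intro hx
      rw [← h]
      exact ⟨x, hx, rfl⟩
    · intro hx
      rw [← h] at hx
      obtain ⟨y, hy, e⟩ := hx
      have : y = x := by simpa using e
      exact this ▸ hy

theorem normalizer_le_normalizer_thompson (e : ℕ) (Q : Subgroup G) :
    normalizer (Q : Set G) ≤ normalizer (thompsonSubgroupOf e Q : Set G) := by
  intro g hg
  rw [mem_normalizer_iff_map_conj] at hg ⊢
  rw [← thompsonSubgroupOf_map (MulAut.conj g).injective.injOn, hg]

theorem normalizer_thompson_le_normalizer_center (e : ℕ) (Q : Subgroup G) :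
    normalizer (thompsonSubgroupOf e Q : Set G) ≤ normalizer (centerThompsonOf e Q : Set G) :=
  le_normalizer_inf le_rfl (normalizer_le_normalizer_centralizer _)

theorem normalizer_le_normalizer_centerThompson (e : ℕ) (Q : Subgroup G) :
    normalizer (Q : Set G) ≤ normalizer (centerThompsonOf e Q : Set G) :=
  (normalizer_le_normalizer_thompson e Q).trans (normalizer_thompson_le_normalizer_center e Q)

theorem fam_nonempty [Finite G] (e : ℕ) (Q : Subgroup G) : (fam e Q).Nonempty := by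
  obtain ⟨A, hA, h⟩ := Set.exists_max_image {A : Subgroup G | A ≤ Q ∧ IsElementaryAbelian e A}
    (fun A => Nat.card A) (Set.toFinite _) ⟨⊥, bot_le, isElementaryAbelian_bot⟩
  exact ⟨A, hA.1, hA.2, fun B h1 h2 => h B ⟨h1, h2⟩⟩

theorem isElementaryAbelian_sup {A B : Subgroup G} (hA : IsElementaryAbelian e A)
    (hB : IsElementaryAbelian e B) (h : B ≤ centralizer (A : Set G)) :
    IsElementaryAbelian e (A ⊔ B) := by
  have hm : ∀ {x}, x ∈ A ⊔ B ↔ ∃ a ∈ A, ∃ b ∈ B, a * b = x :=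
    mem_sup_of_le_normalizer' (le_normalizer_of_le_centralizer h)
  refine ⟨isMulCommutative_iff_forall_mem.mpr fun x hx y hy => ?_, fun x hx => ?_⟩
  · obtain ⟨a, ha, b, hb, rfl⟩ := hm.mp hx
    obtain ⟨a', ha', b', hb', rfl⟩ := hm.mp hy
    have c1 : Commute a a' := isMulCommutative_iff_forall_mem.mp hA.1 a ha a' ha'
    have c2 : Commute a b' := h hb' a ha
    have c3 : Commute b a' := (show Commute a' b from h hb a' ha').symm
    have c4 : Commute b b' := isMulCommutative_iff_forall_mem.mp hB.1 b hb b' hb'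
    exact ((c1.mul_right c2).mul_left (c3.mul_right c4)).eq
  · obtain ⟨a, ha, b, hb, rfl⟩ := hm.mp hx
    rw [(show Commute a b from h hb a ha).mul_pow, hA.2 a ha, hB.2 b hb, one_mul]

theorem isElementaryAbelian_zpowers {x : G} (hx : x ^ e = 1) :
    IsElementaryAbelian e (zpowers x) := by
  refine ⟨inferInstance, ?_⟩
  rintro _ ⟨n, rfl⟩
  change (x ^ n) ^ e = 1
  rw [← zpow_natCast, ← zpow_mul, mul_comm, zpow_mul, zpow_natCast, hx, one_zpow]

theorem eq_of_mem_fam_of_le [Finite G] {Q A B : Subgroup G} (hA : A ∈ fam e Q) (hB : B ≤ Q)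
    (hB' : IsElementaryAbelian e B) (h : A ≤ B) : B = A :=
  (eq_of_le_of_card_ge h (hA.2.2 B hB hB')).symm

theorem mem_of_mem_fam_of_centralizes [Finite G] {Q A : Subgroup G} (hA : A ∈ fam e Q) {x : G}
    (hxQ : x ∈ Q) (hx : x ^ e = 1) (hc : x ∈ centralizer (A : Set G)) : x ∈ A := by
  have := eq_of_mem_fam_of_le hA (sup_le hA.1 (zpowers_le.mpr hxQ))
    (isElementaryAbelian_sup hA.2.1 (isElementaryAbelian_zpowers hx) (zpowers_le.mpr hc))
    le_sup_left
  exact this ▸ mem_sup_right (mem_zpowers x)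

theorem mem_fam_of_card_eq {Q A B : Subgroup G} (hA : A ∈ fam e Q) (hB : B ≤ Q)
    (hB' : IsElementaryAbelian e B) (h : Nat.card B = Nat.card A) : B ∈ fam e Q :=
  ⟨hB, hB', fun C h1 h2 => h ▸ hA.2.2 C h1 h2⟩

theorem mem_fam_of_le {Q R A : Subgroup G} (hA : A ∈ fam e Q) (hAR : A ≤ R) (hR : R ≤ Q) :
    A ∈ fam e R :=
  ⟨hAR, hA.2.1, fun C h1 h2 => hA.2.2 C (h1.trans hR) h2⟩

theorem fam_subset_of_le {Q R A : Subgroup G} (hA : A ∈ fam e Q) (hAR : A ≤ R) (hR : R ≤ Q) :
    fam e R ⊆ fam e Q := fun _ hB =>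
  ⟨hB.1.trans hR, hB.2.1, fun C h1 h2 => (hA.2.2 C h1 h2).trans (hB.2.2 A hAR hA.2.1)⟩

theorem thompsonSubgroupOf_mono {Q R A : Subgroup G} (hA : A ∈ fam e Q) (hAR : A ≤ R)
    (hR : R ≤ Q) : thompsonSubgroupOf e R ≤ thompsonSubgroupOf e Q :=
  thompsonSubgroupOf_le_iff.mpr fun _ hB => le_thompsonSubgroupOf (fam_subset_of_le hA hAR hR hB)

theorem thompsonSubgroupOf_eq_of_le [Finite G] {Q R : Subgroup G}
    (h : thompsonSubgroupOf e Q ≤ R) (hR : R ≤ Q) :
    thompsonSubgroupOf e R = thompsonSubgroupOf e Q := by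
  obtain ⟨A, hA⟩ := fam_nonempty e Q
  refine le_antisymm (thompsonSubgroupOf_mono hA ((le_thompsonSubgroupOf hA).trans h) hR) ?_
  exact thompsonSubgroupOf_le_iff.mpr fun B hB =>
    le_thompsonSubgroupOf (mem_fam_of_le hB ((le_thompsonSubgroupOf hB).trans h) hR)

theorem centerThompsonOf_eq_of_le [Finite G] {Q R : Subgroup G}
    (h : thompsonSubgroupOf e Q ≤ R) (hR : R ≤ Q) :
    centerThompsonOf e R = centerThompsonOf e Q := by
  rw [centerThompsonOf, centerThompsonOf, thompsonSubgroupOf_eq_of_le h hR]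

theorem isMulCommutative_inf_centralizer (Q : Subgroup G) :
    IsMulCommutative (Q ⊓ centralizer (Q : Set G) : Subgroup G) :=
  isMulCommutative_iff_forall_mem.mpr fun x hx _ hy => hy.2 x hx.1

theorem isMulCommutative_centerThompsonOf (e : ℕ) (Q : Subgroup G) :
    IsMulCommutative (centerThompsonOf e Q) := isMulCommutative_inf_centralizer _

/-- Central elements of exponent `e` lie in `Z(J(Q))`. -/
theorem mem_centerThompsonOf [Finite G] {Q : Subgroup G} {x : G} (hxQ : x ∈ Q) (hx : x ^ e = 1)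
    (hc : x ∈ centralizer (thompsonSubgroupOf e Q : Set G)) : x ∈ centerThompsonOf e Q := by
  obtain ⟨A, hA⟩ := fam_nonempty e Q
  exact ⟨le_thompsonSubgroupOf hA (mem_of_mem_fam_of_centralizes hA hxQ hx
    (centralizer_anti (le_thompsonSubgroupOf hA) hc)), hc⟩

theorem centerThompsonOf_ne_bot [Finite G] {p : ℕ} [hp : Fact p.Prime] (he : e = 0 ∨ e = p)
    {Q : Subgroup G} (hQ : IsPGroup p Q) (hQ1 : Q ≠ ⊥) : centerThompsonOf e Q ≠ ⊥ := by
  have h1 := inf_centralizer_ne_bot hQ hQ le_normalizer hQ1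
  rw [sup_idem] at h1
  have h2 : IsPGroup p (Q ⊓ centralizer (Q : Set G) : Subgroup G) := hQ.to_inf_left
  obtain ⟨n, hn⟩ := h2.exists_card_eq
  have h3 : p ∣ Nat.card (Q ⊓ centralizer (Q : Set G) : Subgroup G) := by
    rw [hn]
    refine dvd_pow_self p fun h0 => h1 ?_
    rw [h0, pow_zero] at hn
    exact card_eq_one.mp hn
  obtain ⟨⟨x, hx⟩, hxo⟩ := exists_prime_orderOf_dvd_card' p h3
  have hxo' : orderOf x = p := by rw [← hxo, orderOf_mk]
  have hxe : x ^ e = 1 := by
    rcases he with rfl | rfl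
    · exact pow_zero x
    · rw [← hxo', pow_orderOf_eq_one]
  intro h
  have := mem_centerThompsonOf hx.1 hxe (centralizer_anti (thompsonSubgroupOf_le e Q) hx.2)
  rw [h, mem_bot] at this
  rw [this, orderOf_one] at hxo'
  exact hp.out.one_lt.ne hxo'

/-- The replacement theorem for the family `fam e Q`. -/
theorem exists_replacement_fam [Finite G] (he : e = 0 ∨ Odd e) {K Q A B : Subgroup G}
    (hK : Group.IsNilpotent K) (hQK : Q ≤ K) (hBK : B ≤ K) (hKB : K ≤ normalizer (B : Set G))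
    (hBQ : B ≤ normalizer (Q : Set G)) (hA : A ∈ fam e Q)
    (hBA : ⁅B, B⁆ ≤ A) (h2 : ∀ w ∈ ⁅B, B⁆, w ^ 2 = 1 → w = 1)
    (hnot : ¬ B ≤ normalizer (A : Set G)) :
    ∃ A' ∈ fam e Q, A ⊓ B < A' ⊓ B ∧ A' ≤ normalizer (A : Set G) := by
  obtain ⟨A', h1, h3, h4, h5, h6, h7⟩ := exists_replacement hK (hA.1.trans hQK) hBK hKB hA.2.1.1
    hBA h2 hnot
  refine ⟨A', mem_fam_of_card_eq hA (h6 Q hA.1 hBQ) ⟨h3, ?_⟩ h1, h4, h5⟩
  rcases he with rfl | he
  · exact fun a _ => pow_zero a
  · exact h7 e he hA.2.1.2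

/-- The replacement property. -/
theorem replacement_property [Finite G] (he : e = 0 ∨ Odd e) {K Q B : Subgroup G}
    (hK : Group.IsNilpotent K) (hQK : Q ≤ K) (hBK : B ≤ K) (hKB : K ≤ normalizer (B : Set G))
    (hBQ : B ≤ normalizer (Q : Set G)) (h2 : ∀ w ∈ ⁅B, B⁆, w ^ 2 = 1 → w = 1)
    (h : ∃ U ∈ fam e Q, ⁅B, B⁆ ≤ U ∧ ¬ B ≤ U) :
    ∃ A ∈ fam e Q, ⁅B, B⁆ ≤ A ∧ ¬ B ≤ A ∧ B ≤ normalizer (A : Set G) := by
  obtain ⟨A, ⟨hA, h1, h3⟩, hmax⟩ := Set.exists_max_image
    {U : Subgroup G | U ∈ fam e Q ∧ ⁅B, B⁆ ≤ U ∧ ¬ B ≤ U} (fun U => Nat.card ↥(U ⊓ B))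
    (Set.toFinite _) h
  refine ⟨A, hA, h1, h3, by_contra fun hnot => ?_⟩
  obtain ⟨A', hA', h4, h5⟩ := exists_replacement_fam he hK hQK hBK hKB hBQ hA h1 h2 hnot
  have := hmax A' ⟨hA', (le_inf h1 (commutator_le_self B)).trans (h4.le.trans inf_le_left),
    fun h => hnot (h.trans h5)⟩
  exact h4.ne (eq_of_le_of_card_ge h4.le this)

end H13
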