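import Mathlib
import Cfsg.Prelude.Def_Transfer
import Cfsg.Prelude.Def_Local
import Cfsg.Prelude.Def_PLocal
import Cfsg.Agent.H13.Thompson
import Cfsg.Agent.H13.PConstrained

/-!
# Glauberman's ZJ-theorem

One proof serves `Z(J(S))` for both Thompson subgroups (`e = 0` and `e = p`) and
`Ω₁(Z(J_e(S)))`.
-/

set_option autoImplicit false

namespace H13

open Cfsg Subgroup
open scoped commutatorElement

variable {G : Type*} [Group G] {H : Type*} [Group H] {e p : ℕ}

/-! ### `omegaOne` -/

theorem omegaOne_le (e : ℕ) (B : Subgroup G) : omegaOne e B ≤ B :=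
  (closure_le _).mpr fun _ hx => hx.1

theorem mem_omegaOne {B : Subgroup G} {x : G} (hx : x ∈ B) (h : x ^ e = 1) : x ∈ omegaOne e B :=
  subset_closure ⟨hx, h⟩

theorem omegaOne_mono {A B : Subgroup G} (h : A ≤ B) : omegaOne e A ≤ omegaOne e B :=
  closure_mono fun _ hx => ⟨h hx.1, hx.2⟩

theorem omegaOne_map {f : G →* H} {B : Subgroup G} (hf : Set.InjOn f B) :
    omegaOne e (B.map f) = (omegaOne e B).map f := by
  rw [omegaOne, omegaOne, MonoidHom.map_closure]
  congr 1
  ext y
  constructor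
  · rintro ⟨⟨x, hx, rfl⟩, h⟩
    exact ⟨x, ⟨hx, hf (pow_mem hx e) (one_mem B) (by rwa [map_pow, map_one])⟩, rfl⟩
  · rintro ⟨x, hx, rfl⟩
    exact ⟨⟨x, hx.1, rfl⟩, by rw [← map_pow, hx.2, map_one]⟩

theorem normalizer_le_normalizer_omegaOne (e : ℕ) (B : Subgroup G) :
    normalizer (B : Set G) ≤ normalizer (omegaOne e B : Set G) := by
  intro g hg
  rw [mem_normalizer_iff_map_conj] at hg ⊢
  rw [← omegaOne_map (MulAut.conj g).injective.injOn, hg]

theorem omegaOne_normal (e : ℕ) (B : Subgroup G) [B.Normal] : (omegaOne e B).Normal :=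
  normalizer_eq_top_iff.mp (top_le_iff.mp
    ((normalizer_eq_top B).ge.trans (normalizer_le_normalizer_omegaOne e B)))

theorem pow_eq_one_of_mem_omegaOne_of_comm {B : Subgroup G} (hB : IsMulCommutative B) {x : G}
    (hx : x ∈ omegaOne e B) : x ^ e = 1 :=
  pow_eq_one_of_mem_closure_of_comm (isMulCommutative_of_le hB (omegaOne_le e B))
    (fun _ h => h.2) hx

/-- In class two the elements of odd exponent `e` form a subgroup. -/
theorem pow_eq_one_of_mem_omegaOne (he : e = 0 ∨ Odd e) {B : Subgroup G} (hc : ⁅⁅B, B⁆, B⁆ = ⊥)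
    {x : G} (hx : x ∈ omegaOne e B) : x ^ e = 1 := by
  rcases he with rfl | he
  · exact pow_zero x
  have hcen : ∀ x ∈ B, ∀ y ∈ B, ∀ z ∈ B, Commute ⁅x, y⁆ z := fun x hx y hy z hz =>
    commutator_eq_bot_iff_forall.mp hc _ (commutator_mem_commutator hx hy) z hz
  induction hx using closure_induction with
  | mem x hx => exact hx.2
  | one => exact one_pow e
  | mul x y hx hy ihx ihy =>
    have hx' := omegaOne_le e B hx
    have hy' := omegaOne_le e B hy
    rw [mul_pow_of_odd (hcen y hy' x hx' x hx') (hcen y hy' x hx' y hy') he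
      (commutator_pow_eq_one_of_commute (hcen y hy' x hx' x hx') ihx), ihx, ihy, one_mul]
  | inv x hx ih => rw [inv_pow, ih, inv_one]

/-- A `p'`-element centralizing `Ω₁` of a `p`-group of class two (`p` odd) centralizes it. -/
theorem mem_centralizer_of_omegaOne (hp : Odd p) {B : Subgroup G} (hB : IsPGroup p B)
    (hc : ⁅⁅B, B⁆, B⁆ = ⊥) {g : G} (hg : g ∈ normalizer (B : Set G))
    (ho : (orderOf g).Coprime p) (h : g ∈ centralizer (omegaOne p B : Set G)) :
    g ∈ centralizer (B : Set G) := by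
  have hcen : ∀ x ∈ B, ∀ y ∈ B, ∀ z ∈ B, Commute ⁅x, y⁆ z := fun x hx y hy z hz =>
    commutator_eq_bot_iff_forall.mp hc _ (commutator_mem_commutator hx hy) z hz
  have key : ∀ k : ℕ, ∀ x ∈ B, x ^ p ^ k = 1 → x * g = g * x := by
    intro k
    induction k with
    | zero => intro x _ hx; rw [pow_zero, pow_one] at hx; rw [hx, one_mul, mul_one]
    | succ k ih =>
      intro x hx hxk
      have h1 : x ^ p * g = g * x ^ p := ih _ (pow_mem hx p) (by rwa [← pow_mul, ← pow_succ'])
      have hy : g * x⁻¹ * g⁻¹ ∈ B := conj_mem_of_mem_normalizer hg (inv_mem hx)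
      have h2 : (g * x⁻¹ * g⁻¹) ^ p = (x ^ p)⁻¹ := by
        rw [conj_pow, inv_pow, ← (show Commute (x ^ p) g from h1).inv_left.eq, mul_inv_cancel_right]
      have h3 : ⁅g * x⁻¹ * g⁻¹, x⁆ ^ p = 1 := by
        rw [← commutator_pow_left (hcen _ hy _ hx _ hy), h2, commutatorElement_eq_one_iff_commute]
        exact ((Commute.refl x).pow_left p).inv_left
      have h4 : (x * (g * x⁻¹ * g⁻¹)) ^ p = 1 := by
        rw [mul_pow_of_odd (hcen _ hy _ hx _ hx) (hcen _ hy _ hx _ hy) hp h3, h2, mul_inv_cancel]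
      have h5 : ⁅x, g⁆ ∈ omegaOne p B := by
        have := mem_omegaOne (mul_mem hx hy) h4
        simpa [commutatorElement_def, mul_assoc] using this
      have h6 := commutator_pow_eq_one_of_commute (show Commute ⁅x, g⁆ g from h _ h5)
        (pow_orderOf_eq_one g)
      rw [← commutatorElement_eq_one_iff_mul_comm]
      exact eq_one_of_mem_isPGroup_of_coprime hB (omegaOne_le p B h5)
        (Nat.Coprime.coprime_dvd_left (orderOf_dvd_of_pow_eq_one h6) ho)
  intro x hx
  obtain ⟨k, hk⟩ := isPGroup_iff_forall_mem.mp hB x hx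
  exact key k x hx hk

/-! ### the ZJ-theorem -/

theorem le_sup_sylow_of_forall_pow_mem [Finite G] [Fact p.Prime] (S : Sylow p G)
    {C D : Subgroup G} [C.Normal] [D.Normal] (h : ∀ x ∈ D, ∃ k : ℕ, x ^ p ^ k ∈ C) :
    D ≤ C ⊔ S := by
  have h1 : IsPGroup p (D.map (QuotientGroup.mk' C)) := by
    rw [isPGroup_iff_forall_mem]
    rintro _ ⟨x, hx, rfl⟩
    obtain ⟨k, hk⟩ := h x hx
    exact ⟨k, by rw [← map_pow]; exact (QuotientGroup.eq_one_iff _).mpr hk⟩
  have h2 := (H2.le_pCore (Normal.map inferInstance _ (QuotientGroup.mk'_surjective C)) h1).trans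
    (H2.pCore_le_sylow (S.mapSurjective (QuotientGroup.mk'_surjective C)))
  rw [Sylow.coe_mapSurjective, map_le_iff_le_comap, comap_map_eq, QuotientGroup.ker_mk',
    sup_comm] at h2
  exact h2

theorem conj_mem_of_mem_normalClosure_of_forall {W K : Subgroup G}
    (h : ∀ g : G, ∀ w ∈ W, g * w * g⁻¹ ∈ K) : normalClosure (W : Set G) ≤ K := by
  refine (closure_le _).mpr fun x hx => ?_
  obtain ⟨w, hw, hc⟩ := Group.mem_conjugatesOfSet_iff.mp hx
  obtain ⟨g, rfl⟩ := isConj_iff.mp hc
  exact h g w hw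

/-- The core of the ZJ-theorem. -/
theorem inf_normal_of_stable [Finite G] [hp : Fact p.Prime] (hp2 : p ≠ 2) (he : e = 0 ∨ e = p)
    (hst : ∀ (P : Subgroup G) [P.Normal], IsPGroup p P → IsPStableOn p P) (S : Sylow p G)
    {Z : Subgroup G} (hZab : IsMulCommutative Z)
    (hZC : Z ≤ centralizer (thompsonSubgroupOf e (S : Subgroup G) : Set G))
    (hNZ : normalizer (thompsonSubgroupOf e (S : Subgroup G) : Set G) ≤ normalizer (Z : Set G))
    (B : Subgroup G) : B.Normal → IsPGroup p B → (Z ⊓ B).Normal := by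
  have hodd : Odd p := hp.out.odd_of_ne_two hp2
  have he' : e = 0 ∨ Odd e := he.imp id fun h : e = p => h ▸ hodd
  induction B using WellFoundedLT.induction with | ind B ih => ?_
  intro hBn hB
  by_contra hW
  set W := Z ⊓ B with hWdef
  have hBS : B ≤ S := (H2.le_pCore hBn hB).trans (H2.pCore_le_sylow S)
  have hSZ : (S : Subgroup G) ≤ normalizer (Z : Set G) :=
    (le_normalizer.trans (normalizer_le_normalizer_thompson e _)).trans hNZ
  have hZW : normalizer (Z : Set G) ≤ normalizer (W : Set G) :=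
    le_normalizer_inf le_rfl le_normalizer_of_normal
  -- `B` is the normal closure of `W`
  have hcl : normalClosure (W : Set G) = B := by
    have h1 : normalClosure (W : Set G) ≤ B := normalClosure_le_normal inf_le_right
    by_contra hne
    have := ih _ (lt_of_le_of_ne h1 hne) inferInstance (hB.to_le h1)
    apply hW
    rwa [show Z ⊓ normalClosure (W : Set G) = W from le_antisymm (inf_le_inf_left Z h1)
      (le_inf inf_le_left le_normalClosure)] at this
  have hB1 : B ≠ ⊥ := by
    rintro rfl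
    apply hW
    rw [hWdef, inf_bot_eq]
    infer_instance
  have hlt : ⁅B, B⁆ < B := commutator_lt_of_isPGroup hB hB le_normalizer hB1
  have hn' : (Z ⊓ ⁅B, B⁆).Normal := ih _ hlt inferInstance (hB.to_le hlt.le)
  have hBZ : ⁅B, B⁆ ≤ Z := by
    have : B ≤ (centralizer (B.map (QuotientGroup.mk' (Z ⊓ ⁅B, B⁆)) : Set _)).comap
        (QuotientGroup.mk' (Z ⊓ ⁅B, B⁆)) := by
      have hn : (B.map (QuotientGroup.mk' (Z ⊓ ⁅B, B⁆))).Normal :=
        Normal.map hBn _ (QuotientGroup.mk'_surjective _)
      nth_rewrite 1 [← hcl]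
      refine normalClosure_le_normal fun w hw => ?_
      rintro _ ⟨b, hb, rfl⟩
      rw [← commutatorElement_eq_one_iff_mul_comm, ← map_commutatorElement]
      refine (QuotientGroup.eq_one_iff _).mpr (mem_inf.mpr ⟨?_, commutator_mem_commutator hb hw.2⟩)
      exact Z.mul_mem (conj_mem_of_mem_normalizer (hSZ (hBS hb)) hw.1) (Z.inv_mem hw.1)
    rw [commutator_le]
    intro x hx y hy
    have h := (this hx _ ⟨y, hy, rfl⟩).symm
    rw [← commutatorElement_eq_one_iff_mul_comm, ← map_commutatorElement] at h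
    exact ((QuotientGroup.eq_one_iff _).mp h).1
  have hc2 : ⁅⁅B, B⁆, B⁆ = ⊥ := by
    rw [commutator_comm, commutator_eq_bot_iff_le_centralizer]
    nth_rewrite 1 [← hcl]
    exact normalClosure_le_normal fun w hw y hy =>
      isMulCommutative_iff_forall_mem.mp hZab y (hBZ hy) w hw.1
  -- the subgroup `V`
  set V := omegaOne e B with hV
  have hVn : V.Normal := omegaOne_normal e B
  have hVB : V ≤ B := omegaOne_le e B
  have hVe : ∀ x ∈ V, x ^ e = 1 := fun x hx => pow_eq_one_of_mem_omegaOne he' hc2 hx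
  have hCV : ∀ x ∈ centralizer (V : Set G), ∃ k : ℕ, x ^ p ^ k ∈ centralizer (B : Set G) := by
    intro x hx
    rcases he with rfl | rfl
    · refine ⟨0, fun b hb => ?_⟩
      rw [pow_zero, pow_one]
      exact hx b (mem_omegaOne hb (pow_zero b))
    · obtain ⟨k, hk⟩ := exists_pow_coprime_orderOf hp.out x
      exact ⟨k, mem_centralizer_of_omegaOne hodd hB hc2 (le_normalizer_of_normal (mem_top _)) hk
        (pow_mem hx _)⟩
  set L := (normalizer (W : Set G)).normalCore with hL
  have hLW : L ≤ normalizer (W : Set G) := normalCore_le _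
  set T := (S : Subgroup G) ⊓ L with hT
  have hfr : ∀ g : G, ∃ l ∈ L, l * g ∈ normalizer (thompsonSubgroupOf e T : Set G) := by
    intro g
    obtain ⟨l, hl, h⟩ := frattini_rel (p := p) (L := L) (P := T) S.isPGroup'.to_inf_left
      inf_le_right (by rw [hT, inf_relIndex_right]; exact not_dvd_relIndex_sylow_normal S L)
      (g := g) (le_normalizer_of_normal (mem_top g))
    exact ⟨l, hl, normalizer_le_normalizer_thompson e T h⟩
  have step1 : ∀ A ∈ fam e (S : Subgroup G), V ≤ normalizer (A : Set G) → A ≤ L := by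
    intro A hA hVA a ha
    have hq : ⁅⁅V, zpowers a⁆, zpowers a⁆ = ⊥ := by
      have h1 : ⁅V, zpowers a⁆ ≤ A := (commutator_mono le_rfl (zpowers_le.mpr ha)).trans
        (le_normalizer_iff_commutator_le_right.mp hVA)
      exact eq_bot_iff.mpr ((isMulCommutative_iff_commutator_eq_bot.mp hA.2.1.1) ▸
        commutator_mono h1 (zpowers_le.mpr ha))
    obtain ⟨D, hD, haD, hDp⟩ := isPStableOn_iff.mp (hst V (hB.to_le hVB)) a hq
    have h1 : D ≤ centralizer (B : Set G) ⊔ S := by
      refine le_sup_sylow_of_forall_pow_mem S fun x hx => ?_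
      obtain ⟨k, hk⟩ := hDp x hx
      obtain ⟨j, hj⟩ := hCV _ hk
      exact ⟨k + j, by rwa [pow_add, pow_mul]⟩
    refine normal_le_normalCore.mpr (h1.trans (sup_le ?_ (hSZ.trans hZW))) haD
    exact le_normalizer_of_le_centralizer (centralizer_anti inf_le_right)
  have step2 : ∃ A ∈ fam e (S : Subgroup G), ¬ A ≤ L := by
    by_contra hcon
    push Not at hcon
    have h1 : thompsonSubgroupOf e T = thompsonSubgroupOf e (S : Subgroup G) :=
      thompsonSubgroupOf_eq_of_le (le_inf (thompsonSubgroupOf_le e _)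
        (thompsonSubgroupOf_le_iff.mpr hcon)) inf_le_left
    apply hW
    rw [← normalizer_eq_top_iff, eq_top_iff]
    intro g _
    obtain ⟨l, hl, h⟩ := hfr g
    rw [h1] at h
    have := mul_mem (inv_mem (hLW hl)) (hZW (hNZ h))
    rwa [inv_mul_cancel_left] at this
  obtain ⟨A, ⟨hA, hAL⟩, hmax⟩ := Set.exists_max_image
    {U : Subgroup G | U ∈ fam e (S : Subgroup G) ∧ ¬ U ≤ L} (fun U => Nat.card ↥(U ⊓ V))
    (Set.toFinite _) step2
  have hnot : ¬ V ≤ normalizer (A : Set G) := fun h => hAL (step1 A hA h)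
  have hVA : ⁅V, V⁆ ≤ A := fun x hx =>
    mem_of_mem_fam_of_centralizes hA (hBS (hVB (commutator_le_self V hx)))
      (hVe x (commutator_le_self V hx))
      (centralizer_anti (le_thompsonSubgroupOf hA) (hZC (hBZ (commutator_mono hVB hVB hx))))
  obtain ⟨A', hA', h4, h5⟩ := exists_replacement_fam he' S.isPGroup'.isNilpotent le_rfl
    (hVB.trans hBS) le_normalizer_of_normal ((hVB.trans hBS).trans le_normalizer) hA hVA
    (fun w hw h => eq_one_of_sq_eq_one_of_isPGroup hp2 hB (hVB (commutator_le_self V hw)) h) hnot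
  have hA'L : A' ≤ L := by
    by_contra h
    exact h4.ne (eq_of_le_of_card_ge h4.le (hmax A' ⟨hA', h⟩))
  have hA'T : A' ≤ T := le_inf hA'.1 hA'L
  have hJ : thompsonSubgroupOf e T ≤ thompsonSubgroupOf e (S : Subgroup G) :=
    thompsonSubgroupOf_mono hA' hA'T inf_le_left
  have hBC : B ≤ centralizer (thompsonSubgroupOf e T : Set G) := by
    rw [← hcl]
    refine conj_mem_of_mem_normalClosure_of_forall fun g w hw => ?_
    obtain ⟨l, hl, h⟩ := hfr g⁻¹
    have h1 := centralizer_anti hJ (hZC (conj_mem_of_mem_normalizer (hLW hl) hw).1)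
    have h2 := conj_mem_of_mem_normalizer' (normalizer_le_normalizer_centralizer _ h) h1
    simpa [mul_assoc] using h2
  refine hnot (fun x hx => h5 ?_)
  exact mem_of_mem_fam_of_centralizes hA' (hBS (hVB hx)) (hVe x hx)
    (centralizer_anti (le_thompsonSubgroupOf (mem_fam_of_le hA' hA'T inf_le_left)) (hBC (hVB hx)))

/-- An abelian normal subgroup of a Sylow subgroup lies in `O_p(G)`. -/
theorem le_pCore_of_stable [Finite G] (hc : centralizer (pCore p G : Set G) ≤ pCore p G)
    (hst : IsPStableOn p (pCore p G)) {Z : Subgroup G} (hZab : IsMulCommutative Z)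
    (hZ : pCore p G ≤ normalizer (Z : Set G)) : Z ≤ pCore p G := by
  intro a ha
  have hq : ⁅⁅pCore p G, zpowers a⁆, zpowers a⁆ = ⊥ := by
    have h1 : ⁅pCore p G, zpowers a⁆ ≤ Z := (commutator_mono le_rfl (zpowers_le.mpr ha)).trans
      (le_normalizer_iff_commutator_le_right.mp hZ)
    exact eq_bot_iff.mpr ((isMulCommutative_iff_commutator_eq_bot.mp hZab) ▸
      commutator_mono h1 (zpowers_le.mpr ha))
  obtain ⟨D, hD, haD, hDp⟩ := isPStableOn_iff.mp hst a hq
  refine H2.le_pCore hD (isPGroup_iff_forall_mem.mpr fun x hx => ?_) haD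
  obtain ⟨k, hk⟩ := hDp x hx
  obtain ⟨j, hj⟩ := isPGroup_iff_forall_mem.mp (H2.pCore_isPGroup p G) _ (hc hk)
  exact ⟨k + j, by rwa [pow_add, pow_mul]⟩

theorem normal_of_stable [Finite G] [Fact p.Prime] (hp2 : p ≠ 2) (he : e = 0 ∨ e = p)
    (hc : centralizer (pCore p G : Set G) ≤ pCore p G)
    (hst : ∀ (P : Subgroup G) [P.Normal], IsPGroup p P → IsPStableOn p P) (S : Sylow p G)
    {Z : Subgroup G} (hZab : IsMulCommutative Z)
    (hZC : Z ≤ centralizer (thompsonSubgroupOf e (S : Subgroup G) : Set G))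
    (hNZ : normalizer (thompsonSubgroupOf e (S : Subgroup G) : Set G) ≤ normalizer (Z : Set G)) :
    Z.Normal := by
  have h1 := inf_normal_of_stable hp2 he hst S hZab hZC hNZ (pCore p G) inferInstance
    (H2.pCore_isPGroup p G)
  rwa [inf_eq_left.mpr (le_pCore_of_stable hc (hst _ (H2.pCore_isPGroup p G)) hZab
    ((((H2.pCore_le_sylow S).trans le_normalizer).trans
      (normalizer_le_normalizer_thompson e _)).trans hNZ))] at h1

/-- Glauberman's ZJ-theorem, for both versions of the Thompson subgroup. -/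
theorem centerThompsonOf_normal [Finite G] [Fact p.Prime] (hp2 : p ≠ 2) (he : e = 0 ∨ e = p)
    (hc : centralizer (pCore p G : Set G) ≤ pCore p G)
    (hst : ∀ (P : Subgroup G) [P.Normal], IsPGroup p P → IsPStableOn p P) (S : Sylow p G) :
    (centerThompsonOf e (S : Subgroup G)).Normal :=
  normal_of_stable hp2 he hc hst S (isMulCommutative_centerThompsonOf e _) inf_le_right
    (normalizer_thompson_le_normalizer_center e _)

theorem omegaOne_centerThompsonOf_normal [Finite G] [Fact p.Prime] (hp2 : p ≠ 2)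
    (he : e = 0 ∨ e = p) (hc : centralizer (pCore p G : Set G) ≤ pCore p G)
    (hst : ∀ (P : Subgroup G) [P.Normal], IsPGroup p P → IsPStableOn p P) (S : Sylow p G) :
    (omegaOne p (centerThompsonOf e (S : Subgroup G))).Normal :=
  have := centerThompsonOf_normal hp2 he hc hst S
  omegaOne_normal p _

theorem exists_map_eq_map_conj [Finite G] [Fact p.Prime] (S : Sylow p G) (φ : G ≃* G) :
    ∃ g : G, (S : Subgroup G).map φ.toMonoidHom = (S : Subgroup G).map (MulAut.conj g).toMonoidHom := by
  obtain ⟨l, -, h⟩ := exists_conj_mem_of_not_dvd_relIndex (L := ⊤) S.isPGroup'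
    (by rw [relIndex_top_right]; exact S.not_dvd_index) (S.isPGroup'.map φ.toMonoidHom) le_top
  refine ⟨l⁻¹, eq_of_le_of_card_ge (fun x hx => mem_map_conj_inv.mpr (h x hx)) ?_⟩
  rw [card_map_conj, card_map_of_injective φ.injective]

/-- A normal subgroup defined canonically from a Sylow subgroup is characteristic. -/
theorem characteristic_of_normal_of_equivariant [Finite G] [Fact p.Prime] (S : Sylow p G)
    (W : Subgroup G → Subgroup G)
    (hW : ∀ φ : G ≃* G, W ((S : Subgroup G).map φ.toMonoidHom) = (W S).map φ.toMonoidHom)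
    (hn : (W S).Normal) : (W S).Characteristic := by
  rw [characteristic_iff_map_eq]
  intro φ
  obtain ⟨g, hg⟩ := exists_map_eq_map_conj S φ
  rw [← hW, hg, hW, ← mem_normalizer_iff_map_conj]
  exact le_normalizer_of_normal (mem_top g)

theorem centerThompsonOf_characteristic [Finite G] [Fact p.Prime] (hp2 : p ≠ 2)
    (he : e = 0 ∨ e = p) (hc : centralizer (pCore p G : Set G) ≤ pCore p G)
    (hst : ∀ (P : Subgroup G) [P.Normal], IsPGroup p P → IsPStableOn p P) (S : Sylow p G) :
    (centerThompsonOf e (S : Subgroup G)).Characteristic :=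
  characteristic_of_normal_of_equivariant S (centerThompsonOf e)
    (fun φ => centerThompsonOf_map φ.injective.injOn) (centerThompsonOf_normal hp2 he hc hst S)

theorem map_subtype_omegaCenterThompson (e : ℕ) (Q : Subgroup G) :
    (omegaCenterThompson e Q).map Q.subtype = omegaOne e (centerThompsonOf e Q) := by
  have h : centerThompsonOf e Q = (centerThompsonOf e (⊤ : Subgroup Q)).map Q.subtype := by
    rw [← centerThompsonOf_map Q.subtype_injective.injOn, ← MonoidHom.range_eq_map, range_subtype]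
  rw [h, omegaOne_map Q.subtype_injective.injOn, centerThompsonOf, thompsonSubgroupOf_top,
    omegaCenterThompson]

end H13
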