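import Mathlib
import Cfsg.Prelude.Def_Transfer
import Cfsg.Prelude.Def_Local
import Cfsg.Prelude.Def_PLocal
import Cfsg.Agent.H13.ZJ
import Cfsg.Agent.H22.Alperin
import Cfsg.Agent.H3.Frobenius
import Cfsg.Agent.H12.PStable

/-!
# Applications of the ZJ-theorem: factorization, Glauberman–Thompson, control of fusion
-/

set_option autoImplicit false

namespace H13

open Cfsg Subgroup
open H22 (cj SylIn)
open scoped commutatorElement

variable {G : Type*} [Group G] {e p : ℕ}

theorem centerThompsonOf_subgroupOf {R H : Subgroup G} (h : R ≤ H) :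
    centerThompsonOf e (R.subgroupOf H) = (centerThompsonOf e R).subgroupOf H := by
  have h1 := centerThompsonOf_map (e := e) (Q := R.subgroupOf H) H.subtype_injective.injOn
  rw [subgroupOf_map_subtype, inf_eq_left.mpr h] at h1
  rw [h1]
  exact (comap_map_eq_self_of_injective H.subtype_injective _).symm

theorem normalizer_centerThompsonOf_subgroupOf {R H : Subgroup G} (h : R ≤ H) :
    normalizer (centerThompsonOf e (R.subgroupOf H) : Set H) =
      (normalizer (centerThompsonOf e R : Set G)).subgroupOf H := by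
  rw [centerThompsonOf_subgroupOf h, subgroupOf_normalizer_eq ((centerThompsonOf_le e R).trans h)]

theorem centerThompsonOf_cj (g : G) (R : Subgroup G) :
    centerThompsonOf e (cj g R) = cj g (centerThompsonOf e R) :=
  centerThompsonOf_map (MulAut.conj g).injective.injOn

theorem le_normalizer_centerThompsonOf_self (e : ℕ) (R : Subgroup G) :
    R ≤ normalizer (centerThompsonOf e R : Set G) :=
  le_normalizer.trans (normalizer_le_normalizer_centerThompson e R)

theorem injOn_of_isPGroup_of_coprime_ker [Finite G] {H : Type*} [Group H] {f : G →* H}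
    (hk : (Nat.card f.ker).Coprime p) {P : Subgroup G} (hP : IsPGroup p P) : Set.InjOn f P :=
  injOn_of_inf_ker_eq_bot (inf_eq_bot_of_isPGroup_of_coprime hP hk)

theorem normalizer_centerThompsonOf_map [Finite G] [Fact p.Prime] {H : Type*} [Group H]
    {f : G →* H} (hf : Function.Surjective f) (hk : (Nat.card f.ker).Coprime p) {P : Subgroup G}
    (hP : IsPGroup p P) : normalizer (centerThompsonOf e (P.map f) : Set H) =
      (normalizer (centerThompsonOf e P : Set G)).map f := by
  rw [centerThompsonOf_map (injOn_of_isPGroup_of_coprime_ker hk hP),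
    normalizer_map_of_coprime_ker hf hk (hP.to_le (centerThompsonOf_le e P))]

variable [Finite G] [hp : Fact p.Prime]

/-- The ZJ-theorem for a subgroup `H`. -/
theorem le_normalizer_centerThompsonOf (hp2 : p ≠ 2) (he : e = 0 ∨ e = p) {H R : Subgroup G}
    (hR : SylIn p R H) (hc : centralizer (pCore p H : Set H) ≤ pCore p H)
    (hst : ∀ (P : Subgroup H) [P.Normal], IsPGroup p P → IsPStableOn p P) :
    H ≤ normalizer (centerThompsonOf e R : Set G) := by
  have := centerThompsonOf_normal hp2 he hc hst hR.toSylow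
  rwa [hR.coe_toSylow, ← normalizer_eq_top_iff, normalizer_centerThompsonOf_subgroupOf hR.le,
    subgroupOf_eq_top] at this

theorem pPrimeCore_sup_normalizer_centerThompsonOf (hp2 : p ≠ 2) (he : e = 0 ∨ e = p)
    (hc : IsPConstrained p G)
    (hst : ∀ (V : Subgroup (G ⧸ pPrimeCore p G)) [V.Normal], IsPGroup p V → IsPStableOn p V)
    (P : Sylow p G) :
    pPrimeCore p G ⊔ normalizer (centerThompsonOf e (P : Subgroup G) : Set G) = ⊤ := by
  have h := centerThompsonOf_normal hp2 he (isPConstrained_iff.mp hc) hst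
    (P.mapSurjective (QuotientGroup.mk'_surjective (pPrimeCore p G)))
  rw [Sylow.coe_mapSurjective, ← normalizer_eq_top_iff, normalizer_centerThompsonOf_map
    (QuotientGroup.mk'_surjective _) (coprime_card_ker_mk'_pPrimeCore p) P.isPGroup'] at h
  have := congrArg (comap (QuotientGroup.mk' (pPrimeCore p G))) h
  rwa [comap_map_eq, QuotientGroup.ker_mk', comap_top, sup_comm] at this

theorem normalizer_le_normalizer_centerThompsonOf_of_local (he : e = 0 ∨ e = p)
    (hloc : ∀ Q : Subgroup G, IsPGroup p Q → Q ≠ ⊥ → ∀ R : Subgroup G,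
      SylIn p R (normalizer (Q : Set G)) →
        normalizer (Q : Set G) ≤ normalizer (centerThompsonOf e R : Set G))
    (P : Sylow p G) (Q : Subgroup G) (hQP : Q ≤ P) (hQ1 : Q ≠ ⊥) :
    normalizer (Q : Set G) ≤ normalizer (centerThompsonOf e (P : Subgroup G) : Set G) := by
  set M := normalizer (centerThompsonOf e (P : Subgroup G) : Set G) with hM
  have hPM : (P : Subgroup G) ≤ M := le_normalizer_centerThompsonOf_self e _
  suffices key : ∀ R : Subgroup G, IsPGroup p R → R ≤ M → ∀ Q : Subgroup G, Q ≠ ⊥ → Q ≤ R →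
      R ≤ normalizer (Q : Set G) → normalizer (Q : Set G) ≤ M from
    key Q (P.isPGroup'.to_le hQP) (hQP.trans hPM) Q hQ1 le_rfl le_normalizer
  intro R
  induction R using WellFoundedGT.induction with | ind R ih => ?_
  intro hR hRM Q hQ1 hQR hRQ
  by_cases hmax : ∃ R' : Subgroup G, R < R' ∧ IsPGroup p R' ∧ R' ≤ M ∧
      R' ≤ normalizer (Q : Set G)
  · obtain ⟨R', h1, h2, h3, h4⟩ := hmax
    exact ih R' h1 h2 h3 Q hQ1 (hQR.trans h1.le) h4
  obtain ⟨m, hm, hmR⟩ := (H22.sylIn_of_sylow_le P hPM).exists_cj_le hRM hR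
  rw [H22.cj_le_iff_le_cj_inv] at hmR
  have hW : centerThompsonOf e (cj m⁻¹ (P : Subgroup G)) = centerThompsonOf e (P : Subgroup G) := by
    rw [centerThompsonOf_cj, H22.cj_eq_iff.mpr (inv_mem hm)]
  have hP'M : cj m⁻¹ (P : Subgroup G) ≤ M := by
    rw [hM, ← hW]; exact le_normalizer_centerThompsonOf_self e _
  have hP' : IsPGroup p (cj m⁻¹ (P : Subgroup G)) := H22.isPGroup_cj P.isPGroup' _
  rcases hmR.eq_or_lt with h | h
  · have hs : SylIn p R (normalizer (Q : Set G)) := by
      refine SylIn.mono ?_ hRQ le_top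
      rw [h, ← H22.cj_top m⁻¹]
      exact (H22.sylIn_top P).cj _
    have := hloc Q (hR.to_le hQR) hQ1 R hs
    rwa [h, hW] at this
  · have hlt := H22.lt_inf_normalizer hP' h
    have hC : ∀ C : Subgroup G, C ≠ ⊥ → C ≤ R → normalizer (R : Set G) ≤ normalizer (C : Set G) →
        normalizer (C : Set G) ≤ M := fun C h1 h2 h3 =>
      ih _ hlt hP'.to_inf_left (inf_le_left.trans hP'M) C h1 (h2.trans hlt.le)
        (inf_le_right.trans h3)
    have hR1 : R ≠ ⊥ := fun h => hQ1 (le_bot_iff.mp (h ▸ hQR))
    have hs : SylIn p R (normalizer (Q : Set G)) := by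
      refine ⟨hRQ, hR, fun R' h1 h2 h3 => by_contra fun hne => hmax ?_⟩
      have h4 := H22.lt_inf_normalizer h2 (lt_of_le_of_ne h3 (Ne.symm hne))
      exact ⟨_, h4, h2.to_inf_left, inf_le_right.trans (hC R hR1 le_rfl le_rfl),
        inf_le_left.trans h1⟩
    exact (hloc Q (hR.to_le hQR) hQ1 R hs).trans (hC _ (centerThompsonOf_ne_bot he hR hR1)
      (centerThompsonOf_le e R) (normalizer_le_normalizer_centerThompson e R))

theorem centralizer_pCore_le_of_sylow (hO : pPrimeCore p G = ⊥) (P : Sylow p G)
    (h : (P : Subgroup G) ⊓ centralizer (pCore p G : Set G) ≤ pCore p G) :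
    centralizer (pCore p G : Set G) ≤ pCore p G := by
  have h1 : ¬ p ∣ (pCore p G).relIndex (centralizer (pCore p G : Set G)) := by
    intro hd
    apply not_dvd_relIndex_sylow_normal P (centralizer (pCore p G : Set G))
    rw [← inf_relIndex_right]
    exact hd.trans (relIndex_dvd_of_le_left _ h)
  have := le_sup_pPrimeCore_of_central (H2.pCore_isPGroup p G) le_rfl
    ((hp.out.coprime_iff_not_dvd.mpr h1).symm)
  rwa [hO, sup_bot_eq] at this

end H13

namespace H13

open Cfsg Subgroup
open H22 (cj SylIn)
open scoped commutatorElement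

universe u

variable {e p : ℕ} [hp : Fact p.Prime]

theorem glauberman_thompson_aux (hp2 : p ≠ 2) (he : e = 0 ∨ e = p) (n : ℕ) :
    ∀ (G : Type u) [Group G] [Finite G], Nat.card G = n → ∀ P : Sylow p G,
      HasNormalPComplement p (normalizer (centerThompsonOf e (P : Subgroup G) : Set G)) →
        HasNormalPComplement p G := by
  induction n using Nat.strong_induction_on with | _ n ih => ?_
  intro G _ _ hn P hN
  have sub : ∀ H R : Subgroup G, H ≠ ⊤ → SylIn p R H →
      HasNormalPComplement p (normalizer (centerThompsonOf e R : Set G)) →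
        HasNormalPComplement p H := by
    intro H R hH hR h
    refine ih _ (hn ▸ H2.card_lt_of_ne_top hH) H rfl hR.toSylow ?_
    rw [hR.coe_toSylow, normalizer_centerThompsonOf_subgroupOf hR.le]
    refine H3.HasNPC.of_injective h (H.subtype.subgroupComap _) fun x y hxy => ?_
    have h1 := congrArg Subtype.val hxy
    exact Subtype.ext (Subtype.ext h1)
  have hNtop : ∀ R : Subgroup G, SylIn p R ⊤ →
      HasNormalPComplement p (normalizer (centerThompsonOf e R : Set G)) := by
    intro R hR
    obtain ⟨g, -, hg⟩ := hR.exists_cj_eq (H22.sylIn_top P)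
    rw [← hg, centerThompsonOf_cj, ← H22.cj_normalizer]
    exact H3.HasNPC.map hN _
  by_cases hQ : pCore p G = ⊥
  · have key : ∀ R : Subgroup G, IsPGroup p R → ∀ X : Subgroup G, X ≠ ⊥ → X ≤ R →
        R ≤ normalizer (X : Set G) → HasNormalPComplement p (normalizer (X : Set G)) := by
      intro R
      induction R using WellFoundedGT.induction with | ind R ihR => ?_
      intro hR X hX1 hXR hRX
      by_cases hs : SylIn p R (normalizer (X : Set G))
      · have hne : normalizer (X : Set G) ≠ ⊤ := fun h => hX1 (le_bot_iff.mp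
          (hQ ▸ H2.le_pCore (normalizer_eq_top_iff.mp h) (hR.to_le hXR)))
        refine sub _ R hne hs ?_
        obtain ⟨P', hP', hRP'⟩ := H22.exists_sylIn (le_top : R ≤ ⊤) hR
        rcases hRP'.eq_or_lt with h | h
        · exact hNtop R (h ▸ hP')
        · have hlt := H22.lt_inf_normalizer hP'.isPGroup h
          exact ihR _ hlt hP'.isPGroup.to_inf_left _
            (centerThompsonOf_ne_bot he hR fun h => hX1 (le_bot_iff.mp (h ▸ hXR)))
            ((centerThompsonOf_le e R).trans hlt.le)
            (inf_le_right.trans (normalizer_le_normalizer_centerThompson e R))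
      · obtain ⟨R', hR', hRR'⟩ := H22.exists_sylIn hRX hR
        exact ihR R' (lt_of_le_of_ne hRR' fun h => hs (h ▸ hR')) hR'.isPGroup X hX1
          (hXR.trans hRR') hR'.le
    exact H3.hasNPC_of_local fun X hX hX1 => key X hX X hX1 le_rfl le_normalizer
  by_cases hO : pPrimeCore p G = ⊥
  swap
  · refine H3.hasNPC_of_quotient_coprime (pPrimeCore p G) (H2.pPrimeCore_coprime p G) ?_
    refine ih _ (hn ▸ H2.card_quotient_lt hO) _ rfl
      (P.mapSurjective (QuotientGroup.mk'_surjective (pPrimeCore p G))) ?_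
    rw [Sylow.coe_mapSurjective, normalizer_centerThompsonOf_map
      (QuotientGroup.mk'_surjective _) (coprime_card_ker_mk'_pPrimeCore p) P.isPGroup']
    exact H3.HasNPC.map hN _
  by_cases hW : normalizer (centerThompsonOf e (P : Subgroup G) : Set G) = ⊤
  · exact H3.hasNPC_of_eq_top hW hN
  set Q := pCore p G with hQdef
  have hQp : IsPGroup p Q := H2.pCore_isPGroup p G
  have hf := QuotientGroup.mk'_surjective Q
  set f := QuotientGroup.mk' Q with hfdef
  have hker : f.ker = Q := QuotientGroup.ker_mk' Q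
  have hQP : Q ≤ P := H2.pCore_le_sylow P
  have hcm : ((P : Subgroup G).map f).comap f = P := by
    rw [comap_map_eq, hker, sup_eq_left.mpr hQP]
  have hPbar : (P : Subgroup G).map f ≠ ⊥ := by
    intro h
    rw [Subgroup.map_eq_bot_iff, hker] at h
    apply hW
    rw [eq_top_iff, ← normalizer_eq_top Q, ← le_antisymm h hQP]
    exact normalizer_le_normalizer_centerThompson e _
  have hprop : ∀ H : Subgroup G, H ≠ ⊤ → (P : Subgroup G) ≤ H → HasNormalPComplement p H :=
    fun H hH hPH => sub H P hH (H22.sylIn_of_sylow_le P hPH) hN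
  have hbar : HasNormalPComplement p (G ⧸ Q) := by
    refine ih _ (hn ▸ H2.card_quotient_lt hQ) _ rfl (P.mapSurjective hf) ?_
    rw [Sylow.coe_mapSurjective]
    set W := centerThompsonOf e ((P : Subgroup G).map f) with hWdef
    have hWP : W ≤ (P : Subgroup G).map f := centerThompsonOf_le e _
    have h1 : (normalizer (W : Set (G ⧸ Q))).comap f ≠ ⊤ := by
      intro h
      rw [← comap_top f, comap_injective hf |>.eq_iff, normalizer_eq_top_iff] at h
      have := H2.le_pCore h ((P.isPGroup'.map f).to_le hWP)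
      rw [H2.pCore_quotient_pCore] at this
      exact centerThompsonOf_ne_bot he (P.isPGroup'.map f) hPbar (le_bot_iff.mp this)
    have h2 := H3.HasNPC.map (hprop _ h1 (map_le_iff_le_comap.mp
      (le_normalizer_centerThompsonOf_self e _))) f
    rwa [map_comap_eq_self_of_surjective hf] at h2
  have hKc := H3.hasNPC_iff_coprime.mp hbar
  set K := pResidual p (G ⧸ Q) with hK
  have hc : centralizer (Q : Set G) ≤ Q := centralizer_pCore_le_of_isPSolvable
    (isPSolvable_of_normal_of_quotient Q (isPSolvable_of_isPGroup hQp)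
      (isPSolvable_of_normal_of_quotient K (isPSolvable_of_coprime hKc)
        (isPSolvable_of_isPGroup (H3.isPGroup_quotient_pResidual p _)))) hO
  have hmax : ∀ H : Subgroup G, H ≠ ⊤ → (P : Subgroup G) ≤ H → IsPGroup p H := fun H hH hPH =>
    isPGroup_of_forall_coprime_eq_one hp.out fun g hg hgo =>
      eq_one_of_mem_isPGroup_of_coprime hQp (hc (H3.HasNPC.mem_centralizer_of_mem
        (hprop H hH hPH) hQp (hQP.trans hPH) hg (le_normalizer_of_normal (mem_top g)) hgo)) hgo
  by_cases hK1 : K = ⊥
  · refine H3.hasNPC_of_isPGroup (H2.pCore_eq_top_iff.mp ?_)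
    have := H2.pCore_eq_top_iff.mpr (H3.pResidual_eq_bot_iff.mp hK1)
    rw [H2.pCore_quotient_pCore] at this
    have h2 := congrArg (comap f) this
    rwa [comap_top, MonoidHom.comap_bot, hker] at h2
  obtain ⟨q, hq, hqK⟩ := Nat.exists_prime_and_dvd (mt card_eq_one.mp hK1)
  have : Fact q.Prime := ⟨hq⟩
  obtain ⟨T, hT⟩ := H12.exists_sylow_normalized_of_isPGroup (P.isPGroup'.map f) hKc
    le_normalizer_of_normal q
  set T' := (T : Subgroup K).map K.subtype with hT'
  have hT'p : IsPGroup q T' := T.isPGroup'.map _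
  have hT'1 : T' ≠ ⊥ := by
    intro h
    rw [hT', Subgroup.map_eq_bot_iff_of_injective _ K.subtype_injective] at h
    apply T.not_dvd_index
    rwa [h, index_bot]
  set Z := T' ⊓ centralizer (T' : Set (G ⧸ Q)) with hZ
  have hZ1 : Z ≠ ⊥ := by
    have := inf_centralizer_ne_bot hT'p hT'p le_normalizer hT'1
    rwa [sup_idem] at this
  have hPZ : (P : Subgroup G).map f ≤ normalizer (Z : Set (G ⧸ Q)) :=
    le_normalizer_inf hT (le_normalizer_centralizer hT)
  have hZK : Z ≤ K := inf_le_left.trans (map_subtype_le _)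
  have htop : (P : Subgroup G).map f ⊔ Z = ⊤ := by
    by_contra hne
    have h1 : ((P : Subgroup G).map f ⊔ Z).comap f ≠ ⊤ := by
      rwa [← comap_top f, Ne, comap_injective hf |>.eq_iff]
    have h2 := (hmax _ h1 (map_le_iff_le_comap.mp le_sup_left)).map f
    rw [map_comap_eq_self_of_surjective hf] at h2
    exact hZ1 (eq_bot_of_isPGroup_of_le_coprime (h2.to_le le_sup_right) hKc hZK)
  have hZab : IsMulCommutative Z := isMulCommutative_inf_centralizer T'
  have hZn : Z.Normal := by
    rw [← normalizer_eq_top_iff, eq_top_iff, ← htop]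
    exact sup_le hPZ le_normalizer
  have h2p : Nat.Coprime 2 p := (Nat.coprime_primes Nat.prime_two hp.out).mpr hp2.symm
  have hquot : IsPGroup p ((G ⧸ Q) ⧸ Z) := by
    have h1 := (P.isPGroup'.map f).map (QuotientGroup.mk' Z)
    have h2 : ((P : Subgroup G).map f).map (QuotientGroup.mk' Z) = ⊤ := by
      rw [← map_top_of_surjective _ (QuotientGroup.mk'_surjective Z), ← htop, Subgroup.map_sup,
        QuotientGroup.map_mk'_self, sup_bot_eq]
    rw [h2] at h1
    exact h1.of_equiv topEquiv
  have hab : ∀ U : Subgroup G, IsPGroup 2 U → IsMulCommutative U := by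
    intro U hU
    have hco : ∀ x ∈ U, (orderOf x).Coprime p := fun x hx => by
      obtain ⟨k, hk⟩ := isPGroup_iff_forall_mem.mp hU x hx
      exact Nat.Coprime.coprime_dvd_left (orderOf_dvd_of_pow_eq_one hk) (h2p.pow_left k)
    have hZU : ∀ x ∈ U, f x ∈ Z := fun x hx => (QuotientGroup.eq_one_iff _).mp
      (H3.eq_one_of_isPGroup_of_coprime hquot (g := QuotientGroup.mk' Z (f x))
        (Nat.Coprime.coprime_dvd_left ((orderOf_map_dvd _ _).trans (orderOf_map_dvd _ _))
          (hco x hx)))
    refine isMulCommutative_iff_forall_mem.mpr fun x hx y hy => ?_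
    rw [← commutatorElement_eq_one_iff_mul_comm]
    have hxy : ⁅x, y⁆ ∈ U := commutator_le_self U (commutator_mem_commutator hx hy)
    refine eq_one_of_mem_isPGroup_of_coprime hQp ?_ (hco _ hxy)
    rw [← hker, MonoidHom.mem_ker, map_commutatorElement, commutatorElement_eq_one_iff_mul_comm]
    exact isMulCommutative_iff_forall_mem.mp hZab _ (hZU x hx) _ (hZU y hy)
  exact absurd (normalizer_eq_top_iff.mpr (centerThompsonOf_normal hp2 he hc
    (fun V _ hV => H12.isPStableOn_of_isPGroup (fun h => h.not_abelian_two hp2 hab) V hV) P)) hW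

/-- The Glauberman–Thompson normal `p`-complement theorem. -/
theorem glauberman_thompson {G : Type*} [Group G] [Finite G] (hp2 : p ≠ 2) (he : e = 0 ∨ e = p)
    (P : Sylow p G)
    (h : HasNormalPComplement p (normalizer (centerThompsonOf e (P : Subgroup G) : Set G))) :
    HasNormalPComplement p G :=
  glauberman_thompson_aux hp2 he _ G rfl P h

end H13
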