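import Mathlib
import Cfsg.Prelude.Def_CaseTheorems
import Cfsg.Prelude.Def_OddOrderLocal
import Cfsg.Prelude.Def_PLocal
import Cfsg.Agent.H13.ZJ
import Cfsg.Agent.H13.Baer
import Cfsg.Agent.H3.PGroup
import Cfsg.Agent.H3.Frobenius
import Cfsg.Agent.H2.Quaternion

/-!
# `p`-groups of small rank, `p` odd
-/

set_option autoImplicit false

namespace H13

open Cfsg Subgroup
open scoped commutatorElement

universe u v

variable {G : Type*} [Group G] {p : ℕ}

theorem omegaOne_top (p : ℕ) (G : Type*) [Group G] :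
    omegaOne p (⊤ : Subgroup G) = closure {x : G | x ^ p = 1} := by
  simp [omegaOne]

theorem map_subtype_omegaOne_top (p : ℕ) (M : Subgroup G) :
    (omegaOne p (⊤ : Subgroup M)).map M.subtype = omegaOne p M := by
  rw [← omegaOne_map M.subtype_injective.injOn, ← MonoidHom.range_eq_map, range_subtype]

theorem card_omegaOne_top (p : ℕ) (M : Subgroup G) :
    Nat.card (omegaOne p (⊤ : Subgroup M)) = Nat.card (omegaOne p M) := by
  rw [← map_subtype_omegaOne_top p M, H2.card_map_subtype]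

theorem card_le_of_isCyclic_of_pow_eq_one {E : Subgroup G} (hE : IsCyclic E) {n : ℕ} (hn : 0 < n)
    (h : ∀ x ∈ E, x ^ n = 1) : Nat.card E ≤ n := by
  obtain ⟨g, rfl⟩ := (Subgroup.isCyclic_iff_exists_zpowers_eq_top E).mp hE
  rw [Nat.card_zpowers]
  exact Nat.le_of_dvd hn (orderOf_dvd_of_pow_eq_one (h g (mem_zpowers g)))

theorem isCyclic_of_le {H K : Subgroup G} (hK : IsCyclic K) (h : H ≤ K) : IsCyclic H :=
  isCyclic_of_surjective (f := (subgroupOfEquivOfLe h).toMonoidHom) (subgroupOfEquivOfLe h).surjective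

variable [Finite G] [hp : Fact p.Prime]

theorem isMulCommutative_of_card_le_sq (hG : IsPGroup p G) (h : Nat.card G ≤ p ^ 2) :
    IsMulCommutative G := by
  obtain ⟨n, hn⟩ := hG.exists_card_eq
  have h1 : n ≤ 2 := (Nat.pow_le_pow_iff_right hp.out.one_lt).mp (hn ▸ h)
  rcases h1.eq_or_lt with rfl | h2
  · exact IsPGroup.isMulCommutative_of_card_eq_prime_sq hn
  · have : IsCyclic G := isCyclic_of_card_dvd_prime (p := p)
      (by rw [hn]; exact (pow_dvd_pow p (Nat.lt_succ_iff.mp h2)).trans (pow_one p).dvd)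
    infer_instance

theorem commutator_le_of_index_le_sq (hG : IsPGroup p G) (N : Subgroup G) [N.Normal]
    (h : N.index ≤ p ^ 2) : commutator G ≤ N :=
  Normal.quotient_commutative_iff_commutator_le.mp
    (isMulCommutative_of_card_le_sq (hG.to_quotient N) h)

theorem omegaOne_of_cyclic_relIndex (hp2 : p ≠ 2) {M C : Subgroup G} (hM : IsPGroup p M)
    (hnc : ¬ IsCyclic M) (hCM : C ≤ M) (hC : IsCyclic C) (hi : C.relIndex M = p) :
    IsElementaryAbelian p (omegaOne p M) ∧ Nat.card (omegaOne p M) = p ^ 2 := by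
  obtain ⟨h1, h2⟩ := H3.omega_of_cyclic_index_prime hp2 hM hnc (C.subgroupOf M)
    (isCyclic_of_surjective (f := (subgroupOfEquivOfLe hCM).symm.toMonoidHom)
      (subgroupOfEquivOfLe hCM).symm.surjective) hi
  rw [← omegaOne_top] at h1 h2
  rw [← map_subtype_omegaOne_top, H2.card_map_subtype]
  exact ⟨isElementaryAbelian_map _ h1, h2⟩

/-- A non-cyclic normal subgroup of a `p`-group, `p` odd, contains a normal `E_{p²}`. -/
theorem exists_normal_elementary_sq_le (hp2 : p ≠ 2) (hG : IsPGroup p G) (S : Subgroup G)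
    [S.Normal] (hS : ¬ IsCyclic S) :
    ∃ A : Subgroup G, A ≤ S ∧ A.Normal ∧ IsElementaryAbelian p A ∧ Nat.card A = p ^ 2 := by
  obtain ⟨C, -, hC⟩ := Finite.exists_le_maximal
    (p := fun C : Subgroup G => C.Normal ∧ IsCyclic C ∧ C ≤ S) (a := ⊥)
    ⟨inferInstance, inferInstance, bot_le⟩
  obtain ⟨hCn, hCc, hCS⟩ := hC.prop
  obtain ⟨M, hMn, hCM, hMS, hM⟩ := H3.exists_normal_step hG hCS
    (fun h => hS (le_antisymm hCS h ▸ hCc))
  have hi : C.relIndex M = p := by
    have := H2.card_mul_relIndex hCM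
    rw [hM, mul_comm p] at this
    exact Nat.eq_of_mul_eq_mul_left Nat.card_pos this
  have hnc : ¬ IsCyclic M := fun h => by
    rw [relIndex_eq_one.mpr (hC.le_of_ge ⟨hMn, h, hMS⟩ hCM)] at hi
    exact hp.out.one_lt.ne hi
  obtain ⟨h1, h2⟩ := omegaOne_of_cyclic_relIndex hp2 (hG.to_subgroup M) hnc hCM hCc hi
  exact ⟨_, (omegaOne_le p M).trans hMS, omegaOne_normal p M, h1, h2⟩

theorem omegaOne_of_isMetacyclic (hp2 : p ≠ 2) (hG : IsPGroup p G) (hm : IsMetacyclic G)
    (hnc : ¬ IsCyclic G) : IsElementaryAbelian p (omegaOne p (⊤ : Subgroup G)) ∧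
      Nat.card (omegaOne p (⊤ : Subgroup G)) = p ^ 2 := by
  obtain ⟨N, hNn, hN, hQ⟩ := hm
  obtain ⟨E, -, hE, hEc⟩ := H3.exists_normal_elementary_sq hp2 hG hnc
  set W := omegaOne p (⊤ : Subgroup (G ⧸ N)) with hW
  set T := W.comap (QuotientGroup.mk' N) with hT
  have hNT : N ≤ T := fun x hx => by
    rw [hT, mem_comap, QuotientGroup.mk'_apply, (QuotientGroup.eq_one_iff x).mpr hx]
    exact one_mem _
  have hmem : ∀ x : G, x ^ p = 1 → x ∈ T := fun x hx =>
    mem_omegaOne (mem_top _) (by rw [← map_pow, hx, map_one])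
  have hTnc : ¬ IsCyclic T := fun h => by
    have := card_le_of_isCyclic_of_pow_eq_one (isCyclic_of_le h fun x hx => hmem x (hE.2 x hx))
      hp.out.pos hE.2
    rw [hEc, sq] at this
    exact hp.out.one_lt.not_ge (Nat.le_of_mul_le_mul_left (by rwa [mul_one]) hp.out.pos)
  have hi : N.relIndex T = p := by
    have h1 : N.relIndex T = Nat.card W := by
      have := H2.card_mul_relIndex hNT
      rw [hT, H2.card_comap_mk'] at this
      exact Nat.eq_of_mul_eq_mul_left Nat.card_pos this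
    have h2 : Nat.card W ≤ p := card_le_of_isCyclic_of_pow_eq_one inferInstance hp.out.pos
      fun x hx => pow_eq_one_of_mem_omegaOne_of_comm inferInstance hx
    obtain ⟨k, hk⟩ := ((hG.to_quotient N).to_subgroup W).exists_card_eq
    rw [h1, hk]
    have hk1 : k ≤ 1 := (Nat.pow_le_pow_iff_right hp.out.one_lt).mp (by rwa [← hk, pow_one])
    rcases hk1.eq_or_lt with rfl | h
    · exact pow_one p
    · exfalso
      rw [hk, Nat.lt_one_iff.mp h, pow_zero, relIndex_eq_one] at h1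
      exact hTnc (isCyclic_of_le hN h1)
  have h3 : omegaOne p (⊤ : Subgroup G) = omegaOne p T :=
    le_antisymm (closure_mono fun x hx => ⟨hmem x hx.2, hx.2⟩) (omegaOne_mono le_top)
  rw [h3]
  exact omegaOne_of_cyclic_relIndex hp2 (hG.to_subgroup T) hTnc hNT hN hi

/-- The `p`-th power map as a homomorphism. -/
def powHom (n : ℕ) (h : ∀ x y : G, (x * y) ^ n = x ^ n * y ^ n) : G →* G :=
  MonoidHom.mk' (fun x => x ^ n) h

omit [Finite G] hp in
theorem ker_powHom_le (h : ∀ x y : G, (x * y) ^ p = x ^ p * y ^ p) :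
    (powHom p h).ker ≤ omegaOne p ⊤ := fun _ hx => mem_omegaOne (mem_top _) hx

theorem cube_le_card_omegaOne (h3 : 3 < p) (hG : Nat.card G = p ^ 4) (T : Subgroup G)
    (hT : Nat.card T ≤ p) (hpow : ∀ x : G, x ^ p ∈ T) :
    p ^ 3 ≤ Nat.card (omegaOne p (⊤ : Subgroup G)) := by
  have hG' : IsPGroup p G := IsPGroup.of_card hG
  have hp1 := hp.out.one_lt
  have hnc : ¬ IsCyclic G := fun h => by
    obtain ⟨g, hg⟩ := IsCyclic.exists_ofOrder_eq_natCard (α := G)
    have h1 : orderOf (g ^ p) = p ^ 3 := by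
      rw [orderOf_pow' g hp.out.ne_zero, hg, hG, Nat.gcd_eq_right (dvd_pow_self p (by norm_num)),
        pow_succ, Nat.mul_div_cancel _ hp.out.pos]
    have h2 := (Nat.le_of_dvd Nat.card_pos (orderOf_dvd_natCard T (hpow g))).trans hT
    rw [h1] at h2
    exact (Nat.pow_lt_pow_right hp1 (show 1 < 3 by norm_num)).not_ge (by rwa [pow_one])
  obtain ⟨E, hEn, hE, hEc⟩ := H3.exists_normal_elementary_sq (by omega) hG' hnc
  have hi : E.index = p ^ 2 := by
    have := E.card_mul_index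
    rw [hEc, hG, show p ^ 4 = p ^ 2 * p ^ 2 by ring] at this
    exact Nat.eq_of_mul_eq_mul_left (pow_pos hp.out.pos 2) this
  have hder := commutator_le_of_index_le_sq hG' E hi.le
  have hhom : ∀ x y : G, (x * y) ^ p = x ^ p * y ^ p := fun x y =>
    H3.mul_pow_eq_of_class_three hp.out h3 (H3.class_three_of_card_le hG' hG.le)
      (fun c hc => hE.2 c (hder hc)) (mem_top x) (mem_top y)
  have h1 := (powHom p hhom).ker.card_mul_index
  rw [index_ker, hG] at h1
  have h2 : Nat.card (powHom p hhom).range ≤ p :=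
    (card_le_of_le (by rintro _ ⟨x, rfl⟩; exact hpow x)).trans hT
  refine le_trans ?_ (card_le_of_le (ker_powHom_le hhom))
  refine Nat.le_of_mul_le_mul_right ?_ hp.out.pos
  rw [← pow_succ, ← h1]
  exact Nat.mul_le_mul_left _ h2

theorem exists_exponent_card_eq_cube (h3 : 3 < p) (hG : IsPGroup p G)
    (h : p ^ 2 < Nat.card (omegaOne p (⊤ : Subgroup G))) :
    ∃ X : Subgroup G, (∀ x ∈ X, x ^ p = 1) ∧ Nat.card X = p ^ 3 := by
  obtain ⟨Y, hY, hYc⟩ : ∃ Y : Subgroup G, (∀ x ∈ Y, x ^ p = 1) ∧ p ^ 2 < Nat.card Y := by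
    by_cases hrk : ∀ E : Subgroup G, IsElementaryAbelian p E → Nat.card E ≤ p ^ 2
    · exact ⟨_, fun x hx => H3.omega_pow_eq_one_of_rank_le_two h3 hG hrk (omegaOne_top p G ▸ hx), h⟩
    · push Not at hrk
      obtain ⟨E, hE, hc⟩ := hrk
      exact ⟨E, hE.2, hc⟩
  obtain ⟨n, hn⟩ := (hG.to_subgroup Y).exists_card_eq
  obtain ⟨X, hX⟩ := Sylow.exists_subgroup_card_pow_prime (G := Y) p (n := 3) (by
    rw [hn]
    exact pow_dvd_pow p ((Nat.pow_lt_pow_iff_right hp.out.one_lt).mp (hn ▸ hYc)))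
  exact ⟨X.map Y.subtype, fun x hx => hY x (map_subtype_le X hx), by rwa [H2.card_map_subtype]⟩

theorem card_omegaOne_le_of_card_ker (h3 : 3 < p) (hG : IsPGroup p G)
    (hO : Nat.card (omegaOne p (⊤ : Subgroup G)) ≤ p ^ 2) {H : Type*} [Group H] {f : G →* H}
    (hf : Function.Surjective f) (hk : Nat.card f.ker = p) :
    Nat.card (omegaOne p (⊤ : Subgroup H)) ≤ p ^ 2 := by
  have : Finite H := Finite.of_surjective f hf
  by_contra hcon
  obtain ⟨X, hX, hXc⟩ := exists_exponent_card_eq_cube h3 (hG.of_surjective f hf) (not_le.mp hcon)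
  have h1 := cube_le_card_omegaOne h3 (G := X.comap f)
    (by rw [card_comap_of_surjective hf, hk, hXc]; ring) (f.ker.subgroupOf _)
    (by rw [H2.card_subgroupOf_of_le (ker_le_comap f X), hk])
    (fun x => by
      rw [mem_subgroupOf, MonoidHom.mem_ker, coe_pow, map_pow]
      exact hX _ x.2)
  rw [card_omegaOne_top] at h1
  exact (Nat.pow_lt_pow_right hp.out.one_lt (show 2 < 3 by norm_num)).not_ge
    (h1.trans ((card_le_of_le (omegaOne_mono le_top)).trans hO))

theorem card_omegaOne_le_of_surjective_aux (h3 : 3 < p) {H : Type v} [Group H] (n : ℕ) :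
    ∀ (G : Type u) [Group G] [Finite G], Nat.card G = n → IsPGroup p G →
      Nat.card (omegaOne p (⊤ : Subgroup G)) ≤ p ^ 2 → ∀ f : G →* H, Function.Surjective f →
        Nat.card (omegaOne p (⊤ : Subgroup H)) ≤ p ^ 2 := by
  induction n using Nat.strong_induction_on with | _ n ih => ?_
  intro G _ _ hn hG hO f hf
  by_cases hk : f.ker = ⊥
  · have hi := (MonoidHom.ker_eq_bot_iff f).mp hk
    rwa [← map_top_of_surjective f hf, omegaOne_map hi.injOn, card_map_of_injective hi]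
  obtain ⟨T, hTn, -, hT, hTc⟩ := H3.exists_normal_step hG (N := ⊥) (C := f.ker) bot_le
    (fun h => hk (le_bot_iff.mp h))
  rw [card_bot, mul_one] at hTc
  have hT1 : T ≠ ⊥ := fun h => by
    rw [h, card_bot] at hTc
    exact hp.out.one_lt.ne hTc
  refine ih _ (hn ▸ H2.card_quotient_lt hT1) (G ⧸ T) rfl (hG.to_quotient T)
    (card_omegaOne_le_of_card_ker h3 hG hO (QuotientGroup.mk'_surjective T)
      (by rwa [QuotientGroup.ker_mk'])) (QuotientGroup.lift T f hT) fun y => ?_
  obtain ⟨x, rfl⟩ := hf y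
  exact ⟨x, rfl⟩

theorem card_omegaOne_quotient_le (h3 : 3 < p) (hG : IsPGroup p G)
    (hO : Nat.card (omegaOne p (⊤ : Subgroup G)) ≤ p ^ 2) (T : Subgroup G) [T.Normal] :
    Nat.card (omegaOne p (⊤ : Subgroup (G ⧸ T))) ≤ p ^ 2 :=
  card_omegaOne_le_of_surjective_aux h3 _ G rfl hG hO _ (QuotientGroup.mk'_surjective T)

omit [Finite G] hp in
theorem isCyclic_quotient_of_sup_eq_top {N : Subgroup G} [N.Normal] {b : G}
    (h : zpowers b ⊔ N = ⊤) : IsCyclic (G ⧸ N) := by
  refine isCyclic_iff_exists_zpowers_eq_top.mpr ⟨QuotientGroup.mk' N b, ?_⟩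
  rw [← MonoidHom.map_zpowers, ← map_top_of_surjective _ (QuotientGroup.mk'_surjective N), ← h,
    Subgroup.map_sup, QuotientGroup.map_mk'_self, sup_bot_eq]

theorem isMetacyclic_of_powHom (hG : IsPGroup p G)
    (hhom : ∀ x y : G, (x * y) ^ p = x ^ p * y ^ p)
    (hO : Nat.card (omegaOne p (⊤ : Subgroup G)) ≤ p ^ 2) {z : G}
    (hz : commutator G = zpowers z) : IsMetacyclic G := by
  rcases subsingleton_or_nontrivial G with hs | hnt
  · exact ⟨⊥, inferInstance, inferInstance, inferInstance⟩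
  set U := (powHom p hhom).range with hU
  have hUn : U.Normal := ⟨by
    rintro _ ⟨x, rfl⟩ g
    exact ⟨g * x * g⁻¹, conj_pow⟩⟩
  have hUi : U.index ≤ p ^ 2 := by
    rw [hU, index_range]
    exact (card_le_of_le (ker_powHom_le hhom)).trans hO
  have hUF : U ≤ frattini G := by
    rintro _ ⟨x, rfl⟩
    exact H2.IsPGroup.pow_mem_frattini hG x
  obtain ⟨x, hx⟩ := commutator_le_of_index_le_sq hG U hUi (hz ▸ mem_zpowers z)
  obtain ⟨y, hy, hmax⟩ := Set.exists_max_image {y : G | z ∈ zpowers (y ^ p)} orderOf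
    (Set.toFinite _) ⟨x, hx ▸ mem_zpowers _⟩
  have hyU : y ∉ U := by
    rintro ⟨w, rfl⟩
    change z ∈ zpowers ((w ^ p) ^ p) at hy
    have h1 := hmax w (zpowers_le.mpr (pow_mem (mem_zpowers _) p) hy)
    change _ ≤ orderOf (w ^ p) at h1
    by_cases hw : w = 1
    · obtain ⟨g, hg⟩ := exists_ne (1 : G)
      rw [hw, one_pow, one_pow, zpowers_one_eq_bot, mem_bot] at hy
      have h2 := hmax g (show z ∈ zpowers (g ^ p) from hy ▸ one_mem _)
      change _ ≤ orderOf (w ^ p) at h2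
      rw [hw, one_pow, orderOf_one] at h2
      exact hg (orderOf_eq_one_iff.mp (le_antisymm h2 (orderOf_pos g)))
    · rw [orderOf_pow' w hp.out.ne_zero, Nat.gcd_eq_right (hG.dvd_orderOf hw)] at h1
      exact (Nat.div_lt_self (orderOf_pos w) hp.out.one_lt).not_ge h1
  have hyn : (zpowers y).Normal := Normal.of_commutator_le _
    (hz ▸ zpowers_le.mpr (zpowers_le.mpr (pow_mem (mem_zpowers y) p) hy))
  have hc := H2.card_sup_zpowers_of_pow_prime_mem hp.out (le_normalizer_of_normal (mem_top y)) hyU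
    ⟨y, rfl⟩
  have hi : (zpowers y ⊔ U).index ≤ p := by
    have h1 := (zpowers y ⊔ U).card_mul_index
    rw [hc, ← U.card_mul_index, mul_comm p, mul_assoc] at h1
    have h2 := Nat.eq_of_mul_eq_mul_left Nat.card_pos h1
    refine Nat.le_of_mul_le_mul_left ?_ hp.out.pos
    rwa [h2, ← sq]
  obtain ⟨b, hb⟩ : ∃ b : G, zpowers b ⊔ (zpowers y ⊔ U) = ⊤ := by
    by_cases ht : zpowers y ⊔ U = ⊤
    · exact ⟨1, by rw [ht, sup_top_eq]⟩
    obtain ⟨k, hk⟩ := hG.index (zpowers y ⊔ U)
    have hk1 : k ≤ 1 := (Nat.pow_le_pow_iff_right hp.out.one_lt).mp (by rwa [← hk, pow_one])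
    have hk0 : k ≠ 0 := fun h => ht (by rwa [h, pow_zero, index_eq_one] at hk)
    have hco := H2.isCoatom_of_index_prime (M := zpowers y ⊔ U)
      (by rw [hk, show k = 1 by omega, pow_one]; exact hp.out)
    obtain ⟨b, -, hb⟩ := SetLike.exists_of_lt hco.lt_top
    exact ⟨b, hco.2 _ (right_lt_sup.mpr fun h => hb (h (mem_zpowers b)))⟩
  rw [← sup_assoc] at hb
  exact ⟨zpowers y, hyn, inferInstance,
    isCyclic_quotient_of_sup_eq_top (H2.eq_top_of_sup_le_frattini hUF hb)⟩

omit [Finite G] in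
theorem dvd_sub_one_of_conj_eq_zpow (hG : IsPGroup p G) {a b : G} (ha : a ≠ 1) {i : ℤ}
    (h : b * a * b⁻¹ = a ^ i) : (p : ℤ) ∣ i - 1 := by
  obtain ⟨k, hk⟩ := hG b
  have h1 := H2.conj_pow_eq_zpow_pow h (p ^ k)
  rw [hk, one_mul, inv_one, mul_one] at h1
  nth_rewrite 1 [← zpow_one a] at h1
  rw [zpow_eq_zpow_iff_modEq] at h1
  have h2 : (1 : ℤ) ≡ i ^ p ^ k [ZMOD p] :=
    h1.of_dvd (Int.natCast_dvd_natCast.mpr (hG.dvd_orderOf ha))
  rw [← ZMod.intCast_eq_intCast_iff] at h2
  push_cast at h2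
  rw [ZMod.pow_card_pow] at h2
  rw [← ZMod.intCast_zmod_eq_zero_iff_dvd]
  push_cast
  rw [← h2, sub_self]

omit [Finite G] hp in
theorem commutator_le_of_generators {N : Subgroup G} [N.Normal] {s : Set G}
    (hs : closure s = ⊤) (h : ∀ x ∈ s, ∀ y ∈ s, ⁅x, y⁆ ∈ N) : commutator G ≤ N := by
  rw [← Normal.quotient_commutative_iff_commutator_le]
  have h1 : closure ((QuotientGroup.mk' N) '' s) = ⊤ := by
    rw [← MonoidHom.map_closure, hs, map_top_of_surjective _ (QuotientGroup.mk'_surjective N)]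
  have h2 : IsMulCommutative (closure ((QuotientGroup.mk' N) '' s)) := by
    refine isMulCommutative_closure ?_
    rintro _ ⟨x, hx, rfl⟩ _ ⟨y, hy, rfl⟩
    rw [← commutatorElement_eq_one_iff_mul_comm, ← map_commutatorElement]
    exact (QuotientGroup.eq_one_iff _).mpr (h x hx y hy)
  rw [h1] at h2
  exact ⟨⟨fun x y => isMulCommutative_iff_forall_mem.mp h2 x (mem_top x) y (mem_top y)⟩⟩

theorem isMetacyclic_aux (h3 : 3 < p) (n : ℕ) :
    ∀ (G : Type u) [Group G] [Finite G], Nat.card G = n → IsPGroup p G →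
      Nat.card (omegaOne p (⊤ : Subgroup G)) ≤ p ^ 2 → IsMetacyclic G := by
  induction n using Nat.strong_induction_on with | _ n ih => ?_
  intro G _ _ hn hG hO
  have hodd : Odd p := hp.out.odd_of_ne_two (by omega)
  by_cases hab : commutator G = ⊥
  · have : IsMulCommutative G := (commutator_eq_bot_iff G).mp hab
    exact isMetacyclic_of_powHom hG (fun x y => (show Commute x y from mul_comm' x y).mul_pow p) hO
      (z := 1) (by rw [hab, zpowers_one_eq_bot])
  obtain ⟨z, hzG, hz1, hzp, hzc⟩ := H3.exists_central_mod hG (N := ⊥) (C := commutator G)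
    (fun h => hab (le_bot_iff.mp h))
  rw [mem_bot] at hz1 hzp
  have hzc' : ∀ g : G, Commute z g := fun g =>
    commutatorElement_eq_one_iff_commute.mp (mem_bot.mp (hzc g))
  have hTn : (zpowers z).Normal := H2.normal_of_le_center
    (zpowers_le.mpr (mem_center_iff.mpr fun g => (hzc' g).symm))
  obtain ⟨N, hNn, hN, hQ⟩ := ih _ (hn ▸ H2.card_quotient_lt (zpowers_ne_bot.mpr hz1))
    (G ⧸ zpowers z) rfl (hG.to_quotient _) (card_omegaOne_quotient_le h3 hG hO _)
  set f := QuotientGroup.mk' (zpowers z) with hfdef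
  have hf : Function.Surjective f := QuotientGroup.mk'_surjective _
  obtain ⟨a', rfl⟩ := (Subgroup.isCyclic_iff_exists_zpowers_eq_top N).mp hN
  obtain ⟨a, rfl⟩ := hf a'
  obtain ⟨b', hb'⟩ := isCyclic_iff_exists_zpowers_eq_top.mp hQ
  obtain ⟨b', rfl⟩ := QuotientGroup.mk'_surjective _ b'
  obtain ⟨b, rfl⟩ := hf b'
  have hK : (zpowers (f a)).comap f = zpowers a ⊔ zpowers z := by
    rw [← MonoidHom.map_zpowers, comap_map_eq, QuotientGroup.ker_mk']
  have hKn : (zpowers a ⊔ zpowers z).Normal := hK ▸ hNn.comap f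
  have hgen : zpowers b ⊔ (zpowers a ⊔ zpowers z) = ⊤ := by
    have h0 := congrArg (comap (QuotientGroup.mk' (zpowers (f a)))) hb'
    rw [comap_top, ← MonoidHom.map_zpowers (QuotientGroup.mk' (zpowers (f a))), comap_map_eq,
      QuotientGroup.ker_mk'] at h0
    have h1 := congrArg (comap f) h0
    rwa [comap_top, ← MonoidHom.map_zpowers, ← MonoidHom.map_zpowers, ← Subgroup.map_sup,
      comap_map_eq, QuotientGroup.ker_mk', sup_assoc] at h1
  by_cases hKc : IsCyclic ↥(zpowers a ⊔ zpowers z)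
  · exact ⟨_, hKn, hKc, isCyclic_quotient_of_sup_eq_top hgen⟩
  have hza : z ∉ zpowers a := fun h => hKc (by
    rw [sup_eq_left.mpr (zpowers_le.mpr h)]; infer_instance)
  have hfa : f a ≠ 1 := fun h => hKc (by
    rw [sup_eq_right.mpr (zpowers_le.mpr ((QuotientGroup.eq_one_iff a).mp h))]; infer_instance)
  obtain ⟨i, hi⟩ := hNn.conj_mem _ (mem_zpowers (f a)) (f b)
  change f a ^ i = _ at hi
  obtain ⟨m, hm⟩ := dvd_sub_one_of_conj_eq_zpow (hG.to_quotient _) hfa hi.symm
  obtain ⟨j, hj⟩ : (a ^ i)⁻¹ * (b * a * b⁻¹) ∈ zpowers z := by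
    rw [← QuotientGroup.ker_mk' (zpowers z), MonoidHom.mem_ker, ← hfdef]
    simp only [map_mul, map_inv, map_zpow, ← hi, inv_mul_cancel]
  change z ^ j = _ at hj
  have hzp' : z ^ (p : ℤ) = 1 := by rw [zpow_natCast, hzp]
  have hza' : ∀ k l : ℤ, Commute (z ^ k) (a ^ l) := fun k l => (hzc' _).zpow_left k
  have e1 : b * a * b⁻¹ = a ^ i * z ^ j := by rw [hj, mul_inv_cancel_left]
  have e2 : ⁅b, a⁆ = a ^ (i - 1) * z ^ j := by
    rw [commutatorElement_def, e1, mul_assoc, ((hzc' a⁻¹).zpow_left j).eq, zpow_sub_one,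
      mul_assoc]
  have e3 : z ^ (j * (i - 1)) = 1 := by
    rw [hm, mul_left_comm, zpow_mul, hzp', one_zpow]
  have e4 : b * ⁅b, a⁆ * b⁻¹ = ⁅b, a⁆ ^ i := by
    have : b * ⁅b, a⁆ * b⁻¹ = (b * a * b⁻¹) ^ (i - 1) * z ^ j := by
      rw [e2, conj_zpow, mul_assoc b, mul_assoc (a ^ (i - 1)), ((hzc' b⁻¹).zpow_left j).eq]
      simp only [mul_assoc]
    rw [this, e1, e2, (hza' j i).symm.mul_zpow, (hza' j (i - 1)).symm.mul_zpow, ← zpow_mul,
      ← zpow_mul, ← zpow_mul, ← zpow_mul, e3, mul_one, mul_comm i, ← mul_one j,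
      show j * 1 * i = j * (i - 1) + j * 1 by ring, zpow_add z, e3, one_mul]
  have hgen' : closure {b, a, z} = ⊤ := by
    rw [← hgen, zpowers_eq_closure, zpowers_eq_closure, zpowers_eq_closure,
      ← Subgroup.closure_union, ← Subgroup.closure_union]
    rfl
  have hcn : (zpowers ⁅b, a⁆).Normal := by
    rw [← normalizer_eq_top_iff, eq_top_iff, ← hgen]
    refine sup_le (zpowers_le.mpr (mem_normalizer_of_finite ?_))
      (le_normalizer_of_le_centralizer (sup_le (zpowers_le.mpr ?_) (zpowers_le.mpr ?_)))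
    · rintro _ ⟨k, rfl⟩
      change b * ⁅b, a⁆ ^ k * b⁻¹ ∈ _
      rw [← conj_zpow, e4]
      exact zpow_mem (zpow_mem (mem_zpowers _) i) k
    · rintro _ ⟨k, rfl⟩
      refine (Commute.zpow_left ?_ k).eq
      rw [e2]
      exact ((Commute.refl a).zpow_left _).mul_left ((hzc' a).zpow_left j)
    · exact fun x _ => (hzc' x).symm.eq
  have hder : commutator G ≤ zpowers ⁅b, a⁆ := by
    refine commutator_le_of_generators hgen' ?_
    have hl : ∀ g : G, ⁅z, g⁆ ∈ zpowers ⁅b, a⁆ := fun g => by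
      rw [(hzc' g).commutator_eq]; exact one_mem _
    have hr : ∀ g : G, ⁅g, z⁆ ∈ zpowers ⁅b, a⁆ := fun g => by
      rw [(hzc' g).symm.commutator_eq]; exact one_mem _
    have hs : ∀ g : G, ⁅g, g⁆ ∈ zpowers ⁅b, a⁆ := fun g => by
      rw [commutatorElement_self]; exact one_mem _
    rintro x (rfl | rfl | rfl) y (rfl | rfl | rfl)
    · exact hs _
    · exact mem_zpowers _
    · exact hr _
    · exact inv_mem_iff.mp (by rw [commutatorElement_inv]; exact mem_zpowers _)
    · exact hs _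
    · exact hr _
    · exact hl _
    · exact hl _
    · exact hl _
  obtain ⟨k, hk⟩ := hder hzG
  change ⁅b, a⁆ ^ k = z at hk
  rw [e2, (hza' j (i - 1)).symm.mul_zpow, ← zpow_mul, ← zpow_mul] at hk
  have e5 : a ^ ((i - 1) * k) = z ^ (1 - j * k) := by
    rw [zpow_sub, zpow_one, eq_mul_inv_iff_mul_eq, hk]
  have hd : (p : ℤ) ∣ 1 - j * k := by
    by_contra hnd
    exact hza (H2.mem_of_zpow_mem_of_pow_prime_mem hp.out (hzp ▸ one_mem _)
      (e5 ▸ zpow_mem (mem_zpowers a) _) hnd)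
  have hk' : ¬ (p : ℤ) ∣ k := fun h => by
    have := dvd_add hd (dvd_mul_of_dvd_right h j)
    rw [sub_add_cancel] at this
    exact hp.out.one_lt.ne' (by exact_mod_cast Int.eq_one_of_dvd_one (by positivity) this)
  have e6 : a ^ (i - 1) = 1 := by
    obtain ⟨l, hl⟩ := hd
    rw [hl, zpow_mul z, hzp', one_zpow, zpow_mul] at e5
    have := H2.IsPGroup.mem_zpowers_zpow hG (a ^ (i - 1)) hk'
    rwa [e5, zpowers_one_eq_bot, mem_bot] at this
  have hz : commutator G = zpowers z := by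
    refine le_antisymm (hder.trans (zpowers_le.mpr ?_)) (zpowers_le.mpr hzG)
    rw [e2, e6, one_mul]
    exact zpow_mem (mem_zpowers z) j
  refine isMetacyclic_of_powHom hG (fun x y => ?_) hO hz
  obtain ⟨l, hl⟩ : ⁅y, x⁆ ∈ zpowers z := hz ▸ commutator_mem_commutator (mem_top y) (mem_top x)
  change z ^ l = _ at hl
  refine mul_pow_of_odd (hl ▸ (hzc' x).zpow_left l) (hl ▸ (hzc' y).zpow_left l) hodd ?_
  rw [← hl, ← zpow_natCast, ← zpow_mul, mul_comm, zpow_mul, hzp', one_zpow]

/-- Huppert's criterion. -/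
theorem isMetacyclic_of_card_omegaOne_le (h3 : 3 < p) (hG : IsPGroup p G)
    (hO : Nat.card (omegaOne p (⊤ : Subgroup G)) ≤ p ^ 2) : IsMetacyclic G :=
  isMetacyclic_aux h3 _ G rfl hG hO

/-- A `q`-element acting non-trivially on a `p`-group of rank at most two. -/
theorem dvd_sq_sub_one_of_rank_le_two (hp2 : p ≠ 2) {q k : ℕ} (hq : q.Prime) (hqp : q ≠ p)
    {g : G} (hg : g ^ q ^ k = 1) (U : Subgroup G) : IsPGroup p U →
      (∀ E : Subgroup G, E ≤ U → IsElementaryAbelian p E → Nat.card E ≤ p ^ 2) →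
      g ∈ normalizer (U : Set G) → g ∉ centralizer (U : Set G) → q ∣ p ^ 2 - 1 := by
  induction U using WellFoundedLT.induction with | ind U ih => ?_
  intro hU hrk hgU hgc
  have hqp' : q.Coprime p := (Nat.coprime_primes hq hp.out).mpr hqp
  have hQ : (Nat.card (zpowers g)).Coprime p := card_zpowers_coprime
    (Nat.Coprime.coprime_dvd_left (orderOf_dvd_of_pow_eq_one hg) (hqp'.pow_left k))
  have hQU : zpowers g ≤ normalizer (U : Set G) := zpowers_le.mpr hgU
  by_contra hcon
  have hmin : ∀ V : Subgroup G, V < U → zpowers g ≤ normalizer (V : Set G) →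
      zpowers g ≤ centralizer (V : Set G) := fun V hV h => zpowers_le.mpr (by_contra fun h' =>
    hcon (ih V hV (hU.to_le hV.le) (fun E h1 => hrk E (h1.trans hV.le)) (h (mem_zpowers g)) h'))
  have hle : ⁅U, zpowers g⁆ ≤ U := le_normalizer_iff_commutator_le_left.mp hQU
  have h1 : ⁅U, zpowers g⁆ = U := by
    refine hle.eq_or_lt.resolve_right fun h => hgc ?_
    exact le_centralizer_of_commutator_commutator_eq_bot (hU.to_le hle) hQ (by
      rw [commutator_comm, commutator_eq_bot_iff_le_centralizer]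
      exact hmin _ h (le_normalizer_commutator hQU le_normalizer)) (mem_zpowers g)
  have hU1 : U ≠ ⊥ := fun h => hgc fun x hx => by
    rw [h] at hx
    rw [mem_bot.mp hx, one_mul, mul_one]
  have hlt : ⁅U, U⁆ < U := commutator_lt_of_isPGroup hU hU le_normalizer hU1
  have h2 := hmin _ hlt (le_normalizer_commutator hQU hQU)
  have h3 := commutator_commutator_derived_eq_bot (A := zpowers g) (B := U)
    (by rwa [commutator_comm, commutator_eq_bot_iff_le_centralizer])
  rw [h1, commutator_comm] at h3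
  have h4 : omegaOne p U = U := by
    refine (omegaOne_le p U).eq_or_lt.resolve_right fun h => hgc ?_
    have h5 := le_centralizer_iff.mp
      (hmin _ h (hQU.trans (normalizer_le_normalizer_omegaOne p U)))
    exact bender_lemma hp2 (E := ⊥) IsPGroup.of_bot hQ bot_le U hU bot_le hQU
      (fun x hx _ hxp => h5 (mem_omegaOne hx hxp)) (mem_zpowers g)
  have hexp : ∀ x ∈ U, x ^ p = 1 := fun x hx =>
    pow_eq_one_of_mem_omegaOne (Or.inr (hp.out.odd_of_ne_two hp2)) h3 (h4.symm ▸ hx)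
  set C := U ⊓ centralizer {g} with hC
  have hCU : C < U := lt_of_le_of_ne inf_le_left fun h => hgc fun x hx =>
    mem_centralizer_singleton_iff.mp (h.ge hx).2
  obtain ⟨a, ha⟩ := hU.exists_card_eq
  obtain ⟨c, hc⟩ := (hU.to_le hCU.le).exists_card_eq
  have hca : c < a := (Nat.pow_lt_pow_iff_right hp.out.one_lt).mp
    (ha ▸ hc ▸ H2.card_lt_of_lt hCU)
  have hac : a ≤ c + 2 := by
    by_cases hab : ⁅U, U⁆ = ⊥
    · have := hrk U le_rfl ⟨isMulCommutative_iff_commutator_eq_bot.mpr hab, hexp⟩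
      rw [ha, Nat.pow_le_pow_iff_right hp.out.one_lt] at this
      omega
    · have h5 := H3.card_le_cube_of_exponent_of_rank (G := U) (p := p)
        (fun x => Subtype.ext (hexp x x.2)) fun E hE => by
          rw [← H2.card_map_subtype]
          exact hrk _ (map_subtype_le E) (isElementaryAbelian_map _ hE)
      rw [ha, Nat.pow_le_pow_iff_right hp.out.one_lt] at h5
      have h6 : c ≠ 0 := fun h => hab (le_bot_iff.mp (by
        rw [h, pow_zero, card_eq_one] at hc
        rw [← hc]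
        exact le_inf hlt.le fun x hx => mem_centralizer_singleton_iff.mpr
          (h2 (mem_zpowers g) x hx)))
      omega
  have h7 := H3.card_modEq_card_inf_centralizer hq hgU hg
  rw [← hC, ha, hc] at h7
  obtain ⟨d, rfl⟩ := Nat.exists_eq_add_of_lt hca
  have h8 : p ^ (d + 1) ≡ 1 [MOD q] := by
    refine Nat.ModEq.cancel_left_of_coprime (c := p ^ c) (hqp'.pow_right c) ?_
    rwa [← pow_add, mul_one, ← add_assoc]
  have h9 : p ^ 2 ≡ 1 [MOD q] := by
    rcases (show d = 0 ∨ d = 1 by omega) with rfl | rfl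
    · simpa using h8.pow 2
    · exact h8
  exact hcon ((Nat.modEq_iff_dvd' (Nat.one_le_pow _ _ hp.out.pos)).mp h9.symm)

omit [Finite G] in
theorem lt_of_dvd_sq_sub_one (hp2 : p ≠ 2) {q : ℕ} (hq : q.Prime) (h : q ∣ p ^ 2 - 1) :
    q < p := by
  obtain ⟨k, hk⟩ := hp.out.odd_of_ne_two hp2
  have h1 := hp.out.one_lt
  have e : p ^ 2 - 1 = 2 * (2 * (k * (k + 1))) := by
    rw [hk]
    have : (2 * k + 1) ^ 2 = 2 * (2 * (k * (k + 1))) + 1 := by ring
    omega
  rw [e] at h
  have h2 : q ∣ 2 → q < p := fun h => by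
    have := Nat.le_of_dvd two_pos h
    omega
  rcases (Nat.Prime.dvd_mul hq).mp h with h | h
  · exact h2 h
  rcases (Nat.Prime.dvd_mul hq).mp h with h | h
  · exact h2 h
  rcases (Nat.Prime.dvd_mul hq).mp h with h | h
  · have := Nat.le_of_dvd (by omega) h
    omega
  · have := Nat.le_of_dvd (by omega) h
    omega

theorem dvd_sq_sub_one_of_dvd_card_mulAut (hp2 : p ≠ 2) (hG : IsPGroup p G) (hrk : PRankLE p 2 G)
    {q : ℕ} (hq : q.Prime) (hqp : q ≠ p) (h : q ∣ Nat.card (MulAut G)) : q ∣ p ^ 2 - 1 := by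
  have : Fact q.Prime := ⟨hq⟩
  obtain ⟨α, hα⟩ := exists_prime_orderOf_dvd_card' q h
  let S := G ⋊[MonoidHom.id (MulAut G)] MulAut G
  have : Finite S := Finite.of_equiv _ SemidirectProduct.equivProd.symm
  have hi : Function.Injective (SemidirectProduct.inl : G →* S) := SemidirectProduct.inl_injective
  refine dvd_sq_sub_one_of_rank_le_two hp2 (k := 1) hq hqp (g := (SemidirectProduct.inr α : S))
    (by rw [pow_one, ← map_pow, ← hα, pow_orderOf_eq_one, map_one])
    (SemidirectProduct.inl : G →* S).range (hG.of_equiv (MonoidHom.ofInjective hi)) ?_ ?_ ?_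
  · intro E hE hE'
    rw [← map_comap_eq_self hE] at hE' ⊢
    rw [card_map_of_injective hi]
    have := isElementaryAbelian_of_map hi.injOn hE'
    exact hrk _ this.1 this.2
  · rw [SemidirectProduct.range_inl_eq_ker_rightHom]
    exact le_normalizer_of_normal (mem_top _)
  · intro hc
    have : α = 1 := by
      ext x
      apply hi
      have h1 := hc _ ⟨x, rfl⟩
      have h2 := SemidirectProduct.inl_aut (φ := MonoidHom.id (MulAut G)) α x
      rw [MonoidHom.id_apply, map_inv, ← h1, mul_inv_cancel_right] at h2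
      exact h2
    rw [this, orderOf_one] at hα
    exact hq.one_lt.ne hα

end H13
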