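import Mathlib
import Cfsg.Prelude.Def_CaseTheorems
import Cfsg.Agent.H13.Rank2Groups
import Cfsg.Agent.H3.MaxClass

/-!
# `p`-groups with a cyclic maximal subgroup; `p`-groups with cyclic normal abelian subgroups
-/

set_option autoImplicit false

namespace H13

open Cfsg Subgroup
open scoped commutatorElement

variable {G : Type*} [Group G] {p : ℕ}

theorem orderOf_eq_of_index_zpowers [Finite G] (hp : p.Prime) {n : ℕ} (hn : 1 ≤ n)
    (hG : Nat.card G = p ^ n) {a : G} (ha : (zpowers a).index = p) : orderOf a = p ^ (n - 1) := by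
  have h := (zpowers a).card_mul_index
  obtain ⟨k, rfl⟩ := Nat.exists_eq_add_of_le' hn
  rw [ha, hG, Nat.card_zpowers, pow_succ] at h
  exact Nat.eq_of_mul_eq_mul_right hp.pos h

/-- a group generated by two commuting elements is commutative -/
theorem comm_of_zpowers_sup_eq_top {a b : G} (h : zpowers b ⊔ zpowers a = ⊤) (hab : Commute b a)
    (x y : G) : x * y = y * x := by
  have h1 : IsMulCommutative ↥(zpowers b ⊔ zpowers a) :=
    H3.isMulCommutative_zpowers_sup inferInstance (by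
      rintro _ ⟨k, rfl⟩
      exact (hab.zpow_right k).symm.eq)
  rw [h] at h1
  exact (H3.comm_of_isMulCommutative h1 (mem_top x) (mem_top y)).eq

theorem cyclic_index_p_odd [Finite G] [hp : Fact p.Prime] (hp2 : p ≠ 2) (n : ℕ) (hn : 3 ≤ n)
    (hG : Nat.card G = p ^ n) (C : Subgroup G) (hC : IsCyclic C) (hCi : C.index = p)
    (hna : ∃ x y : G, x * y ≠ y * x) :
    ∃ a b : G, orderOf a = p ^ (n - 1) ∧ orderOf b = p ∧ b ∉ Subgroup.zpowers a ∧
      b * a * b⁻¹ = a ^ (1 + p ^ (n - 2)) := by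
  have hP : IsPGroup p G := IsPGroup.of_card hG
  obtain ⟨x, y, hxy⟩ := hna
  have hnc : ¬ IsCyclic G := fun h => hxy (h.isMulCommutative.is_comm.comm x y)
  obtain ⟨A, hAn, hA, hA2⟩ := H3.exists_normal_elementary_sq hp2 hP hnc
  obtain ⟨a, rfl⟩ := (Subgroup.isCyclic_iff_exists_zpowers_eq_top C).mp hC
  have hCn : (zpowers a).Normal := H3.normal_of_index_le_prime hP hCi.le
  have hoa := orderOf_eq_of_index_zpowers hp.out (by omega) hG hCi
  have hAC : ¬ A ≤ zpowers a := by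
    intro h
    have h1 := card_le_of_isCyclic_of_pow_eq_one (isCyclic_of_le hC h) hp.out.pos hA.2
    have := hp.out.one_lt
    rw [hA2] at h1
    nlinarith
  obtain ⟨b, hbA, hba⟩ := SetLike.not_le_iff_exists.mp hAC
  have hco : IsCoatom (zpowers a) := H2.isCoatom_of_index_prime (hCi.symm ▸ hp.out)
  have htop : zpowers b ⊔ zpowers a = ⊤ :=
    hco.2 _ (right_lt_sup.2 fun h => hba (h (mem_zpowers b)))
  set c := ⁅b, a⁆ with hc
  have hcA : c ∈ A := H3.commutator_mem_of_normal_left hbA a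
  have hcC : c ∈ zpowers a := H3.commutator_mem_of_normal_right (mem_zpowers a) b
  have hc1 : c ≠ 1 := fun h =>
    hxy (comm_of_zpowers_sup_eq_top htop (commutatorElement_eq_one_iff_commute.mp h) x y)
  obtain ⟨m, rfl⟩ := Nat.exists_eq_add_of_le' hn
  simp only [show m + 3 - 1 = m + 2 by omega, show m + 3 - 2 = m + 1 by omega] at *
  have hz : a ^ p ^ (m + 1) ∈ zpowers c :=
    H3.mem_of_pow_eq_one_of_isCyclic (hP.to_subgroup _) hC (zpowers_le.2 hcC)
      (by rwa [Ne, zpowers_eq_bot]) (pow_mem (mem_zpowers a) _)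
      (by rw [← pow_mul, ← pow_succ, ← hoa, pow_orderOf_eq_one])
  have hz1 : a ^ p ^ (m + 1) ≠ 1 := by
    intro h
    have := Nat.le_of_dvd (pow_pos hp.out.pos _) (orderOf_dvd_of_pow_eq_one h)
    rw [hoa] at this
    have := (Nat.pow_le_pow_iff_right hp.out.one_lt).1 this
    omega
  obtain ⟨k, hk⟩ := (mem_powers_iff_mem_zpowers).2 hz
  have hk : c ^ k = a ^ p ^ (m + 1) := hk
  have hbc : Commute b c := H3.comm_of_isMulCommutative hA.1 hbA hcA
  have hcomm : ⁅b ^ k, a⁆ = a ^ p ^ (m + 1) := by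
    rw [commutator_pow_left hbc.symm, hk]
  have hconj : b ^ k * a * (b ^ k)⁻¹ = a ^ (1 + p ^ (m + 1)) := by
    rw [add_comm 1, pow_succ, ← hcomm, commutatorElement_def]; group
  refine ⟨a, b ^ k, hoa, orderOf_eq_prime (hA.2 _ (pow_mem hbA k)) fun h => hz1 ?_,
    fun h => hz1 ?_, hconj⟩
  · rw [← hcomm, h, commutatorElement_one_left]
  · rw [← hcomm, commutatorElement_eq_one_iff_commute]
    exact H3.comm_of_isMulCommutative (A := zpowers a) inferInstance h (mem_zpowers a)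

/-- square roots of `1` modulo `2 ^ m` -/
theorem sq_modEq_one_two_pow {m : ℕ} {r : ℤ} (h : r ^ 2 ≡ 1 [ZMOD (2 ^ m : ℕ)])
    (h1 : ¬ r ≡ 1 [ZMOD (2 ^ m : ℕ)]) :
    2 ≤ m ∧ (r ≡ -1 [ZMOD (2 ^ m : ℕ)] ∨ (3 ≤ m ∧ r ≡ 1 + 2 ^ (m - 1) [ZMOD (2 ^ m : ℕ)]) ∨
      (3 ≤ m ∧ r ≡ 2 ^ (m - 1) - 1 [ZMOD (2 ^ m : ℕ)])) := by
  push_cast at *
  have hm0 : m ≠ 0 := by
    rintro rfl
    exact h1 (by simp [Int.modEq_one])
  have h2 : r ≡ 1 [ZMOD 2] := (Int.ModEq.pow_prime_eq_self Nat.prime_two r).symm.trans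
    (h.of_dvd (dvd_pow_self 2 hm0))
  have hm1 : m ≠ 1 := by
    rintro rfl
    exact h1 (by simpa using h2)
  obtain ⟨j, rfl⟩ : ∃ j, m = j + 2 := ⟨m - 2, by omega⟩
  refine ⟨by omega, ?_⟩
  obtain ⟨k, hk⟩ := h2.symm.dvd
  have hr : r = 2 * k + 1 := by linarith
  have h3 : (2 : ℤ) ^ j ∣ k * (k + 1) := by
    have := h.symm.dvd
    rw [hr, show (2 * k + 1) ^ 2 - 1 = k * (k + 1) * 2 ^ 2 by ring, pow_add] at this
    exact Int.dvd_of_mul_dvd_mul_right (by norm_num) this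
  simp only [show j + 2 - 1 = j + 1 by omega]
  rcases Int.even_or_odd k with hk2 | hk2
  · have h4 : (2 : ℤ) ^ j ∣ k :=
      (IsCoprime.pow_left (Int.isCoprime_two_left.mpr hk2.add_one)).dvd_of_dvd_mul_right h3
    obtain ⟨t, rfl⟩ := h4
    rcases Int.even_or_odd' t with ⟨u, rfl | rfl⟩
    · exact (h1 (Int.ModEq.symm (Int.modEq_iff_dvd.mpr ⟨u, by rw [hr]; ring⟩))).elim
    · rcases Nat.eq_zero_or_pos j with rfl | hj
      · exact Or.inl (Int.ModEq.symm (Int.modEq_iff_dvd.mpr ⟨u + 1, by rw [hr]; ring⟩))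
      · exact Or.inr (Or.inl ⟨by omega,
          Int.ModEq.symm (Int.modEq_iff_dvd.mpr ⟨u, by rw [hr]; ring⟩)⟩)
  · have h4 : (2 : ℤ) ^ j ∣ k + 1 :=
      (IsCoprime.pow_left (Int.isCoprime_two_left.mpr hk2)).dvd_of_dvd_mul_left h3
    obtain ⟨t, ht⟩ := h4
    have hk' : k = 2 ^ j * t - 1 := by linarith
    rcases Int.even_or_odd' t with ⟨u, rfl | rfl⟩
    · exact Or.inl (Int.ModEq.symm (Int.modEq_iff_dvd.mpr ⟨u, by rw [hr, hk']; ring⟩))
    · rcases Nat.eq_zero_or_pos j with rfl | hj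
      · exact (h1 (Int.ModEq.symm (Int.modEq_iff_dvd.mpr ⟨u, by rw [hr, hk']; ring⟩))).elim
      · exact Or.inr (Or.inr ⟨by omega,
          Int.ModEq.symm (Int.modEq_iff_dvd.mpr ⟨u, by rw [hr, hk']; ring⟩)⟩)

/-- The four ways an element `b` with `b ^ 2 ∈ ⟨a⟩` can act nontrivially on a cyclic `2`-group
`⟨a⟩`. -/
theorem cyclic_two_action {a b : G} {m : ℕ} (ha : orderOf a = 2 ^ m) (hb2 : b ^ 2 ∈ zpowers a)
    (hn : b * a * b⁻¹ ∈ zpowers a) (hne : b * a * b⁻¹ ≠ a) :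
    2 ≤ m ∧ ∃ c ∈ zpowers a,
      (((c * b) ^ 2 = 1 ∧ (c * b) * a * (c * b)⁻¹ = a⁻¹) ∨
      ((c * b) ^ 2 = a ^ (2 ^ (m - 1)) ∧ (c * b) * a * (c * b)⁻¹ = a⁻¹) ∨
      (3 ≤ m ∧ (c * b) ^ 2 = 1 ∧ (c * b) * a * (c * b)⁻¹ = a ^ (1 + 2 ^ (m - 1))) ∨
      (3 ≤ m ∧ (c * b) ^ 2 = 1 ∧ (c * b) * a * (c * b)⁻¹ = a ^ (2 ^ (m - 1) - 1))) := by
  obtain ⟨r, hr⟩ := hn
  have hr : b * a * b⁻¹ = a ^ r := hr.symm
  obtain ⟨s, hs⟩ := hb2
  have hs : a ^ s = b ^ 2 := hs
  have h1 : a ^ (r ^ 2) = a ^ (1 : ℤ) := by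
    rw [← H2.conj_pow_eq_zpow_pow hr, ← hs]; group
  have key : ∀ x y : ℤ, a ^ x = a ^ y ↔ x ≡ y [ZMOD (2 ^ m : ℕ)] := fun x y => by
    rw [zpow_eq_zpow_iff_modEq, ha]
  have hrs : r * s ≡ s [ZMOD (2 ^ m : ℕ)] := by
    have : b * a ^ s * b⁻¹ = a ^ s := by rw [hs]; group
    rwa [← conj_zpow, hr, ← zpow_mul, key] at this
  have hconj : ∀ i : ℤ, (a ^ i * b) * a * (a ^ i * b)⁻¹ = a ^ r := fun i => by
    calc (a ^ i * b) * a * (a ^ i * b)⁻¹ = a ^ i * (b * a * b⁻¹) * (a ^ i)⁻¹ := by group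
      _ = a ^ r := by rw [hr]; group
  have hsq : ∀ i : ℤ, (a ^ i * b) ^ 2 = a ^ (i * (1 + r) + s) := fun i => by
    have : b * a ^ i * b⁻¹ = a ^ (r * i) := by rw [← conj_zpow, hr, zpow_mul]
    calc (a ^ i * b) ^ 2 = a ^ i * (b * a ^ i * b⁻¹) * b ^ 2 := by rw [sq, sq]; group
      _ = a ^ (i * (1 + r) + s) := by rw [this, ← hs]; group
  obtain ⟨hm, hcases⟩ := sq_modEq_one_two_pow ((key _ _).1 h1)
    (fun h => hne (by rw [hr, (key _ _).2 h, zpow_one]))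
  refine ⟨hm, ?_⟩
  obtain ⟨j, rfl⟩ : ∃ j, m = j + 2 := ⟨m - 2, by omega⟩
  simp only [show j + 2 - 1 = j + 1 by omega] at *
  have hpow : a ^ (2 ^ (j + 1)) = a ^ ((2 : ℤ) ^ (j + 1)) := by
    rw [← zpow_natCast]; push_cast; rfl
  push_cast at key hrs hcases
  rcases hcases with h | ⟨h3, h⟩ | ⟨h3, h⟩
  · have h4 : (2 : ℤ) ^ (j + 1) ∣ s := by
      have h5 := ((h.mul_right s).symm.trans hrs).dvd
      rw [show s - -1 * s = s * 2 by ring, pow_succ] at h5
      exact Int.dvd_of_mul_dvd_mul_right (by norm_num) h5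
    obtain ⟨t, rfl⟩ := h4
    have h6 : b * a * b⁻¹ = a⁻¹ := by rw [hr, (key _ _).2 h, zpow_neg_one]
    refine ⟨1, one_mem _, ?_⟩
    rw [one_mul]
    rcases Int.even_or_odd' t with ⟨u, rfl | rfl⟩
    · refine Or.inl ⟨?_, h6⟩
      rw [← hs, ← zpow_zero a, key]
      exact Int.ModEq.symm (Int.modEq_iff_dvd.mpr ⟨u, by ring⟩)
    · refine Or.inr (Or.inl ⟨?_, h6⟩)
      rw [← hs, hpow, key]
      exact Int.ModEq.symm (Int.modEq_iff_dvd.mpr ⟨u, by ring⟩)
  · obtain ⟨l, rfl⟩ : ∃ l, j = l + 1 := ⟨j - 1, by omega⟩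
    have h4 : (2 : ℤ) ∣ s := by
      have h5 := ((h.mul_right s).symm.trans hrs).symm.dvd
      rw [show (1 + 2 ^ (l + 1 + 1)) * s - s = 2 ^ (l + 1 + 1) * s by ring, pow_succ] at h5
      exact Int.dvd_of_mul_dvd_mul_left (by positivity) h5
    obtain ⟨t, rfl⟩ := h4
    refine ⟨a ^ (-t * (1 + 2 ^ (l + 1))), zpow_mem (mem_zpowers a) _,
      Or.inr (Or.inr (Or.inl ⟨by omega, ?_, ?_⟩))⟩
    · rw [hsq, ← zpow_zero a, key]
      refine (((h.add_left 1).mul_left _).add_right _).trans ?_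
      exact Int.modEq_iff_dvd.mpr ⟨t * (1 + 2 ^ l), by ring⟩
    · rw [hconj, (key _ _).2 h, ← zpow_natCast]; push_cast; rfl
  · obtain ⟨l, rfl⟩ : ∃ l, j = l + 1 := ⟨j - 1, by omega⟩
    have h4 : (2 : ℤ) ^ (l + 1 + 1) ∣ s := by
      have h5 := ((h.mul_right s).symm.trans hrs).symm.dvd
      rw [show (2 ^ (l + 1 + 1) - 1) * s - s = (2 ^ (l + 1) - 1) * s * 2 by ring, pow_succ] at h5
      have h6 := Int.dvd_of_mul_dvd_mul_right (by norm_num) h5
      refine (IsCoprime.pow_left (Int.isCoprime_two_left.mpr ?_)).dvd_of_dvd_mul_left h6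
      exact ⟨2 ^ l - 1, by ring⟩
    obtain ⟨t, rfl⟩ := h4
    have h7 : a ^ r = a ^ (2 ^ (l + 1 + 1) - 1) := by
      rw [(key _ _).2 h, ← zpow_natCast, Nat.cast_sub Nat.one_le_two_pow]; push_cast; rfl
    rcases Int.even_or_odd' t with ⟨u, rfl | rfl⟩
    · refine ⟨a ^ (0 : ℤ), zpow_mem (mem_zpowers a) _,
        Or.inr (Or.inr (Or.inr ⟨by omega, ?_, by rw [hconj, h7]⟩))⟩
      rw [hsq, ← zpow_zero a, key]
      exact Int.ModEq.symm (Int.modEq_iff_dvd.mpr ⟨u, by ring⟩)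
    · refine ⟨a ^ (1 : ℤ), zpow_mem (mem_zpowers a) _,
        Or.inr (Or.inr (Or.inr ⟨by omega, ?_, by rw [hconj, h7]⟩))⟩
      rw [hsq, ← zpow_zero a, key]
      refine (((h.add_left 1).mul_left _).add_right _).trans ?_
      exact Int.ModEq.symm (Int.modEq_iff_dvd.mpr ⟨u + 1, by ring⟩)

theorem cyclic_index_two [Finite G] (n : ℕ) (hn : 3 ≤ n) (hG : Nat.card G = 2 ^ n)
    (C : Subgroup G) (hC : IsCyclic C) (hCi : C.index = 2) (hna : ∃ x y : G, x * y ≠ y * x) :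
    ∃ a b : G, orderOf a = 2 ^ (n - 1) ∧ b ∉ Subgroup.zpowers a ∧
      ((b ^ 2 = 1 ∧ b * a * b⁻¹ = a⁻¹) ∨ (b ^ 2 = a ^ (2 ^ (n - 2)) ∧ b * a * b⁻¹ = a⁻¹) ∨
      (4 ≤ n ∧ b ^ 2 = 1 ∧ b * a * b⁻¹ = a ^ (1 + 2 ^ (n - 2))) ∨
      (4 ≤ n ∧ b ^ 2 = 1 ∧ b * a * b⁻¹ = a ^ (2 ^ (n - 2) - 1))) := by
  obtain ⟨x, y, hxy⟩ := hna
  obtain ⟨a, rfl⟩ := (Subgroup.isCyclic_iff_exists_zpowers_eq_top C).mp hC
  have hCn : (zpowers a).Normal := normal_of_index_eq_two hCi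
  have hoa := orderOf_eq_of_index_zpowers Nat.prime_two (by omega) hG hCi
  obtain ⟨b, hb⟩ := H3.exists_not_mem_of_index_two hCi
  have hco : IsCoatom (zpowers a) := H2.isCoatom_of_index_prime (hCi.symm ▸ Nat.prime_two)
  have htop : zpowers b ⊔ zpowers a = ⊤ :=
    hco.2 _ (right_lt_sup.2 fun h => hb (h (mem_zpowers b)))
  obtain ⟨-, c, hc, h⟩ := cyclic_two_action hoa (sq_mem_of_index_two hCi b)
    (hCn.conj_mem _ (mem_zpowers a) b) (fun h => hxy (comm_of_zpowers_sup_eq_top htop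
      (mul_inv_eq_iff_eq_mul.mp h) x y))
  refine ⟨a, c * b, hoa, fun h => hb ((mul_mem_cancel_left hc).mp h), ?_⟩
  rw [show n - 1 - 1 = n - 2 by omega, show (3 ≤ n - 1) = (4 ≤ n) from propext (by omega)] at h
  exact h

theorem isKleinFour_of_card_of_sq {W : Subgroup G} (hc : Nat.card W = 4)
    (h : ∀ w ∈ W, w ^ 2 = 1) : IsKleinFour W := by
  have : Finite W := Nat.finite_of_card_ne_zero (by omega)
  have : Nontrivial W := Finite.one_lt_card_iff_nontrivial.mp (by omega)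
  refine ⟨hc, (Monoid.exponent_eq_prime_iff Nat.prime_two).mpr fun g hg => ?_⟩
  exact orderOf_eq_prime (Subtype.ext (h g g.2)) hg

/-- two commuting distinct involutions generate a four-group -/
theorem four_of_commute {x z : G} (hx : x ^ 2 = 1) (hz : z ^ 2 = 1) (hz1 : z ≠ 1)
    (hxz : x ∉ zpowers z) (hc : Commute x z) :
    Nat.card ↥(zpowers x ⊔ zpowers z) = 4 ∧ IsMulCommutative ↥(zpowers x ⊔ zpowers z) ∧
      ∀ w ∈ zpowers x ⊔ zpowers z, w ^ 2 = 1 := by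
  have h1 : x ∈ centralizer (zpowers z : Set G) := by
    rintro _ ⟨k, rfl⟩
    exact (hc.zpow_right k).symm.eq
  refine ⟨?_, H3.isMulCommutative_zpowers_sup inferInstance h1, fun w hw =>
    H3.pow_eq_one_of_mem_zpowers_sup h1 ?_ hx hw⟩
  · rw [H2.card_sup_zpowers_of_pow_prime_mem Nat.prime_two (centralizer_le_normalizer _ h1) hxz
      (hx ▸ one_mem _), Nat.card_zpowers, orderOf_eq_prime hz hz1]
  · rintro _ ⟨k, rfl⟩
    change (z ^ k) ^ 2 = 1
    rw [← zpow_natCast, ← zpow_mul, mul_comm, zpow_mul, zpow_natCast, hz, one_zpow]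

theorem commutator_mem_centralizer_of_normal_zpowers {a : G} (hn : (zpowers a).Normal) (g h : G) :
    ⁅g, h⁆ ∈ centralizer (zpowers a : Set G) := by
  obtain ⟨r, hr⟩ := hn.conj_mem _ (mem_zpowers a) g
  obtain ⟨s, hs⟩ := hn.conj_mem _ (mem_zpowers a) h
  have hr : a ^ r = g * a * g⁻¹ := hr
  have hs : a ^ s = h * a * h⁻¹ := hs
  have e : g * h * a * (g * h)⁻¹ = h * g * a * (h * g)⁻¹ := by
    calc g * h * a * (g * h)⁻¹ = g * (h * a * h⁻¹) * g⁻¹ := by group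
      _ = a ^ (r * s) := by rw [← hs, ← conj_zpow, ← hr, zpow_mul]
      _ = h * (g * a * g⁻¹) * h⁻¹ := by rw [← hr, ← conj_zpow, ← hs, mul_comm r, zpow_mul]
      _ = _ := by group
  have e1 : Commute ((h * g)⁻¹ * (g * h)) a := by
    change (h * g)⁻¹ * (g * h) * a = a * ((h * g)⁻¹ * (g * h))
    calc (h * g)⁻¹ * (g * h) * a = (h * g)⁻¹ * (g * h * a * (g * h)⁻¹) * (g * h) := by group
      _ = _ := by rw [e]; group
  have e2 : (h * g)⁻¹ * (g * h) ∈ centralizer (zpowers a : Set G) := by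
    rintro _ ⟨k, rfl⟩
    exact (e1.zpow_right k).symm.eq
  have := (inferInstance : (centralizer (zpowers a : Set G)).Normal).conj_mem _ e2 (h * g)
  convert this using 1
  rw [commutatorElement_def]; group

theorem pow_two_pow_pred_ne_one {a : G} {m k : ℕ} (ha : orderOf a = 2 ^ m) (hk : k < m) :
    a ^ 2 ^ k ≠ 1 := by
  intro h
  have := Nat.le_of_dvd (by positivity) (orderOf_dvd_of_pow_eq_one h)
  rw [ha] at this
  have := (Nat.pow_le_pow_iff_right one_lt_two).1 this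
  omega

theorem cyclic_normal_abelian [Finite G] (p : ℕ) [hp : Fact p.Prime] (hP : IsPGroup p G)
    (hn : ∀ A : Subgroup G, A.Normal → IsMulCommutative A → IsCyclic A) (hnc : ¬ IsCyclic G) :
    p = 2 ∧ ((∃ n : ℕ, Nonempty (G ≃* QuaternionGroup n)) ∨
      (∃ n : ℕ, 8 ≤ n ∧ Nonempty (G ≃* DihedralGroup n)) ∨ Cfsg.IsQuasiDihedral G) := by
  obtain rfl : p = 2 := by
    by_contra hp2
    obtain ⟨A, hAn, hA, hA2⟩ := H3.exists_normal_elementary_sq hp2 hP hnc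
    have h1 := card_le_of_isCyclic_of_pow_eq_one (hn A hAn hA.1) hp.out.pos hA.2
    have := hp.out.one_lt
    rw [hA2] at h1
    nlinarith
  refine ⟨rfl, ?_⟩
  have := hP.isNilpotent
  obtain ⟨A, -, hAn, hAc, hC⟩ := H2.exists_selfCentralizing_normal_ge (⊥ : Subgroup G)
  obtain ⟨a, rfl⟩ := (Subgroup.isCyclic_iff_exists_zpowers_eq_top A).mp (hn A hAn hAc)
  obtain ⟨m, hm⟩ := IsPGroup.iff_orderOf.mp hP a
  have hne : ∀ b, b ∉ zpowers a → b * a * b⁻¹ ≠ a := fun b hb h => hb (by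
    rw [← hC]
    rintro _ ⟨k, rfl⟩
    exact (Commute.zpow_right (mul_inv_eq_iff_eq_mul.mp h) k).symm.eq)
  -- no normal four-group
  have hfour : ∀ x : G, 1 ≤ m → x ^ 2 = 1 → x ∉ zpowers a → Commute x (a ^ 2 ^ (m - 1)) →
      ¬ (zpowers x ⊔ zpowers (a ^ 2 ^ (m - 1))).Normal := by
    intro x h1 hx hxa hc hN
    obtain ⟨e1, e2, e3⟩ := four_of_commute (z := a ^ 2 ^ (m - 1)) hx (by
      rw [← pow_mul, ← pow_succ, Nat.sub_add_cancel h1, ← hm, pow_orderOf_eq_one])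
      (pow_two_pow_pred_ne_one hm (by omega))
      (fun h => hxa (zpowers_le.2 (pow_mem (mem_zpowers a) _) h)) hc
    have := card_le_of_isCyclic_of_pow_eq_one (hn _ hN e2) two_pos e3
    omega
  have hzn : ∀ k : ℕ, (zpowers (a ^ k)).Normal := fun k => ⟨by
    rintro _ ⟨i, rfl⟩ g
    obtain ⟨r, hr⟩ := hAn.conj_mem _ (mem_zpowers a) g
    have hr : a ^ r = g * a * g⁻¹ := hr
    refine ⟨r * i, ?_⟩
    change (a ^ k) ^ (r * i) = g * (a ^ k) ^ i * g⁻¹
    rw [← conj_zpow, ← conj_pow, ← hr, zpow_mul, ← zpow_natCast, ← zpow_natCast, ← zpow_mul,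
      ← zpow_mul, ← zpow_mul, ← zpow_mul]
    congr 1; ring⟩
  -- the modular action does not occur
  have hmod : ∀ b, b ∉ zpowers a → 3 ≤ m → b ^ 2 = 1 →
      b * a * b⁻¹ ≠ a ^ (1 + 2 ^ (m - 1)) := by
    intro b hb h3 hb2 hr
    obtain ⟨l, rfl⟩ : ∃ l, m = l + 3 := ⟨m - 3, by omega⟩
    simp only [show l + 3 - 1 = l + 2 by omega] at *
    have hz2 : (a ^ 2 ^ (l + 2)) ^ 2 = 1 := by
      rw [← pow_mul, ← pow_succ, ← hm, pow_orderOf_eq_one]
    refine hfour b (by omega) hb2 hb ?_ ?_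
    · change b * _ = _ * b
      rw [← mul_inv_eq_iff_eq_mul, ← conj_pow, hr, ← pow_mul, add_mul, pow_add, one_mul,
        show 2 ^ (l + 2) * 2 ^ (l + 2) = 2 ^ (l + 2) * 2 * 2 ^ (l + 1) by ring, pow_mul, pow_mul,
        hz2, one_pow, mul_one]
    · have := hzn (2 ^ (l + 2))
      refine H3.normal_zpowers_sup fun g => ?_
      rw [← commutatorElement_inv]
      refine inv_mem ?_
      obtain ⟨i, hi⟩ : ⁅g, b⁆ ∈ zpowers a :=
        hC ▸ commutator_mem_centralizer_of_normal_zpowers hAn g b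
      have hi : a ^ i = ⁅g, b⁆ := hi
      have h4 : (a ^ i * b) ^ 2 = 1 := by
        rw [hi, commutatorElement_def, inv_mul_cancel_right, conj_pow, hb2]; group
      have hr' : b * a * b⁻¹ = a ^ ((1 + 2 ^ (l + 2) : ℕ) : ℤ) := by rw [zpow_natCast, hr]
      have h5 : b * a ^ i * b⁻¹ = a ^ (((1 + 2 ^ (l + 2) : ℕ) : ℤ) * i) := by
        rw [← conj_zpow, hr', zpow_mul]
      have h6 : (a ^ i * b) ^ 2 = a ^ i * (b * a ^ i * b⁻¹) * b ^ 2 := by rw [sq, sq]; group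
      rw [h4, h5, hb2, mul_one, ← zpow_add, eq_comm, ← orderOf_dvd_iff_zpow_eq_one, hm] at h6
      push_cast at h6
      rw [show i + (1 + 2 ^ (l + 2)) * i = (1 + 2 ^ (l + 1)) * i * 2 by ring, pow_succ] at h6
      have h7 := Int.dvd_of_mul_dvd_mul_right (by norm_num) h6
      obtain ⟨t, ht⟩ := (IsCoprime.pow_left (Int.isCoprime_two_left.mpr
        (show Odd ((1 : ℤ) + 2 ^ (l + 1)) from ⟨2 ^ l, by ring⟩))).dvd_of_dvd_mul_left h7
      refine ⟨t, ?_⟩
      change (a ^ 2 ^ (l + 2)) ^ t = _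
      rw [← hi, ht, zpow_mul, ← zpow_natCast]; push_cast; rfl
  have hAtop : zpowers a ≠ ⊤ := fun h => hnc (isCyclic_iff_exists_zpowers_eq_top.mpr ⟨a, h⟩)
  obtain ⟨b₀, hb₀, hb₀2⟩ := H2.IsPGroup.exists_not_mem_pow_mem hP hAtop
  have hm2 : 2 ≤ m :=
    (cyclic_two_action hm hb₀2 (hAn.conj_mem _ (mem_zpowers a) _) (hne _ hb₀)).1
  obtain ⟨j, rfl⟩ : ∃ j, m = j + 2 := ⟨m - 2, by omega⟩
  simp only [show j + 2 - 1 = j + 1 by omega] at *
  -- the centralizer of the element of order four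
  have hw4 : (a ^ 2 ^ j) ^ 4 = 1 := by
    rw [← pow_mul, show 2 ^ j * 4 = 2 ^ (j + 2) by ring, ← hm, pow_orderOf_eq_one]
  have hw2 : (a ^ 2 ^ j)⁻¹ ≠ a ^ 2 ^ j := by
    intro h
    apply pow_two_pow_pred_ne_one hm (show j + 1 < j + 2 by omega)
    rw [pow_succ, pow_mul, sq]
    nth_rw 1 [← h]
    rw [inv_mul_cancel]
  have hK : centralizer (zpowers (a ^ 2 ^ j) : Set G) = zpowers a := by
    refine le_antisymm (fun x hx => ?_) ?_
    · by_contra hxa
      obtain ⟨k, h1, h2⟩ := H3.exists_pow_not_mem_pow_mem hP hxa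
      set y := x ^ 2 ^ k
      have hy : y ∈ centralizer (zpowers (a ^ 2 ^ j) : Set G) := pow_mem hx _
      obtain ⟨-, c, hc, h⟩ := cyclic_two_action hm h2 (hAn.conj_mem _ (mem_zpowers a) _) (hne _ h1)
      have hcy : c * y ∉ zpowers a := fun h => h1 ((mul_mem_cancel_left hc).mp h)
      have h3 : (c * y) * a ^ 2 ^ j * (c * y)⁻¹ = a ^ 2 ^ j := by
        have e1 : Commute c (a ^ 2 ^ j) :=
          H3.comm_of_isMulCommutative hAc hc (pow_mem (mem_zpowers a) _)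
        have e2 : Commute y (a ^ 2 ^ j) := (hy _ (mem_zpowers _)).symm
        rw [(e1.mul_left e2).eq, mul_inv_cancel_right]
      rw [← conj_pow] at h3
      simp only [show j + 2 - 1 = j + 1 by omega] at h
      rcases h with ⟨-, h⟩ | ⟨-, h⟩ | ⟨h4, h5, h⟩ | ⟨h4, -, h⟩
      · exact hw2 (by rwa [h, inv_pow] at h3)
      · exact hw2 (by rwa [h, inv_pow] at h3)
      · exact hmod _ hcy h4 h5 h
      · apply hw2
        obtain ⟨l, rfl⟩ : ∃ l, j = l + 1 := ⟨j - 1, by omega⟩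
        rw [h, ← pow_mul, mul_comm, pow_mul, pow_sub _ Nat.one_le_two_pow,
          show 2 ^ (l + 1 + 1) = 4 * 2 ^ l by ring, pow_mul, hw4, one_pow, one_mul, pow_one] at h3
        exact h3
    · exact hC.ge.trans (centralizer_le (zpowers_le.2 (pow_mem (mem_zpowers a) _)))
  have hi : (zpowers a).index = 2 := by
    have := hzn (2 ^ j)
    have h1 := H3.index_centralizer_le_of_card_le_sq hP (zpowers (a ^ 2 ^ j)) (by
      rw [Nat.card_zpowers]
      exact Nat.le_of_dvd (by norm_num) (orderOf_dvd_of_pow_eq_one hw4))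
    rw [hK] at h1
    have h2 : (zpowers a).index ≠ 1 := fun h => hAtop (index_eq_one.mp h)
    have h3 : (zpowers a).index ≠ 0 := index_ne_zero_of_finite
    omega
  have hcard : Nat.card G = 2 ^ (j + 3) := by
    rw [← (zpowers a).card_mul_index, hi, Nat.card_zpowers, hm]; ring
  obtain ⟨-, c, hc, h⟩ := cyclic_two_action hm hb₀2 (hAn.conj_mem _ (mem_zpowers a) _) (hne _ hb₀)
  have hb : c * b₀ ∉ zpowers a := fun h => hb₀ ((mul_mem_cancel_left hc).mp h)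
  set b := c * b₀
  have hgen : ∀ g : G, g ∈ zpowers a ∨ b⁻¹ * g ∈ zpowers a := by
    intro g
    rw [mul_mem_iff_of_index_two hi, inv_mem_iff]
    tauto
  simp only [show j + 2 - 1 = j + 1 by omega] at h
  rcases h with ⟨h1, h⟩ | ⟨h1, h⟩ | ⟨h4, h5, h⟩ | ⟨h4, h5, h⟩
  · refine Or.inr (Or.inl ⟨2 ^ (j + 2), ?_,
      H2.nonempty_equiv_dihedral hm h (by rw [← sq, h1]) hb hgen⟩)
    rcases Nat.eq_zero_or_pos j with rfl | hj
    · exfalso
      have hc : Commute b (a ^ 2 ^ (0 + 1)) := by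
        change b * _ = _ * b
        rw [← mul_inv_eq_iff_eq_mul, ← conj_pow, h, inv_pow, inv_eq_iff_mul_eq_one, ← pow_add]
        simpa using hw4
      refine hfour b (by omega) h1 hb hc (H3.normal_of_index_le_prime hP ?_)
      have e1 := (four_of_commute (z := a ^ 2 ^ (0 + 1)) h1 (by
        rw [← pow_mul]; simpa using hw4) (pow_two_pow_pred_ne_one hm (by omega))
        (fun h => hb (zpowers_le.2 (pow_mem (mem_zpowers a) _) h)) hc).1
      have e2 := (zpowers b ⊔ zpowers (a ^ 2 ^ (0 + 1))).card_mul_index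
      rw [e1, hcard] at e2
      omega
    · calc 8 = 2 ^ 3 := by norm_num
        _ ≤ _ := Nat.pow_le_pow_right two_pos (by omega)
  · exact Or.inl ⟨2 ^ (j + 1), H2.nonempty_equiv_quaternion (by rw [hm, pow_succ']) h
      (by rw [← sq, h1]) hb hgen⟩
  · exact (hmod _ hb h4 h5 h).elim
  · exact Or.inr (Or.inr ⟨j + 2, h4, hcard, a, b, hm,
      orderOf_eq_prime h5 (fun h => hb (h ▸ one_mem _)), h⟩)

/-- An involution centralizes a four-subgroup of a normal elementary abelian `2`-subgroup of order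
at least `8`. -/
theorem exists_four_le_centralizer [Finite G] (hP : IsPGroup 2 G) (E : Subgroup G) [hEn : E.Normal]
    (hE : IsMulCommutative E) (hE2 : ∀ e ∈ E, e ^ 2 = 1) (hE8 : 8 ≤ Nat.card E) {t : G}
    (ht : t ^ 2 = 1) : ∃ W : Subgroup G, IsKleinFour W ∧ W ≤ E ∧ W ≤ centralizer {t} := by
  have h1 := H3.card_range_commHom_mul E hE t
  have h2 : (H3.commHom E hE t).range ≤ centralizer {t} ⊓ E := by
    rintro _ ⟨c, rfl⟩
    rw [H3.commHom_apply]
    refine ⟨mem_centralizer_singleton_iff.2 ?_, H3.commutator_mem_of_normal_left c.2 t⟩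
    have e1 : t⁻¹ = t := by rw [inv_eq_iff_mul_eq_one, ← sq, ht]
    have e2 : (c : G)⁻¹ = c := by rw [inv_eq_iff_mul_eq_one, ← sq, hE2 _ c.2]
    have e3 : Commute (c : G) (t * c * t⁻¹) :=
      H3.comm_of_isMulCommutative hE c.2 (hEn.conj_mem _ c.2 t)
    rw [e1] at e3
    have e4 : t * t = 1 := by rw [← sq, ht]
    rw [commutatorElement_def, e1, e2]
    calc (c : G) * t * c * t * t = c * (t * c * t) * t := by group
      _ = (t * c * t) * c * t := by rw [e3.eq]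
      _ = _ := by group
  have h3 := card_le_of_le h2
  obtain ⟨k, hk⟩ := IsPGroup.iff_card.mp (hP.to_subgroup (centralizer {t} ⊓ E))
  have h4 : 2 ≤ k := by
    by_contra h
    have : Nat.card ↥(centralizer {t} ⊓ E) ≤ 2 := by
      rw [hk]
      calc 2 ^ k ≤ 2 ^ 1 := Nat.pow_le_pow_right two_pos (by omega)
        _ = 2 := rfl
    nlinarith
  obtain ⟨W, hW, hWle⟩ := Sylow.exists_subgroup_le_card_pow_prime_of_le_card (n := 2)
    (H := centralizer {t} ⊓ E) Nat.prime_two hP (hk ▸ Nat.pow_le_pow_right two_pos h4)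
  exact ⟨W, isKleinFour_of_card_of_sq hWle fun w hw => hE2 w (hW hw).2,
    hW.trans inf_le_right, hW.trans inf_le_left⟩

theorem isFourConnected_of_normal_elementary [Finite G] (hP : IsPGroup 2 G) (E : Subgroup G)
    [hEn : E.Normal] (hE : IsMulCommutative E) (hE2 : ∀ e ∈ E, e ^ 2 = 1) (hE8 : 8 ≤ Nat.card E) :
    IsFourConnected G := by
  set R : Subgroup G → Subgroup G → Prop :=
    fun A B => IsKleinFour A ∧ IsKleinFour B ∧ ∀ a ∈ A, ∀ b ∈ B, a * b = b * a with hR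
  obtain ⟨Z, hZn, hZE, hZ⟩ := H3.exists_normal_card_eq' hP E 1 (by omega)
  have hZc := H3.le_center_of_card_le_prime hP Z (by omega)
  obtain ⟨⟨z, hz⟩, hz1⟩ := ne_bot_iff_exists_ne_one.mp (show Z ≠ ⊥ by
    rintro rfl; simp at hZ)
  have hz1 : z ≠ 1 := fun h => hz1 (Subtype.ext h)
  have hz2 := hE2 z (hZE hz)
  have hzc : ∀ g, g * z = z * g := mem_center_iff.mp (hZc hz)
  have hsq : ∀ U : Subgroup G, IsKleinFour U → ∀ u ∈ U, u ^ 2 = 1 := fun U hU u hu => by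
    have := Monoid.pow_exponent_eq_one (⟨u, hu⟩ : U)
    rw [hU.exponent_two] at this
    exact congrArg Subtype.val this
  have hex : ∀ U : Subgroup G, IsKleinFour U → ∃ t ∈ U, t ∉ zpowers z := fun U hU => by
    by_contra h
    push Not at h
    have := card_le_of_le (show U ≤ zpowers z from h)
    rw [hU.card_four, Nat.card_zpowers, orderOf_eq_prime hz2 hz1] at this
    omega
  -- the four-group `⟨t, z⟩` is adjacent to a four-subgroup of `E`
  have step : ∀ U : Subgroup G, IsKleinFour U →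
      ∃ V W : Subgroup G, W ≤ E ∧ R U V ∧ R V W := fun U hU => by
    obtain ⟨t, htU, ht⟩ := hex U hU
    obtain ⟨e1, e2, e3⟩ := four_of_commute (hsq U hU t htU) hz2 hz1 ht (hzc t)
    have hV := isKleinFour_of_card_of_sq e1 e3
    obtain ⟨W, hW, hWE, hWt⟩ := exists_four_le_centralizer hP E hE hE2 hE8 (hsq U hU t htU)
    have key : ∀ X : Subgroup G, X ≤ centralizer {t} →
        ∀ a ∈ zpowers t ⊔ zpowers z, ∀ b ∈ X, a * b = b * a := by
      intro X hX a ha b hb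
      have : zpowers t ⊔ zpowers z ≤ centralizer (X : Set G) :=
        sup_le (zpowers_le.2 fun x hx => mem_centralizer_singleton_iff.1 (hX hx))
          (zpowers_le.2 fun x _ => hzc x)
      exact (this ha b hb).symm
    refine ⟨_, W, hWE, ⟨hU, hV, fun a ha b hb => (key U (fun u hu => ?_) b hb a ha).symm⟩,
      hV, hW, key W hWt⟩
    have := IsKleinFour.isMulCommutative (G := U)
    exact mem_centralizer_singleton_iff.2 (H3.comm_of_isMulCommutative this hu htU)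
  have hsymm : ∀ A B, R A B → R B A := fun A B h =>
    ⟨h.2.1, h.1, fun a ha b hb => (h.2.2 b hb a ha).symm⟩
  intro U V hU hV
  obtain ⟨U₁, U₂, hU₂, r1, r2⟩ := step U hU
  obtain ⟨V₁, V₂, hV₂, s1, s2⟩ := step V hV
  have r3 : R U₂ V₂ := ⟨r2.2.1, s2.2.1, fun a ha b hb =>
    H3.comm_of_isMulCommutative hE (hU₂ ha) (hV₂ hb)⟩
  exact ((((Relation.ReflTransGen.single r1).tail r2).tail r3).tail (hsymm _ _ s2)).tail
    (hsymm _ _ s1)

end H13
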