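import Mathlib
import Cfsg.Prelude.Def_Transfer
import Cfsg.Prelude.Def_Local
import Cfsg.Prelude.Def_PLocal
import Cfsg.Agent.H13.ZJApps

/-!
# `N(Z(J(P)))` controls strong fusion when no quadratic pair is involved
-/

set_option autoImplicit false

namespace H13

open Cfsg Subgroup
open H22 (cj SylIn)
open scoped commutatorElement

universe u

section Good

variable {G : Type*} [Group G]

/-- Conjugation by `g` on `A` is induced by an element of `N`. -/
def Good (N A : Subgroup G) (g : G) : Prop := ∃ m ∈ N, ∀ a ∈ A, m * a * m⁻¹ = g * a * g⁻¹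

variable {N A B : Subgroup G} {g h : G}

theorem Good.res (hAB : A ≤ B) (hg : Good N B g) : Good N A g :=
  let ⟨m, hm, h⟩ := hg
  ⟨m, hm, fun a ha => h a (hAB ha)⟩

theorem Good.mono {N' : Subgroup G} (hN : N ≤ N') (hg : Good N A g) : Good N' A g :=
  let ⟨m, hm, h⟩ := hg
  ⟨m, hN hm, h⟩

theorem good_of_mem (hg : g ∈ N) (A : Subgroup G) : Good N A g := ⟨g, hg, fun _ _ => rfl⟩

theorem Good.mul (hg : Good N A g) (hh : Good N (cj g A) h) : Good N A (h * g) := by
  obtain ⟨m, hm, h1⟩ := hg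
  obtain ⟨n, hn, h2⟩ := hh
  refine ⟨n * m, mul_mem hn hm, fun a ha => ?_⟩
  calc n * m * a * (n * m)⁻¹ = n * (m * a * m⁻¹) * n⁻¹ := by group
    _ = h * (g * a * g⁻¹) * h⁻¹ := by rw [h1 a ha, h2 _ (H22.conj_mem_cj ha)]
    _ = _ := by group

theorem Good.inv (hg : Good N A g) : Good N (cj g A) g⁻¹ := by
  obtain ⟨m, hm, h1⟩ := hg
  refine ⟨m⁻¹, inv_mem hm, ?_⟩
  rintro _ ⟨a, ha, rfl⟩
  change m⁻¹ * (g * a * g⁻¹) * m⁻¹⁻¹ = g⁻¹ * (g * a * g⁻¹) * g⁻¹⁻¹
  nth_rewrite 1 [← h1 a ha]
  group

theorem Good.congr (hg : Good N A g) (h1 : ∀ a ∈ A, g * a * g⁻¹ = h * a * h⁻¹) : Good N A h :=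
  let ⟨m, hm, h2⟩ := hg
  ⟨m, hm, fun a ha => (h2 a ha).trans (h1 a ha)⟩

theorem Good.cent {c : G} (hc : c ∈ centralizer (A : Set G)) (hg : Good N A g) :
    Good N A (g * c) :=
  hg.congr fun a ha => by
    rw [mul_assoc g c, ← hc a ha]; group

theorem cj_eq_of_agree (h1 : ∀ a ∈ A, g * a * g⁻¹ = h * a * h⁻¹) : cj g A = cj h A := by
  ext x
  constructor
  · rintro ⟨a, ha, rfl⟩
    exact ⟨a, ha, (h1 a ha).symm⟩
  · rintro ⟨a, ha, rfl⟩
    exact ⟨a, ha, h1 a ha⟩

/-- Alperin's fusion theorem with the induction hypothesis exposed. -/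
theorem alperin_good [Finite G] {p : ℕ} [Fact p.Prime] (P : Sylow p G) (hPN : (P : Subgroup G) ≤ N)
    (hX : ∀ X : Subgroup G, X ≤ P →
      SylIn p ((P : Subgroup G) ⊓ normalizer (X : Set G)) (normalizer (X : Set G)) →
      (∀ B : Subgroup G, B ≤ P → Nat.card X < Nat.card B → ∀ g : G, cj g B ≤ P → Good N B g) →
      ∀ g ∈ normalizer (X : Set G), Good N X g)
    (A : Subgroup G) (hA : A ≤ P) (g : G) (hg : cj g A ≤ P) : Good N A g := by
  suffices key : ∀ j : ℕ, ∀ A : Subgroup G, A ≤ P → ∀ g : G, cj g A ≤ P →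
      Nat.card G ≤ Nat.card A + j → Good N A g from
    key (Nat.card G) A hA g hg (Nat.le_add_left _ _)
  intro j
  induction j using Nat.strong_induction_on with | _ j ih => ?_
  refine H22.alperin P (fun A g => Nat.card G ≤ Nat.card A + j → Good N A g) ?_ ?_ ?_ ?_ ?_ ?_
  · intro A B g hAB h hc
    exact (h (hc.trans (Nat.add_le_add_right (card_le_of_le hAB) j))).res hAB
  · intro A g h h1 h2 hc
    exact (h1 hc).mul (h2 (by rwa [H22.card_cj]))
  · intro A g h1 hc
    exact (h1 (by rwa [H22.card_cj] at hc)).inv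
  · intro A g c hc h1 h2
    exact (h1 h2).cent hc
  · intro s hs _
    exact good_of_mem (hPN hs) _
  · intro X h1 _ h3 _ g hg hc
    refine hX X h1 h3 (fun B hB hlt g hg => ?_) g hg
    have := card_le_card_group B
    exact ih (Nat.card G - Nat.card B) (by omega) B hB g hg (by omega)

/-- Lifting control of fusion through a quotient by a `p'`-group. -/
theorem good_of_good_map [Finite G] {p : ℕ} [Fact p.Prime] {H : Type*} [Group H] {f : G →* H}
    (hk : (Nat.card f.ker).Coprime p) (hA : IsPGroup p A) (hAN : A ≤ N) (hgN : cj g A ≤ N)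
    (h : Good (N.map f) (A.map f) (f g)) : Good N A g := by
  obtain ⟨_, ⟨m, hm, rfl⟩, h⟩ := h
  have hA' : IsPGroup p (cj g A) := H22.isPGroup_cj hA g
  have hn : cj g A ≤ normalizer ((f.ker ⊓ N : Subgroup G) : Set G) :=
    le_normalizer_inf le_normalizer_of_normal (hgN.trans le_normalizer)
  have hs : SylIn p (cj g A) (cj g A ⊔ f.ker ⊓ N) := by
    refine H22.sylIn_of_not_dvd le_sup_left hA' fun hd => ?_
    have h1 := H2.card_mul_relIndex (le_sup_left : cj g A ≤ cj g A ⊔ f.ker ⊓ N)
    have h2 := H2.card_sup_dvd_of_le_normalizer hn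
    rw [← h1] at h2
    have h3 := hd.trans (Nat.dvd_of_mul_dvd_mul_left Nat.card_pos h2)
    exact (Fact.out : p.Prime).one_lt.ne' (Nat.eq_one_of_dvd_coprimes hk.symm dvd_rfl
      (h3.trans (card_dvd_of_le inf_le_left)))
  have hle : cj m A ≤ cj g A ⊔ f.ker ⊓ N := by
    rw [H22.cj_le_iff]
    intro a ha
    have h1 : (g * a * g⁻¹)⁻¹ * (m * a * m⁻¹) ∈ f.ker ⊓ N := by
      refine mem_inf.mpr ⟨?_, mul_mem (inv_mem (hgN (H22.conj_mem_cj ha)))
        (mul_mem (mul_mem hm (hAN ha)) (inv_mem hm))⟩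
      have := h _ ⟨a, ha, rfl⟩
      simp only [MonoidHom.mem_ker, map_mul, map_inv, this, inv_mul_cancel]
    have := mul_mem (mem_sup_left (H22.conj_mem_cj (g := g) ha)) (mem_sup_right h1)
    rwa [mul_inv_cancel_left] at this
  obtain ⟨l, hl, hlm⟩ := hs.exists_cj_le hle (H22.isPGroup_cj hA m)
  obtain ⟨a', ha', o, ho, rfl⟩ := (mem_sup_of_le_normalizer hn).mp hl
  rw [H22.cj_mul, H22.cj_le_iff_le_cj_inv, H22.cj_eq_of_mem (inv_mem ha'), ← H22.cj_mul,
    ← H22.cj_le_cj_iff (g := g⁻¹), H22.cj_inv_cj, ← H22.cj_mul] at hlm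
  have hy : g⁻¹ * (o * m) ∈ centralizer (A : Set G) := by
    refine mem_centralizer_of_map_of_coprime_ker hk hA (H22.cj_eq_iff.mp (H22.cj_eq_of_le hlm)) ?_
    rintro _ ⟨a, ha, rfl⟩
    have h1 := h _ ⟨a, ha, rfl⟩
    rw [map_mul, map_mul, map_inv, (mem_inf.mp ho).1, one_mul]
    calc f a * ((f g)⁻¹ * f m) = (f g)⁻¹ * (f g * f a * (f g)⁻¹) * f m := by group
      _ = _ := by rw [← h1]; group
  have := (good_of_mem (mul_mem (mem_inf.mp ho).2 hm) A).cent (inv_mem hy)
  simpa [mul_assoc] using this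

end Good

variable {e p : ℕ} [hp : Fact p.Prime]

theorem zj_controls_fusion_aux (hp2 : p ≠ 2) (he : e = 0 ∨ e = p) (n : ℕ) :
    ∀ (G : Type u) [Group G] [Finite G], Nat.card G = n → ¬ H12.QuadInvolved p G →
      ∀ (P : Sylow p G) (A : Subgroup G), A ≤ P → ∀ g : G, cj g A ≤ P →
        Good (normalizer (centerThompsonOf e (P : Subgroup G) : Set G)) A g := by
  induction n using Nat.strong_induction_on with | _ n ih => ?_
  intro G _ _ hn hG P
  set N := normalizer (centerThompsonOf e (P : Subgroup G) : Set G) with hN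
  have hPN : (P : Subgroup G) ≤ N := le_normalizer_centerThompsonOf_self e _
  have sub : ∀ H R : Subgroup G, H ≠ ⊤ → SylIn p R H → ∀ A : Subgroup G, A ≤ R → ∀ g ∈ H,
      cj g A ≤ R → Good (normalizer (centerThompsonOf e R : Set G)) A g := by
    intro H R hH hR A hA g hg hgA
    obtain ⟨m, hm, h⟩ := ih _ (hn ▸ H2.card_lt_of_ne_top hH) H rfl
      (fun h => hG (h.of_involves (H12.involves_subgroup H))) hR.toSylow (A.subgroupOf H)
      (comap_mono hA) ⟨g, hg⟩ (H22.cj_le_iff.mpr fun a ha => hgA (H22.conj_mem_cj ha))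
    rw [hR.coe_toSylow, normalizer_centerThompsonOf_subgroupOf hR.le] at hm
    exact ⟨m, hm, fun a ha => congrArg Subtype.val (h ⟨a, hR.le (hA ha)⟩ ha)⟩
  by_cases hQ : pCore p G = ⊥
  · refine alperin_good P hPN fun X hXP hXs IH g hg => ?_
    have C2 : ∀ k : ℕ, ∀ R : Subgroup G, Nat.card G - Nat.card R = k → R ≤ P →
        ∀ X' Y : Subgroup G, Y ≠ ⊥ → Y ≤ R → SylIn p R (normalizer (Y : Set G)) → X' ≤ R →
          Nat.card X' = Nat.card X → ∀ g ∈ normalizer (Y : Set G), cj g X' ≤ R → Good N X' g := by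
      intro k
      induction k using Nat.strong_induction_on with | _ k ihk => ?_
      intro R hk hRP X' Y hY1 hYR hs hX' hc g hg hgX
      have hne : normalizer (Y : Set G) ≠ ⊤ := fun h => hY1 (le_bot_iff.mp
        (hQ ▸ H2.le_pCore (normalizer_eq_top_iff.mp h) (hs.isPGroup.to_le hYR)))
      have h0 := sub _ R hne hs X' hX' g hg hgX
      rcases hRP.eq_or_lt with h | h
      · rwa [h] at h0
      obtain ⟨m, hm, hmg⟩ := h0
      set W := centerThompsonOf e R with hW
      have hlt : R < (P : Subgroup G) ⊓ normalizer (W : Set G) :=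
        (H22.lt_inf_normalizer P.isPGroup' h).trans_le
          (inf_le_inf_left _ (normalizer_le_normalizer_centerThompson e R))
      obtain ⟨h, hh1, hh2⟩ := H22.exists_cj_fullyNormalized P W
      have hlt' := H2.card_lt_of_lt hlt
      have g1 : Good N R h := (IH _ inf_le_left
        (lt_of_le_of_lt (hc ▸ card_le_of_le hX') hlt') h hh1).res hlt.le
      have hle : cj h ((P : Subgroup G) ⊓ normalizer (W : Set G)) ≤
          (P : Subgroup G) ⊓ normalizer (cj h W : Set G) :=
        le_inf hh1 (H22.cj_normalizer h W ▸ H22.cj_mono inf_le_right)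
      have hRle : cj h R ≤ (P : Subgroup G) ⊓ normalizer (cj h W : Set G) :=
        (H22.cj_mono hlt.le).trans hle
      have hc2 := card_le_of_le hle
      rw [H22.card_cj] at hc2
      have hc3 := card_le_card_group ((P : Subgroup G) ⊓ normalizer (cj h W : Set G))
      have hW1 : cj h W ≠ ⊥ := by
        rw [← H22.cj_bot h, Ne, (H22.cj_injective h).eq_iff]
        exact centerThompsonOf_ne_bot he hs.isPGroup fun h => hY1 (le_bot_iff.mp (h ▸ hYR))
      have hmX : cj m X' ≤ R := (cj_eq_of_agree hmg).trans_le hgX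
      have g2 := ihk _ (by omega) _ rfl inf_le_left (cj h X') (cj h W) hW1
        ((H22.cj_mono (centerThompsonOf_le e R)).trans hRle) hh2
        ((H22.cj_mono hX').trans hRle) (by rw [H22.card_cj, hc]) (h * m * h⁻¹)
        (H22.cj_normalizer h W ▸ H22.conj_mem_cj hm)
        (by rw [← H22.cj_mul, inv_mul_cancel_right, H22.cj_mul]; exact (H22.cj_mono hmX).trans hRle)
      have g3 := (g1.res hX').mul g2
      rw [inv_mul_cancel_right] at g3
      have g4 := (g1.res hmX).inv
      rw [← H22.cj_mul] at g4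
      have g5 := g3.mul g4
      rw [inv_mul_cancel_left] at g5
      exact g5.congr hmg
    by_cases hX1 : X = ⊥
    · exact ⟨1, one_mem _, fun a ha => by rw [hX1, mem_bot] at ha; simp [ha]⟩
    · exact C2 _ _ rfl inf_le_left X X hX1 (le_inf hXP le_normalizer) hXs
        (le_inf hXP le_normalizer) rfl g hg
        ((H22.cj_eq_iff.mpr hg).trans_le (le_inf hXP le_normalizer))
  intro A hA g hg
  by_cases hO : pPrimeCore p G = ⊥
  swap
  · have hf := QuotientGroup.mk'_surjective (pPrimeCore p G)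
    have hk := coprime_card_ker_mk'_pPrimeCore (G := G) p
    refine good_of_good_map hk (P.isPGroup'.to_le hA) (hA.trans hPN) (hg.trans hPN) ?_
    have := ih _ (hn ▸ H2.card_quotient_lt hO) _ rfl
      (fun h => hG (h.of_involves (H12.involves_quotient _))) (P.mapSurjective hf)
      (A.map (QuotientGroup.mk' _)) (map_mono hA) (QuotientGroup.mk' _ g) (by
        rw [H22.cj_le_iff]
        rintro _ ⟨a, ha, rfl⟩
        exact ⟨_, hg (H22.conj_mem_cj ha), rfl⟩)
    rwa [Sylow.coe_mapSurjective, normalizer_centerThompsonOf_map hf hk P.isPGroup'] at this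
  by_cases hW : N = ⊤
  · exact good_of_mem (hW ▸ mem_top g) A
  set Q := pCore p G with hQdef
  have hQp : IsPGroup p Q := H2.pCore_isPGroup p G
  have hQP : Q ≤ P := H2.pCore_le_sylow P
  set R := (P : Subgroup G) ⊓ (Q ⊔ centralizer (Q : Set G)) with hR
  have hRs : SylIn p R (Q ⊔ centralizer (Q : Set G)) :=
    (H22.sylIn_top P).inf_normal le_top le_normalizer_of_normal
  have hPR : (P : Subgroup G) ≤ normalizer (R : Set G) :=
    le_normalizer_inf le_normalizer le_normalizer_of_normal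
  have hR1 : normalizer (R : Set G) ≠ ⊤ := by
    intro h
    have h1 : R ≤ Q := H2.le_pCore (normalizer_eq_top_iff.mp h) hRs.isPGroup
    exact hW (normalizer_eq_top_iff.mpr (centerThompsonOf_normal hp2 he
      (centralizer_pCore_le_of_sylow hO P ((inf_le_inf_left _ le_sup_right).trans h1))
      (fun V _ hV => H12.isPStableOn_of_isPGroup hG V hV) P))
  by_cases hK : (P : Subgroup G) ⊔ centralizer (Q : Set G) = ⊤
  swap
  · obtain ⟨k, hk, hgk⟩ := hRs.frattini' (H := ⊤) le_normalizer_of_normal (mem_top g)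
    have hkK : k ∈ (P : Subgroup G) ⊔ centralizer (Q : Set G) := sup_le_sup_right hQP _ hk
    have h1 : cj k⁻¹ A ≤ ((P : Subgroup G) ⊔ centralizer (Q : Set G)) ⊓ normalizer (R : Set G) := by
      refine le_inf ?_ ?_
      · rw [← H22.cj_eq_of_mem (inv_mem hkK)]
        exact H22.cj_mono (hA.trans le_sup_left)
      · rw [← H22.cj_le_cj_iff (g := g * k), ← H22.cj_mul, mul_inv_cancel_right,
          H22.cj_eq_of_mem hgk]
        exact hg.trans hPR
    obtain ⟨m, hm, hmA⟩ := (H22.sylIn_of_sylow_le P (le_inf le_sup_left hPR)).exists_cj_le h1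
      (H22.isPGroup_cj (P.isPGroup'.to_le hA) _)
    rw [← H22.cj_mul] at hmA
    have g1 := sub _ P hK (H22.sylIn_of_sylow_le P le_sup_left) A hA _
      (mul_mem hm.1 (inv_mem hkK)) hmA
    have e1 : g * k * m⁻¹ * (m * k⁻¹) = g := by group
    have g2 := sub _ P hR1 (H22.sylIn_of_sylow_le P hPR) _ hmA _ (mul_mem hgk (inv_mem hm.2))
      (by rwa [← H22.cj_mul, e1])
    exact e1 ▸ g1.mul g2
  have hf := QuotientGroup.mk'_surjective Q
  set f := QuotientGroup.mk' Q with hfdef
  have hker : f.ker = Q := QuotientGroup.ker_mk' Q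
  have hPbar : (P : Subgroup G).map f ≠ ⊥ := by
    intro h
    rw [Subgroup.map_eq_bot_iff, hker] at h
    apply hW
    rw [eq_top_iff, ← normalizer_eq_top Q, ← le_antisymm h hQP]
    exact normalizer_le_normalizer_centerThompson e _
  set W := centerThompsonOf e ((P : Subgroup G).map f) with hWdef
  have hWP : W ≤ (P : Subgroup G).map f := centerThompsonOf_le e _
  set N' := (normalizer (W : Set (G ⧸ Q))).comap f with hN'
  have h1 : N' ≠ ⊤ := by
    intro h
    rw [hN', ← comap_top f, comap_injective hf |>.eq_iff, normalizer_eq_top_iff] at h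
    have := H2.le_pCore h ((P.isPGroup'.map f).to_le hWP)
    rw [H2.pCore_quotient_pCore] at this
    exact centerThompsonOf_ne_bot he (P.isPGroup'.map f) hPbar (le_bot_iff.mp this)
  have hPN' : (P : Subgroup G) ≤ N' :=
    map_le_iff_le_comap.mp (le_normalizer_centerThompsonOf_self e _)
  have hcop : ∀ x : G, (orderOf x).Coprime p → x ∈ centralizer (Q : Set G) := by
    intro x hx
    have h2 : IsPGroup p (G ⧸ centralizer (Q : Set G)) := by
      have h3 := P.isPGroup'.map (QuotientGroup.mk' (centralizer (Q : Set G)))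
      have h4 : (P : Subgroup G).map (QuotientGroup.mk' (centralizer (Q : Set G))) = ⊤ := by
        rw [← map_top_of_surjective _ (QuotientGroup.mk'_surjective _), ← hK, Subgroup.map_sup,
          QuotientGroup.map_mk'_self, sup_bot_eq]
      rw [h4] at h3
      exact h3.of_equiv topEquiv
    exact (QuotientGroup.eq_one_iff _).mp (H3.eq_one_of_isPGroup_of_coprime h2
      (g := QuotientGroup.mk' _ x) (Nat.Coprime.coprime_dvd_left (orderOf_map_dvd _ _) hx))
  obtain ⟨m, hm, hmg⟩ : Good N' A g := by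
    refine alperin_good P hPN' (fun X hXP hXs IH g hg => ?_) A hA g hg
    by_cases hQX : Q ≤ X
    swap
    · have hlt : X < X ⊔ Q := lt_of_le_of_ne le_sup_left fun h => hQX (h ▸ le_sup_right)
      refine (IH _ (sup_le hXP hQP) (H2.card_lt_of_lt hlt) g ?_).res le_sup_left
      rw [H22.cj_eq_iff.mpr (H22.mem_normalizer_sup hg (le_normalizer_of_normal (mem_top g)))]
      exact sup_le hXP hQP
    obtain ⟨m, hm, hmg⟩ := ih _ (hn ▸ H2.card_quotient_lt hQ) _ rfl
      (fun h => hG (h.of_involves (H12.involves_quotient _))) (P.mapSurjective hf)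
      (X.map f) (map_mono hXP) (f g) (by
        rw [H22.cj_le_iff]
        rintro _ ⟨a, ha, rfl⟩
        exact ⟨_, hXP (conj_mem_of_mem_normalizer hg ha), rfl⟩)
    obtain ⟨m, rfl⟩ := hf m
    set D := (centralizer (X.map f : Set (G ⧸ Q))).comap f with hD
    have hDQ : ∀ d ∈ D, ∀ x ∈ X, ⁅x, d⁆ ∈ Q := by
      intro d hd x hx
      rw [← hker, MonoidHom.mem_ker, map_commutatorElement, commutatorElement_eq_one_iff_mul_comm]
      exact hd _ ⟨x, hx, rfl⟩
    have hDX : D ≤ normalizer (X : Set G) := fun d hd => mem_normalizer_of_finite fun x hx => by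
      have := mul_mem (inv_mem (hQX (hDQ d hd x hx))) hx
      simpa [commutatorElement_def, mul_assoc] using this
    have hXD : normalizer (X : Set G) ≤ normalizer (D : Set G) := by
      rw [hD, ← comap_normalizer_eq_of_surjective _ hf, ← map_le_iff_le_comap]
      exact (le_normalizer_map f).trans (normalizer_le_normalizer_centralizer _)
    have hx : m⁻¹ * g ∈ D := by
      rintro _ ⟨a, ha, rfl⟩
      have h2 := hmg _ ⟨a, ha, rfl⟩
      rw [map_mul, map_inv]
      calc f a * ((f m)⁻¹ * f g) = (f m)⁻¹ * (f m * f a * (f m)⁻¹) * f g := by group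
        _ = _ := by rw [h2]; group
    obtain ⟨q, hq, k, hk, hqk⟩ := (hXs.inf_normal hDX hXD).exists_mul_of_coprime_mem
      (K := D ⊓ centralizer (X : Set G)) inf_le_left
      (le_normalizer_inf le_normalizer (le_normalizer_centralizer hDX))
      (fun y hy hyo => ⟨hy, mem_centralizer_of_stabilizes hQp hyo (hDQ y hy) (hcop y hyo)⟩) hx
    have := (good_of_mem (mul_mem (show m ∈ N' from hm) (hPN' hq.1.1)) X).cent hk.2
    rwa [mul_assoc, ← hqk, mul_inv_cancel_left] at this
  exact (sub _ P h1 (H22.sylIn_of_sylow_le P hPN') A hA m hm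
    ((cj_eq_of_agree hmg).trans_le hg)).congr hmg

/-- `N(Z(J(P)))` controls strong fusion in `P` if no quadratic pair is involved. -/
theorem zj_controls_fusion {G : Type*} [Group G] [Finite G] (hp2 : p ≠ 2) (he : e = 0 ∨ e = p)
    (hG : ¬ H12.QuadInvolved p G) (P : Sylow p G) (A : Set G) (hA : A ⊆ (P : Set G)) (g : G)
    (hAg : (fun a => g⁻¹ * a * g) '' A ⊆ (P : Set G)) :
    ∃ n ∈ normalizer (centerThompsonOf e (P : Subgroup G) : Set G),
      ∀ a ∈ A, n⁻¹ * a * n = g⁻¹ * a * g := by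
  obtain ⟨m, hm, h⟩ := zj_controls_fusion_aux hp2 he _ G rfl hG P (closure A)
    ((closure_le _).mpr hA) g⁻¹ (by
      rw [H22.cj_closure, closure_le, inv_inv]
      exact hAg)
  exact ⟨m⁻¹, inv_mem hm, fun a ha => by simpa using h a (subset_closure ha)⟩

end H13
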