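import Mathlib
import Cfsg.Prelude.Def_CaseTheorems
import Cfsg.Agent.H24.Base5

/-!
# Vocabulary for the Gorenstein–Walter theorem (groups with dihedral Sylow 2-subgroups)

Ambient style (`H24`): everything is a subgroup of one finite group `G`.  Definitions only.
`O[{2}ᶜ, L]` is the odd core `O(L)`; an involution is an element with `orderOf w = 2`.
-/

set_option autoImplicit false

namespace H13.Dih

open H24 Cfsg Subgroup

universe u

variable {G : Type u} [Group G]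

/-- Every 2-subgroup of `G` is cyclic or dihedral (Klein four-groups included). -/
def CD (G : Type u) [Group G] : Prop :=
  ∀ P : Subgroup G, IsPGroup 2 P → ∃ a ∈ P, ∀ g ∈ P, g ∉ zpowers a →
    g * g = 1 ∧ g * a * g⁻¹ = a⁻¹ ∧ ∀ h ∈ P, h ∉ zpowers a → g * h ∈ zpowers a

/-- `X ≅ PSL₂(q)`, `q > 3` odd. -/
def IsL2 (X : Type u) [Group X] : Prop :=
  ∃ (F : Type) (_ : Field F) (_ : Fintype F), Odd (Fintype.card F) ∧ 3 < Fintype.card F ∧
    Nonempty (X ≃* Matrix.ProjectiveSpecialLinearGroup (Fin 2) F)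

/-- `X ≅ A₇`. -/
def IsA7 (X : Type u) [Group X] : Prop := Nonempty (X ≃* alternatingGroup (Fin 7))

/-- The conclusion of the Gorenstein–Walter theorem for `X`. -/
def GW (X : Type u) [Group X] : Prop := IsL2 (X ⧸ oddCore X) ∨ IsA7 (X ⧸ oddCore X)

/-- The setting of a minimal counterexample. -/
structure MC (G : Type u) [Group G] : Prop where
  simple : IsSimpleGroup G
  cd : CD G
  four : ∃ t s : G, orderOf t = 2 ∧ orderOf s = 2 ∧ s ≠ t ∧ s * t = t * s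
  ih : ∀ L : Subgroup G, L ≠ ⊤ → L ≠ ⊥ → ⁅L, L⁆ = L → GW L

/-- the last term `L^∞` of the derived series of `L` -/
noncomputable def res (L : Subgroup G) : Subgroup G := der (Nat.card L) L

/-- The involutions of `L`. -/
def J (L : Subgroup G) : Set G := {w | w ∈ L ∧ orderOf w = 2}

/-- `E` is quasisimple with centre of odd order, one class of involutions, noncyclic Sylow
2-subgroups, and its centraliser has odd order. -/
structure QS (E : Subgroup G) : Prop where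
  perfect : ⁅E, E⁆ = E
  nml : ∀ Y : Subgroup G, Y ⊴ E → Y ≤ C[E] ∨ Y = E
  oddC : Odd ♯C[E]
  conj : ∀ v ∈ E, ∀ w ∈ E, orderOf v = 2 → orderOf w = 2 → ∃ e ∈ E, e * v * e⁻¹ = w
  four : ∀ t ∈ E, orderOf t = 2 → ∃ s ∈ E, orderOf s = 2 ∧ s ≠ t ∧ s * t = t * s
  exInv : ∃ t ∈ E, orderOf t = 2

/-- Facts about `E` with `E / Z(E) ≅ PSL₂(q)`, `q = m + m'`, `m = (q - ε) / 2` even,
`m' = (q + ε) / 2` odd, inside a group with dihedral Sylow 2-subgroups.  For an involution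
`w ∈ N(E)`, `T w` is the cyclic subgroup of `C_E(w)` inverted by the other involutions of
`C_{N(E)}(w)`; `C_E(w) = (T w) ⟨s⟩ × Z(E)`. -/
structure KL2 (E : Subgroup G) (m m' : ℕ) (T : G → Subgroup G) : Prop where
  even_m : Even m
  odd_m' : Odd m'
  mm' : m' = m + 1 ∨ m = m' + 1
  three_le : 3 ≤ m'
  T_le : ∀ w ∈ N[E], orderOf w = 2 → T w ≤ E ⊓ C{w}
  T_cyc : ∀ w ∈ N[E], orderOf w = 2 → Cyc (T w)
  T_inf : ∀ w ∈ N[E], orderOf w = 2 → T w ⊓ C[E] = ⊥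
  T_mem : ∀ w ∈ E, orderOf w = 2 → w ∈ T w
  card_in : ∀ w ∈ E, orderOf w = 2 → ♯(T w) = m
  card_out : ∀ w ∈ N[E], w ∉ E → orderOf w = 2 → ♯(T w) = m'
  T_cj : ∀ g ∈ N[E], ∀ w ∈ N[E], orderOf w = 2 → T (g * w * g⁻¹) = cj g (T w)
  /-- centralisers of elements of `T w C(E)` whose square is not in `C(E)` -/
  cent : ∀ w ∈ N[E], orderOf w = 2 → ∀ y ∈ T w ⊔ C[E], y * y ∉ C[E] → E ⊓ C{y} ≤ T w ⊔ C[E]
  /-- `C_E(w) = (T w) ⟨s⟩ × Z(E)` -/
  dih : ∀ w ∈ N[E], orderOf w = 2 → ∃ s ∈ E, orderOf s = 2 ∧ s ≠ w ∧ s * w = w * s ∧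
    s ∉ T w ⊔ C[E] ∧ ∀ v ∈ E ⊓ C{w}, v ∈ T w ⊔ C[E] ∨ s * v ∈ T w ⊔ C[E]
  /-- every other involution of `N(E)` commuting with `w` inverts `T w` -/
  inv : ∀ w ∈ N[E], ∀ w' ∈ N[E], orderOf w = 2 → orderOf w' = 2 → w' ≠ w → w' * w = w * w' →
    ∀ y ∈ T w, w' * y * w'⁻¹ = y⁻¹
  /-- two outer involutions commuting with the inner involution `t` differ by `T t C(E)` -/
  outer : ∀ t ∈ E, orderOf t = 2 → ∀ w ∈ N[E], ∀ w' ∈ N[E], w ∉ E → w' ∉ E → orderOf w = 2 →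
    orderOf w' = 2 → w * t = t * w → w' * t = t * w' → w * w' ∈ T t ⊔ C[E]
  comm : ⁅N[E], N[E]⁆ ≤ E ⊔ C[E]
  /-- an `r`-element (`r` odd) centralising `t` and the `r'`-elements of `T t` induces an inner
  automorphism -/
  k5 : ∀ t ∈ E, orderOf t = 2 → ∀ r : ℕ, r.Prime → r ≠ 2 → ∀ x ∈ N[E], PiElt {r} x →
    x * t = t * x → (∀ y ∈ T t, ¬ r ∣ orderOf y → x * y = y * x) → x ∈ T t ⊔ C[E]
  card_J : (J E).ncard = (m + m') * m'
  /-- pairs of elements of order `p` of tori generating a group of odd order lie in a Borel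
  subgroup -/
  k6 : ∀ t ∈ E, orderOf t = 2 → ∀ z ∈ T t, (orderOf z).Prime → orderOf z ≠ 2 →
    {t' | t' ∈ J E ∧ ∃ z' ∈ T t', orderOf z' = orderOf z ∧
      Odd ♯(closure ({z, z'} : Set G))}.ncard ≤ 2 * (m + m') + 1

/-- Facts about `E` with `E / Z(E) ≅ A₇` inside a group with dihedral Sylow 2-subgroups. -/
structure KA7 (E : Subgroup G) : Prop where
  inner : ∀ w ∈ N[E], orderOf w = 2 → w ∈ E
  four : ∀ t ∈ E, orderOf t = 2 → ∃ v ∈ E, orderOf v = 2 ∧ v ≠ t ∧ v * t = t * v ∧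
    ∀ y ∈ N[E], Odd (orderOf y) → (y * t = t * y ∨ y * v = v * y ∨ y * (t * v) = t * v * y) →
      y * t = t * y ∧ y * v = v * y

/-- The shape `(Δ)` of `H = C(t)`: `O(H) = K ⋊ B`, `K` abelian and inverted by all involutions
`≠ t` of `H`, `B` the centraliser in `O(H)` of the Sylow 2-subgroup `S` of `H`. -/
structure Delta (t : G) (S K : Subgroup G) : Prop where
  syl : Syl 2 C{t} S
  nml : K ⊴ C{t}
  abl : Abl K
  odd : Odd ♯K
  inv : ∀ s, orderOf s = 2 → s * t = t * s → s ≠ t → ∀ y ∈ K, s * y * s⁻¹ = y⁻¹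
  sup : O[{2}ᶜ, C{t}] = K ⊔ (O[{2}ᶜ, C{t}] ⊓ C[S])

end H13.Dih
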