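import Mathlib
import Cfsg.Agent.H13.DihDefs
import Cfsg.Agent.H13.Basic
import Cfsg.Agent.H26.S01a
import Cfsg.Agent.H25.Rank2
import Cfsg.Agent.H3.Frobenius
import Cfsg.Agent.H22.Wr
import Cfsg.Agent.H5.BSW
import Cfsg.Agent.H12.QuadAction
import Cfsg.Agent.H27.PF14

/-! Basic facts on groups with cyclic or dihedral Sylow 2-subgroups. -/

set_option autoImplicit false

namespace H13.Dih

open H24 H26 Cfsg Subgroup

universe u v

variable {G : Type u} [Group G] {G' : Type v} [Group G']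

section Inv

variable {t s g x y : G}

theorem sq_of (ht : orderOf t = 2) : t * t = 1 := by rw [← pow_two, ← ht, pow_orderOf_eq_one]

theorem ne_one_of (ht : orderOf t = 2) : t ≠ 1 := by
  rintro rfl; simp at ht

theorem inv_of (ht : orderOf t = 2) : t⁻¹ = t := inv_eq_of_mul_eq_one_right (sq_of ht)

theorem two_of (h : t * t = 1) (h1 : t ≠ 1) : orderOf t = 2 :=
  orderOf_eq_prime (by rw [pow_two, h]) h1

theorem two_conj (ht : orderOf t = 2) (g : G) : orderOf (g * t * g⁻¹) = 2 := by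
  rw [H24.orderOf_conj, ht]

theorem mem_zpowers_of_sq (h : t * t = 1) : x ∈ zpowers t ↔ x = 1 ∨ x = t := by
  constructor
  · rintro ⟨k, rfl⟩
    have h2 : t ^ (2 : ℤ) = 1 := by rw [zpow_two, h]
    rcases Int.even_or_odd' k with ⟨j, rfl | rfl⟩
    · left; simp only; rw [zpow_mul, h2, one_zpow]
    · right; simp only; rw [zpow_add, zpow_mul, h2, one_zpow, one_mul, zpow_one]
  · rintro (rfl | rfl)
    · exact one_mem _
    · exact mem_zpowers _

theorem pi_two (ht : orderOf t = 2) : PiElt {2} t := piElt_of_orderOf_prime Nat.prime_two ht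

theorem isPi_zp (ht : orderOf t = 2) : IsPi {2} (zpowers t) := (pi_two ht).isPi

theorem piNat_odd {n : ℕ} : PiNat {2}ᶜ n ↔ Odd n := by
  rw [piNat_compl_singleton Nat.prime_two, Nat.two_dvd_ne_zero, Nat.odd_iff]

theorem isPi_odd {H : Subgroup G} : IsPi {2}ᶜ H ↔ Odd ♯H := piNat_odd

theorem piElt_odd : PiElt {2}ᶜ x ↔ Odd (orderOf x) := piNat_odd

theorem odd_orderOf {H : Subgroup G} (hH : Odd ♯H) (hx : x ∈ H) : Odd (orderOf x) :=
  Odd.of_dvd_nat hH (orderOf_dvd_card' hx)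

theorem not_mem_of_odd {H : Subgroup G} (hH : Odd ♯H) (ht : orderOf t = 2) : t ∉ H := fun h => by
  have := odd_orderOf hH h
  rw [ht] at this
  exact absurd this (by decide)

theorem cop_zp {H : Subgroup G} (hH : Odd ♯H) (ht : orderOf t = 2) :
    (♯H).Coprime ♯(zpowers t) := (isPi_odd.2 hH).coprime' (isPi_zp ht)

theorem mem_zpowers_sq [Finite G] (h : Odd (orderOf x)) : x ∈ zpowers (x * x) := by
  obtain ⟨k, hk⟩ := h
  refine ⟨(k + 1 : ℕ), ?_⟩
  simp only
  rw [zpow_natCast, ← pow_two, ← pow_mul, show 2 * (k + 1) = orderOf x + 1 by omega, pow_succ,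
    pow_orderOf_eq_one, one_mul]

theorem eq_one_of_odd_of_sq (h : Odd (orderOf x)) (h2 : x * x = 1) : x = 1 := by
  by_contra h1
  rw [two_of h2 h1] at h
  exact absurd h (by decide)

theorem eq_one_of_inv_eq (h : Odd (orderOf x)) (h2 : x⁻¹ = x) : x = 1 :=
  eq_one_of_odd_of_sq h (by nth_rewrite 1 [← h2]; exact inv_mul_cancel x)

theorem sol_of_odd [Finite G] {H : Subgroup G} (h : Odd ♯H) : Sol H := H27.Feit_Thompson H h

/-- the unique involution of a cyclic group -/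
theorem eq_of_mem_cyc [Finite G] {H : Subgroup G} (hH : Cyc H) (ht : orderOf t = 2)
    (hs : orderOf s = 2) (h1 : t ∈ H) (h2 : s ∈ H) : s = t := by
  have := H25.cyc_eq_of_card_eq hH (zpowers_le.2 h2) (zpowers_le.2 h1)
    (by rw [card_zpowers', card_zpowers', ht, hs])
  rcases (mem_zpowers_of_sq (sq_of ht)).1 (this ▸ mem_zpowers s) with h | h
  · exact absurd h (ne_one_of hs)
  · exact h

end Inv

/-- `t`, `s` are distinct commuting involutions. -/
structure Four (t s : G) : Prop where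
  ht : orderOf t = 2
  hs : orderOf s = 2
  ne : s ≠ t
  comm : s * t = t * s

/-- the four-group generated by `t` and `s` -/
def V4 (t s : G) : Subgroup G := zpowers t ⊔ zpowers s

namespace Four

variable {t s g x y : G} (h : Four t s)
include h

theorem symm : Four s t := ⟨h.hs, h.ht, h.ne.symm, h.comm.symm⟩

theorem mul_sq : t * s * (t * s) = 1 := by
  calc t * s * (t * s) = t * (s * t) * s := by group
    _ = (t * t) * (s * s) := by rw [h.comm]; group
    _ = 1 := by rw [sq_of h.ht, sq_of h.hs, one_mul]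

theorem mul_ne_one : t * s ≠ 1 := fun e =>
  h.ne (by rw [← inv_of h.ht]; exact eq_inv_of_mul_eq_one_right e)

theorem hts : orderOf (t * s) = 2 := two_of h.mul_sq h.mul_ne_one

theorem ts_ne_t : t * s ≠ t := fun e => ne_one_of h.hs (by simpa using e)

theorem ts_ne_s : t * s ≠ s := fun e => ne_one_of h.ht (by simpa using e)

theorem t_ts : t * (t * s) = s := by rw [← mul_assoc, sq_of h.ht, one_mul]

theorem s_ts : s * (t * s) = t := by rw [← h.comm, ← mul_assoc, sq_of h.hs, one_mul]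

theorem ts_t : t * s * t = s := by rw [mul_assoc, h.comm, h.t_ts]

theorem ts_s : t * s * s = t := by rw [mul_assoc, sq_of h.hs, mul_one]

theorem mul : Four t (t * s) := ⟨h.ht, h.hts, h.ts_ne_t, by rw [h.ts_t, h.t_ts]⟩

theorem mul' : Four s (t * s) := ⟨h.hs, h.hts, h.ts_ne_s, by rw [h.ts_s, h.s_ts]⟩

theorem conj (g : G) : Four (g * t * g⁻¹) (g * s * g⁻¹) :=
  ⟨two_conj h.ht g, two_conj h.hs g, fun e => h.ne (by simpa using e), by
    calc g * s * g⁻¹ * (g * t * g⁻¹) = g * (s * t) * g⁻¹ := by group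
      _ = g * t * g⁻¹ * (g * s * g⁻¹) := by rw [h.comm]; group⟩

theorem s_mem_C : s ∈ C{t} := mem_C1.2 h.comm

theorem t_mem_C : t ∈ C{s} := mem_C1.2 h.comm.symm

omit h in
theorem t_mem : t ∈ V4 t s := mem_sup_left (mem_zpowers t)

omit h in
theorem s_mem : s ∈ V4 t s := mem_sup_right (mem_zpowers s)

omit h in
theorem ts_mem : t * s ∈ V4 t s := mul_mem t_mem s_mem

omit h in
theorem V_le {H : Subgroup G} : V4 t s ≤ H ↔ t ∈ H ∧ s ∈ H := by
  rw [V4, sup_le_iff, zpowers_le, zpowers_le]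

omit h in
theorem C_V : C[V4 t s] = C{t} ⊓ C{s} := by rw [V4, C_sup, C_zpowers, C_zpowers]

theorem zp_cent : zpowers s ≤ C[zpowers t] := by
  rw [C_zpowers]; exact zpowers_le.2 h.s_mem_C

theorem mem_V : x ∈ V4 t s ↔ x = 1 ∨ x = t ∨ x = s ∨ x = t * s := by
  constructor
  · intro hx
    obtain ⟨a, ha, b, hb, rfl⟩ := (mem_sup_of_norm (norm_of_cent h.zp_cent)).1 hx
    rcases (mem_zpowers_of_sq (sq_of h.ht)).1 ha with rfl | rfl <;>
      rcases (mem_zpowers_of_sq (sq_of h.hs)).1 hb with rfl | rfl <;> simp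
  · rintro (rfl | rfl | rfl | rfl)
    exacts [one_mem _, t_mem, s_mem, ts_mem]

omit h in
theorem V_symm : V4 s t = V4 t s := by rw [V4, V4, sup_comm]

theorem V_mul : V4 t (t * s) = V4 t s :=
  le_antisymm (V_le.2 ⟨t_mem, ts_mem⟩) (V_le.2 ⟨t_mem, by
    have : t * (t * s) ∈ V4 t (t * s) := ts_mem
    rwa [h.t_ts] at this⟩)

theorem V_abl : Abl (V4 t s) :=
  (abl_zpowers t).sup (abl_zpowers s) (cents_symm h.zp_cent)

theorem V_pi : IsPi {2} (V4 t s) :=
  (isPi_zp h.ht).sup (isPi_zp h.hs) (norm_of_cent h.zp_cent)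

theorem V_sq (hx : x ∈ V4 t s) : x * x = 1 := by
  rcases h.mem_V.1 hx with rfl | rfl | rfl | rfl
  exacts [one_mul _, sq_of h.ht, sq_of h.hs, h.mul_sq]

theorem V_two (hx : x ∈ V4 t s) (h1 : x ≠ 1) : orderOf x = 2 := two_of (h.V_sq hx) h1

theorem zp_inf : zpowers t ⊓ zpowers s = ⊥ := by
  rw [eq_bot_iff]
  rintro x ⟨h1, h2⟩
  rcases (mem_zpowers_of_sq (sq_of h.ht)).1 h1 with rfl | rfl
  · exact one_mem _
  · rcases (mem_zpowers_of_sq (sq_of h.hs)).1 h2 with e | e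
    · exact absurd e (ne_one_of h.ht)
    · exact absurd e.symm h.ne

theorem V_card : ♯(V4 t s) = 4 := by
  rw [V4, card_sup_of_inf (norm_of_cent h.zp_cent) h.zp_inf, card_zpowers', card_zpowers', h.ht,
    h.hs]

theorem V_ncyc [Finite G] : ¬ Cyc (V4 t s) := fun hc =>
  h.ne (eq_of_mem_cyc hc h.ht h.hs t_mem s_mem)

theorem V_le_C : V4 t s ≤ C{t} := V_le.2 ⟨self_mem_C1 t, h.s_mem_C⟩

theorem V_le_C' : V4 t s ≤ C{s} := V_le.2 ⟨h.t_mem_C, self_mem_C1 s⟩

theorem V_le_C_of_mem (hx : x ∈ V4 t s) : V4 t s ≤ C{x} := h.V_abl.le_C.trans (C_le_C1 hx)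

omit h in
theorem cj_V (g : G) : cj g (V4 t s) = V4 (g * t * g⁻¹) (g * s * g⁻¹) := by
  rw [V4, V4, cj_sup, cj_zpowers, cj_zpowers]

omit h in
theorem C_mul (h1 : y ∈ C{t}) (h2 : y ∈ C{s}) : y ∈ C{t * s} := by
  rw [mem_C1] at *
  rw [← mul_assoc, h1, mul_assoc, h2, mul_assoc]

theorem C_of_ts (h1 : y ∈ C{t}) (h2 : y ∈ C{t * s}) : y ∈ C{s} := by
  have := C_mul h1 h2
  rwa [h.t_ts] at this

theorem C_of_ts' (h1 : y ∈ C{s}) (h2 : y ∈ C{t * s}) : y ∈ C{t} := by
  have := C_mul h1 h2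
  rwa [h.s_ts] at this

/-- two distinct involutions of a four-group generate it -/
theorem V_eq {a b : G} (hab : Four a b) (ha : a ∈ V4 t s) (hb : b ∈ V4 t s) [Finite G] :
    V4 a b = V4 t s :=
  eq_of_card_eq (V_le.2 ⟨ha, hb⟩) (by rw [hab.V_card, h.V_card])

theorem four_of_mem {a b : G} (ha : a ∈ V4 t s) (hb : b ∈ V4 t s) (ha1 : a ≠ 1) (hb1 : b ≠ 1)
    (hab : b ≠ a) : Four a b :=
  ⟨h.V_two ha ha1, h.V_two hb hb1, hab, h.V_abl.comm hb ha⟩

/-- generation by centralisers -/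
theorem gen [Finite G] {K L : Subgroup G} (hK : Odd ♯K) (hV : V4 t s ≤ N[K])
    (h1 : K ⊓ C{t} ≤ L) (h2 : K ⊓ C{s} ≤ L) (h3 : K ⊓ C{t * s} ≤ L) : K ≤ L := by
  refine coprime_abelian_gen_cent1 h.V_abl h.V_ncyc hV ((isPi_odd.2 hK).coprime' h.V_pi) ?_
  intro a ha h0
  rcases h.mem_V.1 ha with rfl | rfl | rfl | rfl
  exacts [absurd rfl h0, h1, h2, h3]

/-- an element of odd order normalising a four-group and centralising one involution -/
theorem odd_fix [Finite G] (hg : g ∈ N[V4 t s]) (ho : Odd (orderOf g)) (ht : g ∈ C{t}) :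
    g ∈ C{s} := by
  have ht' := mem_C1_iff_conj.1 ht
  have h1 := h.mem_V.1 (conj_mem hg (s_mem (t := t) (s := s)))
  rcases h1 with e | e | e | e
  · exact absurd (conj_eq_one_iff'.1 e) (ne_one_of h.hs)
  · rw [← ht'] at e; exact absurd (by simpa using e) h.ne
  · exact mem_C1_iff_conj.2 e
  · refine (zpowers_le.2 ?_ : zpowers (g * g) ≤ C{s}) (mem_zpowers_sq ho)
    rw [mem_C1_iff_conj]
    calc g * g * s * (g * g)⁻¹ = g * (g * s * g⁻¹) * g⁻¹ := by group
      _ = g * (t * s) * g⁻¹ := by rw [e]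
      _ = (g * t * g⁻¹) * (g * s * g⁻¹) := by group
      _ = s := by rw [ht', e, h.t_ts]

end Four

section CD

theorem CD.of_injective (h : CD G) (f : G' →* G) (hf : Function.Injective f) : CD G' := by
  intro P hP
  obtain ⟨_, ⟨a, ha, rfl⟩, H⟩ := h (P.map f) (hP.map f)
  have key : ∀ g, f g ∈ zpowers (f a) ↔ g ∈ zpowers a := fun g => by
    rw [← MonoidHom.map_zpowers]; exact mem_map_iff_mem hf
  refine ⟨a, ha, fun g hg hga => ?_⟩
  obtain ⟨h1, h2, h3⟩ := H (f g) (mem_map_of_mem f hg) (by rwa [key])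
  refine ⟨hf (by rw [map_mul, h1, map_one]), hf (by simpa using h2), fun k hk hka => ?_⟩
  rw [← key, map_mul]
  exact h3 _ (mem_map_of_mem f hk) (by rwa [key])

theorem CD.of_surjective [Finite G] (h : CD G) (f : G →* G') (hf : Function.Surjective f) :
    CD G' := by
  intro Q hQ
  obtain ⟨P, hP, rfl, -⟩ := H13.exists_isPGroup_map_eq (p := 2) hf hQ
  obtain ⟨a, ha, H⟩ := h P hP
  have key : ∀ g, f g ∉ zpowers (f a) → g ∉ zpowers a := fun g h1 h2 =>
    h1 (by rw [← MonoidHom.map_zpowers]; exact mem_map_of_mem f h2)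
  refine ⟨f a, mem_map_of_mem f ha, ?_⟩
  rintro _ ⟨g, hg, rfl⟩ hga
  obtain ⟨h1, h2, h3⟩ := H g hg (key g hga)
  refine ⟨by rw [← map_mul, h1, map_one], by rw [← map_inv, ← map_mul, ← map_mul, h2, map_inv], ?_⟩
  rintro _ ⟨k, hk, rfl⟩ hka
  rw [← map_mul, ← MonoidHom.map_zpowers]
  exact mem_map_of_mem f (h3 k hk (key k hka))

theorem CD.subgroup (h : CD G) (L : Subgroup G) : CD L := h.of_injective L.subtype L.subtype_injective

theorem CD.qn [Finite G] (h : CD G) (K : Subgroup G) : CD (QN K) :=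
  (h.subgroup N[K]).of_surjective (coset K) (coset_surjective K)

theorem cd_of_dihedral [Finite G] (S : Sylow 2 G) {n : ℕ}
    (e : (S : Subgroup G) ≃* DihedralGroup n) : CD G := by
  obtain ⟨a, x, hD⟩ := H5.exists_ddata e
  intro P hP
  obtain ⟨g, -, hg⟩ := Sylow_Jsub Nat.prime_two (syl_top_of_sylow Nat.prime_two S)
    (isPi_of_isPGroup Nat.prime_two hP) le_top
  obtain ⟨b, hb, hb'⟩ := ((cyc_zpowers (g⁻¹ * a * g)).of_le
    (inf_le_right : P ⊓ zpowers (g⁻¹ * a * g) ≤ _)).exists_gen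
  have hS : ∀ y ∈ P, g * y * g⁻¹ ∈ (S : Subgroup G) := fun y hy => hg (conj_mem_cj g hy)
  have key : ∀ y, y ∈ zpowers (g⁻¹ * a * g) ↔ g * y * g⁻¹ ∈ zpowers a := fun y => by
    have := cj_zpowers g⁻¹ a
    rw [inv_inv] at this
    rw [← this, mem_cj, inv_inv]
  have key2 : ∀ y ∈ P, y ∉ zpowers b → g * y * g⁻¹ ∉ zpowers a := fun y hy h1 h2 =>
    h1 (hb' ▸ ⟨hy, (key y).2 h2⟩)
  refine ⟨b, hb.1, fun y hy hyb => ⟨?_, ?_, fun z hz hzb => ?_⟩⟩
  · have := hD.sq_of_nmem (hS y hy) (key2 y hy hyb)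
    rw [← conj_eq_one_iff' (g := g), ← this]; group
  · have := hD.conj_of_nmem (hS y hy) (key2 y hy hyb) ((key b).1 hb.2)
    calc y * b * y⁻¹ = g⁻¹ * (g * y * g⁻¹ * (g * b * g⁻¹) * (g * y * g⁻¹)⁻¹) * g := by group
      _ = b⁻¹ := by rw [this]; group
  · rw [hb']
    refine ⟨mul_mem hy hz, (key _).2 ?_⟩
    have h1 := ((hD.mem _).1 (hS y hy)).resolve_left (key2 y hy hyb)
    have h2 := ((hD.mem _).1 (hS z hz)).resolve_left (key2 z hz hzb)
    have h3 := hD.sq_of_nmem (hS y hy) (key2 y hy hyb)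
    have : g * (y * z) * g⁻¹ = (x⁻¹ * (g * y * g⁻¹))⁻¹ * (x⁻¹ * (g * z * g⁻¹)) := by
      rw [mul_inv_rev, inv_eq_of_mul_eq_one_right h3]; group
    rw [this]
    exact mul_mem (inv_mem h1) h2

variable [Finite G] (h : CD G)
include h

theorem CD.ex {P : Subgroup G} (hP : IsPi {2} P) : ∃ a ∈ P, ∀ g ∈ P, g ∉ zpowers a →
    g * g = 1 ∧ g * a * g⁻¹ = a⁻¹ ∧ ∀ h ∈ P, h ∉ zpowers a → g * h ∈ zpowers a :=
  h P (hP.isPGroup Nat.prime_two)

/-- 2-elements centralising a four-group lie in it -/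
theorem CD.mem_V {t s y : G} (hf : Four t s) (hy : PiElt {2} y) (h1 : y ∈ C{t}) (h2 : y ∈ C{s}) :
    y ∈ V4 t s := by
  have hc : zpowers y ≤ C[V4 t s] := by rw [Four.C_V]; exact zpowers_le.2 ⟨h1, h2⟩
  have hP : IsPi {2} (V4 t s ⊔ zpowers y) := hf.V_pi.sup hy.isPi (norm_of_cent hc)
  have hA : Abl (V4 t s ⊔ zpowers y) := hf.V_abl.sup (abl_zpowers y) (cents_symm hc)
  obtain ⟨a, ha, H⟩ := h.ex hP
  have hV : ∀ v ∈ V4 t s, v ∈ V4 t s ⊔ zpowers y := fun v hv => mem_sup_left hv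
  -- two distinct involutions of `V` outside `⟨a⟩`
  have key : ∀ {b c : G}, Four b c → b ∈ V4 t s → c ∈ V4 t s → b ∉ zpowers a → c ∉ zpowers a →
      y ∈ V4 t s := by
    intro b c hbc hb hc' hba hca
    obtain ⟨-, e1, e2⟩ := H b (hV b hb) hba
    have ha2 : a * a = 1 := by
      rw [hA.comm (hV b hb) ha, mul_inv_cancel_right] at e1
      nth_rewrite 1 [e1]; exact inv_mul_cancel a
    have haV : zpowers a ≤ V4 t s := by
      rcases (mem_zpowers_of_sq ha2).1 (e2 c (hV c hc') hca) with e | e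
      · exact absurd e hbc.mul_ne_one
      · exact zpowers_le.2 (e ▸ mul_mem hb hc')
    by_cases hya : y ∈ zpowers a
    · exact haV hya
    · exact (mul_mem_cancel_left hb).1 (haV (e2 y (mem_sup_right (mem_zpowers y)) hya))
  by_cases ht : t ∈ zpowers a
  · refine key hf.mul' Four.s_mem Four.ts_mem (fun hs => hf.ne ?_) (fun hs => hf.ts_ne_t ?_)
    · exact eq_of_mem_cyc (cyc_zpowers a) hf.ht hf.hs ht hs
    · exact eq_of_mem_cyc (cyc_zpowers a) hf.ht hf.hts ht hs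
  · by_cases hs : s ∈ zpowers a
    · exact key hf.mul Four.t_mem Four.ts_mem ht fun e =>
        hf.ts_ne_s (eq_of_mem_cyc (cyc_zpowers a) hf.hs hf.hts hs e)
    · exact key hf Four.t_mem Four.s_mem ht hs

theorem CD.le_V {t s : G} (hf : Four t s) {X : Subgroup G} (hX : IsPi {2} X)
    (h1 : X ≤ C[V4 t s]) : X ≤ V4 t s := fun _ hy =>
  h.mem_V hf (hX.piElt hy) ((Four.C_V (t := t) (s := s)).le (h1 hy)).1
    ((Four.C_V (t := t) (s := s)).le (h1 hy)).2

omit h in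
theorem cent_of_cyc_two {X : Subgroup G} (hX : IsPi {2} X) (hc : Cyc X) {g : G} (hg : g ∈ N[X])
    (ho : Odd (orderOf g)) : g ∈ C[X] := by
  by_contra hn
  exact H22.not_hasOdd_of_isCyclic (hX.isPGroup Nat.prime_two)
    ⟨g, hg, Nat.coprime_two_right.2 ho, hn⟩

/-- an element of odd order acting nontrivially on a 2-group -/
theorem CD.four_of_odd {X : Subgroup G} (hX : IsPi {2} X) {g : G} (hg : g ∈ N[X])
    (ho : Odd (orderOf g)) (hn : g ∉ C[X]) :
    ∃ t s, Four t s ∧ X = V4 t s ∧ g * t * g⁻¹ = s ∧ g * s * g⁻¹ = t * s := by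
  obtain ⟨a, ha, H⟩ := h.ex hX
  by_cases ha2 : a * a = 1
  · have hnc : ¬ Cyc X := fun hc => hn (cent_of_cyc_two hX hc hg ho)
    obtain ⟨b, hb, hba⟩ : ∃ b ∈ X, b ∉ zpowers a := by
      by_contra! hh
      exact hnc ((cyc_zpowers a).of_le hh)
    obtain ⟨e1, e2, e3⟩ := H b hb hba
    have hb1 : b ≠ 1 := fun e => hba (e ▸ one_mem _)
    have hX' : ∀ y ∈ X, y ∈ zpowers a ⊔ zpowers b := fun y hy => by
      by_cases hya : y ∈ zpowers a
      · exact mem_sup_left hya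
      · exact (mul_mem_cancel_left (mem_sup_right (mem_zpowers b))).1 (mem_sup_left (e3 y hy hya))
    have ha1 : a ≠ 1 := by
      rintro rfl
      exact hnc ((cyc_zpowers b).of_le fun y hy => by simpa using hX' y hy)
    have hab : Four a b := ⟨two_of ha2 ha1, two_of e1 hb1, fun e => hba (e ▸ mem_zpowers _), by
      rw [inv_eq_of_mul_eq_one_right ha2, mul_inv_eq_iff_eq_mul] at e2; exact e2⟩
    have hXV : X = V4 a b := le_antisymm hX' (Four.V_le.2 ⟨ha, hb⟩)
    subst hXV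
    have hga : g * a * g⁻¹ ≠ a := fun e => by
      have h1 := mem_C1_iff_conj.2 e
      exact hn ((Four.C_V (t := a) (s := b)).ge ⟨h1, hab.odd_fix hg ho h1⟩)
    have hm := conj_mem hg ha
    have h4 : Four a (g * a * g⁻¹) :=
      hab.four_of_mem ha hm ha1 (by rwa [Ne, conj_eq_one_iff']) hga
    have hV := hab.V_eq h4 ha hm
    refine ⟨a, g * a * g⁻¹, h4, hV.symm, rfl, ?_⟩
    rw [← hV] at hg
    rcases h4.mem_V.1 (conj_mem hg Four.s_mem) with e | e | e | e
    · exact absurd (conj_eq_one_iff'.1 e) (ne_one_of h4.hs)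
    · exfalso
      refine hga (mem_C1_iff_conj.1 ((zpowers_le.2 ?_ : zpowers (g * g) ≤ C{a}) (mem_zpowers_sq ho)))
      rw [mem_C1_iff_conj]
      calc g * g * a * (g * g)⁻¹ = g * (g * a * g⁻¹) * g⁻¹ := by group
        _ = a := e
    · exact absurd (by simpa using e) hga
    · exact e
  · exfalso
    have hA : g ∈ N[zpowers a] := by
      refine mem_N_of_cj_le ?_
      rw [cj_zpowers, zpowers_le]
      by_contra h1
      refine ha2 ?_
      rw [← conj_eq_one_iff' (g := g), ← (H _ (conj_mem hg ha) h1).1]; group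
    have hA' := cent_of_cyc_two (hX.of_le (zpowers_le.2 ha)) (cyc_zpowers a) hA ho
    refine hn (zpowers_le.1 (stable_factor_cent (zpowers_le.2 hA') ?_ (zpowers_le.2 ha)
      ((hX.of_le (zpowers_le.2 ha)).coprime (piElt_odd.2 ho).isPi) (Or.inl (cyc_zpowers a).sol)))
    rw [commutator_le]
    intro y hy k hk
    have hk1 : k ∈ N[X] := zpowers_le.2 hg hk
    have hk2 : k ∈ N[zpowers a] := zpowers_le.2 hA hk
    rw [commutatorElement_def]
    by_cases hya : y ∈ zpowers a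
    · have := mul_mem hya (conj_mem hk2 (inv_mem hya))
      simpa only [mul_assoc] using this
    · have := (H y hy hya).2.2 _ (conj_mem hk1 (inv_mem hy))
        (by rw [conj_mem_iff hk2]; simpa using hya)
      simpa only [mul_assoc] using this

theorem CD.odd_cent {X : Subgroup G} (hX : IsPi {2} X) {g z : G} (hg : g ∈ N[X])
    (ho : Odd (orderOf g)) (hz : z ∈ X) (hz1 : z ≠ 1) (hgz : g ∈ C{z}) : g ∈ C[X] := by
  by_contra hn
  obtain ⟨t, s, hf, rfl, e1, e2⟩ := h.four_of_odd hX hg ho hn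
  have e := mem_C1_iff_conj.1 hgz
  rcases hf.mem_V.1 hz with rfl | rfl | rfl | rfl
  · exact hz1 rfl
  · exact hf.ne (e1.symm.trans e)
  · exact hf.ts_ne_s (e2.symm.trans e)
  · have : g * (t * s) * g⁻¹ = g * t * g⁻¹ * (g * s * g⁻¹) := by group
    rw [this, e1, e2, hf.s_ts] at e
    exact hf.ts_ne_t e.symm

omit h in
theorem ncompl_of_forall {L : Subgroup G}
    (H : ∀ X ≤ L, IsPi {2} X → ∀ g ∈ L, g ∈ N[X] → Odd (orderOf g) → g ∈ C[X]) :
    NCompl {2} L := by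
  rw [ncompl_iff_hasNPC Nat.prime_two]
  obtain ⟨P⟩ : Nonempty (Sylow 2 L) := inferInstance
  refine H3.frobenius_hasNPC P fun Q hQ g hg ho => ?_
  have h1 : IsPi {2} (Q.map L.subtype) :=
    (isPi_of_isPGroup Nat.prime_two (P.isPGroup'.to_le hQ)).map _
  have h2 : zpowers g ≤ N[Q] := zpowers_le.2 hg
  have h3 := H _ (map_subtype_le' Q) h1 g g.2
    (norm_map h2 L.subtype (mem_map_of_mem _ (mem_zpowers g)))
    (by rw [Subgroup.orderOf_coe]; exact Nat.coprime_two_right.1 ho)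
  refine zpowers_le.1 (cent_of_map L.subtype_injective ?_)
  rw [MonoidHom.map_zpowers]
  exact zpowers_le.2 h3

theorem CD.ncompl_of_not_fused {L : Subgroup G}
    (H : ∀ t ∈ L, ∀ s ∈ L, Four t s → ∀ g ∈ L, Odd (orderOf g) → g * t * g⁻¹ = s →
      g * s * g⁻¹ ≠ t * s) : NCompl {2} L := by
  refine ncompl_of_forall fun X hXL hX g hg hN ho => ?_
  by_contra hn
  obtain ⟨t, s, hf, rfl, e1, e2⟩ := h.four_of_odd hX hN ho hn
  exact H t (hXL Four.t_mem) s (hXL Four.s_mem) hf g hg ho e1 e2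

theorem CD.ncompl_C {t : G} (ht : orderOf t = 2) : NCompl {2} C{t} := by
  refine ncompl_of_forall fun X hXL hX g hg hN ho => ?_
  have h1 : zpowers t ≤ C[X] := zpowers_le.2 (mem_C_iff_le_C1.2 hXL)
  refine C_anti le_sup_left (h.odd_cent (hX.sup (isPi_zp ht) (norm_of_cent h1)) ?_ ho
    (mem_sup_right (mem_zpowers t)) (ne_one_of ht) hg)
  exact zpowers_le.1 (norm_sup (zpowers_le.2 hN) (norm_zpowers_of_cent (zpowers_le.2 hg)))

omit h in
theorem sol_of_ncompl {L : Subgroup G} (hL : NCompl {2} L) : Sol L := by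
  obtain ⟨S, hS⟩ := Sylow_exists Nat.prime_two L
  exact ((ncompl_iff hS).1 hL).sol (sol_of_odd (isPi_odd.1 (pcore_pi _ _))) (hS.pi.sol Nat.prime_two)

theorem CD.sol_C {t : G} (ht : orderOf t = 2) : Sol C{t} := sol_of_ncompl (h.ncompl_C ht)

theorem CD.mem_U {t y : G} (ht : orderOf t = 2) :
    y ∈ O[{2}ᶜ, C{t}] ↔ y ∈ C{t} ∧ Odd (orderOf y) :=
  ⟨fun hy => ⟨pcore_le _ _ hy, piElt_odd.1 ((pcore_pi _ _).piElt hy)⟩,
    fun hy => (h.ncompl_C ht).mem_pcore (piElt_odd.2 hy.2) hy.1⟩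

theorem CD.le_U {t : G} (ht : orderOf t = 2) {X : Subgroup G} (hX : Odd ♯X) (h1 : X ≤ C{t}) :
    X ≤ O[{2}ᶜ, C{t}] := (h.ncompl_C ht).le_pcore (isPi_odd.2 hX) h1

theorem CD.sd_C {t : G} (ht : orderOf t = 2) {S : Subgroup G} (hS : Syl 2 C{t} S) :
    SD O[{2}ᶜ, C{t}] S C{t} := (ncompl_iff hS).1 (h.ncompl_C ht)

/-- `C(V) = V × O(C(V))` -/
theorem CD.decomp_CV {t s y : G} (hf : Four t s) (h1 : y ∈ C{t}) (h2 : y ∈ C{s}) :
    ∃ v ∈ V4 t s, ∃ b, b ∈ O[{2}ᶜ, C{t}] ⊓ C{s} ∧ y = v * b := by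
  obtain ⟨v, b, hv, hb, hv', hb', rfl⟩ := exists_piElt_decomp {2} y
  exact ⟨v, h.mem_V hf hv (zpowers_le.2 h1 hv') (zpowers_le.2 h2 hv'), b,
    ⟨(h.mem_U hf.ht).2 ⟨zpowers_le.2 h1 hb', piElt_odd.1 hb⟩, zpowers_le.2 h2 hb'⟩, rfl⟩

theorem CD.B_symm {t s : G} (hf : Four t s) :
    O[{2}ᶜ, C{s}] ⊓ C{t} = O[{2}ᶜ, C{t}] ⊓ C{s} := by
  ext y
  simp only [mem_inf, h.mem_U hf.ht, h.mem_U hf.hs]
  tauto

theorem CD.not_quad {p : ℕ} [Fact p.Prime] (hp : p ≠ 2) : ¬ H12.QuadInvolved p G := by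
  rintro ⟨K, _, _, _, u, v, hu, hv, huv, L, f, hf⟩
  have h1 := (h.subgroup L).of_surjective f hf
  refine H12.QuadInvolved.not_abelian_two hp
    (⟨K, inferInstance, inferInstance, inferInstance, u, v, hu, hv, huv,
      H12.Involves.of_equiv (MulEquiv.refl _)⟩ :
      H12.QuadInvolved p (closure ({u, v} : Set (Matrix.SpecialLinearGroup (Fin 2) K)))) ?_
  intro U hU
  obtain ⟨a, ha, H⟩ := h1 U hU
  have h2 : (2 : K) ≠ 0 := by
    have := CharP.cast_eq_zero_iff K p 2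
    rw [Nat.cast_ofNat] at this
    rw [Ne, this, Nat.prime_dvd_prime_iff_eq Fact.out Nat.prime_two]
    exact hp
  have hz : ∀ g : closure ({u, v} : Set (Matrix.SpecialLinearGroup (Fin 2) K)), g * g = 1 →
      ∀ k, g * k = k * g := by
    rintro ⟨g, hg⟩ e ⟨k, hk⟩
    have e' : g * g = 1 := congrArg Subtype.val e
    have d : g 0 0 * g 1 1 - g 0 1 * g 1 0 = 1 := by
      have := g.det_coe; rwa [Matrix.det_fin_two] at this
    have e00 := congrArg (fun m : Matrix.SpecialLinearGroup (Fin 2) K => m 0 0) e'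
    have e01 := congrArg (fun m : Matrix.SpecialLinearGroup (Fin 2) K => m 0 1) e'
    have e10 := congrArg (fun m : Matrix.SpecialLinearGroup (Fin 2) K => m 1 0) e'
    have e11 := congrArg (fun m : Matrix.SpecialLinearGroup (Fin 2) K => m 1 1) e'
    simp [Matrix.mul_apply, Fin.sum_univ_two] at e00 e01 e10 e11
    have htr : g 0 0 + g 1 1 ≠ 0 := fun e => h2 (by
      have : g 1 1 = - g 0 0 := by linear_combination e
      rw [this] at d
      linear_combination -d - e00)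
    have hb : g 0 1 = 0 := by
      apply mul_left_cancel₀ htr; linear_combination e01
    have hc : g 1 0 = 0 := by
      apply mul_left_cancel₀ htr; linear_combination e10
    have hd : g 0 0 = g 1 1 := by
      apply mul_left_cancel₀ htr; linear_combination e00 - e11
    apply Subtype.ext
    ext i j
    fin_cases i <;> fin_cases j <;>
      simp [Matrix.mul_apply, Fin.sum_univ_two, hb, hc, hd, mul_comm]
  refine ⟨⟨fun x y => Subtype.ext ?_⟩⟩
  by_cases hx : (x : closure ({u, v} : Set (Matrix.SpecialLinearGroup (Fin 2) K))) ∈ zpowers a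
  · by_cases hy : (y : closure ({u, v} : Set (Matrix.SpecialLinearGroup (Fin 2) K))) ∈ zpowers a
    · exact (abl_zpowers a).comm hx hy
    · exact (hz _ (H _ y.2 hy).1 _).symm
  · exact hz _ (H _ x.2 hx).1 _

end CD

end H13.Dih
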