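import Mathlib
import Cfsg.Agent.H13.DihBasic
import Cfsg.Agent.H7.DihQuat

/-! Inverted subgroups, the soluble residual, first properties of a minimal counterexample. -/

set_option autoImplicit false

namespace H13.Dih

open H24 H26 Cfsg Subgroup

universe u v

variable {G : Type u} [Group G] {G' : Type v} [Group G']

/-- `t` inverts every element of `X` -/
def Inv (t : G) (X : Subgroup G) : Prop := ∀ y ∈ X, t * y * t⁻¹ = y⁻¹

section Inv

variable {t s g c y : G} {X Y R L : Subgroup G}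

theorem Inv.of_le (h : Inv t X) (hY : Y ≤ X) : Inv t Y := fun y hy => h y (hY hy)

theorem inv_bot (t : G) : Inv t ⊥ := fun y hy => by simp [mem_bot.1 hy]

theorem Inv.norm [Finite G] (h : Inv t X) : t ∈ N[X] :=
  mem_N_of_finite fun y hy => h y hy ▸ inv_mem hy

theorem Inv.abl (h : Inv t X) : Abl X := abl_iff.2 (le_C_iff.2 fun a ha b hb => by
  have := h _ (mul_mem ha hb)
  rw [show t * (a * b) * t⁻¹ = (t * a * t⁻¹) * (t * b * t⁻¹) by group, h a ha, h b hb,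
    ← mul_inv_rev, inv_inj] at this
  exact this.symm)

theorem Inv.cj (h : Inv t X) (g : G) : Inv (g * t * g⁻¹) (cj g X) := fun y hy => by
  obtain ⟨z, hz, rfl⟩ := mem_cj'.1 hy
  calc g * t * g⁻¹ * (g * z * g⁻¹) * (g * t * g⁻¹)⁻¹ = g * (t * z * t⁻¹) * g⁻¹ := by group
    _ = (g * z * g⁻¹)⁻¹ := by rw [h z hz]; group

theorem Inv.conj (h : Inv t X) (hg : g ∈ N[X]) : Inv (g * t * g⁻¹) X := by
  have := h.cj g
  rwa [cj_of_mem_N hg] at this

theorem Inv.mul_mem_C (h : Inv s X) (h' : Inv t X) : s * t ∈ C[X] := mem_C'.2 fun y hy => by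
  rw [← mul_inv_eq_iff_eq_mul]
  calc s * t * y * (s * t)⁻¹ = s * (t * y * t⁻¹) * s⁻¹ := by group
    _ = y := by rw [h' y hy, h _ (inv_mem hy), inv_inv]

theorem Inv.cent_mul (h : Inv t X) (hc : c ∈ C[X]) : Inv (c * t) X := fun y hy => by
  calc c * t * y * (c * t)⁻¹ = c * (t * y * t⁻¹) * c⁻¹ := by group
    _ = y⁻¹ := by rw [h y hy, conj_eq_of_mem_C hc (inv_mem hy)]

theorem Inv.mul_cent (h : Inv t X) (hc : c ∈ C[X]) : Inv (t * c) X := fun y hy => by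
  calc t * c * y * (t * c)⁻¹ = t * (c * y * c⁻¹) * t⁻¹ := by group
    _ = y⁻¹ := by rw [conj_eq_of_mem_C hc hy, h y hy]

theorem Inv.sup (h : Inv t X) (h' : Inv t Y) (hc : Y ≤ C[X]) : Inv t (X ⊔ Y) := fun z hz => by
  obtain ⟨a, ha, b, hb, rfl⟩ := (mem_sup_of_norm (norm_of_cent hc)).1 hz
  calc t * (a * b) * t⁻¹ = (t * a * t⁻¹) * (t * b * t⁻¹) := by group
    _ = (a * b)⁻¹ := by rw [h a ha, h' b hb, ← mul_inv_rev, comm_of_cent hc hb ha]

theorem Inv.eq_one (h : Inv t X) (hy : y ∈ X) (ho : Odd (orderOf y)) (hc : y ∈ C{t}) : y = 1 :=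
  eq_one_of_inv_eq ho (by rw [← h y hy, mem_C1_iff_conj.1 (mem_C1_comm.1 hc)])

theorem Inv.inf_C (h : Inv t X) (hX : Odd ♯X) : X ⊓ C{t} = ⊥ :=
  eq_bot_iff.2 fun _ hy => h.eq_one hy.1 (odd_orderOf hX hy.1) hy.2

theorem Inv.eq_bot (h : Inv t X) (hX : Odd ♯X) (hc : X ≤ C{t}) : X = ⊥ := by
  rw [← h.inf_C hX, inf_of_le_left hc]

theorem Inv.map (h : Inv t X) (f : G →* G') : Inv (f t) (X.map f) := by
  rintro _ ⟨y, hy, rfl⟩
  rw [← map_inv, ← map_mul, ← map_mul, h y hy, map_inv]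

theorem Inv.quo {K : Subgroup G} (h : Inv t X) (ht : t ∈ N[K]) : Inv (cs K t) (quo X K) := by
  intro z hz
  obtain ⟨y, hy, hN, rfl⟩ := mem_quo.1 hz
  rw [← ap_conj _ ht hN, h y hy, ap_inv _ hN]

theorem comm_zp_le (ht : t * t = 1) :
    ⁅X, zpowers t⁆ ≤ L ↔ ∀ y ∈ X, y * (t * y⁻¹ * t⁻¹) ∈ L := by
  rw [commutator_le]
  refine ⟨fun h y hy => ?_, fun h y hy k hk => ?_⟩
  · have := h y hy t (mem_zpowers t)
    rwa [commutatorElement_def, mul_assoc, mul_assoc, ← mul_assoc t] at this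
  · rcases (mem_zpowers_of_sq ht).1 hk with rfl | rfl
    · simp
    · have := h y hy
      rwa [commutatorElement_def, mul_assoc, mul_assoc, ← mul_assoc k]

theorem mem_comm_zp (hy : y ∈ X) : y * (t * y⁻¹ * t⁻¹) ∈ ⁅X, zpowers t⁆ := by
  have := commutator_mem_commutator hy (mem_zpowers t)
  rwa [commutatorElement_def, mul_assoc, mul_assoc, ← mul_assoc t] at this

theorem Inv.comm_le_C (h : Inv t X) (ht : t * t = 1) (hR : R ≤ N[X]) : ⁅R, zpowers t⁆ ≤ C[X] := by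
  refine (comm_zp_le ht).2 fun r hr => ?_
  have := (h.conj (hR hr)).mul_mem_C h
  rwa [inv_eq_of_mul_eq_one_right ht, ← mul_assoc, ← mul_assoc]

theorem Inv.comm_eq [Finite G] (h : Inv t X) (hX : Odd ♯X) : ⁅X, zpowers t⁆ = X := by
  refine le_antisymm (comm_le_left (zpowers_le.2 h.norm)) fun y hy => ?_
  refine (zpowers_le.2 ?_ : zpowers (y * y) ≤ _) (mem_zpowers_sq (odd_orderOf hX hy))
  have := mem_comm_zp (t := t) hy
  rwa [h _ (inv_mem hy), inv_inv] at this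

/-- an element inverted by `t` lies in `[X, t]` -/
theorem mem_comm_of_inv [Finite G] (hy : y ∈ X) (ho : Odd (orderOf y)) (h : t * y * t⁻¹ = y⁻¹) :
    y ∈ ⁅X, zpowers t⁆ := by
  refine (zpowers_le.2 ?_ : zpowers (y * y) ≤ _) (mem_zpowers_sq ho)
  have := mem_comm_zp (t := t) hy
  rwa [show t * y⁻¹ * t⁻¹ = (t * y * t⁻¹)⁻¹ by group, h, inv_inv] at this

theorem inv_zpowers (h : t * y * t⁻¹ = y⁻¹) : Inv t (zpowers y) := by
  rintro _ ⟨k, rfl⟩
  simp only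
  rw [← conj_zpow, h, inv_zpow]

theorem decomp [Finite G] (hX : Odd ♯X) (ht : t * t = 1) (hN : t ∈ N[X]) (hy : y ∈ X) :
    ∃ c ∈ X ⊓ C{t}, ∃ z ∈ X, t * z * t⁻¹ = z⁻¹ ∧ y = c * z := by
  have hti : t⁻¹ = t := inv_eq_of_mul_eq_one_right ht
  set u := (t * y * t⁻¹)⁻¹ * y with hu
  have huX : u ∈ X := mul_mem (inv_mem (conj_mem hN hy)) hy
  have hui : t * u * t⁻¹ = u⁻¹ := by
    calc t * u * t⁻¹ = (t * t) * y⁻¹ * (t * t)⁻¹ * (t * y * t⁻¹) := by rw [hu]; group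
      _ = u⁻¹ := by rw [ht, hu]; group
  obtain ⟨k, hk⟩ := odd_orderOf hX huX
  have hz : u ^ (k + 1) * u ^ (k + 1) = u := by
    rw [← pow_add, show k + 1 + (k + 1) = orderOf u + 1 by omega, pow_succ, pow_orderOf_eq_one,
      one_mul]
  have hzi := inv_zpowers hui _ (pow_mem (mem_zpowers u) (k + 1))
  generalize hzz : u ^ (k + 1) = z at hz hzi
  have hzX : z ∈ X := hzz ▸ pow_mem huX _
  refine ⟨y * z⁻¹, mem_inf.2 ⟨mul_mem hy (inv_mem hzX), mem_C1_comm.1 (mem_C1_iff_conj.2 ?_)⟩, z, hzX, hzi,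
    by group⟩
  calc t * (y * z⁻¹) * t⁻¹ = y * u⁻¹ * (t * z * t⁻¹)⁻¹ := by rw [hu]; group
    _ = y * z⁻¹ := by rw [hzi, ← hz]; group

theorem inv_of_inf_C [Finite G] (hX : Odd ♯X) (ht : t * t = 1) (hN : t ∈ N[X])
    (h : X ⊓ C{t} = ⊥) : Inv t X := fun y hy => by
  obtain ⟨c, hc, z, -, hz, rfl⟩ := decomp hX ht hN hy
  rw [h, mem_bot] at hc
  rw [hc, one_mul, hz]

theorem comm_zp_eq_bot : ⁅X, zpowers t⁆ = ⊥ ↔ X ≤ C{t} := by rw [comm_eq_bot, C_zpowers]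

theorem comm_idem [Finite G] (hX : Odd ♯X) (ht : orderOf t = 2) (hN : t ∈ N[X]) :
    ⁅⁅X, zpowers t⁆, zpowers t⁆ = ⁅X, zpowers t⁆ :=
  coprime_commGid (zpowers_le.2 hN) (cop_zp hX ht) (sol_of_odd hX)

theorem norm_comm_zp (hY : Y ≤ N[X]) (hc : Y ≤ C{t}) : Y ≤ N[⁅X, zpowers t⁆] :=
  norm_comm hY (norm_zpowers_of_cent hc)

theorem mem_N_comm_zp (X : Subgroup G) (t : G) : t ∈ N[⁅X, zpowers t⁆] :=
  norm_comm_right _ _ (mem_zpowers t)

theorem cent_prod [Finite G] (hX : Odd ♯X) (ht : orderOf t = 2) (hN : t ∈ N[X]) :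
    IsProd ⁅X, zpowers t⁆ (X ⊓ C{t}) X := by
  have := coprime_cent_prod (zpowers_le.2 hN) (cop_zp hX ht) (sol_of_odd hX)
  rwa [C_zpowers] at this

theorem Abl.inv_comm [Finite G] (hA : Abl X) (ht : t * t = 1) (hN : t ∈ N[X]) :
    Inv t ⁅X, zpowers t⁆ := by
  let K : Subgroup G :=
    { carrier := {z | z ∈ X ∧ t * z * t⁻¹ = z⁻¹}
      one_mem' := ⟨one_mem _, by simp⟩
      inv_mem' := fun {a} ha => ⟨inv_mem ha.1, by
        rw [show t * a⁻¹ * t⁻¹ = (t * a * t⁻¹)⁻¹ by group, ha.2]⟩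
      mul_mem' := fun {a b} ha hb => ⟨mul_mem ha.1 hb.1, by
        rw [show t * (a * b) * t⁻¹ = (t * a * t⁻¹) * (t * b * t⁻¹) by group, ha.2, hb.2,
          ← mul_inv_rev, hA.comm ha.1 hb.1]⟩ }
  have : ⁅X, zpowers t⁆ ≤ K := (comm_zp_le ht).2 fun y hy =>
    ⟨mul_mem hy (conj_mem hN (inv_mem hy)), by
      calc t * (y * (t * y⁻¹ * t⁻¹)) * t⁻¹ = (t * y * t⁻¹) * ((t * t) * y⁻¹ * (t * t)⁻¹) := by group
        _ = (y * (t * y⁻¹ * t⁻¹))⁻¹ := by rw [ht]; group⟩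
  exact fun y hy => (this hy).2

theorem two_cs {K : Subgroup G} (hK : Odd ♯K) (ht : orderOf t = 2) (hN : t ∈ N[K]) :
    orderOf (cs K t) = 2 :=
  two_of (by rw [← ap_mul _ hN hN, sq_of ht, ap_one])
    fun e => not_mem_of_odd hK ht ((cs_eq_one hN).1 e)

theorem quo_C1 [Finite G] {K : Subgroup G} (hK : Odd ♯K) (ht : orderOf t = 2) (hN : t ∈ N[K])
    (hKL : K ≤ L) : quo (L ⊓ C{t}) K = quo L K ⊓ C{cs K t} := by
  have := coprime_quotient_cent hKL (zpowers_le.2 hN) (cop_zp hK ht) (Or.inl (sol_of_odd hK))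
  rwa [quo_zpowers hN, C_zpowers, C_zpowers] at this

theorem quo_C1' [Finite G] {K : Subgroup G} (hK : Odd ♯K) (ht : orderOf t = 2) (hN : t ∈ N[K])
    (hL : t ∈ N[L]) : quo (L ⊓ C{t}) K = quo L K ⊓ C{cs K t} := by
  have := coprime_norm_quotient_cent (zpowers_le.2 hL) (zpowers_le.2 hN) (cop_zp hK ht)
    (Or.inl (sol_of_odd hK))
  rwa [quo_zpowers hN, C_zpowers, C_zpowers] at this

theorem odd_pcore [Finite G] (L : Subgroup G) : Odd ♯O[{2}ᶜ, L] := isPi_odd.1 (pcore_pi _ _)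

theorem odd_of_pi {p : ℕ} (hp2 : p ≠ 2) (h : IsPi {p} X) : Odd ♯X :=
  isPi_odd.1 (h.compl_of_ne hp2)

theorem le_O (hX : Odd ♯X) (h : X ⊴ L) : X ≤ O[{2}ᶜ, L] := pcore_max (isPi_odd.2 hX) h

theorem exists_two [Finite G] (h : ¬ Odd ♯X) : ∃ z ∈ X, orderOf z = 2 :=
  exists_orderOf_eq Nat.prime_two (by rwa [Nat.not_odd_iff_even, even_iff_two_dvd] at h)

theorem odd_of_forall [Finite G] (h : ∀ z ∈ X, orderOf z ≠ 2) : Odd ♯X := by
  by_contra h1
  obtain ⟨z, hz, h2⟩ := exists_two h1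
  exact h z hz h2

theorem exists_two_of_pi [Finite G] (hX : IsPi {2} X) (h : X ≠ ⊥) : ∃ z ∈ X, orderOf z = 2 :=
  exists_orderOf_eq Nat.prime_two (hX.dvd_card h)

end Inv

section Res

variable {L X Y : Subgroup G}

theorem res_le (L : Subgroup G) : res L ≤ L := der_le _ _

theorem res_nml (L : Subgroup G) : res L ⊴ L := der_nml _ _

theorem norm_res (h : X ≤ N[L]) : X ≤ N[res L] := norm_der _ h

theorem res_perfect [Finite G] (L : Subgroup G) : ⁅res L, res L⁆ = res L := by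
  have key : ∀ k, der (k + 1) L = der k L ∨ ♯(der (k + 1) L) + (k + 1) ≤ ♯L := by
    intro k
    induction k with
    | zero =>
      rcases (der1_le L).eq_or_lt with e | e
      · exact Or.inl e
      · exact Or.inr (card_lt e)
    | succ k ih =>
      rcases ih with e | e
      · left; rw [der_succ (k + 1), e, ← der_succ, e]
      · rcases (der1_le (der (k + 1) L)).eq_or_lt with e' | e'
        · exact Or.inl e'
        · right
          have := card_lt e'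
          rw [← der_succ] at this
          omega
  rcases key (♯L) with e | e
  · exact e
  · omega

theorem der_of_perfect (h : ⁅Y, Y⁆ = Y) (n : ℕ) : der n Y = Y := by
  induction n with
  | zero => rfl
  | succ n ih => rw [der_succ, ih, h]

theorem le_res (hY : Y ≤ L) (h : ⁅Y, Y⁆ = Y) : Y ≤ res L :=
  (der_of_perfect h _).ge.trans (der_mono _ hY)

theorem res_ne_bot (h : ¬ Sol L) : res L ≠ ⊥ := fun e => h (sol_iff_der.2 ⟨_, e⟩)

theorem eq_bot_of_perfect (h : ⁅Y, Y⁆ = Y) (hs : Sol Y) : Y = ⊥ := by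
  by_contra h1
  exact (hs.der1_lt h1).ne h

theorem res_eq_bot [Finite G] (h : Sol L) : res L = ⊥ :=
  eq_bot_of_perfect (res_perfect L) (h.of_le (res_le L))

theorem le_der_res [Finite G] (L : Subgroup G) (n : ℕ) : res L ≤ der n L :=
  (der_of_perfect (res_perfect L) n).ge.trans (der_mono _ (res_le L))

theorem res_eq_of [Finite G] {n : ℕ} (h : ⁅der n L, der n L⁆ = der n L) : res L = der n L :=
  le_antisymm (le_der_res L n) (le_res (der_le _ _) h)

theorem quo_res [Finite G] {K : Subgroup G} (hL : L ≤ N[K]) : quo (res L) K = res (quo L K) := by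
  have h1 := (res_le L).trans hL
  rw [res_eq_of (n := ♯L) (L := quo L K), ← img_der _ _ hL]
  · rfl
  · rw [← img_der _ _ hL]
    exact (quo_comm h1 h1).symm.trans (congrArg (quo · K) (res_perfect L))

end Res

section GW

theorem GW.of_surjective {X : Type u} {Y : Type v} [Group X] [Group Y] [Finite X] (h : GW X)
    (f : X →* Y) (hf : Function.Surjective f) (hk : Odd ♯f.ker) : GW Y := by
  have : Finite Y := Finite.of_surjective f hf
  have e1 : (oddCore X) = O[{2}ᶜ, (⊤ : Subgroup X)] := (pcore_compl_singleton_top Nat.prime_two).symm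
  have e2 : (oddCore Y) = O[{2}ᶜ, (⊤ : Subgroup Y)] := (pcore_compl_singleton_top Nat.prime_two).symm
  have key : ((QuotientGroup.mk' (oddCore Y)).comp f).ker = oddCore X := by
    rw [← MonoidHom.comap_ker, QuotientGroup.ker_mk']
    apply le_antisymm
    · rw [e1]
      refine le_O ?_ (nml_top _)
      have h1 := card_mul_relIndex (ker_le_comap f (oddCore Y))
      rw [relIndex_ker, map_comap_eq_self_of_surjective hf] at h1
      rw [← h1]
      exact hk.mul (e2 ▸ odd_pcore _)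
    · rw [← map_le_iff_le_comap, e1, e2]
      refine (map_pcore_le _ _ f).trans ?_
      rw [map_top_of_surjective f hf]
  have e : X ⧸ oddCore X ≃* Y ⧸ oddCore Y := (QuotientGroup.quotientMulEquivOfEq key.symm).trans
    (QuotientGroup.quotientKerEquivOfSurjective _ ((QuotientGroup.mk'_surjective _).comp hf))
  rcases h with ⟨F, _, _, h1, h2, ⟨e'⟩⟩ | ⟨⟨e'⟩⟩
  · exact Or.inl ⟨F, _, _, h1, h2, ⟨e.symm.trans e'⟩⟩
  · exact Or.inr ⟨e.symm.trans e'⟩

theorem GW.quo [Finite G] {E K : Subgroup G} (h : GW E) (hE : E ≤ N[K]) (hK : Odd ♯K) :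
    GW (quo E K) := by
  have hn : (K.subgroupOf E).Normal := (nml_inf_of_norm hE).normal |> fun h => by
    rwa [inf_subgroupOf_left] at h
  refine h.of_surjective ((quoEquivQuotient hE).toMonoidHom.comp (QuotientGroup.mk' _))
    ((quoEquivQuotient hE).surjective.comp (QuotientGroup.mk'_surjective _)) ?_
  rw [← MonoidHom.comap_ker, (MonoidHom.ker_eq_bot_iff _).2 (quoEquivQuotient hE).injective,
    MonoidHom.comap_bot, QuotientGroup.ker_mk', card_subgroupOf]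
  exact odd_of_le hK inf_le_left

end GW

section Dd

variable [Finite G] {P : Subgroup G} {t s : G}

omit [Finite G] in
theorem ddata_equiv {n : ℕ} {a x : G} (h : H5.DData P n a x) : Nonempty (P ≃* DihedralGroup n) := by
  have key : ∀ g : P, g ∈ zpowers (⟨a, h.a_mem⟩ : P) ↔ (g : G) ∈ zpowers a := fun g => by
    rw [← mem_map_iff_mem P.subtype_injective, MonoidHom.map_zpowers]; rfl
  refine H7.nonempty_equiv_dihedral n ⟨a, h.a_mem⟩ ⟨x, h.x_mem⟩ ?_ (Subtype.ext h.sq)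
    (Subtype.ext h.inv) (fun e => h.nmem ((key _).1 e)) fun g => ?_
  · rw [← Subgroup.orderOf_coe]; exact h.ord
  · rw [key, key]; exact (h.mem g).1 g.2

theorem CD.ddata (h : CD G) (hP : IsPi {2} P) (hc : ¬ Cyc P) :
    ∃ a x, H5.DData P (orderOf a) a x ∧ 2 ≤ orderOf a := by
  obtain ⟨a, ha, H⟩ := h.ex hP
  obtain ⟨x, hx, hxa⟩ : ∃ b ∈ P, b ∉ zpowers a := by
    by_contra! hh
    exact hc ((cyc_zpowers a).of_le hh)
  obtain ⟨e1, e2, e3⟩ := H x hx hxa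
  have hD : H5.DData P (orderOf a) a x := ⟨rfl, e2, e1, hxa, fun g => ⟨fun hg => by
    by_cases hga : g ∈ zpowers a
    · exact Or.inl hga
    · rw [inv_eq_of_mul_eq_one_right e1]; exact Or.inr (e3 g hg hga), fun hg => by
    rcases hg with hg | hg
    · exact zpowers_le.2 ha hg
    · exact (mul_mem_cancel_left (inv_mem hx)).1 (zpowers_le.2 ha hg)⟩⟩
  refine ⟨a, x, hD, ?_⟩
  by_contra h1
  have h2 : a = 1 := orderOf_eq_one_iff.1 (by have := orderOf_pos a; omega)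
  subst h2
  refine hc ((cyc_zpowers x).of_le fun g hg => ?_)
  rcases (hD.mem g).1 hg with e | e
  · rw [zpowers_one_eq_bot, mem_bot] at e; exact e ▸ one_mem _
  · rw [zpowers_one_eq_bot, mem_bot, inv_mul_eq_one] at e; exact e ▸ mem_zpowers _

/-- the cyclic subgroup of index two may be chosen to contain a given central involution -/
theorem CD.ddata' (h : CD G) (hP : IsPi {2} P) (hc : ¬ Cyc P) (ht : orderOf t = 2) (htP : t ∈ P)
    (hC : P ≤ C{t}) : ∃ a x, H5.DData P (orderOf a) a x ∧ 2 ≤ orderOf a ∧ t ∈ zpowers a := by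
  obtain ⟨a, x, hD, h2⟩ := h.ddata hP hc
  by_cases hta : t ∈ zpowers a
  · exact ⟨a, x, hD, h2, hta⟩
  have h1 := hD.conj_of_nmem htP hta (mem_zpowers a)
  rw [mem_C1_iff_conj.1 (mem_C1_comm.1 (hC hD.a_mem))] at h1
  have ha2 : a * a = 1 := by nth_rewrite 1 [h1]; exact inv_mul_cancel a
  have ha1 : a ≠ 1 := by rintro rfl; simp at h2
  have hf : Four t a := ⟨ht, two_of ha2 ha1, fun e => hta (e ▸ mem_zpowers _), mem_C1.1 (hC hD.a_mem)⟩
  have hPV : P = V4 t a := (eq_of_card_eq (Four.V_le.2 ⟨htP, hD.a_mem⟩)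
    (by rw [hf.V_card, hD.card, hf.hs])).symm
  refine ⟨t, a, ⟨rfl, by rw [hf.comm, mul_inv_cancel_right, inv_of ht], ha2, fun e => ?_,
    fun g => ?_⟩, ht.ge, mem_zpowers t⟩
  · rcases (mem_zpowers_of_sq (sq_of ht)).1 e with e | e
    exacts [ha1 e, hf.ne e]
  · rw [hPV, hf.mem_V, mem_zpowers_of_sq (sq_of ht), mem_zpowers_of_sq (sq_of ht), inv_mul_eq_one,
      inv_mul_eq_iff_eq_mul, hf.comm, or_assoc, eq_comm (a := a)]

end Dd

namespace MC

variable [Finite G] (h : MC G) {X M S : Subgroup G} {t s x : G}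
include h

omit [Finite G] in
theorem eq_or (hX : N[X] = ⊤) : X = ⊥ ∨ X = ⊤ :=
  have := h.simple
  (normalizer_eq_top_iff.1 hX).eq_bot_or_eq_top

omit [Finite G] in
theorem ex4 : ∃ t s : G, Four t s := by
  obtain ⟨t, s, h1, h2, h3, h4⟩ := h.four
  exact ⟨t, s, h1, h2, h3, h4⟩

omit [Finite G] in
theorem not_sol : ¬ Sol (⊤ : Subgroup G) := fun hs => by
  obtain ⟨t, s, hf⟩ := h.ex4
  have h1 := hs.der1_lt (ne_bot_of_mem (mem_top t) (ne_one_of hf.ht))
  have h2 := (h.eq_or (eq_top_iff.2 (der1_nml ⊤).norm)).resolve_right h1.ne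
  rcases h.eq_or (eq_top_iff.2 ((der1_eq_bot.1 h2).nml (le_top (a := zpowers t))).norm) with e | e
  · exact ne_one_of hf.ht (zpowers_eq_bot.1 e)
  · rcases (mem_zpowers_of_sq (sq_of hf.ht)).1 (e ▸ mem_top s) with e | e
    exacts [ne_one_of hf.hs e, hf.ne e]

omit [Finite G] in
theorem ne_top (hX : Sol X) : X ≠ ⊤ := fun e => h.not_sol (e ▸ hX)

omit [Finite G] in
theorem N_ne_top (h1 : X ≠ ⊥) (h2 : X ≠ ⊤) : N[X] ≠ ⊤ := fun e => (h.eq_or e).elim h1 h2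

omit [Finite G] in
theorem N_ne_top' (h1 : X ≠ ⊥) (h2 : Sol X) : N[X] ≠ ⊤ := h.N_ne_top h1 (h.ne_top h2)

theorem N_ne_top_odd (h1 : X ≠ ⊥) (h2 : Odd ♯X) : N[X] ≠ ⊤ := h.N_ne_top' h1 (sol_of_odd h2)

omit [Finite G] in
theorem N_eq (hM : IsCoatom M) (h1 : X ≠ ⊥) (hX : X ⊴ M) : N[X] = M :=
  (hM.le_iff.1 hX.norm).resolve_left
    (h.N_ne_top h1 fun e => hM.1 (eq_top_iff.2 (e ▸ hX.le)))

omit [Finite G] in
theorem C_le (hM : IsCoatom M) (h1 : X ≠ ⊥) (hX : X ⊴ M) : C[X] ≤ M :=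
  (C_le_N X).trans (h.N_eq hM h1 hX).le

omit [Finite G] in
theorem C1_ne_top (hx : x ≠ 1) : C{x} ≠ ⊤ := fun e =>
  h.N_ne_top' (zpowers_ne_bot.2 hx) (cyc_zpowers x).sol
    (eq_top_iff.2 (norm_zpowers_of_cent e.ge))

omit [Finite G] in
theorem C_ne_top (h1 : X ≠ ⊥) : C[X] ≠ ⊤ := fun e => by
  obtain ⟨x, hx, hx1⟩ := exists_ne_one h1
  exact h.C1_ne_top hx1 (eq_top_iff.2 (e ▸ C_le_C1 hx))

omit [Finite G] in
theorem coatom_ne_bot (hM : IsCoatom M) : M ≠ ⊥ := by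
  rintro rfl
  obtain ⟨t, s, hf⟩ := h.ex4
  exact h.ne_top (cyc_zpowers t).sol (hM.2 _ (bot_lt_iff_ne_bot.2 (zpowers_ne_bot.2 (ne_one_of hf.ht))))

omit [Finite G] in
theorem N_self (hM : IsCoatom M) : N[M] = M := h.N_eq hM (h.coatom_ne_bot hM) (Nml.refl M)

omit [Finite G] in
theorem index_ne_two (X : Subgroup G) : X.index ≠ 2 := fun e => by
  have := normal_of_index_eq_two e
  rcases h.eq_or (normalizer_eq_top_iff.2 this) with rfl | rfl
  · rw [index_bot] at e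
    exact h.not_sol (cyc_of_prime (by rw [card_top, e]; exact Nat.prime_two)).sol
  · simp at e

theorem ncyc_of_syl (hS : Syl 2 ⊤ S) : ¬ Cyc S := fun hc => by
  obtain ⟨t, s, hf⟩ := h.ex4
  obtain ⟨g, -, hg⟩ := Sylow_subJ Nat.prime_two hS hf.V_pi le_top
  exact hf.V_ncyc ((hc.cj g).of_le hg)

theorem dihedral (S : Sylow 2 G) : ∃ n, 2 ≤ n ∧ Nonempty ((S : Subgroup G) ≃* DihedralGroup n) := by
  have hS := syl_top_of_sylow Nat.prime_two S
  obtain ⟨a, x, hD, h2⟩ := h.cd.ddata hS.pi (h.ncyc_of_syl hS)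
  exact ⟨_, h2, ddata_equiv hD⟩

theorem isConj (ht : orderOf t = 2) (hs : orderOf s = 2) : IsConj t s := by
  obtain ⟨S⟩ : Nonempty (Sylow 2 G) := inferInstance
  obtain ⟨n, hn, ⟨e⟩⟩ := h.dihedral S
  exact H5.isConj_of_dihedral S hn e h.index_ne_two ht hs

theorem conj (ht : orderOf t = 2) (hs : orderOf s = 2) : ∃ g, g * t * g⁻¹ = s :=
  isConj_iff.1 (h.isConj ht hs)

theorem odd_index (ht : orderOf t = 2) : Odd (C{t}).index :=
  H5.odd_index_centralizer_of_conj ht fun _ hu => h.isConj ht hu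

theorem syl_top (ht : orderOf t = 2) (hS : Syl 2 C{t} S) : Syl 2 ⊤ S :=
  hS.of_idx le_top (by rw [relIndex_top_right]; exact piNat_odd.2 (h.odd_index ht))

theorem syl_of_le (ht : orderOf t = 2) (hS : Syl 2 C{t} S) (hM : S ≤ M) : Syl 2 M S :=
  (h.syl_top ht hS).of_le hM le_top

omit h in
theorem mem_syl (ht : orderOf t = 2) (hS : Syl 2 C{t} S) : t ∈ S :=
  zpowers_le.1 (hS.le_of_norm' (isPi_zp ht) (zpowers_le_C1 t) (norm_zpowers_of_cent hS.le))

theorem ddata (ht : orderOf t = 2) (hS : Syl 2 C{t} S) :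
    ∃ a x, H5.DData S (orderOf a) a x ∧ 2 ≤ orderOf a ∧ t ∈ zpowers a :=
  h.cd.ddata' hS.pi (h.ncyc_of_syl (h.syl_top ht hS)) ht (mem_syl ht hS) hS.le

theorem ex_four (ht : orderOf t = 2) : ∃ s, Four t s := by
  obtain ⟨a, b, hf⟩ := h.ex4
  obtain ⟨g, rfl⟩ := h.conj hf.ht ht
  exact ⟨_, hf.conj g⟩

theorem card_C (ht : orderOf t = 2) (hs : orderOf s = 2) : ♯C{s} = ♯C{t} := by
  obtain ⟨g, rfl⟩ := h.conj ht hs
  rw [← cj_C1, card_cj]

theorem trans (hf : Four t s) : ∃ g ∈ N[V4 t s], g * t * g⁻¹ = s := by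
  by_cases hS : Syl 2 C{t * s} (V4 t s)
  · have h1 := h.syl_top hf.hts hS
    obtain ⟨g, rfl⟩ := h.conj hf.ht hf.hs
    have h2 : Syl 2 ⊤ (cj g (V4 t (g * t * g⁻¹))) := h1.cj_mem (mem_top g)
    obtain ⟨c, hc, e⟩ := Sylow_trans Nat.prime_two
      (h2.of_le (by rw [← cj_C1]; exact cj_mono g hf.V_le_C) le_top) (h1.of_le hf.V_le_C' le_top)
    refine ⟨c * g, mem_N_iff_cj.2 (by rw [cj_mul, ← e]), ?_⟩
    rw [← mem_C1_iff_conj.1 hc]; group
  · obtain ⟨Q, hQ, h1, h2, h3⟩ := exists_lt_norm_of_not_syl Nat.prime_two hf.V_pi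
      (hf.V_le_C_of_mem Four.ts_mem) hS
    obtain ⟨y, hy, hyV⟩ := SetLike.exists_of_lt h1
    refine ⟨y, h3 hy, ?_⟩
    rcases hf.mem_V.1 (conj_mem (h3 hy) Four.t_mem) with e | e | e | e
    · exact absurd (conj_eq_one_iff'.1 e) (ne_one_of hf.ht)
    · have := mem_C1_iff_conj.2 e
      exact absurd (h.cd.mem_V hf (hQ.piElt hy) this (hf.C_of_ts this (h2 hy))) hyV
    · exact e
    · rw [← mem_C1_iff_conj.1 (h2 hy)] at e
      exact absurd (by simpa using e) hf.ts_ne_t.symm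

theorem fuse (hf : Four t s) : ∃ g, g * t * g⁻¹ = s ∧ g * s * g⁻¹ = t * s := by
  have c1 : ∀ g a b : G, g * (a * b) * g⁻¹ = (g * a * g⁻¹) * (g * b * g⁻¹) := fun g a b => by group
  have c2 : ∀ g k a : G, g * k * a * (g * k)⁻¹ = g * (k * a * k⁻¹) * g⁻¹ := fun g k a => by group
  obtain ⟨g, hg, e⟩ := h.trans hf
  rcases hf.mem_V.1 (conj_mem hg Four.s_mem) with e1 | e1 | e1 | e1
  · exact absurd (conj_eq_one_iff'.1 e1) (ne_one_of hf.hs)
  · obtain ⟨k, hk, e2⟩ := h.trans hf.mul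
    rw [hf.V_mul] at hk
    rcases hf.mem_V.1 (conj_mem hk Four.s_mem) with e3 | e3 | e3 | e3
    · exact absurd (conj_eq_one_iff'.1 e3) (ne_one_of hf.hs)
    · refine ⟨k * k, ?_, ?_⟩
      · rw [c2, e2, c1, e2, e3, hf.ts_t]
      · rw [c2, e3, e2]
    · refine ⟨k * g, ?_, ?_⟩
      · rw [c2, e, e3]
      · rw [c2, e1, e2]
    · rw [← e2] at e3; exact absurd (by simpa using e3) hf.ne
  · rw [← e] at e1
    nth_rewrite 1 [e] at e1
    exact absurd (by simpa using e1) hf.ne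
  · exact ⟨g, e, e1⟩

end MC

end H13.Dih
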