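import Mathlib
import Cfsg.Agent.H13.DihMC
import Cfsg.Agent.H13.ZJFusion

/-! Three local lemmas: `bcore`, `lemQ` and the uniqueness lemma `MC.ul`. -/

set_option autoImplicit false
set_option linter.unusedSectionVars false

namespace H13.Dih

open H24 H26 Cfsg Subgroup

universe u v

theorem dedekind {Γ V ι : Type*} [Group Γ] [AddCommGroup V] (ρ : Γ →* Module.End ℤ V)
    (R : Subgroup Γ) (hR : ∀ a ∈ R, ∀ b ∈ R, a * b = b * a) (W : AddSubgroup V)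
    (hW : ∀ r ∈ R, ∀ w ∈ W, ρ r w ∈ W) (σ : ι → Γ) (hσ : ∀ i, ∀ r ∈ R, σ i * r * (σ i)⁻¹ ∈ R)
    (hσ' : ∀ i, ∃ r ∈ R, ∀ w ∈ W, ρ (σ i * r * (σ i)⁻¹) w = ρ r w → w = 0) (s : Finset ι) :
    ∀ (c : Module.End ℤ V) (e : ι → Module.End ℤ V), (∀ r ∈ R, c * ρ r = ρ r * c) →
      (∀ w ∈ W, c w = 0 → w = 0) → (∀ i, ∀ r ∈ R, e i * ρ r = ρ r * e i) →
      c + ∑ i ∈ s, e i * ρ (σ i) = 0 → ∀ w ∈ W, w = 0 := by
  classical
  have hc : ∀ a ∈ R, ∀ b ∈ R, ρ a * ρ b = ρ b * ρ a := fun a ha b hb => by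
    rw [← map_mul, hR a ha b hb, map_mul]
  induction s using Finset.induction_on with
  | empty =>
    intro c e _ h2 _ h w hw
    rw [Finset.sum_empty, add_zero] at h
    exact h2 w hw (by rw [h]; rfl)
  | insert a s ha ih =>
    intro c e h1 h2 h3 h
    obtain ⟨r, hr, H⟩ := hσ' a
    have hr' := hσ a r hr
    refine ih (c * (ρ (σ a * r * (σ a)⁻¹) - ρ r))
      (fun i => e i * (ρ (σ a * r * (σ a)⁻¹) - ρ (σ i * r * (σ i)⁻¹))) (fun x hx => ?_)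
      (fun w hw e0 => ?_) (fun i x hx => ?_) ?_
    · rw [mul_assoc, sub_mul, hc _ hr' x hx, hc _ hr x hx, ← mul_sub, ← mul_assoc, h1 x hx, mul_assoc]
    · exact H w hw (sub_eq_zero.1 (h2 _ (sub_mem (hW _ hr' w hw) (hW _ hr w hw)) e0))
    · rw [mul_assoc, sub_mul, hc _ hr' x hx, hc _ (hσ i r hr) x hx, ← mul_sub, ← mul_assoc,
        h3 i x hx, mul_assoc]
    · have key : ∀ i, e i * (ρ (σ a * r * (σ a)⁻¹) - ρ (σ i * r * (σ i)⁻¹)) * ρ (σ i) =
          ρ (σ a * r * (σ a)⁻¹) * (e i * ρ (σ i)) - e i * ρ (σ i) * ρ r := fun i => by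
        rw [mul_sub, sub_mul, h3 i _ hr', mul_assoc (e i), ← map_mul, inv_mul_cancel_right,
          map_mul ρ (σ i)]
        simp only [mul_assoc]
      have h4 : ∑ i ∈ insert a s, e i * (ρ (σ a * r * (σ a)⁻¹) - ρ (σ i * r * (σ i)⁻¹)) * ρ (σ i) =
          ∑ i ∈ s, e i * (ρ (σ a * r * (σ a)⁻¹) - ρ (σ i * r * (σ i)⁻¹)) * ρ (σ i) := by
        rw [Finset.sum_insert ha, sub_self, mul_zero, zero_mul, zero_add]
      rw [← h4, Finset.sum_congr rfl fun i _ => key i, Finset.sum_sub_distrib, ← Finset.mul_sum,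
        ← Finset.sum_mul, eq_neg_of_add_eq_zero_right h, mul_sub, h1 _ hr']
      noncomm_ring

variable {G : Type u} [Group G]

open scoped IsMulCommutative in
theorem exists_rho {W : Subgroup G} [Abl W] : ∃ ρ : N[W] →* Module.End ℤ (Additive W),
    ∀ g w, ((ρ g w).toMul : G) = g * (w.toMul : G) * (g : G)⁻¹ :=
  ⟨{ toFun := fun g =>
      (MonoidHom.toAdditive (W.normalizerMonoidHom g).toMonoidHom).toIntLinearMap
     map_one' := by ext; simp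
     map_mul' := fun a b => by ext; simp }, fun _ _ => rfl⟩

section cs

variable {K : Subgroup G} {x y : G}

theorem cs_mul (hx : x ∈ N[K]) (hy : y ∈ N[K]) : cs K (x * y) = cs K x * cs K y := ap_mul _ hx hy

theorem cs_inv (hx : x ∈ N[K]) : cs K x⁻¹ = (cs K x)⁻¹ := ap_inv _ hx

theorem cs_conj (hx : x ∈ N[K]) (hy : y ∈ N[K]) :
    cs K (x * y * x⁻¹) = cs K x * cs K y * (cs K x)⁻¹ := ap_conj _ hx hy

theorem cs_sq (hx : x ∈ N[K]) (h : x * x = 1) : cs K x * cs K x = 1 := by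
  rw [← cs_mul hx hx, h]; exact ap_one _

theorem cs_mem_N {B : Subgroup G} (h : x ∈ N[B]) (hx : x ∈ N[K]) : cs K x ∈ N[quo B K] :=
  ap_mem_N _ h hx

theorem cs_mem_C {B : Subgroup G} (h : x ∈ C[B]) (hx : x ∈ N[K]) : cs K x ∈ C[quo B K] :=
  ap_mem_C _ h hx

theorem quo_cent1 {B : Subgroup G} (h : B ≤ C{x}) (hx : x ∈ N[K]) : quo B K ≤ C{cs K x} :=
  img_cent1 _ h hx

end cs

variable [Finite G]

section bcore

variable {Q R B : Subgroup G} {t : G}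

theorem bcore (hQ : Nil Q) (hQo : Odd ♯Q) (ht : orderOf t = 2) (htQ : t ∈ N[Q]) (htR : t ∈ N[R])
    (hRQ : R ≤ N[Q]) (hcop : (♯Q).Coprime ♯R) (hR : R ≤ ⁅R, zpowers t⁆) (hc : Q ⊓ C{t} ≤ C[R]) :
    R ≤ C[Q] := by
  set D := Q ⊓ C[R] with hD
  have hRD : R ≤ C[D] := cents_symm inf_le_right
  have htD : t ∈ N[D] := zpowers_le.1 (norm_inf (zpowers_le.2 htQ) (norm_C (zpowers_le.2 htR)))
  have hRN : R ≤ N[Q ⊓ N[D]] := norm_inf hRQ (norm_N (norm_of_cent hRD))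
  have htN : t ∈ N[Q ⊓ N[D]] :=
    zpowers_le.1 (norm_inf (zpowers_le.2 htQ) (norm_N (zpowers_le.2 htD)))
  have h1 : Inv (cs D t) (quo (Q ⊓ N[D]) D) := by
    intro z0 hz0
    obtain ⟨y, hy, hN, rfl⟩ := mem_quo.1 hz0
    obtain ⟨c, hc', z, hz, hzi, rfl⟩ := decomp (odd_of_le hQo inf_le_left) (sq_of ht) htN hy
    have hcD : c ∈ D := ⟨hc'.1.1, hc ⟨hc'.1.1, hc'.2⟩⟩
    rw [cs_mul hc'.1.2 hz.2, cs_of_mem hcD, one_mul, ← cs_conj htD hz.2, hzi, cs_inv hz.2]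
  have h2 := h1.comm_le_C (cs_sq htD (sq_of ht)) (quo_norm D hRN)
  rw [← quo_zpowers htD, ← quo_comm (norm_of_cent hRD) (zpowers_le.2 htD)] at h2
  have h3 := (quo_cents (norm_of_cent hRD) inf_le_right).1 ((quo_mono D hR).trans h2)
  have h4 : R ≤ C[Q ⊓ N[D]] := stable_factor_cent hRD ((commC _ _).trans_le h3)
    (le_inf inf_le_left (norm_self D)) (hcop.coprime_dvd_left (card_dvd inf_le_left))
    (Or.inl (hQ.sol.of_le inf_le_left))
  have h5 := hQ.eq_of_norm_le (K := D) inf_le_left (le_inf inf_le_left (cents_symm h4))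
  rw [← h5]
  exact hRD

open scoped IsMulCommutative in
theorem lemQ_abl (hQ : Abl Q) (hRo : Odd ♯R) (hBo : Odd ♯B) (ht : t * t = 1) (htQ : t ∈ N[Q])
    (hRQ : R ≤ N[Q]) (hBQ : B ≤ N[Q]) (hBR : B ≤ N[R]) (hBt : B ≤ C{t}) (hinv : Inv t R)
    (hcop : (♯Q).Coprime ♯R) (hR : R ≤ ⁅R, B⁆)
    (hc : ∀ u ∈ Q ⊓ C{t}, ∀ b ∈ B, b * u * b⁻¹ * u⁻¹ ∈ C{b}) : R ≤ C[Q] := by
  by_contra hn
  have hTI := coprime_abel_cent_TI hRQ hcop hQ
  have h1 : ⁅Q, R⁆ ⊓ C[(⊥ : Subgroup G)] ≠ ⊥ := by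
    rw [C_bot, inf_top_eq]; exact fun e => hn (comm_eq_bot'.1 e)
  obtain ⟨R0, -, ⟨hR0, hW⟩, hmax⟩ :=
    exists_max (P := fun K => K ≤ R ∧ ⁅Q, R⁆ ⊓ C[K] ≠ ⊥) ⟨bot_le, h1⟩
  have hR0' : ¬ R ≤ R0 := fun e => hW (eq_bot_of_le hTI (inf_le_inf_left _ (C_anti e)))
  set W0 := ⁅Q, R⁆ ⊓ C[R0] with hW0
  have hW0Q : W0 ≤ Q := inf_le_left.trans (comm_le_left hRQ)
  have hRW : R ≤ N[W0] := norm_inf (norm_comm_right _ _) (norm_C (hinv.abl.norm le_rfl hR0))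
  have fpf : ∀ r ∈ R, r ∉ R0 → ∀ w ∈ W0, r * w * r⁻¹ = w → w = 1 := by
    intro r hr hr0 w hw e
    by_contra hw1
    refine hr0 (hmax (R0 ⊔ zpowers r) ⟨sup_le hR0 (zpowers_le.2 hr), ne_bot_of_mem (x := w)
      ⟨hw.1, ?_⟩ hw1⟩ le_sup_left ▸ mem_sup_right (mem_zpowers r))
    rw [C_sup, C_zpowers]
    exact ⟨hw.2, mem_C1_comm.1 (mem_C1_iff_conj.2 e)⟩
  -- elements acting trivially on `R / R0`
  have hn0 : R ≤ N[R0] := hinv.abl.norm le_rfl hR0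
  let Γ : Subgroup G :=
    { carrier := {σ | σ ∈ N[R] ∧ ∀ r ∈ R, r⁻¹ * (σ * r * σ⁻¹) ∈ R0}
      one_mem' := ⟨one_mem _, fun r _ => by simp⟩
      mul_mem' := fun {a b} ha hb => ⟨mul_mem ha.1 hb.1, fun r hr => by
        have := mul_mem (hb.2 r hr) (ha.2 _ (conj_mem hb.1 hr))
        simpa only [mul_assoc, mul_inv_rev, inv_inv, mul_inv_cancel_left, inv_mul_cancel_left]
          using this⟩
      inv_mem' := fun {a} ha => ⟨inv_mem ha.1, fun r hr => by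
        have := inv_mem (ha.2 _ (conj_mem' ha.1 hr))
        simpa only [mul_assoc, mul_inv_rev, inv_inv, mul_inv_cancel_left, inv_mul_cancel_left,
          mul_inv_cancel, mul_one] using this⟩ }
  obtain ⟨b, hb, hbΓ⟩ : ∃ b ∈ B, b ∉ Γ := by
    by_contra! hh
    refine hR0' (hR.trans (commutator_le.2 fun r hr b hb => ?_))
    have := (hh b hb).2 _ (inv_mem hr)
    rwa [inv_inv, ← mul_assoc, ← mul_assoc] at this
  have hsq : ∀ y ∈ B, y * y ∈ Γ → y ∈ Γ := fun y hy h =>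
    zpowers_le.2 h (mem_zpowers_sq (odd_orderOf hBo hy))
  have hsq' : ∀ y ∈ B, y * t ∈ Γ → y ∈ Γ := fun y hy h => hsq y hy (by
    have := mul_mem h h
    rwa [mul_assoc, ← mul_assoc t, ← mem_C1.1 (hBt hy), mul_assoc, ht, mul_one] at this)
  have htΓ : t ∉ Γ := fun h => hR0' fun r hr => by
    have := inv_mem (h.2 r hr)
    rw [hinv r hr, mul_inv_rev, inv_inv] at this
    exact zpowers_le.2 this (mem_zpowers_sq (odd_orderOf hRo hr))
  obtain ⟨ρ, hρ⟩ := exists_rho (W := Q)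
  let b' : N[Q] := ⟨b, hBQ hb⟩
  let t' : N[Q] := ⟨t, htQ⟩
  let σ : Fin 5 → N[Q] := ![t', b', b' * t', b' * b', b' * b' * t']
  have hσ : ∀ i, (σ i : G) ∈ N[R] ∧ (σ i : G) ∉ Γ := by
    have h1 := hBR hb
    have h2 := hinv.norm
    intro i
    fin_cases i
    · exact ⟨h2, htΓ⟩
    · exact ⟨h1, hbΓ⟩
    · exact ⟨mul_mem h1 h2, fun h => hbΓ (hsq' b hb h)⟩
    · exact ⟨mul_mem h1 h1, fun h => hbΓ (hsq b hb h)⟩
    · exact ⟨mul_mem (mul_mem h1 h1) h2, fun h => hbΓ (hsq b hb (hsq' _ (mul_mem hb hb) h))⟩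
  have key := dedekind ρ (R.subgroupOf N[Q]) (fun x hx y hy => Subtype.ext (hinv.abl.comm hx hy))
    (W0.subgroupOf Q).toAddSubgroup (fun r hr w hw => by
      change ((ρ r w).toMul : G) ∈ W0
      rw [hρ]; exact conj_mem (hRW hr) hw) σ (fun i r hr => mem_subgroupOf.2 (conj_mem (hσ i).1 hr))
      (fun i => by
      obtain ⟨r, hr, hr0⟩ : ∃ r ∈ R, r⁻¹ * (σ i * r * (σ i : G)⁻¹) ∉ R0 := by
        by_contra! hh
        exact (hσ i).2 ⟨(hσ i).1, hh⟩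
      refine ⟨⟨r, hRQ hr⟩, hr, fun w hw e => ?_⟩
      have e' := congrArg (fun z : Additive Q => (z.toMul : G)) e
      simp only [hρ] at e'
      refine Additive.toMul.injective (Subtype.ext
        (fpf _ (mul_mem (inv_mem hr) (conj_mem (hσ i).1 hr)) hr0 _ hw ?_))
      push_cast at e'
      calc _ = r⁻¹ * (σ i * r * (σ i : G)⁻¹ * (w.toMul : G) * (σ i * r * (σ i : G)⁻¹)⁻¹) * r := by
            group
        _ = _ := by rw [e']; group) Finset.univ 1 ![1, -2, -2, 1, 1] (by simp) (by simp)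
      (fun i r _ => by fin_cases i <;> simp [two_mul, mul_two]) (by
      have h0 : (ρ b' - 1) * (ρ b' - 1) * (1 + ρ t') = 0 := by
        ext v
        set u := v + ρ t' v with hu
        have hu' : (u.toMul : G) = v.toMul * (t * v.toMul * t⁻¹) := by
          rw [hu, toMul_add, coe_mul, hρ]
        have h1 := hc u.toMul ⟨u.toMul.2, mem_C1_comm.1 (mem_C1_iff_conj.2 (by
          rw [hu', hQ.comm v.toMul.2 (conj_mem htQ v.toMul.2)]
          calc _ = (t * t) * v.toMul * (t * t)⁻¹ * (t * v.toMul * t⁻¹) := by group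
            _ = _ := by rw [ht, ← hQ.comm v.toMul.2 (conj_mem htQ v.toMul.2)]; group))⟩ b hb
        have h2 : ρ b' (ρ b' u - u) = ρ b' u - u := by
          refine Additive.toMul.injective (Subtype.ext ?_)
          rw [hρ, toMul_sub, div_eq_mul_inv, coe_mul, coe_inv, hρ]
          exact mem_C1_iff_conj.1 (mem_C1_comm.1 h1)
        simp only [Module.End.mul_apply, LinearMap.add_apply, LinearMap.sub_apply,
          Module.End.one_apply, LinearMap.zero_apply, ← hu, h2, sub_self]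
      rw [← h0, Fin.sum_univ_five]
      simp only [σ, Matrix.cons_val, map_mul]
      noncomm_ring)
  obtain ⟨w, hw, hw1⟩ := exists_ne_one hW
  exact hw1 (congrArg (fun z : Additive Q => (z.toMul : G))
    (key (Additive.ofMul ⟨w, hW0Q hw⟩) hw))

theorem lemQ (hQ : Nil Q) (hQo : Odd ♯Q) (hRo : Odd ♯R) (hBo : Odd ♯B) (ht : orderOf t = 2)
    (htQ : t ∈ N[Q]) (hRQ : R ≤ N[Q]) (hBQ : B ≤ N[Q]) (hBR : B ≤ N[R]) (hBt : B ≤ C{t})
    (hinv : Inv t R) (hcop : (♯Q).Coprime ♯R) (hR : R ≤ ⁅R, B⁆)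
    (hc : ⁅Q ⊓ C{t}, B⁆ ≤ C[B]) : R ≤ C[Q] := by
  have h1 := norm_Phi hRQ
  have h2 := norm_Phi hBQ
  have h3 : t ∈ N[Phi Q] := zpowers_le.1 (norm_Phi (zpowers_le.2 htQ))
  have h4 := (Phi_nml Q).norm
  refine coprime_cent_Phi hcop ((commC _ _).trans_le ((quo_cents h1 h4).1 (lemQ_abl (t := cs (Phi Q) t)
    (B := quo B (Phi Q)) ((abl_quo h4).2 hQ.der1_le_Phi) (odd_quo hRo _) (odd_quo hBo _)
    (cs_sq h3 (sq_of ht)) (cs_mem_N htQ h3) (quo_norm _ hRQ)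
    (quo_norm _ hBQ) (quo_norm _ hBR) (quo_cent1 hBt h3) (hinv.quo h3) (coprime_quo hcop _)
    (by rw [← quo_comm h1 h2]; exact quo_mono _ hR) fun u hu b hb => ?_)))
  rw [← quo_C1 (odd_of_le hQo (Phi_le Q)) ht h3 (Phi_le Q)] at hu
  have h5 := (quo_mono (Phi Q) hc).trans (quo_cent _ le_rfl)
  rw [quo_comm (inf_le_left.trans h4) h2, commC] at h5
  exact C_le_C1 hb (h5 (commutator_mem_commutator hb hu))

end bcore

/-- a maximal subgroup with odd self-centralising Fitting subgroup -/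
structure FC (M : Subgroup G) : Prop where
  coatom : IsCoatom M
  odd : Odd ♯F[M]
  cent : C[F[M]] ≤ F[M]

theorem FC.cj {M : Subgroup G} (h : FC M) (g : G) : FC (cj g M) :=
  ⟨isCoatom_cj h.coatom g, by rw [Fitting_cj, card_cj]; exact h.odd, by
    rw [Fitting_cj, ← cj_C]; exact cj_mono g h.cent⟩

theorem zp_ne_bot {F : Subgroup G} (hF : Nil F) {π : Set ℕ} (h : ¬ IsPi πᶜ F) : O[π, Z[F]] ≠ ⊥ := by
  rw [hF.pcore_center]
  exact (hF.of_le (pcore_le _ _)).center_ne_bot fun e =>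
    h ((hF.pcore_hall π).isPi_compl_of_eq_bot e)

theorem not_isPi_compl {F : Subgroup G} {p : ℕ} (h : p ∈ primesOf F) : ¬ IsPi {p}ᶜ F :=
  fun h1 => (isPi_compl_iff h.1).1 h1 h.2

namespace MC

variable (h : MC G) {A B Y P S : Subgroup G} {p : ℕ}
include h

theorem F_ne_bot (hA : FC A) : F[A] ≠ ⊥ := fun e => by
  have := hA.cent
  rw [e, C_bot, top_le_iff] at this
  exact h.ne_top sol_bot this

omit h in
theorem zp_le (π : Set ℕ) (hY : Y ≤ F[A]) (hYC : F[A] ⊓ C[Y] ≤ Y) : O[π, Z[F[A]]] ≤ O[π, Y] :=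
  ((Fitting_nil A).of_le hY).le_pcore (pcore_pi _ _)
    ((pcore_le _ _).trans ((inf_le_inf_left _ (C_anti hY)).trans hYC))

theorem C_zp_le (hA : FC A) {π : Set ℕ} (h1 : ¬ IsPi πᶜ F[A]) : C[O[π, Z[F[A]]]] ≤ A :=
  h.C_le hA.coatom (zp_ne_bot (Fitting_nil A) h1) ((Fitting_nml A).center.pcore π)

theorem ul_cent (hA : FC A) (hp : p ∈ primesOf F[A]) (hY : Y ≤ F[A]) (hYB : Y ≤ B)
    (hYC : F[A] ⊓ C[Y] ≤ Y) : O[{p}ᶜ, Y] ≤ C[O[{p}, B]] := by
  have hn := hYB.trans (pcore_nml {p} B).norm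
  refine Thompson_PxQ hp.1 (pcore_pi {p} Y) (pcore_pi _ _) (pcore_pi _ _)
    (pcore_cent_pcore_compl _ _) ((pcore_le _ _).trans hn) ((pcore_le _ _).trans hn) ?_
  have h1 : O[{p}, B] ⊓ C[O[{p}, Y]] ≤ A :=
    inf_le_right.trans ((C_anti (zp_le _ hY hYC)).trans (h.C_zp_le hA (not_isPi_compl hp)))
  have h2 : O[{p}ᶜ, Y] ≤ O[{p}ᶜ, F[A]] := (Fitting_nil A).pcore_mono _ hY
  rw [← comm_eq_bot, eq_bot_iff, ← pcore_inf_pcore_compl {p} B F[A]]
  exact le_inf ((comm_mono_left inf_le_left).trans (comm_le_left ((pcore_le _ _).trans hn)))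
    ((comm_mono_right h2).trans (comm_le_right (h1.trans (pcore_Fitting_nml _ _).norm)))

theorem ul_step (hA : FC A) (hB : FC B) (hπ : primesOf F[B] ⊆ primesOf F[A])
    (hn : ∀ q, ¬ IsPi {q} F[A]) (hY : Y ≤ F[A]) (hYB : Y ≤ B) (hYC : F[A] ⊓ C[Y] ≤ Y) :
    F[B] ≤ A ∧ primesOf F[A] ⊆ primesOf F[B] := by
  have key : ∀ q, q.Prime → q ∣ ♯F[B] → O[{q}, B] ≤ C[O[{q}ᶜ, Y]] := fun q h1 h2 =>
    cents_symm (h.ul_cent hA (hπ ⟨h1, h2⟩) hY hYB hYC)
  refine ⟨Fitting_le_of_pcore_le fun q h1 h2 => (key q h1 h2).trans ((C_anti (zp_le _ hY hYC)).trans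
    (h.C_zp_le hA (by rw [compl_compl]; exact hn q))), fun r hr => ?_⟩
  by_contra hr'
  refine hr' ((pcore_pi {r} Z[F[A]]).mem_primesOf (zp_ne_bot (Fitting_nil A) (not_isPi_compl hr))
    ((cents_symm (Fitting_le_of_pcore_le fun q h1 h2 => (key q h1 h2).trans (C_anti ?_))).trans
      hB.cent))
  exact (zp_le _ hY hYC).trans (pcore_mono _ (singleton_subset_compl fun e => hr' (e ▸ ⟨h1, h2⟩)))

theorem ul_elt (hA : FC A) (hp : p ∈ primesOf F[A]) (hP : IsPi {p} P) (hPA : P ≤ A)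
    (hPC : P ≤ C[O[{p}ᶜ, F[A]]]) {x : G} (hx : x ∈ C[O[{p}, A]]) (hx' : PiElt {p}ᶜ x) :
    x ∈ C[P] := by
  have hxA : zpowers x ≤ A := zpowers_le.2 (h.C_le hA.coatom
    ((pcore_ne_bot_iff_dvd_Fitting hp.1).2 hp.2) (pcore_nml _ _) hx)
  have hZ := (Fitting_nml A).center
  have h1 : ⁅zpowers x, P⁆ ≤ Z[F[A]] := by
    have : ⁅zpowers x, P⁆ ≤ C[F[A]] := by
      rw [(Fitting_nil A).C_eq {p}, p_core_Fitting hp.1]
      exact le_inf ((comm_mono_left (zpowers_le.2 hx)).trans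
        (comm_le_left (norm_C (hPA.trans (pcore_nml _ _).norm))))
        ((comm_mono_right hPC).trans (comm_le_right (norm_C (hxA.trans (pcore_Fitting_nml _ _).norm))))
    exact le_inf (this.trans hA.cent) this
  set M := Z[F[A]] ⊔ zpowers x with hM
  have h2 : ⁅M, P⁆ ≤ Z[F[A]] := commutator_le.2 fun m hm g hg => by
    obtain ⟨z, hz, y, hy, rfl⟩ := (mem_sup_of_norm (hxA.trans hZ.norm)).1 hm
    have := mul_mem (mul_mem hz (h1 (commutator_mem_commutator hy hg)))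
      (conj_mem (hZ.norm (hPA hg)) (inv_mem hz))
    simpa only [commutatorElement_def, mul_assoc, mul_inv_rev, inv_mul_cancel_left] using this
  have h3 : P ≤ N[O[{p}ᶜ, M]] := norm_pcore _ (norm_of_comm_le_left (h2.trans le_sup_left))
  have h4 : O[{p}ᶜ, Z[F[A]]] ⊔ zpowers x ≤ O[{p}ᶜ, M] := by
    refine pcore_max' ((pcore_pi _ _).sup hx'.isPi (hxA.trans (hZ.pcore _).norm))
      (sup_le_sup_right (pcore_le _ _) _) (sup_le ?_ (norm_of_le le_sup_right))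
    refine ((abl_center F[A]).nil.pcoreC {p}).sup.ge.trans (sup_le (norm_of_cent (cents_sup (pcore_cent_pcore_compl _ _) (cents_symm
      ((zpowers_le.2 hx).trans (C_anti ?_))))) (norm_of_le le_sup_left))
    exact ((Fitting_nil A).pcore_mono _ inf_le_left).trans (pcore_Fitting_le _ _)
  have h5 : P ≤ C[O[{p}ᶜ, M]] := stable_factor_cent (H := O[{p}ᶜ, M] ⊓ Z[F[A]])
    (hPC.trans (C_anti ((Fitting_nil A).le_pcore ((pcore_pi _ _).inf_left _)
      (inf_le_right.trans inf_le_left))))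
    (le_inf (comm_le_left h3) ((comm_mono_left (pcore_le _ _)).trans h2)) inf_le_left
    (((pcore_pi _ _).inf_left _).coprime' hP) (Or.inr (hP.sol hp.1))
  exact cents_symm h5 (h4 (mem_sup_right (mem_zpowers x)))

theorem zj (hA : FC A) (hp : p.Prime) (h1 : IsPi {p} F[A]) (hS : Syl p A S) :
    N[centerThompsonOf 0 S] = A ∧ Syl p ⊤ S := by
  have := Fact.mk hp
  have hF : F[A] = O[{p}, A] := le_antisymm (pcore_max h1 (Fitting_nml A)) (pcore_le_Fitting hp A)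
  have hp2 : p ≠ 2 := by
    rintro rfl
    exact absurd (h1.odd_prime (h.F_ne_bot hA) hA.odd) (by decide)
  have h2 : A ≤ N[centerThompsonOf 0 S] := le_normalizer_centerThompsonOf hp2 (Or.inl rfl)
    ⟨hS.le, hS.pi.isPGroup hp, fun R h1 h2 h3 => hS.eq_of_le (isPi_of_isPGroup hp h2) h3 h1⟩
    (fun g hg => by
      have h3 := hA.cent
      rw [hF, pcore_singleton hp] at h3
      exact (mem_map_iff_mem A.subtype_injective).1
        (h3 (cent_map (zpowers_le.2 hg) A.subtype (mem_map_of_mem _ (mem_zpowers g)))))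
    fun P _ hP => H12.isPStableOn_of_isPGroup ((h.cd.subgroup A).not_quad hp2) P hP
  have h3 := h.N_eq hA.coatom (centerThompsonOf_ne_bot (Or.inl rfl) (hS.pi.isPGroup hp)
    (ne_bot_of_le (hF ▸ h.F_ne_bot hA) (pcore_le_Hall hS))) ⟨(centerThompsonOf_le _ _).trans hS.le, h2⟩
  exact ⟨h3, hS.of_norm_le hp le_top
    (inf_le_right.trans ((normalizer_le_normalizer_centerThompson 0 S).trans h3.le))⟩

/-- the uniqueness lemma -/
theorem ul (hA : FC A) (hB : FC B) (hπ : primesOf F[B] ⊆ primesOf F[A]) (hY : Y ≤ F[A])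
    (hYB : Y ≤ B) (hYC : F[A] ⊓ C[Y] ≤ Y) : A = B := by
  obtain ⟨p, hp⟩ : ∃ p, p ∈ primesOf F[B] := exists_prime_dvd_card (h.F_ne_bot hB)
  by_cases hn : ∀ q, ¬ IsPi {q} F[A]
  · obtain ⟨h1, hπ'⟩ := h.ul_step hA hB hπ hn hY hYB hYC
    have hcB : F[B] ⊓ C[F[B]] ≤ F[B] := inf_le_left
    have hcA : F[A] ⊓ C[F[A]] ≤ F[A] := inf_le_left
    obtain ⟨h2, -⟩ := h.ul_step hB hA hπ' (fun q hq => hn q
      (isPi_iff_primesOf.2 (hπ'.trans (isPi_iff_primesOf.1 hq)))) le_rfl h1 hcB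
    have h3 := h.ul_cent hA (hπ hp) le_rfl h2 hcA
    have h4 := h.ul_cent hB hp le_rfl h1 hcB
    have e : {x | x ∈ C[O[{p}, A]] ∧ PiElt {p}ᶜ x} = {x | x ∈ C[O[{p}, B]] ∧ PiElt {p}ᶜ x} :=
      Set.ext fun x => ⟨fun hx => ⟨h.ul_elt hA (hπ hp) (pcore_pi _ _)
        ((pcore_le_Fitting hp.1 B).trans h1) (cents_symm h3) hx.1 hx.2, hx.2⟩,
        fun hx => ⟨h.ul_elt hB hp (pcore_pi _ _)
        ((pcore_le_Fitting hp.1 A).trans h2) (cents_symm h4) hx.1 hx.2, hx.2⟩⟩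
    have key : ∀ {M : Subgroup G}, FC M → p ∈ primesOf F[M] →
        closure {x | x ∈ C[O[{p}, M]] ∧ PiElt {p}ᶜ x} ⊴ M := fun {M} hM hpM =>
      ⟨(closure_le _).2 fun x hx => h.C_le hM.coatom
        ((pcore_ne_bot_iff_dvd_Fitting hp.1).2 hpM.2) (pcore_nml _ _) hx.1,
        norm_closure fun a ha x hx => subset_closure
          ⟨conj_mem (norm_C (pcore_nml _ _).norm ha) hx.1, hx.2.conj a⟩⟩
    have h5 : closure {x | x ∈ C[O[{p}, A]] ∧ PiElt {p}ᶜ x} ≠ ⊥ := by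
      refine ne_bot_of_le (A := O[{p}ᶜ, F[A]]) (fun e => hn p ?_) fun x hx =>
        subset_closure ⟨?_, (pcore_pi _ _).piElt hx⟩
      · simpa using ((Fitting_nil A).pcore_hall _).isPi_compl_of_eq_bot e
      · rw [← p_core_Fitting hp.1]; exact pcore_compl_cent_pcore _ _ hx
    rw [← h.N_eq hA.coatom h5 (key hA (hπ hp)), e, h.N_eq hB.coatom (e ▸ h5) (key hB hp)]
  · push Not at hn
    obtain ⟨q, hq⟩ := hn
    obtain rfl : p = q := isPi_iff_primesOf.1 hq (hπ hp)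
    have := Fact.mk hp.1
    have hp2 : p ≠ 2 := by
      rintro rfl
      exact absurd (hq.odd_prime (h.F_ne_bot hA) hA.odd) (by decide)
    obtain ⟨S, hS⟩ := Sylow_exists hp.1 A
    obtain ⟨T, hT⟩ := Sylow_exists hp.1 B
    obtain ⟨a1, a2⟩ := h.zj hA hp.1 hq hS
    obtain ⟨b1, b2⟩ := h.zj hB hp.1 (isPi_iff_primesOf.2 (hπ.trans (isPi_iff_primesOf.1 hq))) hT
    obtain ⟨g, -, rfl⟩ := Sylow_trans hp.1 a2 b2
    have hAB : B = cj g A := by
      rw [← a1, ← b1, cj_N]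
      exact congrArg (fun X : Subgroup G => N[X]) (centerThompsonOf_cj g S)
    have hZ : Z[F[A]] ≤ cj g A := hAB ▸ ((inf_le_inf_left _ (C_anti hY)).trans hYC).trans hYB
    have hZp : IsPi {p} Z[F[A]] := hq.inf_left _
    obtain ⟨a, ha, h1⟩ := Sylow_Jsub hp.1 hS (hZp.cj g⁻¹) (le_cj_iff.1 hZ)
    obtain ⟨S', rfl⟩ := a2.exists_sylow_top hp.1
    obtain ⟨n, hn, h2⟩ := zj_controls_fusion hp2 (Or.inl rfl) (h.cd.not_quad hp2) S'
      (Z[F[A]] : Subgroup G) (hS.nml_le hZp (Fitting_nml A).center) (g * a⁻¹) (by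
        rintro _ ⟨z, hz, rfl⟩
        have := h1 (conj_mem_cj a (conj_mem_cj g⁻¹ hz))
        simp only [mul_inv_rev, inv_inv, mul_assoc] at this ⊢
        exact this)
    have h3 : g * a⁻¹ * n⁻¹ ∈ A := h.C_le hA.coatom
      ((Fitting_nil A).center_ne_bot (h.F_ne_bot hA)) (Fitting_nml A).center (mem_C'.2 fun z hz => by
        calc g * a⁻¹ * n⁻¹ * z = g * a⁻¹ * (n⁻¹ * z * n) * n⁻¹ := by group
          _ = z * (g * a⁻¹ * n⁻¹) := by rw [h2 z hz]; group)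
    rw [a1] at hn
    rw [hAB, cj_of_mem ((mul_mem_cancel_right (inv_mem ha)).1
      ((mul_mem_cancel_right (inv_mem hn)).1 h3))]

end MC

end H13.Dih
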