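import Mathlib
import Cfsg.Agent.H13.DihQ
import Cfsg.Agent.H22.SuzII1

/-! Counting involutions in `C(t)`. -/

set_option autoImplicit false
set_option linter.unusedSectionVars false

namespace H13.Dih

open H24 H26 Cfsg Subgroup

universe u

variable {G : Type u} [Group G] {A B H K O : Subgroup G} {t s v x y g : G}

/-- the `H`-class of `x` -/
def cl (H : Subgroup G) (x : G) : Set G := {y | ∃ h ∈ H, h * x * h⁻¹ = y}

theorem ncard_cl (H : Subgroup G) (x : G) : (cl H x).ncard = (C{x}).relIndex H :=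
  (H22.relIndex_centralizer H x).symm

theorem self_mem_cl (H : Subgroup G) (x : G) : x ∈ cl H x := ⟨1, one_mem _, by simp⟩

theorem conj_mem_cl (hg : g ∈ H) (h : y ∈ cl H x) : g * y * g⁻¹ ∈ cl H x := by
  obtain ⟨k, hk, rfl⟩ := h
  exact ⟨g * k, mul_mem hg hk, by group⟩

theorem cl_symm (h : y ∈ cl H x) : x ∈ cl H y := by
  obtain ⟨k, hk, rfl⟩ := h
  exact ⟨k⁻¹, inv_mem hk, by group⟩

theorem cl_trans {z : G} (h : y ∈ cl H x) (h' : z ∈ cl H y) : z ∈ cl H x := by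
  obtain ⟨k, hk, rfl⟩ := h'
  exact conj_mem_cl hk h

theorem cl_mono (h : H ≤ K) (x : G) : cl H x ⊆ cl K x := fun _ ⟨k, hk, e⟩ => ⟨k, h hk, e⟩

theorem cl_eq (h : y ∈ cl H x) : cl H y = cl H x :=
  Set.ext fun _ => ⟨cl_trans h, cl_trans (cl_symm h)⟩

theorem Four.of_cl (h : Four t s) (hv : v ∈ cl C{t} s) : Four t v := by
  obtain ⟨k, hk, rfl⟩ := hv
  have := h.conj k
  rwa [mem_C1_iff_conj.1 hk] at this

theorem four_iff (ht : orderOf t = 2) : Four t s ↔ s ∈ J C{t} ∧ s ≠ t :=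
  ⟨fun h => ⟨⟨h.s_mem_C, h.hs⟩, h.ne⟩, fun h => ⟨ht, h.1.2, h.2, mem_C1.1 h.1.1⟩⟩

/-- the elements of `O` inverted by `v` -/
def invS (v : G) (O : Subgroup G) : Set G := {c | c ∈ O ∧ v * c * v⁻¹ = c⁻¹}

theorem ncard_invS [Finite G] (hO : Odd ♯O) (hv : v * v = 1) (hN : v ∈ N[O]) :
    (invS v O).ncard = (C{v}).relIndex O := by
  have hi : v⁻¹ = v := inv_eq_of_mul_eq_one_right hv
  rw [← ncard_cl, ← Set.ncard_image_of_injective (invS v O) (mul_left_injective v)]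
  congr 1
  ext w
  constructor
  · rintro ⟨c, hc, rfl⟩
    obtain ⟨k, hk⟩ := mem_zpowers_sq (odd_orderOf hO hc.1)
    have h1 := inv_zpowers hc.2 _ (inv_mem (zpow_mem (mem_zpowers c) k))
    refine ⟨c ^ k, zpow_mem hc.1 k, ?_⟩
    rw [inv_inv, mul_inv_eq_iff_eq_mul] at h1
    simp only at hk ⊢
    rw [mul_assoc, h1, ← mul_assoc, ← (Commute.refl c).mul_zpow, hk]
  · rintro ⟨o, ho, rfl⟩
    refine ⟨o * (v * o⁻¹ * v⁻¹), ⟨mul_mem ho (conj_mem hN (inv_mem ho)), ?_⟩, by simp only; group⟩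
    calc v * (o * (v * o⁻¹ * v⁻¹)) * v⁻¹ = (v * o * v⁻¹) * ((v * v) * o⁻¹ * (v * v)⁻¹) := by group
      _ = _ := by rw [hv]; group

theorem ncard_coset (hc : O ≤ C[A]) (hi : A ⊓ O = ⊥) (hv : v * v = 1) (hA : Inv v A) :
    {w | w * v ∈ A ⊔ O ∧ w * w = 1}.ncard = ♯A * (invS v O).ncard := by
  have hvi : v⁻¹ = v := inv_eq_of_mul_eq_one_right hv
  have key : ∀ a ∈ A, ∀ c ∈ O, a * c * v * (a * c * v) = c * (v * c * v⁻¹) := fun a ha c hc' => by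
    calc a * c * v * (a * c * v) = a * c * (v * a * v⁻¹) * (v * c * v⁻¹) * (v * v) := by group
      _ = _ := by rw [hA a ha, hv, ← comm_of_cent hc hc' ha]; group
  rw [← SetLike.coe_sort_coe A, Nat.card_coe_set_eq, ← Set.ncard_prod,
    ← Set.InjOn.ncard_image (f := fun p : G × G => p.1 * p.2 * v)]
  · congr 1
    ext w
    constructor
    · rintro ⟨h1, h2⟩
      obtain ⟨a, ha, c, hc', e⟩ := (mem_sup_of_norm (norm_of_cent hc)).1 h1
      have e' : w = a * c * v := by rw [← e, mul_assoc, hv, mul_one]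
      rw [e', key a ha c hc'] at h2
      exact ⟨(a, c), ⟨ha, hc', eq_inv_of_mul_eq_one_right h2⟩, e'.symm⟩
    · rintro ⟨⟨a, c⟩, ⟨ha, hc', h1⟩, rfl⟩
      refine ⟨?_, by simp only at h1 ⊢; rw [key a ha c hc', h1, mul_inv_cancel]⟩
      simp only
      rw [mul_assoc, hv, mul_one]
      exact mul_mem (mem_sup_left ha) (mem_sup_right hc')
  · rintro ⟨a, c⟩ ⟨ha, hc', -⟩ ⟨a', c'⟩ ⟨ha', hc'', -⟩ e
    obtain ⟨e1, e2⟩ := mul_eq_mul_of_inf hi ha ha' hc' hc'' (mul_right_cancel e)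
    exact Prod.ext e1 e2

/-- a small inverted set is centralised by `C_O(v)` -/
theorem cent_invS [Finite G] (hO : Odd ♯O) (h5 : (invS v O).ncard ≤ 6) (hy : y ∈ invS v O) :
    O ⊓ C{v} ≤ C{y} := by
  by_cases hy1 : y = 1
  · simp [hy1]
  have hB : Odd ♯(O ⊓ C{v}) := odd_of_le hO inf_le_left
  have hsub : ∀ z ∈ invS v O, cl (O ⊓ C{v}) z ⊆ invS v O := by
    rintro z hz _ ⟨b, hb, rfl⟩
    refine ⟨mul_mem (mul_mem hb.1 hz.1) (inv_mem hb.1), ?_⟩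
    have e := mem_C1_iff_conj.1 (mem_C1_comm.1 hb.2)
    calc v * (b * z * b⁻¹) * v⁻¹ = (v * b * v⁻¹) * (v * z * v⁻¹) * (v * b * v⁻¹)⁻¹ := by group
      _ = _ := by rw [e, hz.2]; group
  have hy' : y⁻¹ ∈ invS v O := ⟨inv_mem hy.1, inv_zpowers hy.2 _ (inv_mem (mem_zpowers y))⟩
  have h1 : ∀ z : G, z ≠ 1 → (1 : G) ∉ cl (O ⊓ C{v}) z := by
    rintro z hz ⟨b, -, e⟩
    exact hz (conj_eq_one_iff'.1 e)
  have h2 : Disjoint (cl (O ⊓ C{v}) y) (cl (O ⊓ C{v}) y⁻¹) := by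
    rw [Set.disjoint_left]
    intro z h3 h4
    obtain ⟨b, hb, e⟩ := cl_trans h3 (cl_symm h4)
    have h5 : b * b ∈ C{y} := mem_C1_iff_conj.2 (by
      calc b * b * y * (b * b)⁻¹ = b * (b * y * b⁻¹) * b⁻¹ := by group
        _ = b * y⁻¹ * b⁻¹ := by rw [e]
        _ = (b * y * b⁻¹)⁻¹ := by group
        _ = y := by rw [e, inv_inv])
    rw [mem_C1_iff_conj.1 (zpowers_le.2 h5 (mem_zpowers_sq (odd_orderOf hB hb)))] at e
    exact hy1 (eq_one_of_inv_eq (odd_orderOf hO hy.1) e.symm)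
  have h3 := Set.ncard_le_ncard (s := insert 1 (cl (O ⊓ C{v}) y ∪ cl (O ⊓ C{v}) y⁻¹))
    (t := invS v O) (Set.insert_subset ⟨one_mem _, by simp⟩ (Set.union_subset (hsub y hy) (hsub _ hy')))
  have h4 : C{y⁻¹} = C{y} := by rw [← C_zpowers, zpowers_inv, C_zpowers]
  rw [Set.ncard_insert_of_notMem (by
    rintro (e | e)
    exacts [h1 y hy1 e, h1 _ (inv_ne_one.2 hy1) e]), Set.ncard_union_eq h2, ncard_cl, ncard_cl,
    h4] at h3
  obtain ⟨k, hk⟩ := Odd.of_dvd_nat hB (relIndex_dvd_card C{y} _)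
  exact relIndex_eq_one.1 (by omega)

theorem odd_relIndex (hO : Odd ♯O) (K : Subgroup G) : Odd (K.relIndex O) :=
  Odd.of_dvd_nat hO (relIndex_dvd_card K O)

namespace MC

variable [Finite G] (h : MC G)
include h

omit h in
theorem two_classes' {S : Subgroup G} {n : ℕ} {a : G} (hS : Syl 2 C{t} S) (hD : H5.DData S n a x)
    (hta : t ∈ zpowers a) (hf : Four t s) : s ∈ cl C{t} x ∨ s ∈ cl C{t} (x * a) := by
  have ht := hf.ht
  obtain ⟨g, hg, h1⟩ := Sylow_Jsub Nat.prime_two hS (isPi_zp hf.hs) (zpowers_le.2 hf.s_mem_C)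
  have h2 := h1 (conj_mem_cj g (mem_zpowers s))
  have h3 : g * s * g⁻¹ ∈ cl C{t} s := ⟨g, hg, rfl⟩
  have h4 := hf.of_cl h3
  obtain ⟨k, hk⟩ := ((hD.mem _).1 h2).resolve_left fun e =>
    h4.ne (eq_of_mem_cyc (cyc_zpowers a) ht h4.hs hta e)
  simp only at hk
  rw [eq_inv_mul_iff_mul_eq] at hk
  have h5 : ∀ j : ℤ, (a ^ j)⁻¹ * x = x * a ^ j := fun j => by
    rw [← hD.conj_zp (zpow_mem (mem_zpowers a) j)]; group
  have h6 : ∀ j : ℤ, (a ^ j)⁻¹ ∈ C{t} := fun j => inv_mem (zpow_mem (hS.le hD.a_mem) j)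
  rcases Int.even_or_odd' k with ⟨j, rfl | rfl⟩
  · exact Or.inl (cl_trans ⟨_, h6 j, by rw [h5, ← hk]; group⟩ (cl_symm h3))
  · exact Or.inr (cl_trans ⟨_, h6 j, by rw [← mul_assoc, h5, ← hk]; group⟩ (cl_symm h3))

theorem two_classes (ht : orderOf t = 2) :
    ∃ x₁ x₂, ∀ s, Four t s → s ∈ cl C{t} x₁ ∨ s ∈ cl C{t} x₂ := by
  obtain ⟨S, hS⟩ := Sylow_exists Nat.prime_two C{t}
  obtain ⟨a, x, hD, -, hta⟩ := h.ddata ht hS
  exact ⟨x, x * a, fun s hf => two_classes' hS hD hta hf⟩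

theorem cl_cases (h1 : Four t s) (h2 : Four t v) (hn : v ∉ cl C{t} s) (h3 : Four t x) :
    x ∈ cl C{t} s ∨ x ∈ cl C{t} v := by
  obtain ⟨x₁, x₂, H⟩ := h.two_classes h1.ht
  rcases H s h1 with a | a <;> rcases H v h2 with b | b <;> rcases H x h3 with c | c
  all_goals first
    | exact absurd (cl_trans (cl_symm a) b) hn
    | exact Or.inl (cl_trans (cl_symm a) c)
    | exact Or.inr (cl_trans (cl_symm b) c)

theorem cl_eq_in (h1 : Four t s) (h2 : Four t v) (hK : C{t} ≤ N[K]) (hs : s ∈ K) (hv : v ∉ K) :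
    cl C{t} s = {x | Four t x ∧ x ∈ K} ∧ cl C{t} v = {x | Four t x ∧ x ∉ K} := by
  have a : ∀ x ∈ cl C{t} s, x ∈ K := by
    rintro _ ⟨k, hk, rfl⟩; exact conj_mem (hK hk) hs
  have b : ∀ x ∈ cl C{t} v, x ∉ K := by
    rintro _ ⟨k, hk, rfl⟩; rwa [conj_mem_iff (hK hk)]
  have c := fun x => h.cl_cases (x := x) h1 h2 fun e => hv (a v e)
  exact ⟨Set.ext fun x => ⟨fun e => ⟨h1.of_cl e, a x e⟩, fun e => (c x e.1).resolve_right
    fun e' => b x e' e.2⟩, Set.ext fun x => ⟨fun e => ⟨h2.of_cl e, b x e⟩, fun e =>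
      (c x e.1).resolve_left fun e' => e.2 (a x e')⟩⟩

end MC

end H13.Dih
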