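import Mathlib
import Cfsg.Agent.H13.DihDefs
import Cfsg.Agent.H13.DihMC
import Cfsg.Agent.H25.Std0
import Cfsg.Agent.H22.A7Four

/-! Facts about `A₇`; quasisimplicity. -/

set_option autoImplicit false

namespace H22.KA

open H24 Cfsg Subgroup H13.Dih

variable {G : Type*} [Group G]

/-- `u` centralises `t` and the fourth powers in `C_E(t)` -/
structure R (E : Subgroup G) (t u : G) : Prop where
  mem : u ∈ E
  sq : u * u = 1
  comm : u * t = t * u
  pow : ∀ y ∈ E, y * t = t * y → y ^ 4 * u = u * y ^ 4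

theorem conj_comm {a b : G} (h : a * b = b * a) (g : G) :
    g * a * g⁻¹ * (g * b * g⁻¹) = g * b * g⁻¹ * (g * a * g⁻¹) := by
  rw [conj_mul, conj_mul, h]

theorem R.conj {E : Subgroup G} {t u g : G} (h : R E t u) (hg : g ∈ N[E]) :
    R E (g * t * g⁻¹) (g * u * g⁻¹) := by
  refine ⟨conj_mem hg h.mem, by rw [conj_mul, h.sq, mul_one, mul_inv_cancel], conj_comm h.comm g,
    fun y hy e => ?_⟩
  obtain ⟨y, rfl⟩ : ∃ y', y = g * y' * g⁻¹ := ⟨g⁻¹ * y * g, by group⟩
  rw [conj_mul, conj_mul, mul_left_inj, mul_right_inj] at e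
  rw [conj_pow]
  exact conj_comm (h.pow y ((conj_mem_iff hg).1 hy) e) g

/-- the distinguished four-group containing `t` -/
structure K (E : Subgroup G) (t v : G) : Prop where
  four : Four t v
  le : ∀ u, R E t u → u ∈ V4 t v
  ge : ∀ w ∈ V4 t v, w ≠ 1 → ∀ u ∈ V4 t v, R E w u

theorem K.conj {E : Subgroup G} {t v g : G} (h : K E t v) (hg : g ∈ N[E]) :
    K E (g * t * g⁻¹) (g * v * g⁻¹) := by
  refine ⟨h.four.conj g, fun u hu => ?_, fun w hw h1 u hu => ?_⟩
  · rw [← Four.cj_V, H24.mem_cj]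
    simpa [mul_assoc] using h.le _ (by simpa [mul_assoc] using hu.conj (inv_mem hg))
  · rw [← Four.cj_V, H24.mem_cj'] at hw hu
    obtain ⟨w, hw, rfl⟩ := hw
    obtain ⟨u, hu, rfl⟩ := hu
    exact (h.ge w hw (by rintro rfl; simp at h1) u hu).conj hg

variable [Finite G] {E : Subgroup G}

theorem oddCore_le (hE : QS E) {x : E} (hx : x ∈ oddCore E) : (x : G) ∈ C[E] := by
  obtain ⟨t, ht, h2⟩ := hE.exInv
  refine (hE.nml _ (pcore_nml {2}ᶜ E)).resolve_right
    (fun e => not_mem_of_odd (odd_pcore E) h2 (e.ge ht)) ?_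
  rw [pcore_compl_singleton Nat.prime_two]
  exact mem_map_of_mem _ hx

theorem exists_K0 (hE : QS E) (h : IsA7 (E ⧸ oddCore E)) : ∃ t v, K E t v := by
  obtain ⟨e⟩ := h
  let π : E →* alternatingGroup (Fin 7) := e.toMonoidHom.comp (QuotientGroup.mk' _)
  have hπ : Function.Surjective π := e.surjective.comp (QuotientGroup.mk'_surjective _)
  have hk : ∀ x, π x = 1 → (x : G) ∈ C[E] := fun x hx =>
    oddCore_le hE ((QuotientGroup.eq_one_iff _).1 ((map_eq_one_iff e e.injective).1 hx))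
  have h1 : ∀ a b : E, a * a = 1 → b * b = 1 → π a = π b → a = b := fun a b ha hb hab => by
    have h2 := hk (a * b⁻¹) (by rw [map_mul, map_inv, hab, mul_inv_cancel])
    have h3 : (b : G) * (a * (b : G)⁻¹) = a * (b : G)⁻¹ * b := mem_C.1 h2 b b.2
    rw [← mul_inv_eq_one, ← OneMemClass.coe_eq_one]
    refine eq_one_of_odd_of_sq (odd_orderOf hE.oddC h2) ?_
    have ha' : (a : G) * a = 1 := congrArg Subtype.val ha
    have hb' : (b : G) * b = 1 := congrArg Subtype.val hb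
    calc (a : G) * (b : G)⁻¹ * (a * (b : G)⁻¹) = a * ((b : G) * b)⁻¹ * (b * (a * (b : G)⁻¹)) := by
          group
      _ = 1 := by rw [h3, hb', inv_mul_cancel_right, inv_one, mul_one, ha']
  have h2 : ∀ a y : E, a * a = 1 → π y * π a = π a * π y → y * a = a * y := fun a y ha hy =>
    mul_inv_eq_iff_eq_mul.1 (h1 _ _ (by rw [conj_mul, ha, mul_one, mul_inv_cancel]) ha
      (by rw [map_mul, map_mul, hy, map_inv, mul_inv_cancel_right]))
  have h3 : ∀ b, b * b = 1 → ∃ a : E, a * a = 1 ∧ π a = b := fun b hb => by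
    obtain ⟨x, rfl⟩ := hπ b
    obtain ⟨k, hk'⟩ := odd_orderOf hE.oddC (hk (x * x) (by rwa [map_mul]))
    rw [orderOf_coe] at hk'
    refine ⟨x ^ (2 * k + 1), by rw [← (Commute.refl x).mul_pow, ← hk', pow_orderOf_eq_one], ?_⟩
    rw [map_pow, pow_succ, pow_mul, pow_two, hb, one_pow, one_mul]
  obtain ⟨t', v', t1, v1, t2, v2, tv1, tv2, h4, h5⟩ := A7F.exists_four
  obtain ⟨t, t3, rfl⟩ := h3 t' t1
  obtain ⟨v, v3, rfl⟩ := h3 v' v1
  have hf : Four (t : G) v :=
    ⟨two_of (congrArg Subtype.val t3) fun e => t2 (by rw [show t = 1 from Subtype.ext e, map_one]),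
      two_of (congrArg Subtype.val v3) fun e => v2 (by rw [show v = 1 from Subtype.ext e, map_one]),
      fun e => tv1 (by rw [show v = t from Subtype.ext e]), congrArg Subtype.val (h2 t v t3 tv2)⟩
  refine ⟨t, v, hf, fun u hu => ?_, fun w hw hw1 u hu => ?_⟩
  · have u1 : (⟨u, hu.mem⟩ : E) * ⟨u, hu.mem⟩ = 1 := Subtype.ext hu.sq
    have := h5 (π ⟨u, hu.mem⟩) (by rw [← map_mul, u1, map_one])
      (by rw [← map_mul, ← map_mul]; exact congrArg π (Subtype.ext hu.comm)) fun y hy => by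
        obtain ⟨y, rfl⟩ := hπ y
        rw [← map_pow, ← map_mul, ← map_mul]
        exact congrArg π (Subtype.ext (hu.pow y y.2 (congrArg Subtype.val (h2 t y t3 hy))))
    rw [hf.mem_V]
    rcases this with e | e | e | e
    · exact Or.inl (congrArg Subtype.val (h1 _ 1 u1 (one_mul 1) (e.trans (map_one π).symm)))
    · exact Or.inr (Or.inl (congrArg Subtype.val (h1 _ _ u1 t3 e)))
    · exact Or.inr (Or.inr (Or.inl (congrArg Subtype.val (h1 _ _ u1 v3 e))))
    · exact Or.inr (Or.inr (Or.inr (congrArg Subtype.val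
        (h1 _ (t * v) u1 (Subtype.ext hf.mul_sq) (e.trans (map_mul π t v).symm)))))
  · refine ⟨Four.V_le.2 ⟨t.2, v.2⟩ hu, hf.V_sq hu, hf.V_abl.comm hu hw, fun y hy e => ?_⟩
    obtain ⟨e1, e2⟩ := h4 (π ⟨y, hy⟩) (by
      simp only [← map_mul]
      rcases hf.mem_V.1 hw with rfl | rfl | rfl | rfl
      · exact absurd rfl hw1
      · exact Or.inl (congrArg π (Subtype.ext e))
      · exact Or.inr (Or.inl (congrArg π (Subtype.ext e)))
      · exact Or.inr (Or.inr (congrArg π (Subtype.ext e))))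
    rw [← map_pow] at e1 e2
    have e3 : y ^ 4 ∈ C[V4 (t : G) v] := by
      rw [Four.C_V]
      exact ⟨mem_C1.2 (congrArg Subtype.val (h2 t _ t3 e1)),
        mem_C1.2 (congrArg Subtype.val (h2 v _ v3 e2))⟩
    exact mem_C'.1 e3 u hu

theorem exists_K (hE : QS E) (h : IsA7 (E ⧸ oddCore E)) {t : G} (ht : t ∈ E) (h2 : orderOf t = 2) :
    ∃ v ∈ E, Four t v ∧ ∀ w ∈ V4 t v, w ≠ 1 → ∀ g ∈ N[E], g ∈ C{w} → g ∈ N[V4 t v] := by
  obtain ⟨t0, v0, h0⟩ := exists_K0 hE h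
  have key : ∀ t ∈ E, orderOf t = 2 → ∃ v, K E t v := fun t ht h2 => by
    obtain ⟨g, hg, rfl⟩ := hE.conj t0 (h0.ge _ Four.t_mem (ne_one_of h0.four.ht) _ Four.t_mem).mem
      t ht h0.four.ht h2
    exact ⟨_, h0.conj (norm_self E hg)⟩
  obtain ⟨v, hv⟩ := key t ht h2
  refine ⟨v, (hv.ge _ Four.t_mem (ne_one_of h2) _ Four.s_mem).mem, hv.four,
    fun w hw h1 g hg hc => mem_N_of_finite fun u hu => ?_⟩
  obtain ⟨v', hv'⟩ := key w (hv.ge w hw h1 w hw).mem (hv.four.V_two hw h1)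
  have e : V4 t v = V4 w v' := eq_of_card_eq (fun u hu => hv'.le u (hv.ge w hw h1 u hu))
    (by rw [hv.four.V_card, hv'.four.V_card])
  have := (hv.ge w hw h1 u hu).conj hg
  rw [mem_C1_iff_conj.1 hc] at this
  exact e ▸ hv'.le _ this

end H22.KA

namespace H13.Dih

open H24 Cfsg Subgroup

universe u

variable {G : Type u} [Group G] [Finite G]

theorem qs_of_gw (hG : CD G) {E : Subgroup G} (hp : ⁅E, E⁆ = E) (hO : O[{2}ᶜ, E] ≤ C[E])
    (h : GW E) : QS E := by
  have hs : IsSimpleGroup (E ⧸ oddCore E) := by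
    rcases h with ⟨F, _, _, h1, h2, ⟨e⟩⟩ | ⟨⟨e⟩⟩
    · have := Matrix.ProjectiveSpecialLinearGroup.rank_two_simple (F := F) (by
        rw [Nat.card_eq_fintype_card]; omega)
      exact e.isSimpleGroup
    · have := alternatingGroup.isSimpleGroup (α := Fin 7) (by simp)
      exact e.isSimpleGroup
  have hO' : ∀ x : E, x ∈ oddCore E → (x : G) ∈ C[E] := fun x hx => hO (by
    rw [pcore_compl_singleton Nat.prime_two]
    exact mem_map_of_mem _ hx)
  have he : 2 ∣ Nat.card E := by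
    by_contra he
    have h1 : (⊤ : Subgroup E) ≤ oddCore E := H2.le_pPrimeCore inferInstance (by
      rw [card_top]
      exact ((Nat.Prime.coprime_iff_not_dvd Nat.prime_two).2 he).symm)
    obtain ⟨x, hx⟩ := exists_ne (1 : E ⧸ oddCore E)
    obtain ⟨x, rfl⟩ := QuotientGroup.mk_surjective x
    exact hx ((QuotientGroup.eq_one_iff x).2 (h1 (mem_top x)))
  have hE := (isPerfect_iff.2 hp).commutator_eq_top
  obtain ⟨S⟩ : Nonempty (Sylow 2 E) := inferInstance
  obtain ⟨a, x, hD, h2⟩ := (hG.subgroup E).ddata (syl_top_of_sylow Nat.prime_two S).pi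
    (H25.LB.not_isCyclic_sylow_of_perfect hE he S)
  obtain ⟨e⟩ := ddata_equiv hD
  have hc : ∀ v ∈ E, ∀ w ∈ E, orderOf v = 2 → orderOf w = 2 → ∃ e ∈ E, e * v * e⁻¹ = w :=
    fun v hv w hw h3 h4 => by
      obtain ⟨g, hg⟩ := isConj_iff.1 (H5.isConj_of_dihedral S h2 e (fun M hM => by
        have h5 : commutator E ≤ M := commutator_le.2 fun x _ y _ => by
          simp only [commutatorElement_def, mul_mem_iff_of_index_two hM, inv_mem_iff]
          tauto
        rw [hE, top_le_iff] at h5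
        rw [h5, index_top] at hM
        exact absurd hM (by decide)) (a := ⟨v, hv⟩) (b := ⟨w, hw⟩) (by rwa [orderOf_mk])
        (by rwa [orderOf_mk]))
      exact ⟨g, g.2, congrArg Subtype.val hg⟩
  obtain ⟨t₀, s₀, ht₀, hs₀, hf⟩ : ∃ t s, t ∈ E ∧ s ∈ E ∧ Four t s := by
    obtain ⟨z, hz, hz2⟩ := exists_two_of_pi
      ((syl_top_of_sylow Nat.prime_two S).pi.of_le hD.zp_le)
      (zpowers_ne_bot.2 (by rintro rfl; simp at h2))
    have h3 := hD.conj_zp hz
    rw [inv_of hz2, mul_inv_eq_iff_eq_mul] at h3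
    exact ⟨z, x, z.2, x.2, by rwa [orderOf_coe], two_of (congrArg Subtype.val hD.sq)
      (fun e => hD.nmem ((show x = 1 from Subtype.ext e) ▸ one_mem _)),
      fun e => hD.nmem ((show x = z from Subtype.ext e) ▸ hz), congrArg Subtype.val h3⟩
  refine ⟨hp, fun Y hY => ?_, odd_of_forall fun y hy h3 => ?_, hc, fun t ht h3 => ?_,
    t₀, ht₀, hf.ht⟩
  · rcases (hY.normal.map _ (QuotientGroup.mk'_surjective (oddCore E))).eq_bot_or_eq_top
      with h3 | h3
    · exact Or.inl fun y hy => hO' ⟨y, hY.le hy⟩ ((QuotientGroup.eq_one_iff _).1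
        (h3.le (mem_map_of_mem _ (show (⟨y, hY.le hy⟩ : E) ∈ Y.subgroupOf E from hy))))
    · have h4 : IsProd Y (E ⊓ C[E]) E := ⟨hY.le, inf_le_left, fun g hg => by
        obtain ⟨y, hy, e⟩ := h3.ge (mem_top (QuotientGroup.mk' (oddCore E) ⟨g, hg⟩))
        exact ⟨y, hy, (y⁻¹ * ⟨g, hg⟩ : E), ⟨(y⁻¹ * ⟨g, hg⟩ : E).2,
          hO' _ (QuotientGroup.eq.1 (show (y : E ⧸ oddCore E) = (⟨g, hg⟩ : E) from e))⟩,
          (mul_inv_cancel_left _ _).symm⟩⟩
      refine Or.inr (le_antisymm hY.le ?_)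
      rw [← hp, h4.comm_left_of_cent inf_le_right]
      exact comm_le_left hY.norm
  · have h4 : y ∈ E := Four.V_le.2 ⟨ht₀, hs₀⟩
      (hG.mem_V hf (pi_two h3) (C_le_C1 ht₀ hy) (C_le_C1 hs₀ hy))
    have h5 : ∀ w ∈ E, orderOf w = 2 → w = y := fun w hw h6 => by
      obtain ⟨g, hg, rfl⟩ := hc y h4 w hw h3 h6
      rw [mem_C.1 hy g hg, mul_inv_cancel_right]
    exact hf.ne ((h5 _ hs₀ hf.hs).trans (h5 _ ht₀ hf.ht).symm)
  · obtain ⟨g, hg, rfl⟩ := hc t₀ ht₀ t ht hf.ht h3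
    exact ⟨_, mul_mem (mul_mem hg hs₀) (inv_mem hg), (hf.conj g).hs, (hf.conj g).ne,
      (hf.conj g).comm⟩

theorem ka7_of (hG : CD G) {E : Subgroup G} (hE : QS E) (h : IsA7 (E ⧸ oddCore E)) : KA7 E := by
  refine ⟨fun w hw h2 => ?_, fun t ht h2 => ?_⟩
  · obtain ⟨P, hP, hwP⟩ := Sylow_superset Nat.prime_two (isPi_zp h2) (zpowers_le.2 hw)
    have h8 : 8 ∣ ♯(P ⊓ E) := by
      refine (hP.inf_nml (nml_N E)).dvd_card (piNat_self_pow Nat.prime_two 3) ?_
      obtain ⟨e⟩ := h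
      refine Dvd.dvd.trans ?_ (card_quotient_dvd_card (oddCore E))
      rw [Nat.card_congr e.toEquiv, nat_card_alternatingGroup]
      simp [Nat.factorial]
    obtain ⟨t, ht, h3⟩ := exists_two_of_pi (hP.pi.of_le (inf_le_left.trans inf_le_left))
      (meet_center_nil (hP.pi.nil Nat.prime_two) (nml_inf_of_norm hP.le) (by
        intro e
        rw [e, card_bot] at h8
        omega))
    obtain ⟨v, hv, hf, h4⟩ := H22.KA.exists_K hE h ht.1.2 h3
    have h5 : P ≤ N[V4 t v] := fun g hg =>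
      h4 t Four.t_mem (ne_one_of h3) g (hP.le hg) (mem_C_iff_le_C1.1 ht.2.2 hg)
    have h6 : V4 t v ≤ P :=
      hP.le_of_norm' hf.V_pi ((Four.V_le.2 ⟨ht.1.2, hv⟩).trans (norm_self E)) h5
    obtain ⟨a, x, hD, -⟩ := hG.ddata hP.pi fun hc => hf.V_ncyc (hc.of_le h6)
    obtain ⟨y, hy, hya⟩ : ∃ y ∈ V4 t v, y ∉ zpowers a := by
      by_contra! hc
      exact hf.V_ncyc ((cyc_zpowers a).of_le hc)
    have h7 : a * a ∈ V4 t v := by
      have e1 := hD.conj_of_nmem (h6 hy) hya (inv_mem (mem_zpowers a))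
      have e2 := mul_mem (conj_mem (h5 hD.a_mem) hy) (inv_mem hy)
      rwa [mul_assoc, mul_assoc, ← mul_assoc y, e1, inv_inv] at e2
    have h9 : orderOf a ≤ 4 := orderOf_le_of_pow_eq_one (by norm_num) (by
      rw [show 4 = 2 * 2 from rfl, pow_mul, pow_two, pow_two, hf.V_sq h7])
    have h10 : P ⊓ E = P := eq_of_card_ge inf_le_left (by
      have := Nat.le_of_dvd (card_pos _) h8
      rw [hD.card]
      omega)
    exact (h10.ge (hwP (mem_zpowers w))).2
  · obtain ⟨v, hv, hf, h4⟩ := H22.KA.exists_K hE h ht h2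
    refine ⟨v, hv, hf.hs, hf.ne, hf.comm, fun y hy ho hc => ?_⟩
    rcases hc with hc | hc | hc <;> rw [← mem_C1] at hc
    · exact ⟨mem_C1.1 hc,
        mem_C1.1 (hf.odd_fix (h4 t Four.t_mem (ne_one_of h2) y hy hc) ho hc)⟩
    · exact ⟨mem_C1.1 (hf.symm.odd_fix (by
        rw [Four.V_symm]; exact h4 v Four.s_mem (ne_one_of hf.hs) y hy hc) ho hc), mem_C1.1 hc⟩
    · have h5 := hf.mul.symm.odd_fix (by
        rw [Four.V_symm, hf.V_mul]; exact h4 _ Four.ts_mem hf.mul_ne_one y hy hc) ho hc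
      exact ⟨mem_C1.1 h5, mem_C1.1 (hf.C_of_ts h5 hc)⟩

end H13.Dih
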