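import Mathlib
import Cfsg.Agent.H13.DihDefs
import Cfsg.Agent.H16.KL2b

/-! Facts about `PSL₂(q)` and its automorphisms. -/

set_option autoImplicit false

namespace H13.Dih

open H24 Cfsg Subgroup

universe u

variable {G : Type u} [Group G] [Finite G]

theorem exists_kl2 (hG : CD G) {E : Subgroup G} (hE : QS E) (h : IsL2 (E ⧸ oddCore E)) :
    ∃ (m m' : ℕ) (T : G → Subgroup G), KL2 E m m' T := by
  obtain ⟨F, _, _, h1, h2, ⟨e⟩⟩ := h
  obtain ⟨D, ψ, P⟩ := H16.KL.exists_psi hG hE (by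
    rcases H16.two_cases (F := F) rfl with ⟨-, h, -⟩ | ⟨h, -⟩
    · exact absurd h (Nat.odd_iff.1 h1 ▸ one_ne_zero)
    · exact h) e
  exact P.kl2 (by rwa [Nat.card_eq_fintype_card])

end H13.Dih
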