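import Mathlib
import Cfsg.Agent.H13.DihQ
import Cfsg.Agent.H13.DihKL2
import Cfsg.Agent.H13.DihKA7

/-! Components of proper subgroups and Lemma B. -/

set_option autoImplicit false
set_option linter.unusedSectionVars false

namespace H13.Dih

open H24 H26 Cfsg Subgroup

universe u

variable {G : Type u} [Group G] [Finite G] {E L X : Subgroup G} {t s w y : G} {p : ℕ}

theorem QS.mem_of_two (h : QS E) (hy : y ∈ E ⊔ C[E]) (h2 : PiElt {2} y) : y ∈ E :=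
  zpowers_le.1 (le_of_idx_compl (nml_sup_left (C_le_N E))
    ((isPi_odd.2 h.oddC).piNat.dvd (isProd_sup (C_le_N E)).relIndex_dvd) h2.isPi (zpowers_le.2 hy))

theorem QS.ne_bot (h : QS E) : E ≠ ⊥ := by
  obtain ⟨t, ht, h2⟩ := h.exInv
  exact ne_bot_of_mem ht (ne_one_of h2)

theorem QS.not_sol (h : QS E) : ¬ Sol E := fun hs => h.ne_bot (eq_bot_of_perfect h.perfect hs)

theorem QS.four' (h : QS E) (ht : t ∈ E) (h2 : orderOf t = 2) : ∃ s ∈ E, Four t s := by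
  obtain ⟨s, hs, h1, h3, h4⟩ := h.four t ht h2
  exact ⟨s, hs, h2, h1, h3, h4⟩

/-- a subgroup normalised by `E` either contains `E` or centralises it -/
theorem QS.le_or (h : QS E) (hX : E ≤ N[X]) (hE : X ≤ N[E]) : X ≤ C[E] ∨ E ≤ X := by
  rcases h.nml _ (nml_inf_of_norm hX) with e | e
  · left
    have h1 : ⁅⁅E, X⁆, E⁆ = ⊥ := comm_eq_bot.2 ((le_inf (comm_le_left hE) (comm_le_right hX)).trans e)
    have := three_subgroup (A := E) (B := X) (K := E) h1 (by rwa [commC X])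
    rwa [h.perfect, comm_eq_bot'] at this
  · exact Or.inr (inf_eq_left.1 e)

theorem QS.sol_le_C (h : QS E) (hX : E ≤ N[X]) (hE : X ≤ N[E]) (hs : Sol X) : X ≤ C[E] :=
  (h.le_or hX hE).resolve_right fun e => h.not_sol (hs.of_le e)

namespace KL2

variable {m m' : ℕ} {T : G → Subgroup G} (h : KL2 E m m' T)
include h

theorem T_le_E (hw : w ∈ N[E]) (h2 : orderOf w = 2) : T w ≤ E := (h.T_le w hw h2).trans inf_le_left

theorem T_le_C (hw : w ∈ N[E]) (h2 : orderOf w = 2) : T w ≤ C{w} :=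
  (h.T_le w hw h2).trans inf_le_right

theorem cents (hw : w ∈ N[E]) (h2 : orderOf w = 2) : C[E] ≤ C[T w] := C_anti (h.T_le_E hw h2)

theorem mem_sup (hw : w ∈ N[E]) (h2 : orderOf w = 2) :
    y ∈ T w ⊔ C[E] ↔ ∃ a ∈ T w, ∃ c ∈ C[E], y = a * c :=
  mem_sup_of_norm (norm_of_cent (h.cents hw h2))

theorem sq_mem (hw : w ∈ N[E]) (h2 : orderOf w = 2) (hy : y ∈ E ⊓ C{w}) : y * y ∈ T w ⊔ C[E] := by
  obtain ⟨s, -, -, -, -, -, H⟩ := h.dih w hw h2
  rcases H y hy with e | e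
  · exact mul_mem e e
  · rcases H _ (mul_mem hy hy) with e' | e'
    · exact e'
    · rw [← mul_assoc, mul_mem_cancel_left e] at e'
      exact mul_mem e' e'

theorem odd_mem (hw : w ∈ N[E]) (h2 : orderOf w = 2) (hy : y ∈ E ⊓ C{w}) (ho : Odd (orderOf y)) :
    y ∈ T w ⊔ C[E] := zpowers_le.2 (h.sq_mem hw h2 hy) (mem_zpowers_sq ho)

theorem inv' (hf : Four w s) (hw : w ∈ N[E]) (hs : s ∈ N[E]) : Inv s (T w) :=
  h.inv w hw s hs hf.ht hf.hs hf.ne hf.comm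

theorem four (hw : w ∈ N[E]) (h2 : orderOf w = 2) : ∃ s ∈ E, Four w s := by
  obtain ⟨s, hs, h1, h3, h4, -⟩ := h.dih w hw h2
  exact ⟨s, hs, h2, h1, h3, h4⟩

theorem inf_sup (hw : w ∈ N[E]) (h2 : orderOf w = 2) (hL : E ≤ L) :
    (T w ⊔ C[E]) ⊓ L = T w ⊔ (C[E] ⊓ L) :=
  (group_modl (norm_of_cent (h.cents hw h2)) ((h.T_le_E hw h2).trans hL)).symm

theorem two_le : 2 ≤ m := by
  have := h.three_le
  rcases h.mm' with e | e <;> omega

theorem coprime : m.Coprime m' := by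
  rcases h.mm' with e | e <;> rw [e] <;> simp

end KL2

theorem qs_res (hG : CD G) (hO : O[{2}ᶜ, L] = ⊥) (h : GW (res L)) :
    QS (res L) ∧ C[res L] ⊓ L = ⊥ := by
  have h1 := qs_of_gw hG (res_perfect L) (((res_nml L).pcore_le _).trans (hO.le.trans bot_le)) h
  refine ⟨h1, ?_⟩
  rw [inf_comm, eq_bot_iff, ← hO]
  exact le_O (odd_of_le h1.oddC inf_le_right) (res_nml L).infC

theorem lemB_bar (hG : CD G) (hO : O[{2}ᶜ, L] = ⊥) (hgw : ¬ Sol L → GW (res L))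
    (ht : orderOf t = 2) (htL : t ∈ L) (hp : p.Prime) (hp2 : p ≠ 2) (hX : IsPi {p} X) (hXL : X ≤ L)
    (hXt : X ≤ ⁅X, zpowers t⁆) (hN : L ⊓ C{t} ≤ N[X]) : X = ⊥ := by
  have hXo := odd_of_pi hp2 hX
  have hfin : X ≤ C{t} → X = ⊥ := fun e => eq_bot_of_le (comm_zp_eq_bot.2 e) hXt
  by_cases hs : Sol L
  · have h1 := cent_sub_pcore Nat.prime_two hs hO
    have hn := (pcore_nml {2} L).norm
    have hi : O[{2}, L] ⊓ X = ⊥ := (pcore_pi _ _).inf_eq_bot (isPi_odd.2 hXo)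
    obtain ⟨z, hz, hz1⟩ := exists_ne_one ((isPi_zp ht).inf_C_ne_bot Nat.prime_two (pcore_pi {2} L)
      (zpowers_le.2 (hn htL)) fun e => ne_one_of ht (mem_bot.1 (e ▸ h1 ⟨htL, by simp [e]⟩)))
    rw [C_zpowers] at hz
    have h2 : O[{2}, L] ⊓ C{t} ≤ C[X] := by
      rw [← comm_eq_bot, eq_bot_iff, ← hi]
      exact le_inf ((comm_mono_left inf_le_left).trans (comm_le_left (hXL.trans hn)))
        (comm_le_right ((inf_le_inf_right _ (pcore_le _ _)).trans hN))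
    rw [← hi, eq_comm, inf_eq_right]
    exact fun g hg => h1 ⟨hXL hg, hG.odd_cent (pcore_pi _ _) (hn (hXL hg)) (odd_orderOf hXo hg)
      hz.1 hz1 (mem_C_iff_le_C1.1 (h2 hz) hg)⟩
  obtain ⟨hE, hC⟩ := qs_res hG hO (hgw hs)
  have hLE := (res_nml L).norm
  have hEL := res_le L
  have htE := hLE htL
  rcases hgw hs with h2 | h2
  · obtain ⟨m, m', T, K⟩ := exists_kl2 hG hE h2
    set E := res L
    have hmod : ∀ w ∈ N[E], orderOf w = 2 → (T w ⊔ C[E]) ⊓ L = T w := fun w hw h2 => by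
      rw [K.inf_sup hw h2 hEL, hC, sup_bot_eq]
    have hXE : X ≤ E := by
      have := le_inf ((hXt.trans (commutator_mono (hXL.trans hLE) (zpowers_le.2 htE))).trans K.comm) hXL
      rwa [← group_modl (C_le_N E) hEL, hC, sup_bot_eq] at this
    obtain ⟨s, hs, hf⟩ := K.four htE ht
    have hVX : V4 t s ≤ N[X] := (le_inf (Four.V_le.2 ⟨htL, hEL hs⟩) hf.V_le_C).trans hN
    have hVE : V4 t s ≤ N[E] := (Four.V_le.2 ⟨htL, hEL hs⟩).trans hLE
    by_contra hX1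
    obtain ⟨w, hw, hw1, h3⟩ : ∃ w ∈ V4 t s, w ≠ 1 ∧ Z[X] ⊓ C{w} ≠ ⊥ := by
      by_contra! hh
      exact (hX.nil hp).center_ne_bot hX1 (eq_bot_iff.2 (hf.gen (odd_of_le hXo inf_le_left)
        (norm_Z hVX) (hh _ Four.t_mem (ne_one_of ht)).le (hh _ Four.s_mem (ne_one_of hf.hs)).le
        (hh _ Four.ts_mem hf.mul_ne_one).le))
    obtain ⟨y, hy, hy1⟩ := exists_ne_one h3
    have hw2 := hf.V_two hw hw1
    have hwE := hVE hw
    have hyo := odd_orderOf hXo hy.1.1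
    have h4 : E ⊓ C{y} ≤ T w := by
      rw [← hmod w hwE hw2]
      refine le_inf (K.cent w hwE hw2 y (K.odd_mem hwE hw2 ⟨hXE hy.1.1, hy.2⟩ hyo) fun e => hy1 ?_)
        (inf_le_left.trans hEL)
      exact eq_one_of_odd_of_sq hyo (mem_bot.1 (hC ▸ ⟨e, hXL (mul_mem hy.1.1 hy.1.1)⟩))
    have h5 : X ≤ T w := (le_inf hXE (mem_C_iff_le_C1.1 hy.1.2)).trans h4
    have hXw := h5.trans (K.T_le_C hwE hw2)
    have hwt : w ≠ t := fun e => hX1 (hfin (e ▸ hXw))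
    have hf' := hf.four_of_mem Four.t_mem hw (ne_one_of ht) hw1 hwt
    have hinv := K.inv' hf' htE hwE
    have h6 : ♯(T t) ∣ 4 := by
      obtain ⟨g, hg, e⟩ := (K.T_cyc t htE ht).exists_gen
      rw [← e, card_zpowers']
      have hgE := K.T_le_E htE ht hg
      have h7 : g * w * g⁻¹ ∈ C[X] := conj_mem (N_le_NC X (hN ⟨hEL hgE, K.T_le_C htE ht hg⟩))
        (mem_C_iff_le_C1.2 hXw)
      have h8 : g * w * g⁻¹ = g * g * w := by
        have := hinv _ (inv_mem hg)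
        rw [inv_inv, mul_inv_eq_iff_eq_mul] at this
        rw [mul_assoc, this, mul_assoc]
      rw [h8, mul_mem_cancel_right (mem_C_iff_le_C1.2 hXw)] at h7
      have h9 := K.T_le_C hwE hw2 (h4 ⟨mul_mem hgE hgE, C_le_C1 hy.1.1 h7⟩)
      have h10 := hinv _ (mul_mem hg hg)
      rw [mem_C1_iff_conj.1 (mem_C1_comm.1 h9)] at h10
      refine orderOf_dvd_of_pow_eq_one ?_
      calc g ^ 4 = (g * g) * (g * g) := by rw [← pow_two, ← pow_two, ← pow_mul]
        _ = 1 := by nth_rewrite 1 [h10]; group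
    by_cases htE' : t ∈ E
    · have h7 := card_dvd h5
      rw [K.card_in w (Four.V_le.2 ⟨htE', hs⟩ hw) hw2, ← K.card_in t htE' ht] at h7
      exact hX1 (card_eq_one'.1 (Nat.eq_one_of_dvd_coprimes
        (Nat.coprime_two_right.2 hXo |>.pow_right 2) dvd_rfl (h7.trans h6)))
    · rw [K.card_out t htE htE' ht] at h6
      have := K.three_le
      have h7 := K.odd_m'
      have := Nat.le_of_dvd four_pos h6
      interval_cases m' <;> simp_all (config := { decide := true })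
  · have K := ka7_of hG hE h2
    obtain ⟨v, hv, h3, h4, h5, H⟩ := K.four t (K.inner t htE ht) ht
    have hf : Four t v := ⟨ht, h3, h4, h5⟩
    have key : ∀ y ∈ X, (y * t = t * y ∨ y * v = v * y ∨ y * (t * v) = t * v * y) → y ∈ C{t} :=
      fun y hy e => mem_C1.2 (H y (hLE (hXL hy)) (odd_orderOf hXo hy) e).1
    exact hfin (hf.gen hXo ((le_inf (Four.V_le.2 ⟨htL, hEL hv⟩) hf.V_le_C).trans hN) inf_le_right
      (fun y hy => key y hy.1 (Or.inr (Or.inl (mem_C1.1 hy.2))))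
      fun y hy => key y hy.1 (Or.inr (Or.inr (mem_C1.1 hy.2))))

theorem lemB_odd {K : Subgroup G} (hK : Odd ♯K) (hO : O[{p}, K] = ⊥) (ht : orderOf t = 2)
    (htK : t ∈ N[K]) (hp : p.Prime) (hX : IsPi {p} X) (hXK : X ≤ K) (htX : t ∈ N[X])
    (hXt : X ≤ ⁅X, zpowers t⁆) (hN : K ⊓ C{t} ≤ N[X]) : X = ⊥ := by
  have hF : IsPi {p}ᶜ F[K] := (isPi_compl_iff hp).2 fun e =>
    (pcore_ne_bot_iff_dvd_Fitting hp).2 e hO
  have hn := hXK.trans (Fitting_nml K).norm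
  have hi := hF.inf_eq_bot' hX
  have h1 := bcore (Fitting_nil K) (odd_of_le hK (Fitting_le K)) ht (N_le_N_Fitting K htK) htX hn
    (hF.coprime' hX) hXt (by
      rw [← comm_eq_bot, eq_bot_iff, ← hi]
      exact le_inf ((comm_mono_left inf_le_left).trans (comm_le_left hn))
        (comm_le_right ((inf_le_inf_right _ (Fitting_le K)).trans hN)))
  rw [← hi, eq_comm, inf_eq_right]
  exact le_Fitting_of_cent (sol_of_odd hK) hXK h1

namespace MC

variable (h : MC G)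
include h

theorem gw (hL : L ≠ ⊤) (hs : ¬ Sol L) : GW (res L) :=
  h.ih _ (ne_top_of_le_ne_top hL (res_le L)) (res_ne_bot hs) (res_perfect L)

theorem gw_quo (hL : L ≠ ⊤) (hs : ¬ Sol L) : GW (res (quo L O[{2}ᶜ, L])) := by
  have hn := (pcore_nml {2}ᶜ L).norm
  rw [← quo_res hn]
  exact (h.gw hL hs).quo ((res_le L).trans hn) (odd_pcore L)

/-- Lemma B -/
theorem lemB (hL : L ≠ ⊤) (ht : orderOf t = 2) (htL : t ∈ L) (hp : p.Prime) (hp2 : p ≠ 2)
    (hX : IsPi {p} X) (hXL : X ≤ L) (hXt : X ≤ ⁅X, zpowers t⁆) (hN : L ⊓ C{t} ≤ N[X]) :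
    X ≤ O[{p}, L] := by
  have hK := pcore_nml {2}ᶜ L
  have hKo := odd_pcore L
  have htK := hK.norm htL
  have h1 : X ≤ O[{2}ᶜ, L] := by
    rw [← quo_eq_bot (hXL.trans hK.norm)]
    refine lemB_bar (h.cd.qn _) (pcore_quo_pcore _ L) (fun hs => h.gw_quo hL fun e => hs (e.quo _))
      (two_cs hKo ht htK) (cs_mem_quo htL htK) hp hp2 (hX.quo _) (quo_mono _ hXL) ?_ ?_
    · rw [← quo_zpowers htK, ← quo_comm (hXL.trans hK.norm) (zpowers_le.2 htK)]
      exact quo_mono _ hXt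
    · rw [← quo_C1 hKo ht htK hK.le]
      exact quo_norm _ hN
  set K := O[{2}ᶜ, L]
  refine le_trans ?_ (hK.pcore_le {p})
  have hP := pcore_nml {p} K
  have htP : t ∈ N[O[{p}, K]] := N_le_N_pcore _ _ htK
  have hPo := odd_of_le hKo hP.le
  rw [← quo_eq_bot (h1.trans hP.norm)]
  refine lemB_odd (odd_quo hKo _) (pcore_quo_pcore _ K) (two_cs hPo ht htP) (cs_mem_N htK htP) hp
    (hX.quo _) (quo_mono _ h1) (cs_mem_N (hN ⟨htL, self_mem_C1 t⟩) htP) ?_ ?_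
  · rw [← quo_zpowers htP, ← quo_comm (h1.trans hP.norm) (zpowers_le.2 htP)]
    exact quo_mono _ hXt
  · rw [← quo_C1 hPo ht htP hP.le]
    exact quo_norm _ ((inf_le_inf_right _ hK.le).trans hN)

/-- the form in which Lemma B is used: `[X ∩ L, t] ≤ O_p(L)` for a `C(t)`-invariant `p`-group -/
theorem lemB' (hL : L ≠ ⊤) (ht : orderOf t = 2) (htL : t ∈ L) (hp : p.Prime) (hp2 : p ≠ 2)
    (hX : IsPi {p} X) (hN : L ⊓ C{t} ≤ N[X]) : ⁅X ⊓ L, zpowers t⁆ ≤ O[{p}, L] := by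
  have h1 : L ⊓ C{t} ≤ N[X ⊓ L] := norm_inf hN (norm_of_le inf_le_left)
  have h2 := h1 ⟨htL, self_mem_C1 t⟩
  have h3 : ⁅X ⊓ L, zpowers t⁆ ≤ X ⊓ L := comm_le_left (zpowers_le.2 h2)
  exact h.lemB hL ht htL hp hp2 ((hX.inf_left L).of_le h3) (h3.trans inf_le_right)
    (comm_idem (odd_of_pi hp2 (hX.inf_left L)) ht h2).ge (norm_comm_zp h1 inf_le_right)

theorem comp (hL : L ≠ ⊤) (hs : ¬ Sol L) (ht : orderOf t = 2) (htL : t ∈ L)
    (hc : t ∈ C[O[{2}ᶜ, L]]) : res L ≤ C[O[{2}ᶜ, L]] ∧ QS (res L) := by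
  have hK := pcore_nml {2}ᶜ L
  have hKo := odd_pcore L
  have h1 : res L ≤ C[O[{2}ᶜ, L]] := by
    obtain ⟨hE, hC⟩ := qs_res (h.cd.qn _) (pcore_quo_pcore _ L) (h.gw_quo hL hs)
    have hD := hK.infC
    have hD' := hD.quo O[{2}ᶜ, L]
    rcases hE.le_or ((res_le _).trans hD'.norm) (hD'.le.trans (res_nml _).norm) with e | e
    · exact absurd (mem_bot.1 (hC ▸ le_inf e hD'.le (cs_mem_quo ⟨htL, hc⟩ (hK.norm htL))))
        (ne_one_of (two_cs hKo ht (hK.norm htL)))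
    · rw [← quo_res hK.norm, quo_le_quo_iff ((res_le L).trans hK.norm) (hD.le.trans hK.norm)] at e
      refine le_trans ?_ (inf_le_right : L ⊓ C[O[{2}ᶜ, L]] ≤ _)
      have h2 := (res_le L).trans hD.norm
      rw [← quo_eq_bot h2]
      refine eq_bot_of_perfect (by rw [← quo_comm h2 h2, res_perfect])
        (((sol_of_odd hKo).quo _).of_le ?_)
      rw [← quo_sup_left (hK.le.trans hD.norm)]
      exact quo_mono _ e
  exact ⟨h1, qs_of_gw h.cd (res_perfect L) (((res_nml L).pcore_le _).trans (cents_symm h1))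
    (h.gw hL hs)⟩

end MC

end H13.Dih
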