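import Mathlib
import Cfsg.Agent.H13.DihDefs
import Cfsg.Agent.H5.DCH
import Cfsg.Agent.H22.DihNum0

/-! Numerical consequences of `H5.dch`. -/

set_option autoImplicit false

namespace H13.Dih

open H24 Cfsg Subgroup H22.DN

universe u

variable {G : Type u} [Group G] [Finite G]

/-- (SE) no proper subgroup containing `C(t)` has a single class of involutions. -/
theorem MC.se (h : MC G) {t : G} (ht : orderOf t = 2) (hU : O[{2}ᶜ, C{t}] ≠ ⊥) {M : Subgroup G}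
    (hM : C{t} ≤ M) (hM1 : M ≠ ⊤) : ∃ v ∈ M, orderOf v = 2 ∧ ∀ g ∈ M, g * t * g⁻¹ ≠ v := by
  by_contra! hc
  have := h.simple
  obtain ⟨S, n, a, x, hn, hD, hta⟩ := mc_setup h ht
  obtain ⟨a₁, a₂, a₃, h1, h2⟩ := exists_num hn hD ht hta fun u hu => mc_isConj h ht hu
  obtain ⟨h2, h3, h4⟩ := h2 (mc_linear h)
  obtain ⟨b₁, b₂, b₃, h5⟩ := exists_num_sub hn hD ht hta hM hc
  have hS := hD.le_centralizer ht hta
  have h6 : ¬ 2 ∣ M.index := fun e => S.not_dvd_index (e.trans (index_dvd_of_le (hS.trans hM)))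
  have h7 : M.index ≠ 1 := fun e => hM1 (index_eq_one.mp e)
  have h8 : ((C{t}).index : ℤ) = (C{t}).relIndex M * M.index := by
    exact_mod_cast (relIndex_mul_index hM).symm
  have hd : (3 : ℤ) ≤ M.index := by omega
  have k1 := relIndex_pos C{x} C{t}
  have k2 := relIndex_pos C{x * a} C{t}
  rcases two_or_four hn hD with rfl | ⟨hn2, hn4⟩
  · rw [k_eq_of_two hD ht hta] at h1 h5
    have e1 := (bounds_two h1.c1 (h1.two rfl).1 (h1.two rfl).2 h1.sum h1.f2).2 h2 h3 h4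
    have e2 := (bounds_two h5.c1 (h5.two rfl).1 (h5.two rfl).2 h5.sum h5.f2).1
    have e3 : (1 : ℤ) ≤ ((C{x}).relIndex C{t} : ℤ) ^ 2 := one_le_pow₀ (by omega)
    have e4 : M.index ≤ 5 := by
      by_contra! e4
      have : (6 : ℤ) ≤ M.index := by omega
      nlinarith
    have e5 := Nat.le_of_dvd (Nat.factorial_pos _) (H6.card_dvd_factorial_index hM1)
    have e6 : 12 ≤ ♯C{t} := by
      have e7 := isPi_odd.1 (pcore_pi {2}ᶜ C{t})
      have e8 := one_lt_card hU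
      have e9 : 4 ∣ ♯C{t} := (show ♯(S : Subgroup G) = 4 from hD.card) ▸ card_dvd hS
      have e10 := Nat.le_of_dvd (card_pos _) (Nat.Coprime.mul_dvd_of_dvd_of_dvd
        ((Nat.coprime_two_left.mpr e7).pow_left 2) e9 (card_dvd (pcore_le _ _)))
      obtain ⟨k, hk⟩ := e7
      omega
    rw [← card_mul_index C{t}, ← relIndex_mul_index hM] at e5
    have e7 : 3 ≤ (C{t}).relIndex M := by omega
    have e8 := (Nat.mul_le_mul e6 (Nat.mul_le_mul_right M.index e7)).trans e5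
    rcases (show M.index = 3 ∨ M.index = 5 by omega) with e | e <;> rw [e] at e8 <;>
      exact absurd e8 (by decide)
  · obtain ⟨-, -, e1⟩ := bounds_four (by omega) (mod_eight hn4 h1.c1) (h1.big hn2).2.2
    obtain ⟨-, e2, -⟩ := bounds_four (by omega) (mod_eight hn4 h5.c1) (h5.big hn2).2.2
    have e3 : (0 : ℤ) < ((C{x}).relIndex C{t} + (C{x * a}).relIndex C{t} : ℤ) ^ 2 := by positivity
    nlinarith

/-- (N) -/
theorem MC.ratio (h : MC G) {t s₁ s₂ : G} (ht : orderOf t = 2) (h1 : s₁ ∈ J C{t}) (h2 : s₂ ∈ J C{t})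
    (h1t : s₁ ≠ t) (h2t : s₂ ≠ t) {u : ℕ} (hu : Odd u) (h3 : 3 ≤ u)
    (hk : (C{s₂}).relIndex C{t} = u * (C{s₁}).relIndex C{t}) :
    (u = 3 ∧ 4 * (C{t}).index = 105 * ((C{s₁}).relIndex C{t}) ^ 2) ∨
      (u = 5 ∧ 4 * (C{t}).index = 189 * ((C{s₁}).relIndex C{t}) ^ 2) := by
  obtain ⟨S, n, a, x, hn, hD, hta⟩ := mc_setup h ht
  obtain ⟨a₁, a₂, a₃, hN, -⟩ := exists_num hn hD ht hta fun u hu => mc_isConj h ht hu
  have k1 := relIndex_pos C{s₁} C{t}
  have hne : (C{s₂}).relIndex C{t} ≠ (C{s₁}).relIndex C{t} := by rw [hk]; nlinarith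
  have e1 := k_cases hD ht hta h1 h1t
  have e2 := k_cases hD ht hta h2 h2t
  obtain ⟨hn2, hn4⟩ := (two_or_four hn hD).resolve_left (by
    rintro rfl
    rw [k_eq_of_two hD ht hta, or_self] at e1 e2
    exact hne (e2.trans e1.symm))
  obtain ⟨c2, c3, f1⟩ := hN.big hn2
  have f2 := hN.f2
  generalize (C{s₁}).relIndex C{t} = k at *
  have hs : ((C{x}).relIndex C{t} + (C{x * a}).relIndex C{t} : ℤ) = (1 + u) * k ∧
      ((C{x}).relIndex C{t} * (C{x * a}).relIndex C{t} : ℤ) = u * k ^ 2 := by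
    rcases e1 with e1 | e1 <;> rcases e2 with e2 | e2
    · exact absurd (e2.trans e1.symm) hne
    · rw [← e1, ← e2, hk]; push_cast; constructor <;> ring
    · rw [← e1, ← e2, hk]; push_cast; constructor <;> ring
    · exact absurd (e2.trans e1.symm) hne
  rw [hs.1] at f1
  rw [mul_assoc 8, hs.2] at f2
  have c1 := mod_eight hn4 hN.c1
  have hsum := hN.sum
  have E : (1 + u : ℤ) ^ 2 * (a₁ + 1) ^ 2 * (a₂ * a₃ - a₁) = 4 * u * (a₁ - 1) ^ 2 * (a₂ * a₃) := by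
    have h0 : 2 * (k : ℤ) ^ 2 * a₁ ≠ 0 := by
      have : a₁ ≠ 0 := by omega
      positivity
    apply mul_left_cancel₀ h0
    obtain rfl : a₁ = -1 - a₂ - a₃ := by omega
    linear_combination (-1 - a₂ - a₃ - 1) ^ 2 * f2 - (-a₂ - a₃) * (1 + a₂) * (1 + a₃) * f1
  obtain ⟨j, hj⟩ := hu
  rcases ratio_cases (by omega) (by omega) c1 (bounds_four (by positivity) c1 f1).1
    (le_or_le hn2 hn4 c2) (le_or_le hn2 hn4 c3) hsum E with ⟨e, rfl⟩ | ⟨e, rfl⟩ <;> rw [e] at f1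
  · exact Or.inl ⟨by omega, by zify; linarith⟩
  · exact Or.inr ⟨by omega, by zify; linarith⟩

/-- (UB) -/
theorem MC.index_le (h : MC G) {t : G} (ht : orderOf t = 2) :
    4 * (C{t}).index ≤ 15 * (J C{t} \ {t}).ncard ^ 2 := by
  obtain ⟨S, n, a, x, hn, hD, hta⟩ := mc_setup h ht
  obtain ⟨a₁, a₂, a₃, h1, h2⟩ := exists_num hn hD ht hta fun u hu => mc_isConj h ht hu
  obtain ⟨h2, h3, h4⟩ := h2 (mc_linear h)
  rw [ncard_J hn hD ht hta]
  have k1 := relIndex_pos C{x} C{t}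
  zify
  rcases two_or_four hn hD with rfl | ⟨hn2, hn4⟩
  · rw [k_eq_of_two hD ht hta] at h1 ⊢
    have e1 := (bounds_two h1.c1 (h1.two rfl).1 (h1.two rfl).2 h1.sum h1.f2).2 h2 h3 h4
    linarith
  · obtain ⟨-, -, e1⟩ := bounds_four (by omega) (mod_eight hn4 h1.c1) (h1.big hn2).2.2
    nlinarith

end H13.Dih
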