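import Mathlib
import Cfsg.Agent.H13.DihLoc
import Cfsg.Agent.H13.DihNum

/-! Theorem 1: `t` centralises `O(M)` for every proper subgroup `M ≥ C(t)`. -/

set_option autoImplicit false
set_option linter.unusedSectionVars false

namespace H13.Dih

open H24 H26 Cfsg Subgroup

universe u

variable {G : Type u} [Group G] [Finite G] {A B D M N R X : Subgroup G} {t s : G} {p : ℕ}

theorem pcore_le_FO (hp : p.Prime) (hp2 : p ≠ 2) (M : Subgroup G) : O[{p}, M] ≤ F[O[{2}ᶜ, M]] :=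
  Fitting_max ((pcore_nml _ M).of_le (pcore_mono M (singleton_subset_compl hp2)) (pcore_le _ _))
    ((pcore_pi _ _).nil hp)

theorem le_C_of_frattini (hX : Nil X) (hXo : Odd ♯X) (hf : Four t s) (hV : V4 t s ≤ N[X])
    (hXt : X ≤ ⁅X, zpowers t⁆) (h : X ⊓ C{s} ≤ C{t}) : X ≤ C{t * s} := by
  have h1 := norm_Phi hV
  have h2 := (Phi_nml X).norm
  have ht := h1 Four.t_mem
  have hs := h1 Four.s_mem
  have h3 : Inv (cs (Phi X) t) (quo X (Phi X)) :=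
    (Abl.inv_comm ((abl_quo h2).2 hX.der1_le_Phi) (cs_sq ht (sq_of hf.ht))
      (cs_mem_N (hV Four.t_mem) ht)).of_le (by
      rw [← quo_zpowers ht, ← quo_comm h2 (zpowers_le.2 ht)]; exact quo_mono _ hXt)
  have h4 : Inv (cs (Phi X) s) (quo X (Phi X)) := by
    refine inv_of_inf_C (odd_quo hXo _) (cs_sq hs (sq_of hf.hs)) (cs_mem_N (hV Four.s_mem) hs) ?_
    rw [eq_bot_iff, ← h3.inf_C (odd_quo hXo _)]
    refine le_inf inf_le_left ?_
    rw [← quo_C1 (odd_of_le hXo (Phi_le X)) hf.hs hs (Phi_le X)]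
    exact quo_cent1 h ht
  have h5 := h3.mul_mem_C h4
  rw [← cs_mul ht hs, ← zpowers_le, ← quo_zpowers (mul_mem ht hs),
    quo_cents (zpowers_le.2 (mul_mem ht hs)) h2, commC] at h5
  exact mem_C_iff_le_C1.1 (zpowers_le.1 (coprime_cent_Phi (cop_zp hXo hf.hts) h5))

theorem FC.inf_eq_bot (hA : FC A) (hD : D ≤ F[A]) (hN : N[D] ≤ N[R])
    (hR : IsPi (primesOf F[A])ᶜ R) : R ⊓ A = ⊥ := by
  have hi := (isPi_primesOf F[A]).inf_eq_bot hR
  have hn : R ⊓ A ≤ N[F[A]] := inf_le_right.trans (Fitting_nml A).norm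
  have h1 : F[A] ⊓ N[D] ≤ C[R ⊓ A] := by
    rw [← comm_eq_bot, eq_bot_iff, ← hi]
    exact le_inf ((comm_mono_left inf_le_left).trans (comm_le_left hn))
      ((comm_mono_right inf_le_left).trans (comm_le_right (inf_le_right.trans hN)))
  have h2 := coprime_nil_faithful_cent_stab hn ((isPi_primesOf _).coprime (hR.inf_left A))
    (Fitting_nil A) (le_inf inf_le_left ((inf_le_inf_left _ ((C_anti
      (le_inf hD ((le_inf hD (norm_self D)).trans h1))).trans (C_le_N D))).trans h1))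
  rw [eq_bot_iff, ← hi]
  exact le_inf (h2.trans hA.cent) inf_le_left

/-- data of Theorem 1 -/
structure T1 (p : ℕ) (t : G) (M : Subgroup G) : Prop where
  fc : FC M
  le : C{t} ≤ M
  ne : ⁅O[{p}, M], zpowers t⁆ ≠ ⊥
  norm : N[⁅O[{p}, M], zpowers t⁆] ≤ M

theorem T1.cj (h : T1 p t M) (g : G) : T1 p (g * t * g⁻¹) (cj g M) := by
  refine ⟨h.fc.cj g, ?_, ?_, ?_⟩
  · rw [← cj_C1]; exact cj_mono g h.le
  · rw [pcore_cj, ← cj_zpowers, ← cj_comm, Ne, cj_eq_bot]; exact h.ne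
  · rw [pcore_cj, ← cj_zpowers, ← cj_comm, ← cj_N]; exact cj_mono g h.norm

theorem T1.mem (h : T1 p t M) : t ∈ N[O[{p}, M]] := (pcore_nml _ M).norm (h.le (self_mem_C1 t))

theorem T1.X_le (h : T1 p t M) : ⁅O[{p}, M], zpowers t⁆ ≤ O[{p}, M] :=
  comm_le_left (zpowers_le.2 h.mem)

theorem T1.X_norm (h : T1 p t M) : C{t} ≤ N[⁅O[{p}, M], zpowers t⁆] :=
  norm_comm_zp (h.le.trans (pcore_nml _ M).norm) le_rfl

namespace MC

variable (h : MC G)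
include h

theorem fc_of (hM : IsCoatom M) (H : ∀ z ∈ M, orderOf z = 2 → z ∉ C[F[O[{2}ᶜ, M]]]) : FC M := by
  have hK := pcore_nml {2}ᶜ M
  have h1 : M ⊓ C[F[O[{2}ᶜ, M]]] ≤ F[O[{2}ᶜ, M]] :=
    le_Fitting_of_cent (sol_of_odd (odd_pcore M))
      (le_O (odd_of_forall fun z hz h2 => H z hz.1 h2 hz.2) hK.Fitting.infC) inf_le_right
  refine ⟨hM, ?_, ?_⟩
  · by_contra h2
    rw [Nat.not_odd_iff_even, even_iff_two_dvd, ← pcore_ne_bot_iff_dvd_Fitting Nat.prime_two] at h2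
    obtain ⟨z, hz, h3⟩ := exists_two_of_pi (pcore_pi _ _) h2
    exact H z (pcore_le _ _ hz) h3
      (pcore_cents ((pcore_pi _ _).of_le (Fitting_le _)) hK.Fitting hz)
  · refine le_trans (le_inf (h.C_le hM (fun e => h.coatom_ne_bot hM ?_) (Fitting_nml M))
      (C_anti hK.Fitting_le)) (h1.trans hK.Fitting_le)
    rwa [eq_bot_of_le e hK.Fitting_le, C_bot, inf_top_eq, le_bot_iff] at h1

omit h in
theorem exists_cent (hM : Syl 2 M A) {z : G} (hD : D ⊴ M) (hz : z ∈ D) (h2 : orderOf z = 2) :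
    ∃ v ∈ A ⊓ D ⊓ C[A], orderOf v = 2 := by
  have h1 := (hM.inf_nml hD).ne_bot Nat.prime_two rfl (h2 ▸ orderOf_dvd_card' hz)
  exact exists_two_of_pi ((hM.pi.inf_left _).inf_left _)
    ((hM.pi.nil Nat.prime_two).inf_C_ne_bot (hD.inf_left hM.le) h1)

theorem fc_of_four (hM : IsCoatom M) (hf : Four t s) (hV : V4 t s ≤ M) (hp : p.Prime) (hp2 : p ≠ 2)
    (H : ∀ v ∈ V4 t s, v ≠ 1 → v ∉ C[O[{p}, M]]) : FC M := h.fc_of hM fun z hz h2 hc => by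
  obtain ⟨T, hT, hVT⟩ := Sylow_superset Nat.prime_two hf.V_pi hV
  obtain ⟨v, hv, h3⟩ := exists_cent hT (pcore_nml {2}ᶜ M).Fitting.infC ⟨hz, hc⟩ h2
  exact H v (h.cd.le_V hf (isPi_zp h3) (zpowers_le.2 (C_anti hVT hv.2)) (mem_zpowers v))
    (ne_one_of h3) (C_anti (pcore_le_FO hp hp2 M) hv.1.2.2)

theorem fc_of_C (hM : IsCoatom M) (ht : orderOf t = 2) (hH : C{t} ≤ M)
    (H : t ∉ C[F[O[{2}ᶜ, M]]]) : FC M := h.fc_of hM fun z hz h2 hc => by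
  obtain ⟨S, hS⟩ := Sylow_exists Nat.prime_two C{t}
  have hS' := h.syl_of_le ht hS (hS.le.trans hH)
  have hD := (pcore_nml {2}ᶜ M).Fitting.infC
  set D := M ⊓ C[F[O[{2}ᶜ, M]]]
  obtain ⟨v, hv, h3⟩ := exists_cent hS' hD ⟨hz, hc⟩ h2
  have hf : Four t v := ⟨ht, h3, fun e => H (e ▸ hv.1.2.2), mem_C1.1 (hS.le hv.1.1)⟩
  have hSV : S ≤ V4 t v := h.cd.le_V hf hS.pi
    (by rw [Four.C_V]; exact le_inf hS.le (mem_C_iff_le_C1.1 hv.2))
  have hZ : S ⊓ D = zpowers v := le_antisymm (fun y hy => by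
    rcases hf.mem_V.1 (hSV hy.1) with rfl | rfl | rfl | rfl
    exacts [one_mem _, absurd hy.2.2 H, mem_zpowers _,
      absurd ((mul_mem_cancel_right (H := C[F[O[{2}ᶜ, M]]]) hv.1.2.2).1 hy.2.2) H]) (zpowers_le.2 hv.1)
  have hZ' := hS'.inf_nml hD
  rw [hZ] at hZ'
  have h4 : NCompl {2} D := h.cd.ncompl_of_not_fused fun a ha b hb hab _ _ _ _ _ => by
    have := Nat.le_of_dvd (card_pos _) (hZ'.card_dvd hab.V_pi (Four.V_le.2 ⟨ha, hb⟩))
    rw [hab.V_card, card_zpowers', h3] at this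
    omega
  have h5 : D ≤ C{v} := by
    rw [← ((ncompl_iff hZ').1 h4).sup]
    exact sup_le ((le_Fitting_of_cent (sol_of_odd (odd_pcore M)) (hD.pcore_le _)
      ((pcore_le _ _).trans inf_le_right)).trans (mem_C_iff_le_C1.1 hv.1.2.2)) (zpowers_le_C1 v)
  have h6 : M ≤ C{v} := fun m hm => by
    rcases (mem_zpowers_of_sq (sq_of h3)).1 (conj_mem (hZ'.norm_of_nml (norm_zpowers_of_cent h5)
      hD.norm hm) (mem_zpowers v)) with e | e
    · exact absurd (conj_eq_one_iff'.1 e) (ne_one_of h3)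
    · exact mem_C1_iff_conj.2 e
  have h7 : C{t} = M := eq_of_card_ge hH ((card_le h6).trans (h.card_C ht h3).le)
  exact H (mem_C_iff_le_C1.2 (((Fitting_le _).trans (pcore_le _ _)).trans h7.ge))

theorem ul' (hA : FC A) (hB : FC B) (hπ : primesOf F[B] ⊆ primesOf F[A]) (hD : D ≤ F[A])
    (hN : N[D] ≤ B) : A = B :=
  h.ul hA hB hπ (Y := F[A] ⊓ N[D]) inf_le_left (inf_le_right.trans hN)
    (inf_le_inf_left _ ((C_anti (le_inf hD (norm_self D))).trans (C_le_N D)))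

variable (hp : p.Prime) (hp2 : p ≠ 2) {M0 M1 M2 : Subgroup G}
include hp hp2

theorem t1_one (hf : Four t s) (h0 : T1 p t M0) (h2 : T1 p (t * s) M2)
    (hπ : primesOf F[M0] ⊆ primesOf F[M2]) (hc : ⁅O[{p}, M0], zpowers t⁆ ⊓ C{s} ≤ C{t}) :
    M2 = M0 := by
  have hX := (pcore_pi {p} M0).of_le h0.X_le
  have hXt := (comm_idem (odd_of_pi hp2 (pcore_pi {p} M0)) hf.ht h0.mem).ge
  have h3 := le_C_of_frattini (hX.nil hp) (odd_of_pi hp2 hX) hf (hf.V_le_C.trans h0.X_norm) hXt hc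
  exact h.ul' h2.fc h0.fc hπ ((h.lemB h2.fc.coatom.1 hf.ht (h2.le hf.mul.t_mem_C) hp hp2 hX
    (h3.trans h2.le) hXt (inf_le_right.trans h0.X_norm)).trans (pcore_le_Fitting hp _)) h0.norm

theorem t1_le (hf : Four t s) (h0 : T1 p t M0) (hN : N ≠ ⊤) (htN : t ∈ N)
    (h1 : ⁅O[{p}, M0], zpowers t⁆ ⊓ C{s} ≤ N) :
    ⁅⁅O[{p}, M0], zpowers t⁆ ⊓ C{s}, zpowers t⁆ ≤ O[{p}, N] :=
  (comm_mono_left (le_inf inf_le_left h1)).trans (h.lemB' hN hf.ht htN hp hp2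
    ((pcore_pi {p} M0).of_le h0.X_le) (inf_le_right.trans h0.X_norm))

omit h hp in
theorem t1_not (hf : Four t s) (h0 : T1 p t M0) (hc : ¬ ⁅O[{p}, M0], zpowers t⁆ ⊓ C{s} ≤ C{t}) :
    ¬ ⁅⁅O[{p}, M0], zpowers t⁆ ⊓ C{s}, zpowers t⁆ ≤ C{t} := fun e => by
  have hX := ((pcore_pi {p} M0).of_le h0.X_le).inf_left C{s}
  rw [← comm_zp_eq_bot, comm_idem (odd_of_pi hp2 hX) hf.ht (zpowers_le.1 (norm_inf
    (norm_comm_right _ _) (norm_of_le (zpowers_le.2 hf.t_mem_C)))), comm_zp_eq_bot] at e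
  exact hc e

theorem t1_two (hf : Four t s) (h0 : T1 p t M0) (h1 : T1 p s M1) (h2 : T1 p (t * s) M2)
    (hπ1 : primesOf F[M1] = primesOf F[M0]) (hπ2 : primesOf F[M2] = primesOf F[M0])
    (hc0 : ¬ ⁅O[{p}, M0], zpowers t⁆ ⊓ C{s} ≤ C{t})
    (hc1 : ¬ ⁅O[{p}, M1], zpowers s⁆ ⊓ C{t} ≤ C{s}) : M0 = M1 := by
  have n0 := (pcore_nml {p} M0).norm
  have n1 := (pcore_nml {p} M1).norm
  set D := O[{p}, M0] ⊓ O[{p}, M1] with hD
  have hMD : M0 ⊓ M1 ≤ N[D] := norm_inf (inf_le_left.trans n0) (inf_le_right.trans n1)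
  have hV0 := hf.V_le_C.trans h0.le
  have hV1 := hf.V_le_C'.trans h1.le
  have a0 := t1_not hp2 hf h0 hc0
  have a1 := t1_not hp2 hf.symm h1 hc1
  have hD1 : D ≠ ⊥ := fun e => a0 (le_trans (e ▸ le_inf
    ((comm_mono_left (inf_le_left.trans h0.X_le)).trans h0.X_le)
    (h.t1_le hp hp2 hf h0 h1.fc.coatom.1 (hV1 Four.t_mem) (inf_le_right.trans h1.le))) bot_le)
  obtain ⟨N, hN, hDN⟩ := exists_coatom (h.N_ne_top' hD1 (((pcore_pi {p} M0).inf_left _).sol hp))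
  have hVN : V4 t s ≤ N := (le_inf hV0 hV1).trans (hMD.trans hDN)
  have b0 := h.t1_le hp hp2 hf h0 hN.1 (hVN Four.t_mem) ((le_inf (inf_le_left.trans
    (h0.X_le.trans (pcore_le _ _))) (inf_le_right.trans h1.le)).trans (hMD.trans hDN))
  have b1 := h.t1_le hp hp2 hf.symm h1 hN.1 (hVN Four.s_mem) ((le_inf (inf_le_right.trans h0.le)
    (inf_le_left.trans (h1.X_le.trans (pcore_le _ _)))).trans (hMD.trans hDN))
  have hfc : FC N := h.fc_of_four hN hf hVN hp hp2 fun v hv hv1 e => by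
    rw [mem_C_iff_le_C1] at e
    rcases hf.mem_V.1 hv with rfl | rfl | rfl | rfl
    · exact hv1 rfl
    · exact a0 (b0.trans e)
    · exact a1 (b1.trans e)
    · exact a0 fun y hy => hf.C_of_ts'
        (comm_le_of_le inf_le_right (zpowers_le.2 hf.t_mem_C) hy) (e (b0 hy))
  have hD0 : D ≤ F[M0] := inf_le_left.trans (pcore_le_Fitting hp _)
  have hD1' : D ≤ F[M1] := inf_le_right.trans (pcore_le_Fitting hp _)
  suffices hπ : primesOf F[N] ⊆ primesOf F[M0] from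
    (h.ul' h0.fc hfc hπ hD0 hDN).trans (h.ul' h1.fc hfc (hπ1 ▸ hπ) hD1' hDN).symm
  set R := O[(primesOf F[M0])ᶜ, F[N]] with hR
  have hRN : N ≤ N[R] := (pcore_Fitting_nml _ _).norm
  have hRp : IsPi (primesOf F[M0])ᶜ R := pcore_pi _ _
  have hRo : Odd ♯R := odd_of_le hfc.odd (pcore_le _ _)
  have r0 := h0.fc.inf_eq_bot hD0 (hDN.trans hRN) hRp
  have r1 := h1.fc.inf_eq_bot hD1' (hDN.trans hRN) (hπ1 ▸ hRp)
  have i0 := inv_of_inf_C hRo (sq_of hf.ht) (hRN (hVN Four.t_mem))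
    (eq_bot_of_le r0 (inf_le_inf_left _ h0.le))
  have i1 := inv_of_inf_C hRo (sq_of hf.hs) (hRN (hVN Four.s_mem))
    (eq_bot_of_le r1 (inf_le_inf_left _ h1.le))
  have hR2 : R ≤ M2 := (mem_C_iff_le_C1.1 (i0.mul_mem_C i1)).trans h2.le
  have hZ := (pcore_nml {p} M0).center
  have hP0 : O[{p}, M0] ≠ ⊥ := ne_bot_of_le h0.ne h0.X_le
  set Z := Z[O[{p}, M0]] with hZ'
  have hZp : IsPi {p} Z := (pcore_pi _ _).inf_left _
  have hZo := odd_of_pi hp2 hZp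
  have hZR : Z ≤ N[R] := inf_le_right.trans ((C_anti inf_le_left).trans
    ((C_le_N D).trans (hDN.trans hRN)))
  have hpπ : p ∈ primesOf F[M0] := ⟨hp, (pcore_ne_bot_iff_dvd_Fitting hp).1 hP0⟩
  have hcop : (♯R).Coprime ♯(Z ⊓ C[V4 t s]) := hRp.coprime' ((hZp.inf_left _).of_mem hpπ)
  have hRB : R ≤ ⁅R, Z ⊓ C[V4 t s]⁆ := by
    have e := (coprime_cent_prod (inf_le_left.trans hZR) hcop (sol_of_odd hRo)).sup_eq
    have e2 : R ⊓ C[Z ⊓ C[V4 t s]] ≤ C[Z] := by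
      have e3 := (coprime_cent_prod (hV0.trans hZ.norm) ((isPi_odd.2 hZo).coprime' hf.V_pi)
        (sol_of_odd hZo)).sup_eq
      refine le_trans ?_ (C_anti e3.ge)
      refine cents_sup (cents_symm (le_trans ?_ (C_anti inf_le_left))) inf_le_right
      rw [V4, (isProd_sup (norm_of_cent hf.zp_cent)).comm_right
        (norm_comm (zpowers_le.2 (hZ.norm (hV0 Four.t_mem))) (norm_of_cent (cents_symm hf.zp_cent)))]
      exact sup_le (i0.comm_le_C (sq_of hf.ht) hZR) (i1.comm_le_C (sq_of hf.hs) hZR)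
    rw [eq_bot_of_le r0 (le_inf inf_le_left (e2.trans (h.C_le h0.fc.coatom
      (((pcore_pi _ _).nil hp).center_ne_bot hP0) hZ))), sup_bot_eq] at e
    exact e.ge
  have n2 := (Fitting_nml M2).norm
  have hπ3 : IsPi (primesOf F[M0]) F[M2] := hπ2 ▸ isPi_primesOf _
  have key := lemQ (Fitting_nil M2) h2.fc.odd hRo (odd_of_le hZo inf_le_left) hf.ht
    (n2 (h2.le hf.mul.t_mem_C)) (hR2.trans n2)
    (inf_le_right.trans ((C_le_C1 Four.ts_mem).trans (h2.le.trans n2))) (inf_le_left.trans hZR)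
    (inf_le_right.trans (C_le_C1 Four.t_mem)) i0 (hπ3.coprime hRp) hRB
    (((comm_mono_right inf_le_left).trans (comm_le_right (inf_le_right.trans
      (h0.le.trans hZ.norm)))).trans ((abl_center _).cents le_rfl inf_le_left))
  have hR0 : R = ⊥ := (hπ3.of_le (key.trans h2.fc.cent)).eq_bot hRp
  have := ((Fitting_nil N).pcore_hall _).isPi_compl_of_eq_bot hR0
  rw [compl_compl] at this
  exact isPi_iff_primesOf.1 this

omit hp hp2

theorem exists_t1 (ht : orderOf t = 2) (hM : C{t} ≤ M) (hc : t ∉ C[O[{2}ᶜ, M]]) :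
    ∃ p M, p.Prime ∧ p ≠ 2 ∧ T1 p t M := by
  have hK := pcore_nml {2}ᶜ M
  have htM := hM (self_mem_C1 t)
  obtain ⟨p, hp, hd, h1⟩ : ∃ p, p.Prime ∧ p ∣ ♯F[O[{2}ᶜ, M]] ∧ ¬ O[{p}, O[{2}ᶜ, M]] ≤ C{t} := by
    by_contra! hh
    exact hc (coprime_cent_Fitting (zpowers_le.2 (hK.norm htM)) (cop_zp (odd_pcore M) ht)
      (sol_of_odd (odd_pcore M))
      ⟨mem_zpowers t, mem_C_iff_le_C1.2 (Fitting_le_of_pcore_le hh)⟩)
  have hp2 : p ≠ 2 := by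
    rintro rfl
    exact (isPi_compl_iff hp).1 ((pcore_pi _ _).of_le (Fitting_le _)) hd
  have key : ∀ {P : Subgroup G}, IsPi {p} P → C{t} ≤ N[P] → IsPi {p} ⁅P, zpowers t⁆ ∧
      C{t} ≤ N[⁅P, zpowers t⁆] ∧ ⁅P, zpowers t⁆ ≤ ⁅⁅P, zpowers t⁆, zpowers t⁆ := fun hP hN =>
    ⟨hP.of_le (comm_le_left (zpowers_le.2 (hN (self_mem_C1 t)))), norm_comm_zp hN le_rfl,
      (comm_idem (odd_of_pi hp2 hP) ht (hN (self_mem_C1 t))).ge⟩
  obtain ⟨X, hX0, ⟨hX, hN, hXt⟩, hmax⟩ := exists_max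
    (P := fun X => IsPi {p} X ∧ C{t} ≤ N[X] ∧ X ≤ ⁅X, zpowers t⁆)
    (key (pcore_pi {p} O[{2}ᶜ, M]) (hM.trans (hK.pcore _).norm))
  have hX1 : X ≠ ⊥ := ne_bot_of_le (fun e => h1 (comm_zp_eq_bot.1 e)) hX0
  obtain ⟨M', hM', h2⟩ := exists_coatom (h.N_ne_top' hX1 (hX.sol hp))
  have h3 := h.lemB hM'.1 ht (h2 (hN (self_mem_C1 t))) hp hp2 hX ((norm_self X).trans h2) hXt
    (inf_le_right.trans hN)
  have h4 := hmax _ (key (pcore_pi {p} M') (hN.trans (h2.trans (pcore_nml _ _).norm)))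
    (hXt.trans (comm_mono_left h3))
  refine ⟨p, M', hp, hp2, h.fc_of_C hM' ht (hN.trans h2) fun e => hX1 ?_, hN.trans h2, h4 ▸ hX1,
    h4 ▸ h2⟩
  rw [← h4, comm_zp_eq_bot]
  exact (pcore_le_FO hp hp2 M').trans (mem_C_iff_le_C1.1 e)

/-- an involution `v ≠ t` of a given Sylow subgroup of `C(t)` not conjugate to `t` in `M` -/
theorem se' (ht : orderOf t = 2) (hU : O[{2}ᶜ, C{t}] ≠ ⊥) (hM : C{t} ≤ M) (hM1 : M ≠ ⊤)
    {S : Subgroup G} (hS : Syl 2 C{t} S) : ∃ v ∈ S, Four t v ∧ ∀ g ∈ M, g * t * g⁻¹ ≠ v := by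
  obtain ⟨v, hv, h2, H⟩ := h.se ht hU hM hM1
  obtain ⟨g, hg, h3⟩ := Sylow_Jsub Nat.prime_two (h.syl_of_le ht hS (hS.le.trans hM)) (isPi_zp h2)
    (zpowers_le.2 hv)
  have h4 := h3 (conj_mem_cj g (mem_zpowers v))
  have h5 : ∀ k ∈ M, k * t * k⁻¹ ≠ g * v * g⁻¹ := fun k hk e =>
    H (g⁻¹ * k) (mul_mem (inv_mem hg) hk) (by
      calc _ = g⁻¹ * (k * t * k⁻¹) * g := by group
        _ = v := by rw [e]; group)
  exact ⟨_, h4, ⟨ht, two_conj h2 g, fun e => h5 1 (one_mem _) (by simpa using e.symm),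
    mem_C1.1 (hS.le h4)⟩, h5⟩

theorem thm1 (ht : orderOf t = 2) (hU : O[{2}ᶜ, C{t}] ≠ ⊥) (hM : C{t} ≤ M) :
    t ∈ C[O[{2}ᶜ, M]] := by
  by_contra hc
  obtain ⟨p, M, hp, hp2, h0⟩ := h.exists_t1 ht hM hc
  obtain ⟨S, hS⟩ := Sylow_exists Nat.prime_two C{t}
  obtain ⟨v, -, hf, H⟩ := h.se' ht hU h0.le h0.fc.coatom.1 hS
  obtain ⟨g, e1, e2⟩ := h.fuse hf.mul
  rw [hf.t_ts] at e2
  have e3 : g * g * t * (g * g)⁻¹ = v := by rw [← e2, ← e1]; group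
  have e4 : g * g * g ∈ M := h0.le (mem_C1_iff_conj.2 (by
    calc _ = g * (g * g * t * (g * g)⁻¹) * g⁻¹ := by group
      _ = g * (t * (t * v)) * g⁻¹ := by rw [e3, hf.t_ts]
      _ = (g * t * g⁻¹) * (g * (t * v) * g⁻¹) := by group
      _ = t := by rw [e1, e2, hf.ts_s]))
  have hg2 : g * g ∉ M := fun e => H _ e e3
  have hg : g ∉ M := fun e => hg2 (mul_mem e e)
  have h1 := h0.cj g
  have h2 := h0.cj (g * g)
  rw [e1] at h1
  rw [e3] at h2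
  have hN := h.N_self h0.fc.coatom
  have π1 : ∀ k, primesOf F[cj k M] = primesOf F[M] := fun k => by rw [Fitting_cj, primesOf_cj]
  by_cases c0 : ⁅O[{p}, M], zpowers t⁆ ⊓ C{t * v} ≤ C{t}
  · exact hg2 (hN ▸ mem_N_iff_cj.2 (h.t1_one hp hp2 hf.mul h0 (hf.t_ts.symm ▸ h2) (π1 _).ge c0))
  by_cases c1 : ⁅O[{p}, cj g M], zpowers (t * v)⁆ ⊓ C{t} ≤ C{t * v}
  · have := h.t1_one hp hp2 hf.mul.symm h1 (hf.ts_t.symm ▸ h2) ((π1 _).trans (π1 _).symm).le c1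
    rw [cj_mul, cj_inj] at this
    exact hg (hN ▸ mem_N_iff_cj.2 this)
  exact hg (hN ▸ mem_N_iff_cj.2
    (h.t1_two hp hp2 hf.mul h0 h1 (hf.t_ts.symm ▸ h2) (π1 _) (π1 _) c0 c1).symm)

end MC

end H13.Dih
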