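import Mathlib
import Cfsg.Agent.H13.DihThm1
import Cfsg.Agent.H13.DihCount
import Cfsg.Agent.S0984

/-! The case that `C(t)` is not maximal. -/

set_option autoImplicit false
set_option linter.unusedSectionVars false

namespace H13.Dih

open H24 H26 Cfsg Subgroup

universe u

variable {G : Type u} [Group G] [Finite G] {E M S : Subgroup G} {t s v w x y : G}

namespace KL2

variable {m m' : ℕ} {T : G → Subgroup G} (K : KL2 E m m' T)
include K

theorem eq_of_two (hE : QS E) (ht : t ∈ E) (h2 : orderOf t = 2) (hx : x ∈ T t ⊔ C[E])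
    (hx2 : orderOf x = 2) : x = t := by
  have htN := norm_self E ht
  obtain ⟨a, ha, c, hc, rfl⟩ := (K.mem_sup htN h2).1 hx
  have h1 : a * a * (c * c) = 1 * 1 := by
    calc a * a * (c * c) = a * (a * c) * c := by group
      _ = a * (c * a) * c := by rw [comm_of_cent (K.cents htN h2) hc ha]
      _ = a * c * (a * c) := by group
      _ = 1 * 1 := by rw [sq_of hx2, one_mul]
  rw [eq_one_of_odd_of_sq (odd_orderOf hE.oddC hc) (mul_eq_mul_of_inf (K.T_inf t htN h2)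
    (mul_mem ha ha) (one_mem _) (mul_mem hc hc) (one_mem _) h1).2, mul_one] at hx2 ⊢
  exact eq_of_mem_cyc (K.T_cyc t htN h2) h2 hx2 (K.T_mem t ht h2) ha

theorem TC_le_C (ht : t ∈ E) (h2 : orderOf t = 2) : T t ⊔ C[E] ≤ C{t} :=
  sup_le (K.T_le_C (norm_self E ht) h2) (C_le_C1 ht)

theorem TC_le (hw : w ∈ N[E]) (h2 : orderOf w = 2) : T w ⊔ C[E] ≤ E ⊔ C[E] :=
  sup_le_sup_right (K.T_le_E hw h2) _

theorem mul_mem_TC (hE : QS E) (ht : t ∈ E) (hs : s ∈ E) (hx : x ∈ E) (h1 : Four t s)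
    (h2 : Four t x) : x * s ∈ T t ⊔ C[E] := by
  obtain ⟨s', -, -, -, -, -, H⟩ := K.dih t (norm_self E ht) h1.ht
  have a := (H s ⟨hs, h1.s_mem_C⟩).resolve_left fun e => h1.ne (K.eq_of_two hE ht h1.ht e h1.hs)
  have b := (H x ⟨hx, h2.s_mem_C⟩).resolve_left fun e => h2.ne (K.eq_of_two hE ht h1.ht e h2.hs)
  have := mul_mem (inv_mem b) a
  rwa [mul_inv_rev, mul_assoc, inv_mul_cancel_left, inv_of h2.hs] at this

theorem ncard_in (hE : QS E) (ht : t ∈ E) (h2 : orderOf t = 2) :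
    {x | Four t x ∧ x ∈ E}.ncard = m := by
  have htN := norm_self E ht
  obtain ⟨s, hs, hf⟩ := K.four htN h2
  have hs' : s ∉ T t ⊔ C[E] := fun e => hf.ne (K.eq_of_two hE ht h2 e hf.hs)
  have := ncard_coset (K.cents htN h2) (K.T_inf t htN h2) (sq_of hf.hs)
    (K.inv' hf htN (norm_self E hs))
  rw [ncard_invS hE.oddC (sq_of hf.hs) (N_le_NC E (norm_self E hs)),
    relIndex_eq_one.2 (C_le_C1 hs), mul_one, K.card_in t ht h2] at this
  rw [← this]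
  congr 1
  ext x
  refine ⟨fun hx => ⟨K.mul_mem_TC hE ht hs hx.2 hf hx.1, sq_of hx.1.hs⟩, fun hx => ?_⟩
  have h3 := two_of hx.2 fun e => hs' (by simpa [e] using hx.1)
  refine ⟨⟨h2, h3, fun e => hs' ?_, mem_C1.1 ((mul_mem_cancel_right hf.s_mem_C).1
    (K.TC_le_C ht h2 hx.1))⟩, hE.mem_of_two ((mul_mem_cancel_right (mem_sup_left hs)).1
    (K.TC_le htN h2 hx.1)) (pi_two h3)⟩
  exact (mul_mem_cancel_left (mem_sup_left (K.T_mem t ht h2))).1 (e ▸ hx.1)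

theorem ncard_out (hE : QS E) (ht : t ∈ E) (hH : C{t} ≤ N[E]) (hf : Four t w) (hw : w ∉ E) :
    {x | Four t x ∧ x ∉ E}.ncard = m * (C{w}).relIndex C[E] := by
  have htN := norm_self E ht
  have hwN := hH hf.s_mem_C
  have := ncard_coset (K.cents htN hf.ht) (K.T_inf t htN hf.ht) (sq_of hf.hs) (K.inv' hf htN hwN)
  rw [ncard_invS hE.oddC (sq_of hf.hs) (N_le_NC E hwN), K.card_in t ht hf.ht] at this
  rw [← this]
  congr 1
  ext x
  refine ⟨fun hx => ⟨K.outer t ht hf.ht x (hH hx.1.s_mem_C) w hwN hx.2 hw hx.1.hs hf.hs hx.1.comm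
    hf.comm, sq_of hx.1.hs⟩, fun hx => ?_⟩
  have h3 : x ∉ E := fun e => hw (hE.mem_of_two ((mul_mem_cancel_left (mem_sup_left e)).1
    (K.TC_le htN hf.ht hx.1)) (pi_two hf.hs))
  exact ⟨⟨hf.ht, two_of hx.2 fun e => h3 (e ▸ one_mem _), fun e => h3 (e ▸ ht),
    mem_C1.1 ((mul_mem_cancel_right hf.s_mem_C).1 (K.TC_le_C ht hf.ht hx.1))⟩, h3⟩

/-- odd elements of `C(t)` inverted by an involution of `N(E)` -/
theorem mem_TC_of_inv (ht : t ∈ E) (h2 : orderOf t = 2) (hw : w ∈ N[E]) (hy : y ∈ N[E])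
    (hyt : y ∈ C{t}) (ho : Odd (orderOf y)) (hi : w * y * w⁻¹ = y⁻¹) : y ∈ T t ⊔ C[E] := by
  have htN := norm_self E ht
  have h1 := ((commutator_mono le_rfl (zpowers_le.2 hw)).trans K.comm) (mem_comm_of_inv hy ho hi)
  obtain ⟨e, he, c, hc, rfl⟩ := (mem_sup_of_norm (C_le_N E)).1 h1
  have h3 := mul_mem (K.sq_mem htN h2 ⟨he, (mul_mem_cancel_right (C_le_C1 ht hc)).1 hyt⟩)
    (mem_sup_right (mul_mem hc hc))
  refine zpowers_le.2 (?_ : e * c * (e * c) ∈ _) (mem_zpowers_sq ho)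
  rwa [mul_assoc, ← mul_assoc c, mem_C'.1 hc e he, mul_assoc, ← mul_assoc]

theorem mem_C_of_coprime (hw : w ∈ N[E]) (h2 : orderOf w = 2) (hy : y ∈ T w ⊔ C[E])
    (hc : (orderOf y).Coprime ♯(T w)) : y ∈ C[E] := by
  obtain ⟨a, ha, c, hc', rfl⟩ := (K.mem_sup hw h2).1 hy
  have h1 : Commute a c := (comm_of_cent (K.cents hw h2) hc' ha).symm
  have h3 : a ^ orderOf (a * c) * c ^ orderOf (a * c) = 1 * 1 := by
    rw [← h1.mul_pow, pow_orderOf_eq_one, one_mul]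
  have h4 := orderOf_dvd_of_pow_eq_one (mul_eq_mul_of_inf (K.T_inf w hw h2) (pow_mem ha _)
    (one_mem _) (pow_mem hc' _) (one_mem _) h3).1
  rw [orderOf_eq_one_iff.1 (Nat.eq_one_of_dvd_coprimes hc h4 (orderOf_dvd_card' ha)), one_mul]
  exact hc'

end KL2

theorem QS.cl_eq (hE : QS E) (ht : t ∈ E) (h2 : orderOf t = 2) (h1 : E ≤ M) (h3 : M ≤ N[E]) :
    cl M t = J E := Set.ext fun x =>
  ⟨by rintro ⟨g, hg, rfl⟩; exact ⟨conj_mem (h3 hg) ht, two_conj h2 g⟩, fun hx => by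
    obtain ⟨e, he, h⟩ := hE.conj t ht x hx.1 h2 hx.2
    exact ⟨e, h1 he, h⟩⟩

namespace MC

variable (h : MC G)
include h

omit [Finite G] in
theorem not_comm : ¬ IsMulCommutative G := fun e => h.not_sol (abl_top_iff.2 e).sol

theorem le_V_of_cent (hf : Four t v) (hS : IsPi {2} S) (h1 : S ≤ C{t}) (h2 : v ∈ C[S]) :
    S ≤ V4 t v :=
  h.cd.le_V hf hS (by rw [Four.C_V]; exact le_inf h1 (mem_C_iff_le_C1.1 h2))

theorem mem_of_qs (ht : orderOf t = 2) (hE : QS E) (hH : C{t} ≤ N[E]) : t ∈ E := by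
  obtain ⟨S, hS⟩ := Sylow_exists Nat.prime_two C{t}
  have hS' := h.syl_of_le ht hS (hS.le.trans hH)
  obtain ⟨a, ha, h2⟩ := hE.exInv
  obtain ⟨b, hb, hab⟩ := hE.four' ha h2
  obtain ⟨v, hv, h3⟩ := exists_cent hS' (nml_N E) ha h2
  by_contra htE
  have hf : Four t v := ⟨ht, h3, fun e => htE (e ▸ hv.1.2), mem_C1.1 (hS.le hv.1.1)⟩
  have h4 := card_le (h.le_V_of_cent hf hS.pi hS.le hv.2)
  have h5 := Nat.le_of_dvd (card_pos _)
    ((hS'.inf_nml (nml_N E)).card_dvd hab.V_pi (Four.V_le.2 ⟨ha, hb⟩))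
  rw [hf.V_card, ← hab.V_card] at h4
  exact htE ((eq_of_card_ge inf_le_left (h4.trans h5)).ge (mem_syl ht hS)).2

theorem caseC (ht : orderOf t = 2) (hU : O[{2}ᶜ, C{t}] ≠ ⊥) (hM : C{t} ≤ M) (hM1 : M ≠ ⊤)
    (hs : ¬ Sol M) : IsA7 G := by
  obtain ⟨-, hE⟩ := h.comp hM1 hs ht (hM (self_mem_C1 t)) (h.thm1 ht hU hM)
  have hgw := h.gw hM1 hs
  have hH := hM.trans (res_nml M).norm
  have hN := h.N_ne_top hE.ne_bot (ne_top_of_le_ne_top hM1 (res_le M))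
  generalize res M = E at hE hgw hH hN
  have htE := h.mem_of_qs ht hE hH
  have htN := norm_self E htE
  obtain ⟨S, hS⟩ := Sylow_exists Nat.prime_two C{t}
  obtain ⟨v, -, hf, H⟩ := h.se' ht hU hH hN hS
  have hvE : v ∉ E := fun e => by
    obtain ⟨g, hg, e'⟩ := hE.conj t htE v e ht hf.hs
    exact H g (norm_self E hg) e'
  have hvN := hH hf.s_mem_C
  rcases hgw with h2 | h2
  swap
  · exact absurd ((ka7_of h.cd hE h2).inner v hvN hf.hs) hvE
  obtain ⟨m, m', T, K⟩ := exists_kl2 h.cd hE h2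
  obtain ⟨g, e1, e2⟩ := h.fuse hf.symm
  rw [hf.comm] at e2
  have hwE : t * v ∉ E := by rwa [mul_mem_cancel_left htE]
  have hwN := mul_mem htN hvN
  have h3 : m' ≤ (C{t * v}).relIndex C[E] := by
    rw [← ncard_invS hE.oddC hf.mul_sq (N_le_NC E hwN), ← K.card_out v hvN hvE hf.hs, ← card_cj g,
      ← SetLike.coe_sort_coe, Nat.card_coe_set_eq]
    refine Set.ncard_le_ncard fun y hy => ?_
    have h4 := e2 ▸ (K.inv' hf.symm hvN htN).cj g y hy
    have h5 : y ∈ C{t} := by rw [← e1, ← cj_C1]; exact cj_mono g (K.T_le_C hvN hf.hs) hy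
    have h6 := orderOf_dvd_card' hy
    rw [card_cj, K.card_out v hvN hvE hf.hs] at h6
    refine ⟨K.mem_C_of_coprime htN ht (K.mem_TC_of_inv htE ht hwN (hH h5) h5
      (Odd.of_dvd_nat K.odd_m' h6) h4) ?_, h4⟩
    rw [K.card_in t htE ht]
    exact K.coprime.symm.coprime_dvd_left h6
  obtain ⟨s, hsE, hfs⟩ := K.four htN ht
  obtain ⟨c1, c2⟩ := h.cl_eq_in hfs hf.mul hH hsE hwE
  have k1 := ncard_cl C{t} s
  have k2 := ncard_cl C{t} (t * v)
  rw [c1, K.ncard_in hE htE ht] at k1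
  rw [c2, K.ncard_out hE htE hH hf.mul hwE] at k2
  have h4 := K.three_le
  have h5 := h.ratio ht ((four_iff ht).1 hfs).1 ((four_iff ht).1 hf.mul).1 hfs.ne hf.ts_ne_t
    (odd_relIndex hE.oddC C{t * v}) (h4.trans h3) (by rw [← k1, ← k2, mul_comm])
  have h6 := relIndex_mul_index hH
  rw [← ncard_cl, hE.cl_eq htE ht (norm_self E) le_rfl, K.card_J] at h6
  obtain ⟨i0, hi⟩ := h.odd_index ht
  obtain ⟨j, hj⟩ := K.odd_m'
  have h7 := K.mm'
  rw [← k1] at h5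
  have h8 : m = 2 ∧ m' = 3 ∧ (C{t * v}).relIndex C[E] = 3 ∧ (C{t}).index = 105 := by
    rcases h5 with ⟨a, b⟩ | ⟨a, b⟩
    · obtain rfl : m' = 3 := by omega
      obtain rfl | rfl : m = 2 ∨ m = 4 := by omega
      all_goals omega
    · obtain rfl | rfl : m' = 3 ∨ m' = 5 := by omega
      · obtain rfl | rfl : m = 2 ∨ m = 4 := by omega
        all_goals omega
      · obtain rfl | rfl : m = 4 ∨ m = 6 := by omega
        all_goals omega
  obtain ⟨rfl, rfl, h9, h10⟩ := h8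
  have := h.simple
  have h11 := H18.two_mul_card_dvd_factorial h.not_comm _ hN
  obtain ⟨c, hc⟩ := card_dvd (le_inf (hf.V_le_C_of_mem Four.ts_mem) hf.V_le_C)
  have h12 := card_inf_mul_relIndex C{t * v} C{t}
  have h13 := (C{t}).card_mul_index
  rw [← k2, h9, hc, hf.V_card] at h12
  rw [show N[E].index = 7 by omega] at h11
  have h14 := Nat.le_of_dvd (by decide) h11
  have h15 := Nat.card_pos (α := G)
  norm_num [Nat.factorial] at h14
  exact Cfsg.Agent.S0984.result (by rw [h10] at h13; omega)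

theorem a0 (ht : orderOf t = 2) (hU : O[{2}ᶜ, C{t}] ≠ ⊥) (hM : C{t} < M) (hs : Sol M) :
    ∃ s, Four t s ∧ M ≤ N[V4 t s] := by
  have hQ := pcore_nml {2} M
  have hQ1 : O[{2}, M] ≠ ⊥ := fun e => by
    have h1 : Odd ♯F[M] := isPi_odd.1 ((isPi_compl_iff Nat.prime_two).2 fun e' =>
      (pcore_ne_bot_iff_dvd_Fitting Nat.prime_two).2 e' e)
    exact not_mem_of_odd h1 ht (cent_sub_Fitting hs ⟨hM.le (self_mem_C1 t),
      C_anti (le_O h1 (Fitting_nml M)) (h.thm1 ht hU hM.le)⟩)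
  obtain ⟨S, hS⟩ := Sylow_exists Nat.prime_two C{t}
  have hS' := h.syl_of_le ht hS (hS.le.trans hM.le)
  obtain ⟨z0, hz0, h2⟩ := exists_two_of_pi (pcore_pi _ _) hQ1
  obtain ⟨z, hz, h3⟩ := exists_cent hS' hQ hz0 h2
  obtain ⟨g, hg, ho, hn⟩ : ∃ g ∈ M, Odd (orderOf g) ∧ g ∉ C[O[{2}, M]] := by
    by_contra! hh
    refine (card_lt hM).not_ge ((card_le (le_of_syl_le fun p hp _ => ?_)).trans (h.card_C ht h3).le)
    by_cases hp2 : p = 2
    · exact ⟨S, hp2 ▸ hS', mem_C_iff_le_C1.1 hz.2⟩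
    · obtain ⟨P, hP⟩ := Sylow_exists hp M
      exact ⟨P, hP, fun y hy => C_le_C1 hz.1.2
        (hh y (hP.le hy) (odd_orderOf (odd_of_pi hp2 hP.pi) hy))⟩
  obtain ⟨a, b, hab, e, -⟩ := h.cd.four_of_odd (pcore_pi _ _) (hQ.norm hg) ho hn
  have htQ : t ∈ V4 a b := by
    by_contra h4
    have hf : Four t z := ⟨ht, h3, fun e' => h4 (e ▸ e' ▸ hz.1.2), mem_C1.1 (hS.le hz.1.1)⟩
    exact h4 ((eq_of_card_eq (e ▸ (pcore_le_Hall hS').trans (h.le_V_of_cent hf hS.pi hS.le hz.2))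
      (by rw [hab.V_card, hf.V_card])).ge Four.t_mem)
  rw [e] at hQ
  by_cases h4 : a = t
  · exact ⟨b, h4 ▸ hab, h4 ▸ hQ.norm⟩
  · have hf := hab.four_of_mem htQ Four.t_mem (ne_one_of ht) (ne_one_of hab.ht) h4
    exact ⟨a, hf, (hab.V_eq hf htQ Four.t_mem).symm ▸ hQ.norm⟩

omit h in
theorem U_le_of_norm (hf : Four t s) (hH : C{t} ≤ N[V4 t s]) : O[{2}ᶜ, C{t}] ≤ C{s} :=
  fun _ hy => hf.odd_fix (hH (pcore_le _ _ hy)) (odd_orderOf (odd_pcore _) hy) (pcore_le _ _ hy)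

omit h in
theorem cl_V (hf : Four t s) : {x | Four t x ∧ x ∈ V4 t s} = {s, t * s} := by
  ext x
  refine ⟨fun hx => ?_, ?_⟩
  · rcases hf.mem_V.1 hx.2 with e | e | e | e
    exacts [absurd e (ne_one_of hx.1.hs), absurd e hx.1.ne, Or.inl e, Or.inr e]
  · rintro (rfl | rfl)
    exacts [⟨hf, Four.s_mem⟩, ⟨hf.mul, Four.ts_mem⟩]

theorem N_V_norm_U (hf : Four t s) (hU : O[{2}ᶜ, C{t}] ≤ C{s}) : N[V4 t s] ≤ N[O[{2}ᶜ, C{t}]] := by
  intro g hg
  refine mem_N_of_finite fun y hy => (h.cd.mem_U hf.ht).2 ⟨?_, ?_⟩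
  · exact C_le_C1 Four.t_mem (conj_mem (N_le_NC _ hg) (Four.C_V.ge ⟨pcore_le _ _ hy, hU hy⟩))
  · rw [H24.orderOf_conj]; exact odd_orderOf (odd_pcore _) hy

theorem caseA (ht : orderOf t = 2) (hU : O[{2}ᶜ, C{t}] ≠ ⊥)
    (hs : ∀ M : Subgroup G, C{t} ≤ M → M ≠ ⊤ → Sol M) (hH : ¬ IsCoatom C{t}) : IsA7 G := by
  obtain ⟨M, hM, h1⟩ := exists_coatom (h.C1_ne_top (ne_one_of ht))
  obtain ⟨s, hf, h2⟩ := h.a0 ht hU (h1.lt_of_ne fun e => hH (e ▸ hM)) (hs M h1 hM.1)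
  have hHV := h1.trans h2
  have hN : N[V4 t s] ≠ ⊤ := h.N_ne_top' (ne_bot_of_mem Four.t_mem (ne_one_of ht)) hf.V_abl.sol
  set U := O[{2}ᶜ, C{t}] with hUd
  have hUo : Odd ♯U := odd_pcore _
  have hUn : U ⊴ C{t} := pcore_nml _ _
  have hUs : U ≤ C{s} := U_le_of_norm hf hHV
  have hUV : U ≤ C[V4 t s] := Four.C_V.ge.trans' (le_inf hUn.le hUs)
  obtain ⟨S, hS⟩ := Sylow_exists Nat.prime_two C{t}
  obtain ⟨v, hvS, hv, H⟩ := h.se' ht hU hHV hN hS
  obtain ⟨g, hg, e1⟩ := h.trans hf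
  obtain ⟨g', hg', e2⟩ := h.trans hf.mul
  rw [hf.V_mul] at hg'
  have hvV : v ∉ V4 t s := fun e => by
    rcases hf.mem_V.1 e with e | e | e | e
    exacts [ne_one_of hv.hs e, hv.ne e, H g hg (e1.trans e.symm), H g' hg' (e2.trans e.symm)]
  obtain ⟨c1, c2⟩ := h.cl_eq_in hf hv hHV Four.s_mem hvV
  have k1 := ncard_cl C{t} s
  have k2 := ncard_cl C{t} v
  rw [c1, cl_V hf, Set.ncard_pair hf.ts_ne_s.symm] at k1
  have swap : ∀ x, Four t x → x ∉ V4 t s → x * s * x⁻¹ = t * s := fun x hx hxV => by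
    have : x * s * x⁻¹ ∈ cl C{t} s := ⟨x, hx.s_mem_C, rfl⟩
    rw [c1, cl_V hf] at this
    exact this.resolve_left fun e =>
      hxV (h.cd.mem_V hf (pi_two hx.hs) hx.s_mem_C (mem_C1_iff_conj.2 e))
  have hvt := mem_C1_iff_conj.1 hv.s_mem_C
  have hdec : ∀ y ∈ C{t}, y ∈ C{s} ∨ y * v ∈ C{s} := fun y hy => by
    have : y⁻¹ * s * y⁻¹⁻¹ ∈ cl C{t} s := ⟨y⁻¹, inv_mem hy, rfl⟩
    rw [c1, cl_V hf] at this
    rcases this with e | e
    · exact Or.inl (inv_mem_iff.1 (mem_C1_iff_conj.2 e))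
    · refine Or.inr (mem_C1_iff_conj.2 ?_)
      calc y * v * s * (y * v)⁻¹ = y * (v * s * v⁻¹) * y⁻¹ := by group
        _ = s := by rw [swap v hv hvV, ← e]; group
  have c3 : {x | Four t x ∧ x ∉ V4 t s} = {w | w * v ∈ zpowers t ⊔ U ∧ w * w = 1} := by
    ext x
    refine ⟨fun hx => ⟨?_, sq_of hx.1.hs⟩, fun hx => ?_⟩
    · have a1 := (hdec x hx.1.s_mem_C).resolve_left fun e =>
        hx.2 (h.cd.mem_V hf (pi_two hx.1.hs) hx.1.s_mem_C e)
      obtain ⟨w, hw, b, hb, e⟩ := h.cd.decomp_CV hf (mul_mem hx.1.s_mem_C hv.s_mem_C) a1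
      have a2 : w * (v * w * v⁻¹) * (b * (v * b * v⁻¹)) = 1 * 1 := by
        have e' : x = w * b * v := by rw [← e, mul_assoc, sq_of hv.hs, mul_one]
        have a3 := sq_of hx.1.hs
        rw [e'] at a3
        calc _ = w * ((v * w * v⁻¹) * b) * (v * b * v⁻¹) := by group
          _ = w * b * v * (w * b * v) * (v * v)⁻¹ := by
            rw [← comm_of_cent hUV hb.1 (conj_mem (hHV hv.s_mem_C) hw)]; group
          _ = 1 * 1 := by rw [a3, sq_of hv.hs, inv_one]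
      have a4 := (mul_eq_mul_of_inf (hf.V_pi.inf_eq_bot (isPi_odd.2 hUo))
        (mul_mem hw (conj_mem (hHV hv.s_mem_C) hw)) (one_mem _)
        (mul_mem hb.1 (conj_mem (hUn.norm hv.s_mem_C) hb.1)) (one_mem _) a2).1
      rw [e]
      refine mul_mem (mem_sup_left ?_) (mem_sup_right hb.1)
      rcases hf.mem_V.1 hw with rfl | rfl | rfl | rfl
      · exact one_mem _
      · exact mem_zpowers _
      · rw [swap v hv hvV, hf.s_ts] at a4; exact absurd a4 (ne_one_of ht)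
      · rw [show v * (t * s) * v⁻¹ = (v * t * v⁻¹) * (v * s * v⁻¹) by group, hvt, swap v hv hvV,
          hf.t_ts, hf.ts_s] at a4
        exact absurd a4 (ne_one_of ht)
    · have a1 : zpowers t ⊔ U ≤ C[V4 t s] := sup_le (hf.V_abl.cents (zpowers_le.2 Four.t_mem) le_rfl) hUV
      have a2 : x ∉ V4 t s := fun e => hvV (h.cd.mem_V hf (pi_two hv.hs) hv.s_mem_C
        (C_le_C1 Four.s_mem ((mul_mem_cancel_left (hf.V_abl.le_C e)).1 (a1 hx.1))))
      exact ⟨⟨ht, two_of hx.2 fun e => a2 (e ▸ one_mem _), fun e => a2 (e ▸ Four.t_mem), mem_C1.1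
        ((mul_mem_cancel_right hv.s_mem_C).1 (C_le_C1 Four.t_mem (a1 hx.1)))⟩, a2⟩
  have hvU := hUn.norm hv.s_mem_C
  rw [c2, c3, ncard_coset (by rw [C_zpowers]; exact hUn.le) ((isPi_zp ht).inf_eq_bot (isPi_odd.2 hUo))
    (sq_of hv.hs) (inv_zpowers (by rw [hvt, inv_of ht])), card_zpowers', ht,
    ncard_invS hUo (sq_of hv.hs) hvU] at k2
  have hlt : C{t} < N[V4 t s] := hHV.lt_of_ne fun e => hf.ne (e1 ▸ mem_C1_iff_conj.1 (e ▸ hg))
  have hNU := h.N_V_norm_U hf hUs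
  have hNU' : N[U] = N[V4 t s] := by
    have a1 := h.N_ne_top_odd hU hUo
    obtain ⟨s', hf', a2⟩ := h.a0 ht hU (hlt.trans_le hNU) (hs _ hUn.norm a1)
    have a3 : s ∈ V4 t s' := e1 ▸ conj_mem (a2 (hNU hg)) Four.t_mem
    rw [← hf'.V_eq hf Four.t_mem a3] at a2
    exact le_antisymm a2 hNU
  have hu1 : ¬ U ≤ C{v} := fun e => by
    have a1 : U = O[{2}ᶜ, C{v}] := by
      refine eq_of_card_eq (h.cd.le_U hv.hs hUo e) ?_
      obtain ⟨k, rfl⟩ := h.conj ht hv.hs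
      rw [← cj_C1, pcore_cj, card_cj]
    have a2 : C{v} ≤ N[V4 t s] := by rw [← hNU', a1]; exact (pcore_nml _ _).norm
    obtain ⟨T, hT⟩ := Sylow_exists Nat.prime_two C{v}
    obtain ⟨k, hk, rfl⟩ := Sylow_trans Nat.prime_two (h.syl_of_le ht hS (hS.le.trans hHV))
      (h.syl_of_le hv.hs hT (hT.le.trans a2))
    have a3 := mem_cj.1 (mem_syl hv.hs hT)
    have a4 : k⁻¹ * v * k ≠ t := fun e => H k hk (by rw [← e]; group)
    have a5 : Four t (k⁻¹ * v * k) :=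
      ⟨ht, by simpa using two_conj hv.hs k⁻¹, a4, mem_C1.1 (hS.le a3)⟩
    have a6 := h.le_V_of_cent a5 hS.pi hS.le (mem_C_iff_le_C1.2 (by
      have := cj_le_iff.1 hT.le
      rwa [cj_C1, inv_inv] at this))
    have a7 : V4 t s ≤ S := hS.nml_le hf.V_pi ⟨hf.V_le_C, hHV⟩
    exact hvV (h.cd.mem_V hf (pi_two hv.hs) hv.s_mem_C
      (mem_C1.2 (a5.V_abl.comm (a6 hvS) (a6 (a7 Four.s_mem)))))
  have hu := odd_relIndex hUo C{v}
  have hu3 : 3 ≤ (C{v}).relIndex U := by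
    have := mt relIndex_eq_one.1 hu1
    obtain ⟨k, hk⟩ := hu
    omega
  have h5 := h.ratio ht ((four_iff ht).1 hf).1 ((four_iff ht).1 hv).1 hf.ne hv.ne hu hu3
    (by rw [← k1, ← k2, mul_comm])
  rw [← k1] at h5
  have hB : U ⊓ C{v} = ⊥ := by
    by_contra hB
    have a1 : U ≤ N[U ⊓ C{v}] := fun y hy => by
      obtain ⟨c, hc, z, hz, a2, rfl⟩ := decomp hUo (sq_of hv.hs) hvU hy
      exact mul_mem (norm_self _ hc) (C_le_N _ (mem_C_iff_le_C1.2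
        (cent_invS hUo (by rw [ncard_invS hUo (sq_of hv.hs) hvU]; omega) ⟨hz, a2⟩)))
    have a2 : C{t} ⊓ C{s} ≤ N[U ⊓ C{v}] := fun y hy => by
      obtain ⟨w, hw, b, hb, rfl⟩ := h.cd.decomp_CV hf hy.1 hy.2
      exact mul_mem (C_le_N _ (C_anti inf_le_left (cents_symm hUV hw))) (a1 hb.1)
    have a3 : v ∈ N[U ⊓ C{v}] := C_le_N _ (mem_C_iff_le_C1.2 inf_le_right)
    have a4 : C{t} ≤ N[U ⊓ C{v}] := fun y hy => by
      rcases hdec y hy with e | e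
      · exact a2 ⟨hy, e⟩
      · exact (mul_mem_cancel_right a3).1 (a2 ⟨mul_mem hy hv.s_mem_C, e⟩)
    obtain ⟨k, hk, e3⟩ := h.trans hv
    have a5 : k ∈ N[U ⊓ C{v}] := mem_N_of_finite fun y hy => by
      have := Four.C_V.le (conj_mem (N_le_NC _ hk) (Four.C_V.ge ⟨hUn.le hy.1, hy.2⟩))
      exact ⟨(h.cd.mem_U ht).2 ⟨this.1, by rw [H24.orderOf_conj]; exact odd_orderOf hUo hy.1⟩, this.2⟩
    obtain ⟨s', hf', a6⟩ := h.a0 ht hU (a4.lt_of_ne fun e => hv.ne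
      (e3 ▸ mem_C1_iff_conj.1 (e ▸ a5))) (hs _ a4 (h.N_ne_top_odd hB (odd_of_le hUo inf_le_left)))
    exact hu1 (mem_C_iff_le_C1.1 (cents_symm (Four.C_V.ge.trans' (le_inf hUn.le
      (U_le_of_norm hf' (a4.trans a6)))) (e3 ▸ conj_mem (a6 a5) Four.t_mem)))
  have b1 := card_inf_mul_relIndex C{v} U
  rw [inf_comm, hB, card_bot, one_mul] at b1
  have b2 : C{s} ⊓ C{t} = V4 t s ⊔ U := le_antisymm (fun y hy => by
    obtain ⟨w, hw, b, hb, rfl⟩ := h.cd.decomp_CV hf hy.2 hy.1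
    exact mul_mem (mem_sup_left hw) (mem_sup_right hb.1))
    (sup_le (le_inf hf.V_le_C' hf.V_le_C) (le_inf hUs hUn.le))
  have b3 := card_inf_mul_relIndex C{s} C{t}
  rw [b2, card_sup_of_inf (norm_of_cent hUV) (hf.V_pi.inf_eq_bot (isPi_odd.2 hUo)), hf.V_card, ← k1,
    ← b1] at b3
  have b4 := (C{t}).card_mul_index
  have := h.simple
  rcases h5 with ⟨a, b⟩ | ⟨a, b⟩
  · exact Cfsg.Agent.S0984.result (by rw [← b4, ← b3, a, show (C{t}).index = 105 by omega])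
  · exfalso
    have b5 : cl N[V4 t s] t = {t, s, t * s} := Set.ext fun x => ⟨by
      rintro ⟨k, hk, rfl⟩
      rcases hf.mem_V.1 (conj_mem hk Four.t_mem) with e | e
      exacts [absurd (conj_eq_one_iff'.1 e) (ne_one_of ht), e], by
      rintro (rfl | rfl | rfl)
      exacts [self_mem_cl _ _, ⟨g, hg, e1⟩, ⟨g', hg', e2⟩]⟩
    have b6 := relIndex_mul_index hHV
    rw [← ncard_cl, b5, Set.ncard_eq_three.2 ⟨_, _, _, hf.ne.symm, hf.ts_ne_t.symm,
      hf.ts_ne_s.symm, rfl⟩, ← hNU'] at b6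
    have p5 : Nat.Prime 5 := by norm_num
    have := Fact.mk p5
    have b7 := U.card_mul_index
    obtain ⟨P, hP⟩ := (Syl.mk' p5 le_top (isPi_of_card_prime p5 (b1 ▸ a)) (by
      rw [relIndex_top_right]
      rw [← b4, ← b3, ← b1, a, show (C{t}).index = 189 by omega] at b7
      omega)).exists_sylow_top p5
    have b8 := card_sylow_modEq_one 5 G
    rw [P.card_eq_index_normalizer, ← Sylow.coe_coe, hP, Nat.ModEq] at b8
    omega

end MC

end H13.Dih
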