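import Mathlib
import Cfsg.Agent.H13.DihMC
import Cfsg.Agent.H18.DelC
import Cfsg.Agent.H18.DelD

/-! Theorem Δ: in the shape `(Δ)` with `K ≠ 1` of order prime to `|G : C(t)|`, the group
`B = C_{O(C(t))}(S)` is trivial.  A nontrivial linear character `μ` of `C(t) / K S ≅ B` twists the
Brauer–Suzuki–Wall calculation; the blocks of `G` so obtained have maximal defect and are separated
by the `N(S)`-classes of `μ`. -/

set_option autoImplicit false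

namespace H13.Dih

open H24 Cfsg Subgroup H18

universe u

variable {G : Type u} [Group G] [Finite G]

namespace Del

/-- `μ` is trivial on `N`. -/
def Triv {H : Subgroup G} (N : Subgroup G) (μ : H →* ℂ) : Prop := ∀ m : H, m.1 ∈ N → μ m = 1

/-- `μ' = μ ^ g` on `B`. -/
def Rel {H : Subgroup G} (B : Subgroup G) (g : G) (μ μ' : H →* ℂ) : Prop :=
  ∀ b b' : H, b.1 ∈ B → b'.1 = g * b * g⁻¹ → μ' b = μ b'

section Rel

omit [Finite G]

variable {H B N : Subgroup G} {g c : G} {μ μ' μ₁ μ₂ : H →* ℂ}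

theorem rel_self [Finite G] (hc : c ∈ H) (μ : H →* ℂ) : Rel B c μ μ := fun _ _ _ e =>
  hom_conj μ (isConj_iff.2 ⟨⟨c, hc⟩, Subtype.ext e.symm⟩)

theorem Rel.comp (hB : B ≤ H) (h : Rel B g μ μ₁) (h' : Rel B c μ₁ μ₂) (hc : c ∈ N[B]) :
    Rel B (g * c) μ μ₂ := fun b b' hb e => by
  rw [h' b ⟨_, hB (conj_mem hc hb)⟩ hb rfl, h ⟨_, hB (conj_mem hc hb)⟩ b' (conj_mem hc hb)]
  rw [e]; group

theorem Rel.cancel (hB : B ≤ H) {α β : H →* ℂ} (h : Rel B g α μ) (h' : Rel B g β μ')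
    (hg : g ∈ N[B]) (e : ∀ b ∈ B.subgroupOf H, μ b = μ' b) : ∀ b ∈ B.subgroupOf H, α b = β b :=
  fun b hb => by
    have h1 := conj_mem' hg hb
    have h2 : b.1 = g * (g⁻¹ * b * g) * g⁻¹ := by group
    rw [← h ⟨_, hB h1⟩ b h1 h2, ← h' ⟨_, hB h1⟩ b h1 h2, e _ h1]

theorem triv_ext (h : SD N B H) (h1 : Triv N μ) (h2 : Triv N μ')
    (e : ∀ b ∈ B.subgroupOf H, μ b = μ' b) : μ = μ' := MonoidHom.ext fun m => by
  obtain ⟨n, hn, b, hb, e'⟩ := h.isProd.mul m m.2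
  rw [show m = ⟨n, h.left_le hn⟩ * ⟨b, h.right_le hb⟩ from Subtype.ext e', map_mul, map_mul,
    h1 _ hn, h2 _ hn, e ⟨b, _⟩ hb]

theorem exists_triv (h : SD N B H) (θ : B →* ℂ) :
    ∃ μ : H →* ℂ, Triv N μ ∧ ∀ b : B, μ ⟨b, h.right_le b.2⟩ = θ b := by
  obtain ⟨μ, hμ⟩ := exists_ext h θ
  exact ⟨μ, fun m hm => by rw [hμ m m hm 1 (by simp), map_one],
    fun b => hμ _ 1 (one_mem _) b (by simp)⟩

theorem exists_rel (h : SD N B H) (hg : g ∈ N[B]) (μ : H →* ℂ) :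
    ∃ μ' : H →* ℂ, Triv N μ' ∧ Rel B g μ μ' := by
  obtain ⟨μ', h1, h2⟩ := exists_triv h (μ.comp (MonoidHom.mk'
    (fun b : B => (⟨g * b * g⁻¹, h.right_le (conj_mem hg b.2)⟩ : H))
    fun b b' => Subtype.ext (by simp only [coe_mul]; group)))
  refine ⟨μ', h1, fun b b' hb e => (h2 ⟨b, hb⟩).trans (congrArg μ (Subtype.ext e.symm))⟩

end Rel

theorem Triv.good {H S N : Subgroup G} {μ : H →* ℂ} (h : Triv N μ) (hS : Syl 2 H S) (hN : S ≤ N) :
    Good μ := fun c ⟨k, hk⟩ => by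
  obtain ⟨g, hg, h1⟩ := Sylow_Jsub Nat.prime_two hS
    (PiElt.isPi fun p hp hd => by
      rw [hk] at hd
      exact (Nat.prime_dvd_prime_iff_eq hp Nat.prime_two).1 (hp.dvd_of_dvd_pow hd))
    (zpowers_le.2 c.2)
  rw [hom_conj μ (isConj_iff.2 ⟨⟨g, hg⟩, rfl⟩)]
  exact h _ (hN (h1 (conj_mem_cj g (mem_zpowers _))))

omit [Finite G] in
theorem no_lin (h : MC G) (lam : G →* ℂˣ) : lam = 1 := by
  rcases h.simple.eq_bot_or_eq_top_of_normal lam.ker inferInstance with h1 | h1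
  · refine (h.not_sol (Abl.sol (abl_iff.2 (le_C_iff.2 fun a _ b _ => ?_)))).elim
    exact (lam.ker_eq_bot_iff.1 h1) (by rw [map_mul, map_mul, mul_comm])
  · exact MonoidHom.ext fun g => (MonoidHom.mem_ker.1 (h1 ▸ mem_top g) :)

theorem exists_lin {B : Subgroup G} (hB : B ≠ ⊥) (hs : Sol B) : ∃ θ : B →* ℂ, θ ≠ 1 := by
  have := (nontrivial_iff_ne_bot B).2 hB
  by_contra! h
  refine (Group.IsSolvable.commutator_lt_top_of_nontrivial B).ne (index_eq_one.1 ?_)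
  rw [← H4.card_monoidHom_units_eq_index, Nat.card_eq_one_iff_exists]
  exact ⟨1, fun lam => MonoidHom.ext fun b => Units.ext
    (DFunLike.congr_fun (h ((Units.coeHom ℂ).comp lam)) b)⟩

section Main

variable {S : Sylow 2 G} {n : ℕ} {a x t : G} {π : G → G} {K : Subgroup G}
  (h : MC G) (hD : Delta t S K) (d : H5.DHyp S n a x t π)

include h hD d

local notation "B" => O[{2}ᶜ, C{t}] ⊓ C[(S : Subgroup G)]

omit h hD [Finite G] in
theorem t_mem : t ∈ (S : Subgroup G) := d.zp_le d.t_mem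

omit hD in
theorem memB {b : G} : b ∈ B ↔ b ∈ C[(S : Subgroup G)] ∧ Odd (orderOf b) :=
  ⟨fun hb => ⟨hb.2, ((h.cd.mem_U d.t_ord).1 hb.1).2⟩,
    fun hb => ⟨(h.cd.mem_U d.t_ord).2 ⟨C_le_C1 (t_mem d) hb.1, hb.2⟩, hb.1⟩⟩

omit hD in
theorem normB : N[(S : Subgroup G)] ≤ N[B] := le_N_iff.2 fun g hg b hb =>
  (memB h d).2 ⟨conj_mem (N_le_NC _ hg) hb.2, by rw [orderOf_conj]; exact ((memB h d).1 hb).2⟩

omit h hD [Finite G] in
theorem four_of {s : G} (hs : s ∈ (S : Subgroup G)) (h1 : s ∉ zpowers a) : Four t s :=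
  ⟨d.t_ord, two_of (d.sq_of_nmem hs h1) fun e => h1 (e ▸ one_mem _), fun e => h1 (e ▸ d.t_mem),
    mem_C1.1 (d.le_C hs)⟩

omit h [Finite G] in
theorem inv_of_nmem {s : G} (hs : s ∈ (S : Subgroup G)) (h1 : s ∉ zpowers a) : Inv s K :=
  hD.inv s (four_of d hs h1).hs (four_of d hs h1).comm (four_of d hs h1).ne

omit h hD [Finite G] in
theorem xa_nmem : x * a ∉ zpowers a := fun h1 =>
  d.nmem ((mul_mem_cancel_right (mem_zpowers a)).1 h1)

omit h in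
theorem dvd_relIndex {s : G} (hs : s ∈ (S : Subgroup G)) (h1 : s ∉ zpowers a) :
    ♯K ∣ (C{s}).relIndex C{t} := by
  have h2 := card_sup_of_inf (inf_le_right.trans hD.nml.norm : C{s} ⊓ C{t} ≤ N[K])
    (eq_bot_of_le ((inv_of_nmem hD d hs h1).inf_C hD.odd) (inf_le_inf_left _ inf_le_left))
  have h3 := card_dvd (sup_le hD.nml.le inf_le_right : K ⊔ C{s} ⊓ C{t} ≤ C{t})
  rw [h2, ← card_inf_mul_relIndex C{s} C{t}, mul_comm] at h3
  exact Nat.dvd_of_mul_dvd_mul_left (card_pos _) h3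

theorem sdB : SD (K ⊔ S) B C{t} := by
  have hU := h.cd.sd_C d.t_ord hD.syl
  have hKU : K ≤ O[{2}ᶜ, C{t}] := hD.sup ▸ le_sup_left
  refine ⟨norm_sup ((inf_le_left.trans hU.left_le).trans hD.nml.norm) (norm_of_cent inf_le_right),
    (eq_bot_iff_forall _).2 fun y ⟨h1, h2⟩ => ?_, ?_⟩
  · obtain ⟨k, hk, s, hs, rfl⟩ := (mem_sup_of_norm (hU.right_le.trans hD.nml.norm)).1 h1
    obtain rfl : s = 1 := mem_bot.1 (hU.inf ▸ ⟨(mul_mem_cancel_left (hKU hk)).1 h2.1, hs⟩)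
    rw [mul_one] at h2 ⊢
    exact mem_bot.1 ((inv_of_nmem hD d d.x_mem d.nmem).inf_C hD.odd ▸ ⟨hk, C_le_C1 d.x_mem h2.2⟩)
  · rw [sup_right_comm, ← hD.sup, hU.sup]

theorem N_zp (ha : a ≠ 1) : N[zpowers a] = C{t} := by
  refine le_antisymm (fun g hg => d.ti (d.zp_le_H0 (mem_zpowers a)) (by rwa [d.fix a d.a_mem])
    (d.zp_le_H0 (conj_mem hg (mem_zpowers a)))) ((sdB h hD d).sup ▸ sup_le (sup_le ?_ ?_) ?_)
  · have := (inv_of_nmem hD d d.x_mem d.nmem).mul_mem_C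
      (inv_of_nmem hD d (mul_mem d.x_mem d.a_mem) (xa_nmem d))
    rw [← mul_assoc, d.sq, one_mul] at this
    exact norm_of_cent (cents_symm (zpowers_le.2 this))
  · refine le_N_iff.2 fun s hs b hb => ?_
    by_cases h1 : s ∈ zpowers a
    · exact mul_mem (mul_mem h1 hb) (inv_mem h1)
    · exact d.conj_of_nmem hs h1 hb ▸ inv_mem hb
  · exact norm_of_cent (inf_le_right.trans (C_anti d.zp_le))

theorem sep {M : Ideal AlgInt} [H17.PM 2 M] (ha : a ≠ 1) {μ μ₁ μ₂ : C{t} →* ℂ}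
    (hμ : Triv (K ⊔ S) μ) (hA : ∀ g ∈ N[(S : Subgroup G)],
      ∃ μ', (μ' = μ ∨ μ' = μ₁ ∨ μ' = μ₂) ∧ Triv (K ⊔ S) μ' ∧ Rel B g μ μ') : Sep M μ μ₁ μ₂ := by
  intro ξ χ h1 h2
  have hBS : B ≤ N[(S : Subgroup G)] := norm_of_cent inf_le_right
  have hBH := (sdB h hD d).right_le
  refine (sep_lin S (W := S ⊔ B) le_sup_left (sup_le d.le_C hBH) (fun c hc => ?_)
    (sup_le (norm_self _) hBS) (norm_sup le_rfl (normB h d)) h1 h2
    (exists_DG_sylow S d.le_C d.zp_le (N_zp h hD d ha) (by rw [d.card, card_zpowers', d.ord]) h1 h2)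
    (A := fun μ' => μ' = μ ∨ μ' = μ₁ ∨ μ' = μ₂) fun g hg => ?_).elim fun μ' ⟨h3, h4⟩ => ?_
  · obtain ⟨y, z, hy, hz, hy', hz', rfl⟩ := exists_piElt_decomp {2} c
    have h3 : y ∈ C[(S : Subgroup G)] := zpowers_le.2 hc hy'
    exact mul_mem (mem_sup_left (hD.syl.le_of_norm hy.isPi (zpowers_le.2 (C_le_C1 (t_mem d) h3))
      (zpowers_le.2 (C_le_N _ h3)) (mem_zpowers y)))
      (mem_sup_right ((memB h d).2 ⟨zpowers_le.2 hc hz', piElt_odd.1 hz⟩))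
  · obtain ⟨μ', h3, h4, h5⟩ := hA g hg
    refine ⟨μ', h3, fun w hw w' e => ?_⟩
    obtain ⟨s, hs, b, hb, e'⟩ := (mem_sup_of_norm hBS).1 hw
    have hs' := conj_mem hg hs
    have hb' := conj_mem (normB h d hg) hb
    rw [show w = ⟨s, d.le_C hs⟩ * ⟨b, hBH hb⟩ from Subtype.ext e',
      show w' = ⟨_, d.le_C hs'⟩ * ⟨_, hBH hb'⟩ from Subtype.ext (by rw [e, e', coe_mul]; group),
      map_mul, map_mul, h4 _ (mem_sup_right hs), hμ _ (mem_sup_right hs'),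
      h5 ⟨b, _⟩ ⟨_, hBH hb'⟩ hb rfl]
  · rcases h3 with rfl | rfl | rfl <;> simp [h4]

omit h hD in
theorem N_le_of_lt (hn : 2 < n) : N[(S : Subgroup G)] ≤ C{t} := fun g hg => by
  have ha : a ≠ 1 := fun e => by have := d.ord; rw [e, orderOf_one] at this; omega
  refine d.ti (d.zp_le_H0 (mem_zpowers a)) (by rwa [d.fix a d.a_mem]) (d.zp_le_H0 ?_)
  by_contra h1
  have := (four_of d (conj_mem hg d.a_mem) h1).hs
  rw [orderOf_conj, d.ord] at this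
  omega

omit h hD in
theorem S_eq (hn : n = 2) : (S : Subgroup G) = V4 t x :=
  (eq_of_card_eq (Four.V_le.2 ⟨t_mem d, d.x_mem⟩)
    (by rw [(four_of d d.x_mem d.nmem).V_card, d.card, hn])).symm

theorem sep2 {M : Ideal AlgInt} [H17.PM 2 M] (hn : n = 2) {μ μ₁ μ₂ : C{t} →* ℂ}
    (hμ : Triv (K ⊔ S) μ) (hμ₁ : Triv (K ⊔ S) μ₁) (hμ₂ : Triv (K ⊔ S) μ₂) {g : G}
    (hg : g ∈ N[(S : Subgroup G)]) (g1 : g * t * g⁻¹ = x) (g2 : g * x * g⁻¹ = t * x)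
    (r1 : Rel B g μ μ₁) (r2 : Rel B g μ₁ μ₂) : Sep M μ μ₁ μ₂ := by
  have hBH := (sdB h hD d).right_le
  refine sep h hD d (fun e => by have := d.ord; rw [e, orderOf_one] at this; omega) hμ
    fun g' hg' => ?_
  have h1 := conj_mem hg' (t_mem d)
  rw [S_eq d hn, (four_of d d.x_mem d.nmem).mem_V] at h1
  rcases h1 with h1 | h1 | h1 | h1
  · exact (d.t_ne (conj_eq_one_iff'.1 h1)).elim
  · exact ⟨μ, .inl rfl, hμ, rel_self (mem_C1_iff_conj.2 h1) μ⟩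
  · refine ⟨μ₁, .inr (.inl rfl), hμ₁, ?_⟩
    have := r1.comp hBH (rel_self (c := g⁻¹ * g') (mem_C1_iff_conj.2 (by
      rw [show g⁻¹ * g' * t * (g⁻¹ * g')⁻¹ = g⁻¹ * (g' * t * g'⁻¹) * g by group, h1, ← g1]
      group)) μ₁) (normB h d (mul_mem (inv_mem hg) hg'))
    rwa [mul_inv_cancel_left] at this
  · refine ⟨μ₂, .inr (.inr rfl), hμ₂, ?_⟩
    have := (r1.comp hBH r2 (normB h d hg)).comp hBH (rel_self (c := (g * g)⁻¹ * g')
      (mem_C1_iff_conj.2 (by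
      rw [show (g * g)⁻¹ * g' * t * ((g * g)⁻¹ * g')⁻¹ = g⁻¹ * (g⁻¹ * (g' * t * g'⁻¹) * g) * g by
        simp [mul_assoc], h1, ← g2, show g⁻¹ * (g * x * g⁻¹) * g = x by group, ← g1]
      group)) μ₂) (normB h d (mul_mem (inv_mem (mul_mem hg hg)) hg'))
    rwa [mul_inv_cancel_left] at this

theorem dvd_index (hn : 2 ≤ n) (hB : B ≠ ⊥) : (♯K : ℤ) ∣ 16 * (C{t}).index := by
  have := Fintype.ofFinite G
  have := Fintype.ofFinite (zpowers a)
  obtain ⟨M, hM⟩ := H17.exists_PM 2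
  obtain ⟨e⟩ := ddata_equiv d.toDData
  have hC := (H26.ncompl_iff_hasNPC Nat.prime_two).1 (h.cd.ncompl_C d.t_ord)
  have hc : ∀ u, orderOf u = 2 → IsConj t u := fun u => h.isConj d.t_ord
  have sd := sdB h hD d
  have hBo : Odd ♯(B) := odd_of_le (odd_pcore _) inf_le_left
  obtain ⟨θ, hθ⟩ := exists_lin hB (sol_of_odd hBo)
  obtain ⟨μ, hμ, hμθ⟩ := exists_triv sd θ
  have hne : μ ≠ 1 := fun e => hθ (MonoidHom.ext fun b => by rw [← hμθ, e]; rfl)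
  have good {ν : C{t} →* ℂ} (hν : Triv (K ⊔ S) ν) : Good ν := hν.good hD.syl le_sup_right
  obtain ⟨X₁, X₂, X₃, a₁, a₂, a₃, s1, s2, s3, o1, o2, o3, -, -, -, v1, v2, v3, -, -, -, e1, e2, c1,
    c2, c3⟩ := H5.dch S hn e d.toDData d.t_ord d.t_mem hc rfl rfl rfl
  have n1 {X : G → ℂ} {b : ℤ} (hX : H5.SIrr X) (o : classInner X (fun _ => 1) = 0) (v : X 1 = b) :
      b ≠ 1 := fun e => by
    obtain ⟨lam, h1, -⟩ := hX.exists_linear o (by rw [v, e, Int.cast_one])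
    exact h1 (no_lin h lam)
  have k1 : (♯K : ℤ) ∣ (C{x}).relIndex C{t} := by exact_mod_cast dvd_relIndex hD d d.x_mem d.nmem
  have k2 : (♯K : ℤ) ∣ (C{x * a}).relIndex C{t} := by
    exact_mod_cast dvd_relIndex hD d (mul_mem d.x_mem d.a_mem) (xa_nmem d)
  have hi : (0 : ℤ) < (C{t}).index := by exact_mod_cast Nat.pos_of_ne_zero index_ne_zero_of_finite
  rcases hn.eq_or_lt with hn2 | hn2
  · have hn2 := hn2.symm
    obtain ⟨g, g1, g2⟩ := h.fuse (four_of d d.x_mem d.nmem)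
    have hg : g ∈ N[(S : Subgroup G)] := by
      rw [S_eq d hn2, mem_N_iff_cj, Four.cj_V, g1, g2, mem_C1.1 (mem_C1_comm.1 d.x_C),
        (four_of d d.x_mem d.nmem).symm.V_mul, Four.V_symm]
    have hgB := normB h d hg
    obtain ⟨μ₁, hμ₁, r1⟩ := exists_rel sd hgB μ
    by_cases h1 : ∀ b ∈ (B).subgroupOf C{t}, μ b = μ₁ b
    · obtain rfl := triv_ext sd hμ hμ₁ h1
      obtain ⟨b, k, h2, h3, h4⟩ := caseI2 d hC (good hμ)
        (sep2 (M := M) h hD d hn2 hμ hμ hμ hg g1 g2 r1 r1) hc (no_lin h) hne hn2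
      rw [hn2] at c1
      rw [ar2 hi c1 (c2 hn2).1 (c2 hn2).2 (n1 s1 o1 v1) (n1 s2 o2 v2) (n1 s3 o3 v3) e1
        (by rw [e2, mul_assoc 8]) h2 h3 (by push_cast; rw [h4, mul_assoc])]
      exact ((k1.mul_right _).mul_left _).mul_left _
    · obtain ⟨μ₂, hμ₂, r2⟩ := exists_rel sd hgB μ₁
      have hg3 : g * (g * g) ∈ C{t} := mem_C1_iff_conj.2 (by
        rw [show g * (g * g) * t * (g * (g * g))⁻¹ = g * (g * (g * t * g⁻¹) * g⁻¹) * g⁻¹ by group,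
          g1, g2, show g * (t * x) * g⁻¹ = g * t * g⁻¹ * (g * x * g⁻¹) by group, g1, g2,
          ← mul_assoc, mem_C1.1 d.x_C, mul_assoc, d.sq, mul_one])
      have r3 : Rel B g μ₂ μ := fun b b' hb e => by
        have hb' : b'.1 ∈ B := e ▸ conj_mem hgB hb
        have hb2 := conj_mem (mul_mem hgB hgB) hb'
        rw [r1.comp sd.right_le r2 hgB b' ⟨_, sd.right_le hb2⟩ hb' rfl]
        exact rel_self hg3 μ b _ hb (by simp [e, mul_assoc])
      have h3 := fun h3 => h1 (r1.cancel sd.right_le r2 hgB h3)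
      obtain ⟨β, h4⟩ := caseII d hC (good hμ) hc hn2 (good hμ₁) (good hμ₂)
        (sep2 (M := M) h hD d hn2 hμ hμ₁ hμ₂ hg g1 g2 r1 r2)
        (card_subgroupOf_of_le sd.right_le ▸ hBo.not_two_dvd_nat) h1
        (fun h2 => h3 fun b hb => (r3.cancel sd.right_le r2 hgB h2 b hb).symm) h3
        fun b hb => ⟨⟨_, sd.right_le (conj_mem hgB hb)⟩, conj_mem hgB hb, isConj_iff.2 ⟨g, rfl⟩,
          r1 _ _ hb rfl, r2 _ _ hb rfl, r3 _ _ hb rfl⟩
      rw [h4]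
      exact (k2.mul_left _).mul_left _
  · obtain ⟨b, b', k, k', h1, h2, h3, h4, -, h5⟩ := caseI3 d hC (good hμ)
      (sep (M := M) h hD d (fun e => by have := d.ord; rw [e, orderOf_one] at this; omega) hμ
        fun g hg => ⟨μ, .inl rfl, hμ, rel_self (N_le_of_lt d hn2 hg) μ⟩) hc (no_lin h) hne hn2
    obtain ⟨j, hj⟩ := (hD.syl.pi.piElt d.a_mem).exists_pow Nat.prime_two
    obtain ⟨m, hm⟩ : 4 ∣ n := by
      rw [← d.ord, hj] at hn2 ⊢
      exact pow_dvd_pow 2 (show 2 ≤ j by by_contra! h6; interval_cases j <;> omega)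
    have k0 := relIndex_pos C{x} C{t}
    have key {b k : ℤ} (e : b = 1 + 2 * n * k) (hk : k ≠ 0) : b % 8 = 1 ∧ b ≠ 1 := by
      refine ⟨?_, fun e' => mul_ne_zero (by omega : (2 * n : ℤ) ≠ 0) hk (by omega)⟩
      rw [e, hm, show (1 + 2 * (4 * m : ℕ) * k : ℤ) = 1 + 8 * (m * k) by push_cast; ring]
      omega
    rw [ar3 hi (by omega) (c1.of_dvd ⟨m, by rw [hm]; push_cast; ring⟩ : a₁ ≡ 1 [ZMOD 8])
      (c3 hn2).2.2 (key h1 h2).1 (key h3 h4).1 (key h1 h2).2 (key h3 h4).2 (by exact_mod_cast h5)]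
    exact (Dvd.dvd.pow (k1.add k2) two_ne_zero).mul_left _

end Main

end Del

theorem MC.delta (h : MC G) {t : G} (ht : orderOf t = 2) {S K : Subgroup G} (hD : Delta t S K)
    (hK : K ≠ ⊥) (hcop : (C{t}).index.Coprime ♯K) : O[{2}ᶜ, C{t}] ⊓ C[S] = ⊥ := by
  obtain ⟨P, rfl⟩ := (h.syl_top ht hD.syl).exists_sylow_top Nat.prime_two
  obtain ⟨a, x, hd, hn, hta⟩ := h.ddata ht hD.syl
  obtain ⟨e⟩ := ddata_equiv hd
  obtain ⟨π, d⟩ := H5.exists_dHyp P hd ht hta (H5.odd_oddPart_centralizer P hn e ht)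
  by_contra hB
  have h1 : ♯K ∣ 2 ^ 4 * (C{t}).index := by exact_mod_cast Del.dvd_index h hD d hn hB
  exact hK (card_eq_one'.1 (Nat.eq_one_of_dvd_coprimes
    (((Nat.coprime_two_right.2 hD.odd).pow_right 4).mul_right hcop.symm) dvd_rfl h1))

end H13.Dih
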