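import Mathlib
import Cfsg.Agent.H13.DihBasic
import Cfsg.Agent.H13.DihNum
import Cfsg.Agent.H13.DihDelta
import Cfsg.Agent.H13.DihCount
import Cfsg.Agent.H18.Basic
import Cfsg.Agent.H7.SL
import Cfsg.Agent.S0508

/-! `C(t)` maximal, every `O_p(U)` centralised or inverted by every involution. -/

set_option autoImplicit false
set_option linter.unusedSectionVars false

namespace H13.Dih

open H24 H26 Cfsg Subgroup

universe u

variable {G : Type u} [Group G] [Finite G] {S K R : Subgroup G} {t s v a x y g : G} {p n : ℕ}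

/-- `O(C(v))` -/
abbrev UU (v : G) : Subgroup G := O[{2}ᶜ, C{v}]

/-- `O_p(O(C(v)))` -/
abbrev PP (p : ℕ) (v : G) : Subgroup G := O[{p}, O[{2}ᶜ, C{v}]]

theorem UU_nml (v : G) : UU v ⊴ C{v} := pcore_nml _ _

theorem UU_cj (g v : G) : cj g (UU v) = UU (g * v * g⁻¹) := by rw [UU, ← pcore_cj, cj_C1]

theorem PP_nml (p : ℕ) (v : G) : PP p v ⊴ C{v} := (UU_nml v).pcore _

theorem PP_cj (p : ℕ) (g v : G) : cj g (PP p v) = PP p (g * v * g⁻¹) := by
  rw [PP, ← pcore_cj, ← pcore_cj, cj_C1]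

theorem PP_odd (p : ℕ) (v : G) : Odd ♯(PP p v) := odd_of_le (odd_pcore _) (pcore_le _ _)

theorem FU_nml (v : G) : F[UU v] ⊴ C{v} := (UU_nml v).Fitting

theorem FU_odd (v : G) : Odd ♯F[UU v] := odd_of_le (odd_pcore _) (Fitting_le _)

theorem cent_U_of_F (hS : IsPi {2} S) (h1 : S ≤ C{t}) (h2 : S ≤ C[F[UU t]]) : S ≤ C[UU t] :=
  (le_inf le_rfl h2).trans (coprime_cent_Fitting (h1.trans (UU_nml t).norm)
    ((pcore_pi _ _).coprime' hS) (sol_of_odd (odd_pcore _)))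

theorem le_FU (h1 : R ≤ UU t) (h2 : R ≤ C[F[UU t]]) : R ≤ F[UU t] :=
  le_Fitting_of_cent (sol_of_odd (odd_pcore _)) h1 h2

theorem four_of_ddata (hS : S ≤ C{t}) (hD : H5.DData S n a x) (ht : orderOf t = 2)
    (hta : t ∈ zpowers a) (hy : y ∈ S) (hya : y ∉ zpowers a) : Four t y :=
  ⟨ht, two_of (hD.sq_of_nmem hy hya) fun e => hya (e ▸ one_mem _), fun e => hya (e ▸ hta),
    mem_C1.1 (hS hy)⟩

theorem xa_nmem (hD : H5.DData S n a x) : x * a ∉ zpowers a := by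
  rw [mul_mem_cancel_right (mem_zpowers a)]; exact hD.nmem

theorem ddata_le (hD : H5.DData S n a x) (ha : a ∈ K) (hx : x ∈ K) : S ≤ K := fun g hg => by
  rcases (hD.mem g).1 hg with e | e
  · exact zpowers_le.2 ha e
  · exact (mul_mem_cancel_left (inv_mem hx)).1 (zpowers_le.2 ha e)

theorem not_dvd_index {H : Subgroup G} (hp : p.Prime) (hR : IsPi {p} R) (hRH : R ≤ H)
    (h : ∀ g, cj g R ≤ H → g ∈ H) : ¬ p ∣ H.index := by
  obtain ⟨P, hP, hRP⟩ := Sylow_superset hp hR hRH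
  have := (hP.of_norm_le hp le_top fun g hg =>
    h g ((cj_le_of_mem_N hRP hg.2).trans hP.le)).idx_of_ge hP.le
  rwa [relIndex_top_right, piNat_compl_singleton hp] at this

theorem CD.card_CV (h : CD G) (hf : Four t s) : ♯(C{s} ⊓ C{t}) = 4 * ♯(UU t ⊓ C{s}) := by
  have h1 : UU t ⊓ C{s} ≤ C[V4 t s] := Four.C_V.ge.trans' (inf_le_inf_right _ (UU_nml t).le)
  have h2 : C{s} ⊓ C{t} = V4 t s ⊔ UU t ⊓ C{s} := le_antisymm (fun y hy => by
    obtain ⟨w, hw, b, hb, rfl⟩ := h.decomp_CV hf hy.2 hy.1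
    exact mul_mem (mem_sup_left hw) (mem_sup_right hb))
    (sup_le (le_inf hf.V_le_C' hf.V_le_C) (le_inf inf_le_right (inf_le_left.trans (UU_nml t).le)))
  rw [h2, card_sup_of_inf (norm_of_cent h1) (hf.V_pi.inf_eq_bot ((pcore_pi _ _).inf_left _)),
    hf.V_card]

namespace MC

variable (h : MC G)
include h

theorem isL2_of_bsw (ht : orderOf t = 2) (hS : Syl 2 C{t} S)
    (ha : UU t ≠ ⊥ → Cyc (S ⊓ C[UU t]) ∧ (S ⊓ C[UU t]).relIndex S = 2)
    (hb : ∀ s ∈ S, s ∉ C[UU t] → Inv s (UU t)) (hc : ∀ Y ≤ UU t, Y ≠ ⊥ → N[Y] ≤ C{t}) :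
    IsL2 G := by
  have := h.simple
  obtain ⟨S', rfl⟩ := (h.syl_top ht hS).exists_sylow_top Nat.prime_two
  obtain ⟨n, hn, e⟩ := h.dihedral S'
  obtain ⟨F, _, _, h1, ⟨e'⟩⟩ := Cfsg.Agent.S0508.result S' n hn e t ht (mem_syl ht hS)
    (fun s hs => mem_C1.1 (hS.le hs)) _ (pcore_compl_singleton Nat.prime_two _) ha hb hc
  refine ⟨F, _, _, h1, ?_, ⟨e'⟩⟩
  by_contra h2
  have h3 : Fintype.card F = 3 := by
    have := Fintype.one_lt_card (α := F)
    obtain ⟨k, hk⟩ := h1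
    omega
  have h4 := H7.card_psl_two h3
  rw [← Nat.card_congr e'.toEquiv] at h4
  norm_num at h4
  have h5 := H18.two_mul_card_dvd_factorial (fun e => h.not_sol (abl_top_iff.2 e).sol) _
    (h.C1_ne_top (ne_one_of ht))
  obtain ⟨s, hf⟩ := h.ex_four ht
  obtain ⟨c, hc⟩ := card_dvd hf.V_le_C
  have h6 := (C{t}).card_mul_index
  have h7 := one_lt_index_of_ne_top (h.C1_ne_top (ne_one_of ht))
  obtain ⟨k, hk⟩ := h.odd_index ht
  rw [hc, hf.V_card] at h6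
  have h8 : (C{t}).index = 3 := by
    have h9 : (C{t}).index ∣ 3 := ⟨c, by nlinarith⟩
    exact ((Nat.dvd_prime Nat.prime_three).1 h9).resolve_left h7.ne'
  rw [h8, show Nat.card G = 12 by omega] at h5
  revert h5
  decide

theorem isL2_of_bot (ht : orderOf t = 2) (hU : O[{2}ᶜ, C{t}] = ⊥) : IsL2 G := by
  obtain ⟨S, hS⟩ := Sylow_exists Nat.prime_two C{t}
  exact h.isL2_of_bsw ht hS (fun e => absurd hU e) (fun s _ _ => (inv_bot s).of_le hU.le)
    fun Y hY h1 => absurd (eq_bot_of_le hU hY) h1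

theorem not_dvd_index' (hH : IsCoatom C{t}) (hp : p.Prime) (hR : IsPi {p} R) (h1 : R ≠ ⊥)
    (hn : R ⊴ C{t}) (ht : orderOf t = 2) (h2 : ∀ s, Four t s → ¬ R ≤ C{s}) :
    ¬ p ∣ (C{t}).index := not_dvd_index hp hR hn.le fun g hg => by
  rw [cj_le_iff, cj_C1] at hg
  by_contra h3
  exact h2 _ ⟨ht, two_conj ht g⁻¹, fun e => h3 (inv_mem_iff.1 (mem_C1_iff_conj.2 e)),
    mem_C1.1 (h.C_le hH h1 hn (mem_C_iff_le_C1.2 hg))⟩ hg

theorem delta' (ht : orderOf t = 2) (hH : IsCoatom C{t}) (hD : Delta t S K) (hK : K ≠ ⊥) :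
    O[{2}ᶜ, C{t}] ⊓ C[S] = ⊥ := by
  refine h.delta ht hD hK (Nat.coprime_of_dvd fun p hp h1 h2 => ?_)
  have h3 := hD.abl.nil.pcore_ne_bot (π := {p}) hp rfl h2
  exact h.not_dvd_index' hH hp (pcore_pi _ _) h3 (hD.nml.pcore _) ht (fun s hf e => h3
    (Inv.eq_bot (Inv.of_le (hD.inv s hf.hs hf.comm hf.ne) (pcore_le _ _))
      (odd_of_le hD.odd (pcore_le _ _)) e)) h1

theorem isL2_of_delta (ht : orderOf t = 2) (hH : IsCoatom C{t}) (hD : Delta t S K) (hK : K ≠ ⊥) :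
    IsL2 G := by
  have hU : UU t = K := by rw [UU, hD.sup, h.delta' ht hH hD hK, sup_bot_eq]
  obtain ⟨a, x, hd, -, hta⟩ := h.ddata ht hD.syl
  have h1 : ∀ y ∈ S, y ∉ zpowers a → Inv y K := fun y hy hya =>
    have := four_of_ddata hD.syl.le hd ht hta hy hya
    hD.inv y this.hs this.comm this.ne
  have h2 : zpowers a ≤ C[K] := by
    have := (h1 x hd.x_mem hd.nmem).mul_mem_C (h1 _ (mul_mem hd.x_mem hd.a_mem) (xa_nmem hd))
    rwa [← mul_assoc, hd.sq, one_mul, ← zpowers_le] at this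
  have h3 : S ⊓ C[K] = zpowers a := le_antisymm (fun y hy => by
    by_contra hya
    exact hK ((h1 y hy.1 hya).eq_bot hD.odd (mem_C_iff_le_C1.1 hy.2))) (le_inf hd.zp_le h2)
  refine h.isL2_of_bsw ht hD.syl (fun _ => ?_) (fun s hs hs' => ?_) fun Y hY hY1 => ?_
  · rw [hU, h3]; exact ⟨cyc_zpowers a, hd.relIndex⟩
  · rw [hU] at hs' ⊢; exact h1 s hs fun e => hs' (h2 e)
  · rw [hU] at hY
    refine (h.N_eq hH hY1 ⟨hY.trans hD.nml.le, ?_⟩).le
    rw [← (h.cd.sd_C ht hD.syl).sup]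
    exact sup_le (hU.le.trans (hD.abl.norm le_rfl hY)) (ddata_le hd
      (C_le_N _ (C_anti hY (h2 (mem_zpowers a)))) ((h1 x hd.x_mem hd.nmem).of_le hY).norm)

theorem not_U_le (hH : IsCoatom C{t}) (hU : UU t ≠ ⊥) (hf : Four t s) : ¬ UU t ≤ C{s} := fun e => by
  obtain ⟨g, rfl⟩ := h.conj hf.ht hf.hs
  have h1 := eq_of_card_eq (h.cd.le_U hf.hs (odd_pcore _) e)
    (by rw [← card_cj g]; exact congrArg (fun X : Subgroup G => ♯X) (UU_cj g t))
  exact hf.ne (mem_C1_iff_conj.1 ((h.N_eq hH hU (UU_nml t)).le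
    (mem_N_iff_cj.2 ((UU_cj g t).trans h1.symm))))

theorem not_F_le (hH : IsCoatom C{t}) (hU : UU t ≠ ⊥) (hf : Four t s) : ¬ F[UU t] ≤ C{s} :=
  fun e => h.not_U_le hH hU hf (mem_C_iff_le_C1.1 (zpowers_le.1 (cent_U_of_F (isPi_zp hf.hs)
    (zpowers_le.2 hf.s_mem_C) (zpowers_le.2 (mem_C_iff_le_C1.2 e)))))

end MC

/-- the hypothesis of case (BII) -/
def HII (t : G) : Prop := ∀ p : ℕ, p.Prime → ∀ s, Four t s → PP p t ⊓ C{s} = ⊥ ∨ PP p t ≤ C{s}

/-- the part of `F(U)` inverted by `s` -/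
def KK (t s : G) : Subgroup G := O[{q | PP q t ⊓ C{s} = ⊥}, F[UU t]]

theorem KK_nml (t s : G) : KK t s ⊴ C{t} := (FU_nml t).pcore _

theorem KK_le (t s : G) : KK t s ≤ F[UU t] := pcore_le _ _

theorem KK_odd (t s : G) : Odd ♯(KK t s) := odd_of_le (FU_odd t) (KK_le t s)

theorem KK_inv (hf : Four t s) : Inv s (KK t s) := by
  refine inv_of_inf_C (KK_odd t s) (sq_of hf.hs) ((KK_nml t s).norm hf.s_mem_C) ?_
  by_contra h1
  obtain ⟨q, hq, hd⟩ := exists_prime_dvd_card h1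
  obtain ⟨y, hy, h2⟩ := exists_orderOf_eq hq hd
  have h3 : PP q t ⊓ C{s} = ⊥ := ((pcore_pi _ _).inf_left _).mem hq hd
  have h4 := (Fitting_nil _).mem_pcore (piElt_of_orderOf_prime hq h2) (KK_le t s hy.1)
  rw [p_core_Fitting hq] at h4
  exact ne_one_of_orderOf_prime (h2 ▸ hq) (mem_bot.1 (h3 ▸ ⟨h4, hy.2⟩))

theorem PP_le_KK (hp : p.Prime) (h : PP p t ⊓ C{s} = ⊥) : PP p t ≤ KK t s :=
  (Fitting_nil _).le_pcore ((pcore_pi _ _).of_mem h) (pcore_le_Fitting hp _)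

theorem KK_cl (h : v ∈ cl C{t} s) : KK t v = KK t s := by
  obtain ⟨g, hg, rfl⟩ := h
  refine congrArg (fun π => O[π, F[UU t]]) (Set.ext fun q => ?_)
  simp only [Set.mem_ofPred_eq]
  rw [← cj_C1, ← cj_of_mem_N ((PP_nml q t).norm hg), ← cj_inf, cj_eq_bot,
    cj_of_mem_N ((PP_nml q t).norm hg)]

namespace HII

variable (h : HII t)
include h

theorem compl_le (hf : Four t s) : O[{q | PP q t ⊓ C{s} = ⊥}ᶜ, F[UU t]] ≤ C{s} :=
  ((Fitting_nil _).of_le (pcore_le _ _)).le_of_pcore_le fun q hq hd =>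
    (((Fitting_nil _).pcore_mono _ (pcore_le _ _)).trans (p_core_Fitting hq _).le).trans
      ((h q hq s hf).resolve_left ((pcore_pi _ _).mem hq hd))

theorem comm_le_C (hf : Four t s) : ⁅UU t, zpowers s⁆ ≤ C[F[UU t]] := by
  rw [(Fitting_nil _).C_eq {q | PP q t ⊓ C{s} = ⊥}]
  exact le_inf ((KK_inv hf).comm_le_C (sq_of hf.hs) ((UU_nml t).le.trans (KK_nml t s).norm))
    ((comm_mono_right (zpowers_le.2 (mem_C_iff_le_C1.2 (h.compl_le hf)))).trans
      (comm_le_right (norm_C (pcore_Fitting_nml _ _).norm)))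

theorem comm_eq (hf : Four t s) : ⁅UU t, zpowers s⁆ = KK t s := by
  have hs := (UU_nml t).norm hf.s_mem_C
  refine le_antisymm ?_ (((KK_inv hf).comm_eq (KK_odd t s)).ge.trans
    (comm_mono_left ((KK_le t s).trans (Fitting_le _))))
  rw [← comm_idem (odd_pcore _) hf.hs hs]
  refine (comm_mono_left (le_FU (comm_le_left (zpowers_le.2 hs)) (h.comm_le_C hf))).trans ?_
  rw [((Fitting_nil _).pcoreC {q | PP q t ⊓ C{s} = ⊥}).isProd.comm_left_of_cent
    (by rw [C_zpowers]; exact h.compl_le hf)]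
  exact comm_le_left (zpowers_le.2 (KK_inv hf).norm)

theorem KK_le_C (hf : Four t s) : KK t s ≤ C[F[UU t]] := (h.comm_eq hf).ge.trans (h.comm_le_C hf)

theorem isProd (hf : Four t s) : IsProd (KK t s) (UU t ⊓ C{s}) (UU t) :=
  h.comm_eq hf ▸ cent_prod (odd_pcore _) hf.hs ((UU_nml t).norm hf.s_mem_C)

theorem card (hG : CD G) (hf : Four t s) (hS : Syl 2 C{t} S) :
    4 * (C{s}).relIndex C{t} = ♯(KK t s) * ♯S := by
  have h1 := card_inf_mul_relIndex C{s} C{t}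
  have h2 := (h.isProd hf).card
  rw [eq_bot_of_le ((KK_inv hf).inf_C (KK_odd t s)) (inf_le_inf_left _ inf_le_right), card_bot,
    mul_one] at h2
  rw [hG.card_CV hf, (hG.sd_C hf.ht hS).card, h2] at h1
  refine Nat.eq_of_mul_eq_mul_left (card_pos (UU t ⊓ C{s})) ?_
  linarith

theorem sq_cent (h1 : Four t s) (h2 : Four t v) : s * v * (s * v) ∈ C[F[UU t]] := by
  refine mem_C_iff_le_C1.2 (Fitting_le_of_pcore_le fun q hq _ => mem_C_iff_le_C1.1 ?_)
  have key : ∀ {w}, Four t w → Inv w (PP q t) ∨ w ∈ C[PP q t] := fun hw =>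
    (h q hq _ hw).imp (fun e => (KK_inv hw).of_le (PP_le_KK hq e)) mem_C_iff_le_C1.2
  rcases key h1 with a | a <;> rcases key h2 with b | b
  · exact mul_mem (a.mul_mem_C b) (a.mul_mem_C b)
  · exact (a.mul_cent b).mul_mem_C (a.mul_cent b)
  · exact (b.cent_mul a).mul_mem_C (b.cent_mul a)
  · exact mul_mem (mul_mem a b) (mul_mem a b)

end HII

namespace MC

variable (h : MC G)
include h

/-- consequences of a mixed prime -/
theorem mix (hH : IsCoatom C{t}) (H : HII t) (hp : p.Prime) (h1 : Four t s) (h2 : Four t v)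
    (hsv : PiElt {2} (s * v)) (hgen : ∀ L, UU t ≤ L → s ∈ L → v ∈ L → C{t} ≤ L)
    (hP : PP p t ≠ ⊥) (hs : PP p t ≤ C{s}) (hv : PP p t ⊓ C{v} = ⊥) :
    PP p s ≤ C{t} ∧ v * s * v⁻¹ = t * s ∧ PP p t ⊓ PP p s = ⊥ ∧
      PP p s ≤ PP p t ⊔ (PP p t ⊔ PP p s) ⊓ C{v} ∧ PP p t ≤ PP p s ⊔ PP p (t * s) := by
  obtain ⟨g, e1, e2⟩ := h.fuse h1
  have e3 : g * (t * s) * g⁻¹ = t := by
    rw [show g * (t * s) * g⁻¹ = (g * t * g⁻¹) * (g * s * g⁻¹) by group, e1, e2, h1.s_ts]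
  have n0 := PP_nml p t
  have n1 := PP_nml p s
  have n2 := PP_nml p (t * s)
  have a0 : PP p t ≤ C{t * s} := fun y hy => Four.C_mul (n0.le hy) (hs hy)
  have a1 : PP p s ≤ C{t} := by
    have := cj_mono g a0
    rwa [PP_cj, cj_C1, e1, e3] at this
  have a2 : PP p s ≤ C{t * s} := fun y hy => Four.C_mul (a1 hy) (n1.le hy)
  have hPs : PP p s ≠ ⊥ := by rwa [← e1, ← PP_cj, Ne, cj_eq_bot]
  have a4 : PP p s ≤ UU t := h.cd.le_U h1.ht (PP_odd p s) a1
  have hsvt := Four.C_mul (y := t) h1.t_mem_C h2.t_mem_C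
  have a5 : s * v * (s * v) ∈ C{s} := h.C_le (e1 ▸ cj_C1 g t ▸ isCoatom_cj hH g) hPs n1
    (C_anti a4 (zpowers_le.1 (cent_U_of_F (hsv.mul hsv rfl).isPi
      (zpowers_le.2 (mul_mem (mem_C1_comm.1 hsvt) (mem_C1_comm.1 hsvt)))
      (zpowers_le.2 (H.sq_cent h1 h2)))))
  have hi := (KK_inv h2).of_le (PP_le_KK hp hv)
  have a6 : v * s * v⁻¹ = t * s := by
    have b1 : v * s * v⁻¹ ∈ C{s} := by
      rw [mul_assoc, mul_mem_cancel_left (self_mem_C1 s), ← mul_assoc] at a5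
      rwa [inv_of h2.hs]
    have b3 := h1.of_cl ⟨v, h2.s_mem_C, rfl⟩
    rcases h1.mem_V.1 (h.cd.mem_V h1 (pi_two b3.hs) b3.s_mem_C b1) with e | e | e | e
    · exact absurd e (ne_one_of b3.hs)
    · exact absurd e b3.ne
    · rcases h1.mem_V.1 (h.cd.mem_V h1 (pi_two h2.hs) h2.s_mem_C (mem_C1_iff_conj.2 e)) with
        e | e | e | e
      · exact absurd e (ne_one_of h2.hs)
      · exact absurd e h2.ne
      · exact absurd (hi.eq_bot (PP_odd p t) (e ▸ hs)) hP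
      · exact absurd (hi.eq_bot (PP_odd p t) (e ▸ a0)) hP
    · exact e
  have a7 : cj v (PP p s) = PP p (t * s) := by rw [PP_cj, a6]
  have a8 : PP p t ⊓ PP p s = ⊥ := by
    by_contra hD
    have b1 : v ∈ N[PP p t ⊓ PP p s] := (hi.of_le inf_le_left).norm
    have b2 : PP p t ⊓ PP p s ≤ PP p (t * s) := by
      rw [← cj_of_mem_N b1, ← a7]; exact cj_mono v inf_le_right
    have b3 : g ∈ N[PP p t ⊓ PP p s] := mem_N_of_le_cj (by
      rw [cj_inf, PP_cj, PP_cj, e1, e2]; exact le_inf inf_le_right b2)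
    have b4 : C{t} ⊓ C{s} ≤ N[PP p t ⊓ PP p s] :=
      norm_inf (inf_le_left.trans n0.norm) (inf_le_right.trans n1.norm)
    have b5 : UU t ≤ N[PP p t ⊓ PP p s] := (H.isProd h1).sup_eq.ge.trans
      (sup_le (norm_of_cent ((H.KK_le_C h1).trans
        (C_anti (inf_le_left.trans (pcore_le_Fitting hp _)))))
        ((inf_le_inf_right _ (UU_nml t).le).trans b4))
    rw [h.N_eq hH hD ⟨inf_le_left.trans n0.le, hgen _ b5 (b4 ⟨h1.s_mem_C, self_mem_C1 s⟩) b1⟩] at b3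
    exact h1.ne (e1 ▸ mem_C1_iff_conj.1 b3)
  have a9 : ∀ {Y}, IsPi {p} Y → Y ≤ ⁅UU t, zpowers v⁆ → Y ≤ PP p t := fun hY e =>
    le_pcore_of_le_Fitting hY (e.trans ((H.comm_eq h2).le.trans (KK_le t v)))
  have a10 : PP p (t * s) ≤ PP p t ⊔ PP p s := fun z hz => by
    obtain ⟨y, hy, rfl⟩ := mem_cj'.1 (a7.ge hz)
    have b1 : IsPi {p} (PP p (t * s) ⊔ PP p s) :=
      (pcore_pi _ _).sup (pcore_pi _ _) (a2.trans n2.norm)
    have b2 := a9 (b1.piElt (mul_mem (mem_sup_right (inv_mem hy)) (mem_sup_left hz))).isPi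
      (zpowers_le.2 (by simpa using mem_comm_zp (t := v) (inv_mem (a4 hy)))) (mem_zpowers _)
    exact (mul_mem_cancel_left (mem_sup_right (inv_mem hy))).1 (mem_sup_left b2)
  have a11 : IsPi {p} (PP p t ⊔ PP p s) := (pcore_pi _ _).sup (pcore_pi _ _) (a1.trans n0.norm)
  have a12 : v ∈ N[PP p t ⊔ PP p s] := mem_N_of_cj_le (by
    rw [cj_sup, a7, cj_of_mem_N hi.norm]; exact sup_le le_sup_left a10)
  have a13 : PP p t ⊔ PP p s ≤ UU t := sup_le (pcore_le _ _) a4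
  refine ⟨a1, a6, a8, le_sup_right.trans ((cent_prod (odd_of_le (odd_pcore _) a13) h2.hs
    a12).sup_eq.ge.trans (sup_le_sup_right (a9 (a11.of_le (comm_le_left (zpowers_le.2 a12)))
      (comm_mono_left a13)) _)), ?_⟩
  have := cj_mono g a10
  rwa [cj_sup, PP_cj, PP_cj, PP_cj, e1, e2, e3] at this

theorem not_mixed (hH : IsCoatom C{t}) (H : HII t) {q : ℕ} (hp : p.Prime) (hq : q.Prime)
    (h1 : Four t s) (h2 : Four t v) (hsv : PiElt {2} (s * v))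
    (hgen : ∀ L, UU t ≤ L → s ∈ L → v ∈ L → C{t} ≤ L)
    (hP : PP p t ≠ ⊥) (hs : PP p t ≤ C{s}) (hv : PP p t ⊓ C{v} = ⊥)
    (hQ : PP q t ≠ ⊥) (hv' : PP q t ≤ C{v}) (hs' : PP q t ⊓ C{s} = ⊥) : False := by
  have hpq : p ≠ q := by
    rintro rfl
    exact hP (by rw [← hv, inf_of_le_left hv'])
  obtain ⟨a1, a2, -, a4, -⟩ := h.mix hH H hp h1 h2 hsv hgen hP hs hv
  obtain ⟨b1, b2, b3, b4, b5⟩ := h.mix hH H hq h2 h1 (by
    have := hsv.inv
    rwa [mul_inv_rev, inv_of h1.hs, inv_of h2.hs] at this)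
    (fun L e1 e2 e3 => hgen L e1 e3 e2) hQ hv' hs'
  have a5 : PP p t ⊔ PP p s ≤ C{t} ⊓ C{s} :=
    sup_le (le_inf (PP_nml p t).le hs) (le_inf a1 (PP_nml p s).le)
  have b6 : PP q t ⊔ PP q v ≤ C{t} ⊓ C{v} :=
    sup_le (le_inf (PP_nml q t).le hv') (le_inf b1 (PP_nml q v).le)
  have n1 : C{t} ⊓ C{s} ≤ N[PP p t ⊔ PP p s] :=
    norm_sup (inf_le_left.trans (PP_nml p t).norm) (inf_le_right.trans (PP_nml p s).norm)
  have n2 : C{t} ⊓ C{v} ≤ N[PP q t ⊔ PP q v] :=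
    norm_sup (inf_le_left.trans (PP_nml q t).norm) (inf_le_right.trans (PP_nml q v).norm)
  set D := (PP p t ⊔ PP p s) ⊓ C{v}
  set D' := (PP q t ⊔ PP q v) ⊓ C{s}
  have d1 : D ≤ C{t} := inf_le_left.trans (a5.trans inf_le_left)
  have c1 : D ≤ C[D'] := by
    rw [← comm_eq_bot, eq_bot_iff, ← inf_eq_bot_of_cop
      (((pcore_pi _ _).sup (pcore_pi _ _) (a1.trans (PP_nml p t).norm)).coprime_of_ne
      ((pcore_pi _ _).sup (pcore_pi _ _) (b1.trans (PP_nml q t).norm)) hpq)]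
    exact le_inf ((comm_mono_left inf_le_left).trans (comm_le_left
      ((le_inf (inf_le_left.trans (b6.trans inf_le_left)) inf_le_right).trans n1)))
      ((comm_mono_right inf_le_left).trans (comm_le_right ((le_inf d1 inf_le_right).trans n2)))
  have c2 : D ≤ C[PP q v] := by
    rw [← comm_eq_bot, eq_bot_iff, ← b3]
    refine le_inf ((comm_mono_right b4).trans ?_)
      (comm_le_right (inf_le_right.trans (PP_nml q v).norm))
    rw [(isProd_sup (A := PP q t) (B := D') (inf_le_left.trans (b6.trans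
      (inf_le_left.trans (PP_nml q t).norm)))).comm_right_of_cent (cents_symm c1)]
    exact comm_le_right (d1.trans (PP_nml q t).norm)
  have c3 : D ≤ C[PP q (t * v)] := by
    have := cent_cj c2 s
    rwa [cj_of_mem_C (mem_C_iff_le_C1.2 (inf_le_left.trans (a5.trans inf_le_right))), PP_cj,
      b2] at this
  have c4 : PP p s ≤ C[PP q t] := a4.trans (sup_le (pcore_cent_pcore_of_ne hpq _)
    ((cents_sup c2 c3).trans (C_anti b5)))
  obtain ⟨g, e1⟩ := h.conj h1.ht h1.hs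
  refine hQ ?_
  rw [← hs', inf_of_le_left ((cents_symm c4).trans (h.C_le (e1 ▸ cj_C1 g t ▸ isCoatom_cj hH g)
    (by rwa [← e1, ← PP_cj, Ne, cj_eq_bot]) (PP_nml p s)))]

theorem KK_ne_bot (hH : IsCoatom C{t}) (hU : UU t ≠ ⊥) (H : HII t) (hf : Four t s) : KK t s ≠ ⊥ :=
  fun e => h.not_U_le hH hU hf (comm_zp_eq_bot.1 ((H.comm_eq hf).trans e))

theorem not_KK_lt (hH : IsCoatom C{t}) (hU : UU t ≠ ⊥) (H : HII t) (h1 : Four t s) (h2 : Four t v)
    (hc : ∀ w, Four t w → w ∈ cl C{t} s ∨ w ∈ cl C{t} v) : ¬ KK t s < KK t v := fun hlt => by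
  obtain ⟨S, hS⟩ := Sylow_exists Nat.prime_two C{t}
  have k1 := H.card h.cd h1 hS
  have k2 := H.card h.cd h2 hS
  have k3 := card_mul_relIndex hlt.le
  have hu := odd_relIndex (KK_odd t v) (KK t s)
  have hu3 : 3 ≤ (KK t s).relIndex (KK t v) := by
    have := mt relIndex_eq_one.1 hlt.not_ge
    obtain ⟨k, hk⟩ := hu
    omega
  have h3 := h.ratio h1.ht ((four_iff h1.ht).1 h1).1 ((four_iff h1.ht).1 h2).1 h1.ne h2.ne hu hu3
    (by rw [← k3] at k2; nlinarith)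
  obtain ⟨r, hr, hd⟩ := exists_prime_dvd_card (h.KK_ne_bot hH hU H h1)
  have hr4 : r.Coprime 4 := (Nat.coprime_two_right.2 (Odd.of_dvd_nat (KK_odd t s) hd)).pow_right 2
  have h4 : r ∣ (C{s}).relIndex C{t} := hr4.dvd_of_dvd_mul_left (k1 ▸ hd.mul_right _)
  have h5 := ((Fitting_nil _).of_le (KK_le t s)).pcore_ne_bot (π := {r}) hr rfl hd
  refine h.not_dvd_index' hH hr (pcore_pi _ _) h5 ((KK_nml t s).pcore _) h1.ht (fun w hw e => h5
    (((KK_inv hw).of_le ((pcore_le _ _).trans ?_)).eq_bot (odd_of_le (KK_odd t s) (pcore_le _ _)) e))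
    (hr4.dvd_of_dvd_mul_left ?_)
  · rcases hc w hw with e | e
    exacts [(KK_cl e).ge, hlt.le.trans (KK_cl e).ge]
  · rcases h3 with ⟨-, e⟩ | ⟨-, e⟩ <;> exact e ▸ (dvd_pow h4 two_ne_zero).mul_left _

omit h in
theorem exists_mixed (H : HII t) (h1 : Four t s) (h2 : ¬ KK t v ≤ KK t s) :
    ∃ p, p.Prime ∧ PP p t ≠ ⊥ ∧ PP p t ≤ C{s} ∧ PP p t ⊓ C{v} = ⊥ := by
  by_contra! hh
  refine h2 (((Fitting_nil _).of_le (KK_le t v)).le_of_pcore_le fun p hp hd => ?_)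
  have h3 : O[{p}, KK t v] ≤ PP p t := le_pcore_of_le_Fitting (pcore_pi _ _)
    ((pcore_le _ _).trans (KK_le t v))
  exact h3.trans (PP_le_KK hp ((H p hp s h1).resolve_right fun e => hh p hp (ne_bot_of_le
    (((Fitting_nil _).of_le (KK_le t v)).pcore_ne_bot (π := {p}) hp rfl hd) h3) e ((pcore_pi _ _).mem hp hd)))

theorem caseBII (ht : orderOf t = 2) (hU : O[{2}ᶜ, C{t}] ≠ ⊥) (hH : IsCoatom C{t}) (H : HII t) :
    ∃ S K : Subgroup G, Delta t S K ∧ K ≠ ⊥ := by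
  obtain ⟨S, hS⟩ := Sylow_exists Nat.prime_two C{t}
  obtain ⟨a, x, hD, -, hta⟩ := h.ddata ht hS
  have hxa := mul_mem hD.x_mem hD.a_mem
  have h1 := four_of_ddata hS.le hD ht hta hD.x_mem hD.nmem
  have h2 := four_of_ddata hS.le hD ht hta hxa (xa_nmem hD)
  have hc := fun w (hw : Four t w) => two_classes' hS hD hta hw
  have e : KK t (x * a) = KK t x := by
    by_cases c1 : KK t (x * a) ≤ KK t x
    · exact c1.eq_or_lt.resolve_right (h.not_KK_lt hH hU H h2 h1 fun w hw => (hc w hw).symm)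
    by_cases c2 : KK t x ≤ KK t (x * a)
    · exact (c2.eq_or_lt.resolve_right (h.not_KK_lt hH hU H h1 h2 hc)).symm
    obtain ⟨p, hp, a1, a2, a3⟩ := exists_mixed H h1 c1
    obtain ⟨q, hq, b1, b2, b3⟩ := exists_mixed H h2 c2
    exact (h.not_mixed hH H hp hq h1 h2 (hS.pi.piElt (mul_mem hD.x_mem hxa)) (fun L e1 e2 e3 =>
      (h.cd.sd_C ht hS).sup.ge.trans (sup_le e1 (ddata_le hD ((mul_mem_cancel_left e2).1 e3) e2)))
      a1 a2 a3 b1 b2 b3).elim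
  refine ⟨S, KK t x, ⟨hS, KK_nml t x, (KK_inv h1).abl, KK_odd t x, fun s h3 h4 h5 => ?_, ?_⟩,
    h.KK_ne_bot hH hU H h1⟩
  · have h6 := KK_inv ⟨ht, h3, h5, h4⟩
    rcases hc s ⟨ht, h3, h5, h4⟩ with e' | e'
    · exact KK_cl e' ▸ h6
    · exact e ▸ KK_cl e' ▸ h6
  · have h3 : a ∈ C[UU t] := by
      refine zpowers_le.1 (cent_U_of_F (hS.pi.piElt hD.a_mem).isPi (zpowers_le.2 (hS.le hD.a_mem))
        (zpowers_le.2 (mem_C_iff_le_C1.2 (Fitting_le_of_pcore_le fun q hq _ => ?_))))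
      have h4 : x * (x * a) = a := by rw [← mul_assoc, hD.sq, one_mul]
      rcases H q hq x h1 with e1 | e1
      · exact mem_C_iff_le_C1.1 (h4 ▸ ((KK_inv h1).of_le (PP_le_KK hq e1)).mul_mem_C
          ((KK_inv h2).of_le ((PP_le_KK hq e1).trans e.ge)))
      · rcases H q hq _ h2 with e2 | e2
        · exact (((KK_inv h1).of_le ((PP_le_KK hq e2).trans e.le)).eq_bot (PP_odd q t) e1).le.trans
            bot_le
        · exact fun y hy => h4 ▸ Four.C_mul (e1 hy) (e2 hy)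
    refine le_antisymm ((H.isProd h1).sup_eq.ge.trans (sup_le_sup_left (le_inf inf_le_left
      (cents_symm (ddata_le hD (C_anti inf_le_left h3) (mem_C_iff_le_C1.2 inf_le_right)))) _))
      (sup_le ((KK_le t x).trans (Fitting_le _)) inf_le_left)

end MC

end H13.Dih
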