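import Mathlib
import Cfsg.Agent.H13.DihAC
import Cfsg.Agent.H13.DihBII

/-! Case (BI): the component centralising `C_P(s)`. -/

set_option autoImplicit false
set_option linter.unusedSectionVars false

namespace H13.Dih

open H24 H26 Cfsg Subgroup

universe u

variable {G : Type u} [Group G] [Finite G] {E F L R X Y : Subgroup G} {t s v w y : G} {p q : ℕ}

theorem cent_of_cent_norm (hF : Nil F) (hR : R ≤ N[F]) (hc : (♯F).Coprime ♯R) (hX : X ≤ F)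
    (h : F ⊓ N[X] ≤ C[R]) : R ≤ C[F] :=
  coprime_nil_faithful_cent_stab hR hc hF (le_inf inf_le_left ((inf_le_inf_left _ ((C_anti
    (le_inf hX ((le_inf hX (norm_self X)).trans h))).trans (C_le_N X))).trans h))

theorem cent_O_of (ht : orderOf t = 2) (htL : t ∈ L)
    (H : ∀ q, q.Prime → q ≠ 2 → O[{q}, L] ≤ C{t}) : t ∈ C[O[{2}ᶜ, L]] := by
  have hK := pcore_nml {2}ᶜ L
  refine coprime_cent_Fitting (zpowers_le.2 (hK.norm htL)) (cop_zp (odd_pcore L) ht)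
    (sol_of_odd (odd_pcore L)) ⟨mem_zpowers t, mem_C_iff_le_C1.2 (Fitting_le_of_pcore_le
      fun q hq hd => (hK.pcore_le _).trans (H q hq ?_))⟩
  rintro rfl
  exact (isPi_compl_iff hq).1 ((pcore_pi _ _).of_le (Fitting_le _)) hd

theorem exists_inv (hX : Odd ♯X) (ht : t * t = 1) (hN : t ∈ N[X]) (h : ¬ X ≤ C{t}) :
    ∃ z ∈ X, z ≠ 1 ∧ t * z * t⁻¹ = z⁻¹ := by
  by_contra! hh
  refine h fun y hy => ?_
  obtain ⟨c, hc, z, hz, e, rfl⟩ := decomp hX ht hN hy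
  by_cases h1 : z = 1
  · rw [h1, mul_one]; exact hc.2
  · exact absurd e (hh z hz h1)

theorem ne_one_C (ho : Odd (orderOf y)) (h1 : y ≠ 1) (hi : t * y * t⁻¹ = y⁻¹) : y ∉ C{t} := fun e =>
  h1 ((inv_zpowers hi).eq_one (mem_zpowers y) ho e)

theorem PP_eq (hq2 : q ≠ 2) (v : G) : PP q v = O[{q}, C{v}] :=
  pcore_pcore_of_subset _ (singleton_subset_compl hq2)

theorem PP_le_F (hq : q.Prime) (v : G) : PP q v ≤ F[UU v] := pcore_le_Fitting hq _

theorem le_PP (hX : IsPi {q} X) (h : X ≤ F[UU v]) : X ≤ PP q v := le_pcore_of_le_Fitting hX h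

theorem FU_cj (g v : G) : cj g F[UU v] = F[UU (g * v * g⁻¹)] := by rw [← Fitting_cj, UU_cj]

theorem CV_le_N (t s : G) (hR : R ⊴ C{t}) : C{t} ⊓ C{s} ≤ N[R ⊓ C{s}] :=
  norm_inf (inf_le_left.trans hR.norm) (norm_of_le inf_le_right)

namespace KL2

variable {m m' : ℕ} {T : G → Subgroup G} (K : KL2 E m m' T)
include K

theorem le_of_perfect (hE : QS E) (hY : Y ≤ N[E]) (h : ⁅Y, Y⁆ = Y) : Y ≤ E := by
  rw [← quo_eq_bot hY]
  refine eq_bot_of_perfect (by rw [← quo_comm hY hY, h]) (((sol_of_odd hE.oddC).quo _).of_le ?_)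
  rw [← quo_sup_left (C_le_N E)]
  exact quo_mono _ (h.ge.trans ((der1_mono hY).trans K.comm))

theorem norm_T (hw : w ∈ N[E]) (h2 : orderOf w = 2) : N[E] ⊓ C{w} ≤ N[T w] := fun g hg =>
  mem_N_iff_cj.2 (by rw [← K.T_cj g hg.1 w hw h2, mem_C1_iff_conj.1 hg.2])

theorem dvd_of_not_mem (hw : w ∈ N[E]) (h2 : orderOf w = 2) (hp : p.Prime) (hy : y ∈ T w ⊔ C[E])
    (hyp : PiElt {p} y) (hn : y ∉ C[E]) : p ∣ ♯(T w) := by
  by_contra h
  exact hn (K.mem_C_of_coprime hw h2 hy (PiNat.coprime hyp ((isPi_compl_iff hp).2 h)))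

theorem F_le (ht : t ∈ E) (h2 : orderOf t = 2) : F[UU t] ⊓ N[E] ≤ T t ⊔ C[E] := by
  have htN := norm_self E ht
  refine ((Fitting_nil _).of_le inf_le_left).le_of_pcore_le fun r hr hd x hx => ?_
  have hx' := pcore_le _ _ hx
  have hxt := (FU_nml t).le hx'.1
  refine K.k5 t ht h2 r hr ?_ x hx'.2 ((pcore_pi _ _).piElt hx) (mem_C1.1 hxt) fun y hy hn => ?_
  · rintro rfl
    exact (isPi_compl_iff hr).1 (isPi_odd.2 (odd_of_le (FU_odd t) inf_le_left)) hd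
  · have h3 := (K.T_cyc t htN h2).nil.mem_pcore ((piNat_compl_singleton hr).2 hn) hy
    have h4 : x ∈ PP r t := le_PP (pcore_pi _ _) ((pcore_le _ _).trans inf_le_left) hx
    rw [← commutatorElement_eq_one_iff_mul_comm, ← mem_bot,
      ← pcore_inf_pcore_compl {r} (UU t) (T t)]
    exact ⟨comm_le_left (zpowers_le.2 ((PP_nml r t).norm (K.T_le_C htN h2 hy)))
      (commutator_mem_commutator h4 (mem_zpowers y)), comm_le_right
      (zpowers_le.2 (N_le_N_pcore _ _ (K.norm_T htN h2 ⟨hx'.2, hxt⟩)))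
      (commutator_mem_commutator (mem_zpowers x) h3)⟩

theorem mem_C_of_cent (ht : t ∈ E) (hs : s ∈ E) (hf : Four t s) (hy : y ∈ T t ⊔ C[E])
    (ho : Odd (orderOf y)) (hc : y ∈ C{s}) : y ∈ C[E] := by
  have htN := norm_self E ht
  obtain ⟨a, ha, c, hc', rfl⟩ := (K.mem_sup htN hf.ht).1 hy
  have h1 := K.inv' hf htN (norm_self E hs) a ha
  rw [mem_C1_iff_conj.1 (mem_C1_comm.1 ((mul_mem_cancel_right (C_le_C1 hs hc')).1 hc))] at h1
  refine zpowers_le.2 (?_ : a * c * (a * c) ∈ _) (mem_zpowers_sq ho)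
  rw [mul_assoc, ← mul_assoc c, comm_of_cent (K.cents htN hf.ht) hc' ha, mul_assoc, ← mul_assoc]
  nth_rewrite 1 [h1]
  rw [inv_mul_cancel, one_mul]
  exact mul_mem hc' hc'

end KL2

/-- the configuration of case (BI) -/
structure BI (t s : G) (E : Subgroup G) (m m' : ℕ) (T : G → Subgroup G) : Prop where
  hf : Four t s
  qs : QS E
  kl : KL2 E m m' T
  tE : t ∈ E
  sE : s ∈ E
  prim : ∀ r, r.Prime → r ∣ ♯F[UU t] → r ∣ m
  Y_le : F[UU t] ⊓ C{s} ≤ C[E]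
  norm : ∀ X ≤ F[UU t] ⊓ C{s}, X ≠ ⊥ → N[X] ≤ N[E]

namespace MC

variable (h : MC G) (hH : IsCoatom C{t})
include h hH

theorem C_zq_le {π : Set ℕ} (hq : ¬ IsPi πᶜ F[UU t]) : C[O[π, Z[F[UU t]]]] ≤ C{t} :=
  h.C_le hH (zp_ne_bot (Fitting_nil _) hq) ((FU_nml t).center.pcore _)

theorem bi_cent (ht : orderOf t = 2) (hX : X ≤ F[UU t]) (hq : q ∈ primesOf F[UU t]) :
    O[{q}, N[X]] ≤ C{t} := by
  have hn := (pcore_nml {q} N[X]).norm
  have hq2 : q ≠ 2 := by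
    rintro rfl
    exact not_isPi_compl hq (isPi_odd.2 (FU_odd t))
  refine mem_C_iff_le_C1.1 (zpowers_le.1 (Thompson_PxQ hq.1 (pcore_pi {q} Z[F[UU t]])
    ((isPi_zp ht).compl_of_ne hq2.symm) (pcore_pi _ _) ?_ ?_ ?_ ?_))
  · rw [C_zpowers]; exact ((FU_nml t).center.pcore _).le
  · exact ((pcore_le _ _).trans (inf_le_right.trans ((C_anti hX).trans (C_le_N X)))).trans hn
  · exact zpowers_le.2 (hn (C_le_N X (mem_C_iff_le_C1.2 (hX.trans (FU_nml t).le))))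
  · rw [C_zpowers]; exact inf_le_right.trans (h.C_zq_le hH (not_isPi_compl hq))

omit h hH in
theorem bi_inv (ht : orderOf t = 2) (hX : X ≤ F[UU t]) (hq : q.Prime) (hq2 : q ≠ 2)
    (hn : q ∉ primesOf F[UU t]) (hG : CD G) : Inv t O[{q}, N[X]] := by
  have hF : IsPi {q}ᶜ F[UU t] := (isPi_compl_iff hq).2 fun e => hn ⟨hq, e⟩
  have hQ := pcore_nml {q} N[X]
  have hQo := odd_of_pi hq2 (pcore_pi {q} N[X])
  have hi := hF.inf_eq_bot' (pcore_pi {q} N[X])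
  refine inv_of_inf_C hQo (sq_of ht)
    (hQ.norm (C_le_N X (mem_C_iff_le_C1.2 (hX.trans (FU_nml t).le)))) ?_
  have h1 : O[{q}, N[X]] ⊓ C{t} ≤ N[F[UU t]] := inf_le_right.trans (FU_nml t).norm
  have h2 := cent_of_cent_norm (Fitting_nil _) h1 (hF.coprime' ((pcore_pi _ _).inf_left _)) hX (by
    rw [← comm_eq_bot, eq_bot_iff, ← hi]
    exact le_inf ((comm_mono_left inf_le_left).trans (comm_le_left h1))
      ((comm_mono_right inf_le_left).trans (comm_le_right (inf_le_right.trans hQ.norm))))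
  rw [eq_bot_iff, ← hi]
  exact le_inf (le_FU (hG.le_U ht (odd_of_le hQo inf_le_left) inf_le_right) h2) inf_le_left

theorem bi_kl (ht : orderOf t = 2) (hU : UU t ≠ ⊥) (hE : QS E) (hgw : GW E) (htN : t ∈ N[E])
    (hX : X ≤ F[UU t]) (hXE : N[X] ≤ N[E]) : ∃ m m' T, KL2 E m m' T := by
  rcases hgw with h2 | h2
  · exact exists_kl2 h.cd hE h2
  · have K := ka7_of h.cd hE h2
    obtain ⟨v, hv, h3, h4, h5, H⟩ := K.four t (K.inner t htN ht) ht
    have hf : Four t v := ⟨ht, h3, h4, h5⟩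
    refine absurd (mem_C_iff_le_C1.1 (zpowers_le.1 (cent_of_cent_norm (Fitting_nil _)
      (zpowers_le.2 ((FU_nml t).norm hf.s_mem_C)) (cop_zp (FU_odd t) h3) hX ?_)))
      (h.not_F_le hH hU hf)
    rw [C_zpowers]
    exact fun y hy => mem_C1.2 (H y (hXE hy.2) (odd_orderOf (FU_odd t) hy.1)
      (Or.inl (mem_C1.1 ((FU_nml t).le hy.1)))).2

theorem bi_norm {m m' : ℕ} {T : G → Subgroup G} (hf : Four t s) (hE : QS E) (K : KL2 E m m' T)
    (htE : t ∈ E) (hsE : s ∈ E) (hY : F[UU t] ⊓ C{s} ≤ C[E]) (hN : N[F[UU t] ⊓ C{s}] ≤ N[E])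
    (X : Subgroup G) : X ≤ F[UU t] ⊓ C{s} → X ≠ ⊥ → N[X] ≤ N[E] := by
  induction X using subgroup_ind_up with | h X ih => ?_
  intro hX hX1
  rcases hX.eq_or_lt with rfl | hlt
  · exact hN
  have hXF := hX.trans inf_le_left
  have hU : UU t ≠ ⊥ := ne_bot_of_le hX1 (hXF.trans (Fitting_le _))
  have hL := h.N_ne_top_odd hX1 (odd_of_le (FU_odd t) hXF)
  have hEL : E ≤ N[X] := norm_of_cent (cents_symm (hX.trans hY))
  have hs : ¬ Sol N[X] := fun e => hE.not_sol (e.of_le hEL)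
  obtain ⟨h1, hE'⟩ := h.comp hL hs hf.ht (hEL htE) (cent_O_of hf.ht (hEL htE) fun q hq hq2 => by
    by_cases hn : q ∈ primesOf F[UU t]
    · exact h.bi_cent hH hf.ht hXF hn
    · have i := bi_inv hf.ht hXF hq hq2 hn h.cd
      have key : ∀ v ∈ E, orderOf v = 2 → Inv v O[{q}, N[X]] := fun v hv h2 => by
        obtain ⟨e, he, rfl⟩ := hE.conj t htE v hv hf.ht h2
        exact i.conj ((pcore_nml _ _).norm (hEL he))
      have := (key s hsE hf.hs).mul_mem_C (key _ (mul_mem htE hsE) hf.hts)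
      rwa [hf.s_ts, mem_C_iff_le_C1] at this)
  have hEE := le_res hEL hE.perfect
  have hn := (res_nml N[X]).norm
  obtain ⟨m1, m1', T1, K1⟩ := h.bi_kl hH hf.ht hU hE' (h.gw hL hs) (norm_self _ (hEE htE)) hXF hn
  have h2 := ((Fitting_nil _).of_le inf_le_left).proper_norm hlt
  have h3 : F[UU t] ⊓ C{s} ⊓ N[X] ≤ C[res N[X]] := fun y hy =>
    K1.mem_C_of_cent (hEE htE) (hEE hsE) hf (K1.F_le (hEE htE) hf.ht ⟨hy.1.1, hn hy.2⟩)
      (odd_orderOf (FU_odd t) hy.1.1) hy.1.2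
  rwa [← le_antisymm (K.le_of_perfect hE ((norm_of_cent (cents_symm h3)).trans
    (ih _ h2 inf_le_left (ne_bot_of_gt h2))) hE'.perfect) hEE]

omit hH in
theorem bi_elt (hp : p.Prime) (hf : Four t s) (h2 : ¬ PP p t ≤ C{s}) :
    ∃ y ∈ PP p s ⊓ C[PP p t ⊓ C{s}], y ≠ 1 ∧ t * y * t⁻¹ = y⁻¹ := by
  have hp2 : p ≠ 2 := by
    rintro rfl
    exact h2 (((pcore_pi _ _).eq_bot ((pcore_pi _ _).of_le (pcore_le _ _))).le.trans bot_le)
  have htX : t ∈ C[PP p t ⊓ C{s}] := mem_C_iff_le_C1.2 (inf_le_left.trans (PP_nml p t).le)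
  have hts := (PP_nml p s).norm hf.t_mem_C
  refine exists_inv (odd_of_le (PP_odd p s) inf_le_left) (sq_of hf.ht) (zpowers_le.1
    (norm_inf (zpowers_le.2 hts) (norm_C (zpowers_le.2 (C_le_N _ htX))))) fun e => h2 ?_
  have h3 := Thompson_PxQ hp ((pcore_pi {p} (UU t)).inf_left C{s})
    ((isPi_zp hf.ht).compl_of_ne hp2.symm) (pcore_pi {p} (UU s)) (cents_symm (zpowers_le.2 htX))
    (inf_le_right.trans (PP_nml p s).norm) (zpowers_le.2 hts) (by rwa [C_zpowers])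
  obtain ⟨g, e1, e2⟩ := h.fuse hf.symm
  have := cj_mono g (mem_C_iff_le_C1.1 (zpowers_le.1 h3))
  rw [PP_cj, cj_C1, e1, e2, hf.comm] at this
  exact fun y hy => hf.C_of_ts ((PP_nml p t).le hy) (this hy)

theorem bi_comp (hp : p.Prime) (hf : Four t s) (h1 : PP p t ⊓ C{s} ≠ ⊥) (h2 : ¬ PP p t ≤ C{s}) :
    ¬ Sol N[PP p t ⊓ C{s}] ∧ t ∈ C[O[{2}ᶜ, N[PP p t ⊓ C{s}]]] := by
  set X := PP p t ⊓ C{s} with hX
  have hXF : X ≤ F[UU t] := inf_le_left.trans (PP_le_F hp t)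
  have hCV : C{t} ⊓ C{s} ≤ N[X] := CV_le_N t s (PP_nml p t)
  have hV : V4 t s ≤ N[X] := (le_inf hf.V_le_C hf.V_le_C').trans hCV
  have hc : t ∈ C[O[{2}ᶜ, N[X]]] := cent_O_of hf.ht (hV Four.t_mem) fun q hq hq2 => by
    by_cases hn : q ∈ primesOf F[UU t]
    · exact h.bi_cent hH hf.ht hXF hn
    have i := bi_inv hf.ht hXF hq hq2 hn h.cd
    have hQ := pcore_nml {q} N[X]
    have hQo := odd_of_pi hq2 (pcore_pi {q} N[X])
    have key : ∀ {v}, Four t v → C{t} ⊓ C{v} ≤ N[X] → O[{q}, N[X]] ⊓ C{v} ≤ C{t} := by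
      intro v hv e
      have h3 := h.lemB (h.C1_ne_top (ne_one_of hv.hs)) hf.ht hv.t_mem_C hq hq2
        ((pcore_pi {q} N[X]).inf_left _) inf_le_right
        ((i.of_le inf_le_left).comm_eq (odd_of_le hQo inf_le_left)).ge
        (norm_inf (((inf_comm _ _).le.trans e).trans hQ.norm) (norm_of_le inf_le_left))
      obtain ⟨g, rfl⟩ := h.conj hf.ht hv.hs
      rw [← PP_eq hq2, ← PP_cj] at h3
      refine h3.trans (le_trans (Eq.le ?_) bot_le)
      rw [cj_eq_bot]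
      by_contra e'
      exact hn ⟨hq, (pcore_ne_bot_iff_dvd_Fitting hq).1 e'⟩
    exact hf.gen hQo (hV.trans hQ.norm) inf_le_right (key hf hCV)
      (key hf.mul fun y hy => hCV ⟨hy.1, hf.C_of_ts hy.1 hy.2⟩)
  refine ⟨fun hs => ?_, hc⟩
  obtain ⟨y, hy, hy1, hi⟩ := h.bi_elt hp hf h2
  have hyo := odd_orderOf (PP_odd p s) hy.1
  have hyL := C_le_N _ hy.2
  have hys := (PP_nml p s).le hy.1
  have hQ := pcore_nml {2} N[X]
  have a1 : y ∈ C[O[{2}, N[X]]] := C_anti le_sup_left (h.cd.odd_cent ((pcore_pi _ _).sup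
    (isPi_zp hf.hs) (zpowers_le.2 (hQ.norm (hV Four.s_mem)))) (zpowers_le.1 (norm_sup
    (zpowers_le.2 (hQ.norm hyL)) (norm_zpowers_of_cent (zpowers_le.2 hys)))) hyo
    (mem_sup_right (mem_zpowers s)) (ne_one_of hf.hs) hys)
  have a2 : y ∈ C[O[{2}ᶜ, N[X]]] := ((comm_mono_right (zpowers_le.2 hc)).trans
    (comm_le_right (norm_C (pcore_nml _ _).norm))) (mem_comm_of_inv hyL hyo hi)
  have a3 : y ∈ F[N[X]] := cent_sub_Fitting hs ⟨hyL, by
    rw [(Fitting_nil _).C_eq {2}]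
    exact ⟨C_anti (pcore_Fitting_le _ _) a1, C_anti (pcore_Fitting_le _ _) a2⟩⟩
  exact ne_one_C hyo hy1 hi (mem_C_iff_le_C1.1 hc
    (le_pcore_of_le_Fitting (piElt_odd.2 hyo).isPi (zpowers_le.2 a3) (mem_zpowers y)))

theorem exists_bi (hp : p.Prime) (hf : Four t s) (h1 : PP p t ⊓ C{s} ≠ ⊥) (h2 : ¬ PP p t ≤ C{s}) :
    ∃ E m m' T, BI t s E m m' T := by
  obtain ⟨hs, hc⟩ := h.bi_comp hH hp hf h1 h2
  have e0 : PP p t ⊓ C{t * s} = PP p t ⊓ C{s} := le_antisymm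
    (fun y hy => ⟨hy.1, hf.C_of_ts ((PP_nml p t).le hy.1) hy.2⟩)
    fun y hy => ⟨hy.1, Four.C_mul ((PP_nml p t).le hy.1) hy.2⟩
  have helt : ∀ {v}, Four t v → PP p t ⊓ C{v} = PP p t ⊓ C{s} →
      ∃ y ∈ PP p v ⊓ C[PP p t ⊓ C{s}], y ≠ 1 ∧ t * y * t⁻¹ = y⁻¹ := fun hv e =>
    e ▸ h.bi_elt hp hv fun e' => h2 (by rw [← inf_eq_left] at e' ⊢; rw [← e, e'])
  set X := PP p t ⊓ C{s} with hX
  have hXF : X ≤ F[UU t] := inf_le_left.trans (PP_le_F hp t)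
  have hU : UU t ≠ ⊥ := ne_bot_of_le h1 (hXF.trans (Fitting_le _))
  have hV : V4 t s ≤ N[X] := (le_inf hf.V_le_C hf.V_le_C').trans (CV_le_N t s (PP_nml p t))
  have hL := h.N_ne_top_odd h1 (odd_of_le (FU_odd t) hXF)
  obtain ⟨h3, hE⟩ := h.comp hL hs hf.ht (hV Four.t_mem) hc
  have hn := (res_nml N[X]).norm
  have hEL := res_le N[X]
  have htN := hn (hV Four.t_mem)
  obtain ⟨m, m', T, K⟩ := h.bi_kl hH hf.ht hU hE (h.gw hL hs) htN hXF hn
  have h4 : N[X] ⊓ C[res N[X]] ≤ C{t} :=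
    (le_O (odd_of_le hE.oddC inf_le_right) (res_nml _).infC).trans (mem_C_iff_le_C1.1 hc)
  generalize res N[X] = E at hE hn hEL htN K h4
  have hco := K.coprime
  have htE : t ∈ E := by
    by_contra htE
    have key : ∀ {v}, Four t v → PP p t ⊓ C{v} = X → v ∈ E → False := by
      intro v hv e hvE
      obtain ⟨y, hy, hy1, hi⟩ := helt hv e
      have hyo := odd_orderOf (PP_odd p v) hy.1
      have hyL := C_le_N _ hy.2
      have a1 := K.dvd_of_not_mem (norm_self E hvE) hv.hs hp (K.mem_TC_of_inv hvE hv.hs htN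
        (hn hyL) ((PP_nml p v).le hy.1) hyo hi) ((pcore_pi _ _).piElt hy.1)
        fun e' => ne_one_C hyo hy1 hi (h4 ⟨hyL, e'⟩)
      have a2 := ((pcore_pi {p} (UU t)).nil hp).proper_norm (K := X)
        (inf_le_left.lt_of_ne fun e' => h2 (e'.ge.trans inf_le_right))
      have hvX : v ∈ N[X] := e ▸ C_le_N _ (mem_C_iff_le_C1.2 inf_le_right)
      obtain ⟨z, hz, hz1, hj⟩ := exists_inv (odd_of_le (PP_odd p t) inf_le_left) (sq_of hv.hs)
        (zpowers_le.1 (norm_inf (zpowers_le.2 ((PP_nml p t).norm hv.s_mem_C))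
        (norm_N (zpowers_le.2 hvX)))) fun e' => a2.not_ge ((le_inf inf_le_left e').trans e.le)
      have hzo := odd_orderOf (PP_odd p t) hz.1
      have a3 : z ∈ E := ((comm_mono_right (zpowers_le.2 hvE)).trans (comm_le_right le_rfl))
        (mem_comm_of_inv (hn hz.2) hzo hj)
      have a4 := K.dvd_of_not_mem htN hf.ht hp (K.odd_mem htN hf.ht ⟨a3, (PP_nml p t).le hz.1⟩ hzo)
        ((pcore_pi _ _).piElt hz.1) fun e' => ne_one_C hzo hz1 hj (C_le_C1 hvE e')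
      rw [K.card_in v hvE hv.hs] at a1
      rw [K.card_out t htN htE hf.ht] at a4
      exact hp.one_lt.ne' (Nat.eq_one_of_dvd_coprimes hco a1 a4)
    obtain ⟨S, hS, hVS⟩ := Sylow_superset Nat.prime_two hf.V_pi (hV.trans hn)
    obtain ⟨a, ha, ha2⟩ := hE.exInv
    obtain ⟨z, hz, hz2⟩ := exists_cent hS (nml_N E) ha ha2
    rcases hf.mem_V.1 (h.cd.le_V hf (isPi_zp hz2) (zpowers_le.2 (C_anti hVS hz.2))
      (mem_zpowers z)) with rfl | rfl | rfl | rfl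
    exacts [ne_one_of hz2 rfl, htE hz.1.2, key hf rfl hz.1.2, key hf.mul e0 hz.1.2]
  have hF := K.F_le htE hf.ht
  have prim : ∀ r, r.Prime → r ∣ ♯F[UU t] → r ∣ m := fun r hr hd => by
    by_contra hm
    refine hE.not_sol ((h.cd.sol_C hf.ht).of_le ((cents_symm fun x hx => ?_).trans
      (h.C_zq_le hH (not_isPi_compl ⟨hr, hd⟩))))
    by_contra hx'
    have a1 := pcore_le _ _ hx
    exact hm (K.card_in t htE hf.ht ▸ K.dvd_of_not_mem htN hf.ht hr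
      (hF ⟨a1.1, hn (C_le_N X (C_anti hXF a1.2))⟩) ((pcore_pi _ _).piElt hx) hx')
  have hsN := hn (hV Four.s_mem)
  have hsE : s ∈ E := by
    by_contra hsE
    obtain ⟨y, hy, hy1, hi⟩ := helt hf rfl
    have hyo := odd_orderOf (PP_odd p s) hy.1
    have a3 : y ∈ E := ((comm_mono_right (zpowers_le.2 htE)).trans (comm_le_right le_rfl))
      (mem_comm_of_inv (hn (C_le_N _ hy.2)) hyo hi)
    have a4 := K.dvd_of_not_mem hsN hf.hs hp (K.odd_mem hsN hf.hs ⟨a3, (PP_nml p s).le hy.1⟩ hyo)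
      ((pcore_pi _ _).piElt hy.1) fun e' => ne_one_C hyo hy1 hi (C_le_C1 htE e')
    rw [K.card_out s hsN hsE hf.hs] at a4
    exact hp.one_lt.ne' (Nat.eq_one_of_dvd_coprimes hco (prim p hp
      ((pcore_ne_bot_iff_dvd_Fitting hp).1 (ne_bot_of_le h1 inf_le_left))) a4)
  have hYn : Nil (F[UU t] ⊓ C{s}) := (Fitting_nil _).of_le inf_le_left
  have hYX : O[{p}, F[UU t] ⊓ C{s}] = X := by
    rw [(Fitting_nil _).pcore_eq_inf _ inf_le_left, p_core_Fitting hp, ← inf_assoc,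
      inf_of_le_left (PP_le_F hp t)]
  have hNY : N[F[UU t] ⊓ C{s}] ≤ N[E] := (hYX ▸ N_le_N_pcore {p} _).trans hn
  have hY : F[UU t] ⊓ C{s} ≤ C[E] := fun y hy => K.mem_C_of_cent htE hsE hf
    (hF ⟨hy.1, hNY (norm_self _ hy)⟩) (odd_orderOf (FU_odd t) hy.1) hy.2
  exact ⟨E, m, m', T, hf, hE, K, htE, hsE, prim, hY, h.bi_norm hH hf hE K htE hsE hY hNY⟩

end MC

end H13.Dih
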