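import Mathlib
import Cfsg.Agent.H13.DihBI1

/-! Case (BI): the structure of `F(U) ∩ N(E)`. -/

set_option autoImplicit false
set_option linter.unusedSectionVars false

namespace H13.Dih

open H24 H26 Cfsg Subgroup

universe u

variable {G : Type u} [Group G] [Finite G] {E R S X : Subgroup G} {t s a b g v w y : G}
  {m m' n p : ℕ} {T : G → Subgroup G}

/-- `C_{F(U)}(s)` -/
abbrev YY (t s : G) : Subgroup G := F[UU t] ⊓ C{s}

structure BJ (t s : G) (E : Subgroup G) (m m' : ℕ) (T : G → Subgroup G) : Prop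
    extends BI t s E m m' T where
  mc : MC G
  co : IsCoatom C{t}
  ne : YY t s ≠ ⊥

namespace BJ

variable (B : BJ t s E m m' T)
include B

theorem ht : orderOf t = 2 := B.hf.ht

theorem tN : t ∈ N[E] := norm_self E B.tE

theorem sN : s ∈ N[E] := norm_self E B.sE

theorem U_ne : UU t ≠ ⊥ := ne_bot_of_le B.ne (inf_le_left.trans (Fitting_le _))

theorem NY_le : N[YY t s] ≤ N[E] := B.norm _ le_rfl B.ne

theorem CV_le : C{t} ⊓ C{s} ≤ N[E] := (CV_le_N t s (FU_nml t)).trans B.NY_le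

theorem Y_eq : F[UU t] ⊓ C[E] = YY t s :=
  le_antisymm (inf_le_inf_left _ (C_le_C1 B.sE)) (le_inf inf_le_left B.Y_le)

theorem E_le_CY : E ≤ C[YY t s] := cents_symm B.Y_le

theorem mem_F (hy : y ∈ T t) (ho : Odd (orderOf y)) : y ∈ F[UU t] := by
  have hc := B.kl.T_cyc t B.tN B.ht
  refine (hc.nil.of_le (pcore_le {2}ᶜ (T t))).le_of_pcore_le (fun r hr hd => ?_)
    (hc.nil.mem_pcore (piElt_odd.2 ho) hy)
  have hr2 : r ≠ 2 := by
    rintro rfl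
    exact (isPi_compl_iff hr).1 (pcore_pi _ _) hd
  have h1 : O[{r}, O[{2}ᶜ, T t]] ≤ T t := (pcore_le _ _).trans (pcore_le _ _)
  refine (B.mc.lemB B.co.1 B.hf.hs B.hf.s_mem_C hr hr2 (pcore_pi _ _)
    (h1.trans (B.kl.T_le_C B.tN B.ht)) (((B.kl.inv' B.hf B.tN B.sN).of_le h1).comm_eq
    (odd_of_pi hr2 (pcore_pi _ _))).ge (norm_pcore _ (norm_pcore _
    ((le_inf B.CV_le inf_le_left).trans (B.kl.norm_T B.tN B.ht))))).trans ?_
  rw [← PP_eq hr2]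
  exact PP_le_F hr t

theorem dec (hy : y ∈ F[UU t]) (hN : y ∈ N[E]) :
    ∃ a ∈ T t ⊓ F[UU t], ∃ c ∈ YY t s, y = a * c := by
  obtain ⟨a, ha, c, hc, rfl⟩ := (B.kl.mem_sup B.tN B.ht).1 (B.kl.F_le B.tE B.ht ⟨hy, hN⟩)
  have h1 : PiElt {2}ᶜ (a * c * c⁻¹) := (piElt_odd.2 (odd_orderOf (FU_odd t) hy)).mul
    (piElt_odd.2 (odd_orderOf B.qs.oddC hc)).inv (by
      rw [mul_inv_cancel_right, ← mul_assoc, comm_of_cent (B.kl.cents B.tN B.ht) (inv_mem hc) ha,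
        inv_mul_cancel_right])
  rw [mul_inv_cancel_right] at h1
  have h2 := B.mem_F ha (piElt_odd.1 h1)
  exact ⟨a, ⟨ha, h2⟩, c, B.Y_eq ▸ ⟨(mul_mem_cancel_left h2).1 hy, hc⟩, rfl⟩

theorem F1_le : F[UU t] ⊓ N[E] ≤ T t ⊓ F[UU t] ⊔ YY t s := fun _ hy => by
  obtain ⟨a, ha, c, hc, rfl⟩ := B.dec hy.1 hy.2
  exact mul_mem_sup ha hc

theorem cent_F (hR : R ≤ C{t}) (hc : (♯F[UU t]).Coprime ♯R) (h1 : R ≤ C[T t ⊓ F[UU t]])
    (h2 : R ≤ C[YY t s]) : R ≤ C[F[UU t]] :=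
  cent_of_cent_norm (Fitting_nil _) (hR.trans (FU_nml t).norm) hc (inf_le_left (b := C{s}))
    ((inf_le_inf_left _ B.NY_le).trans (B.F1_le.trans (cents_symm (cents_sup h1 h2))))

theorem two_cent (hy : y ∈ T t ⊔ C[E]) (h2 : PiElt {2} y) : y ∈ C[UU t] := by
  have hE := B.qs.mem_of_two (B.kl.TC_le B.tN B.ht hy) h2
  have hH := zpowers_le.2 (B.kl.TC_le_C B.tE B.ht hy)
  refine zpowers_le.1 (cent_U_of_F h2.isPi hH (B.cent_F hH
    ((isPi_odd.2 (FU_odd t)).coprime' h2.isPi) ?_ (zpowers_le.2 (B.E_le_CY hE))))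
  exact zpowers_le.2 (C_anti inf_le_left
    (sup_le (B.kl.T_cyc t B.tN B.ht).abl.le_C (B.kl.cents B.tN B.ht) hy))

theorem N_ne_top : N[E] ≠ ⊤ := B.mc.N_ne_top B.qs.ne_bot fun e =>
  B.mc.C_ne_top B.ne (top_le_iff.1 (e.ge.trans B.E_le_CY))

theorem not_H_le : ¬ C{t} ≤ N[E] := fun e => by
  rcases e.eq_or_lt with e | e
  · exact B.qs.not_sol ((B.mc.cd.sol_C B.ht).of_le ((norm_self E).trans e.ge))
  · exact B.N_ne_top (B.co.2 _ e)

theorem eq_of_cent (hX : X ≤ YY t s) (h1 : X ≠ ⊥) (hR : ⁅R, R⁆ = R) (hc : X ≤ C[R]) : R ≤ E :=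
  B.kl.le_of_perfect B.qs ((norm_of_cent (cents_symm hc)).trans (B.norm X hX h1)) hR

theorem mem_N (hX : X ≤ YY t s) (h1 : X ≠ ⊥) (hg : X ≤ cj g (YY t s)) : g ∈ N[E] :=
  mem_N_of_cj_le (B.eq_of_cent hX h1 (by rw [← cj_comm, B.qs.perfect])
    (hg.trans (cent_cj B.Y_le g)))

theorem TI (hg : g ∉ N[E]) : YY t s ⊓ cj g (YY t s) = ⊥ := by
  by_contra e
  exact hg (B.mem_N inf_le_left e inf_le_right)

theorem N_le : N[E] ≤ N[YY t s] := fun g hg => by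
  obtain ⟨e, he, h1⟩ := B.qs.conj _ (conj_mem hg B.tE) t B.tE (two_conj B.ht g) B.ht
  have h2 : e * g ∈ C{t} := mem_C1_iff_conj.2 (Eq.trans (by group) h1)
  have h3 : e * g ∈ N[YY t s] := B.Y_eq ▸ zpowers_le.1 (norm_inf
    (zpowers_le.2 ((FU_nml t).norm h2)) (norm_C (zpowers_le.2 (mul_mem (norm_self E he) hg))))
  exact (mul_mem_cancel_left (C_le_N _ (B.E_le_CY he))).1 h3

theorem exists_h : ∃ g ∈ C{t}, g ∉ N[E] ∧ g ∈ N[F[UU t] ⊓ N[E]] := by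
  by_cases e : F[UU t] ≤ N[E]
  · obtain ⟨g, hg, h1⟩ := SetLike.not_le_iff_exists.1 B.not_H_le
    exact ⟨g, hg, h1, by rw [inf_of_le_left e]; exact (FU_nml t).norm hg⟩
  · obtain ⟨g, hg, h1⟩ := SetLike.exists_of_lt ((Fitting_nil (UU t)).proper_norm
      (K := F[UU t] ⊓ N[E]) (inf_lt_left.2 e))
    exact ⟨g, (FU_nml t).le hg.1, fun e' => h1 ⟨hg.1, e'⟩, hg.2⟩

theorem Y_le_F1 : YY t s ≤ F[UU t] ⊓ N[E] := le_inf inf_le_left (B.Y_le.trans (C_le_N E))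

theorem Y_cyc : Cyc (YY t s) := by
  obtain ⟨g, -, h1, h2⟩ := B.exists_h
  have h3 := cj_le_of_mem_N B.Y_le_F1 h2
  have h4 : F[UU t] ⊓ N[E] ≤ N[YY t s] := inf_le_right.trans B.N_le
  have h5 : T t ⊓ F[UU t] ≤ N[YY t s] :=
    inf_le_left.trans ((B.kl.T_le_E B.tN B.ht).trans (norm_of_cent B.E_le_CY))
  exact cyc_cj.1 (cyc_of_quo (h3.trans h4) (B.TI h1) ((((B.kl.T_cyc t B.tN B.ht).of_le
    inf_le_left).quo _).of_le ((quo_le_quo_iff (h3.trans h4) h5).2 (h3.trans B.F1_le))))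

theorem N_eq (hX : X ≤ YY t s) (h1 : X ≠ ⊥) : N[X] = N[E] :=
  le_antisymm (B.norm X hX h1) (B.N_le.trans (H25.cyc_N_le B.Y_cyc hX))

theorem F1_abl : Abl (F[UU t] ⊓ N[E]) :=
  Abl.of_le (((B.kl.T_cyc t B.tN B.ht).abl.of_le inf_le_left).sup B.Y_cyc.abl
    (inf_le_left.trans ((B.kl.T_le_E B.tN B.ht).trans B.E_le_CY))) B.F1_le

theorem cop_F (hn : n.Coprime m) : (♯F[UU t]).Coprime n :=
  Nat.Coprime.symm (Nat.coprime_of_dvd fun r hr h1 h2 =>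
    hr.one_lt.ne' (Nat.eq_one_of_dvd_coprimes hn h1 (B.prim r hr h2)))

theorem kill (hy : y ∈ UU t) (hN : y ∈ N[E]) (hc : (orderOf y).Coprime m) (hw : w ∈ N[E])
    (hi : w * y * w⁻¹ = y⁻¹) : y = 1 := by
  have ho := odd_orderOf (odd_pcore _) hy
  have hH := (UU_nml t).le hy
  have h1 := B.kl.mem_C_of_coprime B.tN B.ht (B.kl.mem_TC_of_inv B.tE B.ht hw hN hH ho hi)
    (by rwa [B.kl.card_in t B.tE B.ht])
  have h2 : y ∈ C[YY t s] := H25.cyc_der1_norm_le_cent B.Y_cyc B.N_le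
    (comm_mono_right (zpowers_le.2 hw) (mem_comm_of_inv hN ho hi))
  have h3 := B.cop_F hc
  rw [← card_zpowers'] at h3
  have h4 := B.cent_F (zpowers_le.2 hH) h3 (zpowers_le.2 (C_anti
    (inf_le_left.trans (B.kl.T_le_E B.tN B.ht)) h1)) (zpowers_le.2 h2)
  rw [← mem_bot, ← inf_eq_bot_of_cop h3]
  exact ⟨le_FU (zpowers_le.2 hy) h4 (mem_zpowers y), mem_zpowers y⟩

theorem YY_eq (hf : Four t b) (hb : b ∈ E) : YY t b = YY t s := by
  have h1 : YY t s ≤ YY t b := le_inf inf_le_left (B.Y_le.trans (C_le_C1 hb))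
  refine (((Fitting_nil _).of_le inf_le_left).eq_of_norm_le h1 fun y hy => ?_).symm
  exact B.Y_eq ▸ ⟨hy.1.1, B.kl.mem_C_of_cent B.tE hb hf
    (B.kl.F_le B.tE B.ht ⟨hy.1.1, B.NY_le hy.2⟩) (odd_orderOf (FU_odd t) hy.1.1) hy.1.2⟩

theorem YY_eq' (hf : Four a b) (ha : a ∈ E) (hb : b ∈ E) : YY a b = YY t s := by
  obtain ⟨e, he, h1⟩ := B.qs.conj a ha t B.tE hf.ht B.ht
  have h2 := B.YY_eq (h1 ▸ hf.conj e) (conj_mem (norm_self E he) hb)
  rw [← cj_of_mem_C (B.E_le_CY he), ← h1, YY, ← FU_cj, ← cj_C1, ← cj_inf, h1, cj_inj] at h2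
  exact h2

theorem four_cj (hf : Four a b) (ha : a ∈ E) (hb : b ∈ E) (ha' : a ∈ cj g E) (hb' : b ∈ cj g E) :
    g ∈ N[E] := by
  have h1 := B.YY_eq' (hf.conj g⁻¹) (by simpa using mem_cj.1 ha') (by simpa using mem_cj.1 hb')
  rw [YY, ← FU_cj, ← cj_C1, ← cj_inf] at h1
  exact B.mem_N le_rfl B.ne ((B.YY_eq' hf ha hb).ge.trans (by rw [← h1, cj_cj_inv]))

theorem inner (H : ∀ w ∈ N[E], Four t w → w ∈ E) (hS : Syl 2 C{t} S) (hs : s ∈ S)
    (hD : H5.DData S n a v) (hta : t ∈ zpowers a) : zpowers a ≤ E ⊓ C[UU t] := by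
  have hsa : s ∉ zpowers a := fun e => B.hf.ne (eq_of_mem_cyc (cyc_zpowers a) B.ht B.hf.hs hta e)
  have key : ∀ y ∈ zpowers a, y * y ∈ C[UU t] → y ∈ E ⊓ C[UU t] := fun y hy h2 => by
    have hyS := hD.zp_le hy
    have h1 := hD.conj_of_nmem hs hsa hy
    have h3 : y * s * y⁻¹ = y * y * s := by
      rw [← h1, inv_of B.hf.hs, mul_assoc y s, ← mul_assoc s, ← mul_assoc s, sq_of B.hf.hs]
      group
    have h4 : y ∈ N[YY t s] := mem_N_of_finite fun x hx => by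
      have h5 := conj_mem ((FU_nml t).norm (hS.le hyS)) hx.1
      refine ⟨h5, ?_⟩
      have h6 := conj_mem_cj y hx.2
      rw [cj_C1, h3, mem_C1_comm] at h6
      exact mem_C1_comm.1 ((mul_mem_cancel_left (C_le_C1 (Fitting_le _ h5) h2)).1 h6)
    have h5 : Four t (y * s) := four_of_ddata hS.le hD B.ht hta (mul_mem hyS hs)
      fun e => hsa ((mul_mem_cancel_left hy).1 e)
    have h6 := H _ (mul_mem (B.NY_le h4) B.sN) h5
    have h7 := B.kl.mul_mem_TC B.qs B.tE B.sE h6 B.hf h5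
    rw [mul_assoc, sq_of B.hf.hs, mul_one] at h7
    exact ⟨(mul_mem_cancel_right B.sE).1 h6, B.two_cent h7 (hS.pi.piElt hyS)⟩
  have ind : ∀ k, ∀ y ∈ zpowers a, y ^ 2 ^ k = 1 → y ∈ E ⊓ C[UU t] := fun k => by
    induction k with
    | zero => intro y _ e; rw [pow_zero, pow_one] at e; rw [e]; exact one_mem _
    | succ k ih =>
      intro y hy e
      exact key y hy (ih _ (mul_mem hy hy) (by rw [← sq, ← pow_mul, ← pow_succ', e])).2
  intro y hy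
  obtain ⟨k, hk⟩ := (hS.pi.piElt (hD.zp_le hy)).exists_pow Nat.prime_two
  exact ind k y hy (hk ▸ pow_orderOf_eq_one y)

end BJ

end H13.Dih
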