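import Mathlib
import Cfsg.Agent.H13.DihBI2

/-! Case (BI): the subgroup `W` of order `p²` and the structure of `O_p(U)`. -/

set_option autoImplicit false
set_option linter.unusedSectionVars false

namespace H13.Dih

open H24 H26 Cfsg Subgroup

universe u

variable {G : Type u} [Group G] [Finite G] {A A' E L M Q W Z : Subgroup G} {t s g x y z : G}
  {m m' p : ℕ} {T : G → Subgroup G}

theorem exists_trans (L M : Subgroup G) : ∃ R : Finset G, (∀ a ∈ R, a ∈ M) ∧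
    R.card = L.relIndex M ∧ (∀ a ∈ R, ∀ b ∈ R, a⁻¹ * b ∈ L → a = b) ∧
    ∀ x ∈ M, ∃ a ∈ R, a⁻¹ * x ∈ L := by
  classical
  have := Fintype.ofFinite (M ⧸ L.subgroupOf M)
  refine ⟨Finset.univ.image fun q : M ⧸ L.subgroupOf M => (q.out : G), ?_, ?_, ?_, fun x hx => ?_⟩
  · simp only [Finset.forall_mem_image]
    exact fun q _ => q.out.2
  · refine (Finset.card_image_of_injective _ fun a b e =>
      Quotient.out_injective (Subtype.ext e)).trans ?_
    rw [Finset.card_univ, ← Nat.card_eq_fintype_card]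
    rfl
  · simp only [Finset.forall_mem_image]
    intro a _ b _ e
    have : a = b := by
      rw [← QuotientGroup.out_eq' a, ← QuotientGroup.out_eq' b]
      exact QuotientGroup.eq.2 e
    rw [this]
  · exact ⟨_, Finset.mem_image_of_mem _ (Finset.mem_univ ((⟨x, hx⟩ : M) : M ⧸ L.subgroupOf M)),
      (QuotientGroup.eq (s := L.subgroupOf M)).1
        (QuotientGroup.out_eq' ((⟨x, hx⟩ : M) : M ⧸ L.subgroupOf M))⟩

theorem relIndex_le_family (hp : 1 < p) (h1 : ∀ g ∈ M, cj g A ≤ W) (hZ : Z ≤ A) (hM : M ≤ N[Z])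
    (hA : ♯A = p * ♯Z) (h2 : ∀ g ∈ M, g ∉ L → A ⊓ cj g A ≤ Z) (h3 : ♯W = p ^ 2 * ♯Z) :
    L.relIndex M ≤ p + 1 := by
  classical
  have := Fintype.ofFinite G
  obtain ⟨R, hR, hc, hi, -⟩ := exists_trans L M
  have key : ∀ K : Subgroup G, Z ≤ K → ((K : Set G) \ Z).toFinset.card + ♯Z = ♯K := fun K hK => by
    rw [← Set.ncard_eq_toFinset_card']
    exact Set.ncard_sdiff_add_ncard_of_subset hK
  have h4 := Finset.card_le_card (s := R.biUnion fun a => ((cj a A : Set G) \ Z).toFinset)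
    (t := ((W : Set G) \ Z).toFinset) (Finset.biUnion_subset.2 fun a ha =>
      Set.toFinset_subset_toFinset.2 (Set.sdiff_subset_sdiff_left (h1 a (hR a ha))))
  have h5 : ∀ a ∈ R, ((cj a A : Set G) \ Z).toFinset.card = (p - 1) * ♯Z := fun a ha => by
    have := key (cj a A) ((cj_of_mem_N (hM (hR a ha))).ge.trans (cj_mono a hZ))
    rw [card_cj, hA] at this
    rw [Nat.sub_mul]
    omega
  rw [Finset.card_biUnion, Finset.sum_congr rfl h5, Finset.sum_const, smul_eq_mul, hc] at h4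
  · have h6 := key W (hZ.trans (cj_one A ▸ h1 1 (one_mem _)))
    obtain ⟨k, rfl⟩ : ∃ k, p = k + 1 := ⟨p - 1, by omega⟩
    rw [h3] at h6
    have h7 : 0 < k * ♯Z := Nat.mul_pos (by omega) (card_pos Z)
    refine Nat.le_of_mul_le_mul_right ?_ h7
    rw [Nat.add_sub_cancel] at h4
    nlinarith
  · intro a ha b hb hab
    simp only [Function.onFun, Set.disjoint_toFinset]
    refine Set.disjoint_left.2 fun y hy hy' => hy.2 ?_
    have h6 := mul_mem (inv_mem (hR a ha)) (hR b hb)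
    have h7 := cj_mono a (h2 _ h6 fun e => hab (hi a ha b hb e))
    rw [cj_inf, ← cj_mul, mul_inv_cancel_left, cj_of_mem_N (hM (hR a ha))] at h7
    exact h7 ⟨hy.1, hy'.1⟩

theorem abl_pair (hp : p.Prime) (hQ : IsPi {p} Q) (h1 : A ≤ Q) (h1' : A' ≤ Q) (hA : Abl A)
    (hA' : Abl A') (h2 : A.relIndex Q = p) (h2' : A'.relIndex Q = p) (hn : A ≠ A') :
    A ⊓ A' ≤ C[Q] ∧ ⁅Q, Q⁆ ≤ A ⊓ A' ∧ ♯A = p * ♯(A ⊓ A') := by
  have n1 := nml_of_relIndex_eq_prime hp hQ h1 h2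
  have n2 := nml_of_relIndex_eq_prime hp hQ h1' h2'
  have c1 := card_mul_relIndex h1
  have c2 := card_mul_relIndex h1'
  rw [h2] at c1
  rw [h2', ← c1] at c2
  have c3 := Nat.eq_of_mul_eq_mul_right hp.pos c2
  have e : A ⊔ A' = Q := (covBy_eq_or (covBy_of_relIndex_prime h1 (h2.symm ▸ hp)) le_sup_left
    (sup_le h1 h1')).resolve_left fun e => hn (eq_of_card_eq (sup_eq_left.1 e) c3).symm
  refine ⟨e ▸ cents_sup (inf_le_left.trans hA.le_C) (inf_le_right.trans hA'.le_C), le_inf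
    (der1_le_of_relIndex_prime n1 (h2.symm ▸ hp)) (der1_le_of_relIndex_prime n2 (h2'.symm ▸ hp)), ?_⟩
  have := card_sup (h1'.trans n1.norm)
  rw [e, ← c1, c3, mul_assoc] at this
  exact (Nat.eq_of_mul_eq_mul_left (card_pos A) this).symm

abbrev WW (x z : G) : Subgroup G := zpowers x ⊔ zpowers z

structure BK (t s : G) (E : Subgroup G) (m m' : ℕ) (T : G → Subgroup G) (p : ℕ) (x z : G) : Prop
    extends BJ t s E m m' T where
  hp : p.Prime
  hx : x ∈ YY t s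
  hxo : orderOf x = p
  hz : z ∈ T t
  hzo : orderOf z = p

namespace BK

variable (B : BK t s E m m' T p x z)
include B

theorem odd : Odd p := B.hxo ▸ odd_orderOf (FU_odd t) B.hx.1

theorem ne2 : p ≠ 2 := fun e => absurd (e ▸ B.odd) (by decide)

theorem cx : ♯(zpowers x) = p := (card_zpowers' x).trans B.hxo

theorem cz : ♯(zpowers z) = p := (card_zpowers' z).trans B.hzo

theorem X_ne : zpowers x ≠ ⊥ := ne_bot_of_prime (B.cx.symm ▸ B.hp)

theorem X_le : zpowers x ≤ YY t s := zpowers_le.2 B.hx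

theorem NX : N[zpowers x] = N[E] := B.N_eq B.X_le B.X_ne

theorem zF : z ∈ F[UU t] := B.mem_F B.hz (B.hzo ▸ B.odd)

theorem zE : z ∈ E := B.kl.T_le_E B.tN B.ht B.hz

theorem xC : x ∈ C[E] := B.Y_le B.hx

theorem xz : zpowers z ≤ C[zpowers x] := by
  rw [C_zpowers]; exact zpowers_le.2 (mem_C_iff_le_C1.1 B.xC B.zE)

theorem xz_inf : zpowers x ⊓ zpowers z = ⊥ := eq_bot_of_le (B.kl.T_inf t B.tN B.ht)
  (le_inf (inf_le_right.trans (zpowers_le.2 B.hz)) (inf_le_left.trans (zpowers_le.2 B.xC)))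

theorem cW : ♯(WW x z) = p ^ 2 := by
  rw [card_sup_of_inf (norm_of_cent B.xz) B.xz_inf, B.cx, B.cz, sq]

theorem W_le : WW x z ≤ F[UU t] ⊓ N[E] :=
  sup_le (B.X_le.trans B.Y_le_F1) (zpowers_le.2 ⟨B.zF, norm_self E B.zE⟩)

theorem W_le_P : WW x z ≤ PP p t :=
  le_PP (isPi_of_card B.hp B.cW) (B.W_le.trans inf_le_left)

theorem W_le_H : WW x z ≤ C{t} := B.W_le_P.trans (PP_nml p t).le

theorem W_pow (hy : y ∈ WW x z) : y ^ p = 1 := by
  obtain ⟨a, ha, b, hb, rfl⟩ := (mem_sup_of_norm (norm_of_cent B.xz)).1 hy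
  rw [Commute.mul_pow (comm_of_cent B.xz hb ha).symm,
    orderOf_dvd_iff_pow_eq_one.1 (B.cx ▸ orderOf_dvd_card' ha),
    orderOf_dvd_iff_pow_eq_one.1 (B.cz ▸ orderOf_dvd_card' hb), one_mul]

theorem mem_W (hy : y ∈ F[UU t] ⊓ N[E]) (h : y ^ p = 1) : y ∈ WW x z := by
  obtain ⟨a, ha, c, hc, rfl⟩ := B.dec hy.1 hy.2
  have h1 := B.Y_le hc
  have e : Commute a c := (comm_of_cent (B.kl.cents B.tN B.ht) h1 ha.1).symm
  rw [e.mul_pow, ← mul_one 1] at h
  obtain ⟨h2, h3⟩ := mul_eq_mul_of_inf (B.kl.T_inf t B.tN B.ht) (pow_mem ha.1 p) (one_mem _)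
    (pow_mem h1 p) (one_mem _) h
  rw [e.eq]
  exact mul_mem_sup (H25.cyc_mem_of_pow_card B.Y_cyc B.X_le hc (B.cx ▸ h3))
    (H25.cyc_mem_of_pow_card (B.kl.T_cyc t B.tN B.ht) (zpowers_le.2 B.hz) ha.1 (B.cz ▸ h2))

theorem N_le_NW (h1 : WW x z ≤ A) (h2 : A ≤ F[UU t] ⊓ N[E]) : N[A] ≤ N[WW x z] := fun g hg =>
  mem_N_of_finite fun y hy => B.mem_W (h2 (conj_mem hg (h1 hy))) (by
    rw [conj_pow, B.W_pow hy, mul_one, mul_inv_cancel])

theorem c_le : (N[E]).relIndex (C{t} ⊓ N[WW x z]) ≤ p + 1 :=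
  relIndex_le_family (A := zpowers x) (W := WW x z) (Z := ⊥) B.hp.one_lt
    (fun g hg => cj_le_of_mem_N le_sup_left hg.2) bot_le (N_bot.ge.trans' le_top)
    (by rw [card_bot, mul_one, B.cx])
    (fun g _ hg => (inf_le_inf B.X_le (cj_mono g B.X_le)).trans (B.TI hg).le)
    (by rw [card_bot, mul_one, B.cW])

theorem two_le_c : 2 ≤ (N[E]).relIndex (C{t} ⊓ N[WW x z]) := by
  obtain ⟨g, h1, h2, h3⟩ := B.exists_h
  have h4 := relIndex_pos N[E] (C{t} ⊓ N[WW x z])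
  have h5 : (N[E]).relIndex (C{t} ⊓ N[WW x z]) ≠ 1 := fun e =>
    h2 (relIndex_eq_one.1 e ⟨h1, B.N_le_NW B.W_le le_rfl h3⟩)
  omega

theorem P1_le : PP p t ⊓ N[E] ≤ F[UU t] ⊓ N[E] := inf_le_inf_right _ (PP_le_F B.hp t)

theorem W_le_P1 : WW x z ≤ PP p t ⊓ N[E] := le_inf B.W_le_P (B.W_le.trans inf_le_right)

theorem P1_abl : Abl (PP p t ⊓ N[E]) := B.F1_abl.of_le B.P1_le

theorem idx (h1 : ¬ Q ≤ N[E]) (h2 : Q ≤ PP p t) (h3 : Q ≤ N[PP p t ⊓ N[E]]) :
    (PP p t ⊓ N[E]).relIndex Q = p := by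
  rw [← inf_relIndex_right, inf_right_comm, inf_of_le_right h2, inf_relIndex_left]
  have h4 := (relIndex_le_of_le_right (le_inf (h2.trans (PP_nml p t).le) (h3.trans
    (B.N_le_NW B.W_le_P1 B.P1_le))) (relIndex_ne_zero' _ _)).trans B.c_le
  obtain ⟨k, hk⟩ := (piNat_singleton B.hp (relIndex_ne_zero' _ _)).1
    (((pcore_pi _ _).of_le h2).relIndex N[E])
  have h5 := B.hp.two_le
  have h6 := B.ne2
  rw [hk] at h4 ⊢
  rcases k with _ | _ | k
  · exact absurd (relIndex_eq_one.1 hk) h1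
  · simp
  · have : p ^ 2 ≤ p ^ (k + 1 + 1) := Nat.pow_le_pow_right B.hp.pos (by omega)
    have h7 : 3 ≤ p := by omega
    nlinarith

theorem Z_le : Z[PP p t] ≤ PP p t ⊓ N[E] := le_inf inf_le_left (inf_le_right.trans
  ((C_anti (le_sup_left.trans B.W_le_P)).trans ((C_le_N _).trans B.NX.le)))

theorem gamma (h : PP p t ≤ N[PP p t ⊓ N[E]]) : (N[WW x z]).relIndex C{t} ≤ p + 1 := by
  refine (relIndex_le_of_le_left (B.N_le_NW B.W_le_P1 B.P1_le) (relIndex_ne_zero' _ _)).trans ?_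
  by_cases e : C{t} ≤ N[PP p t ⊓ N[E]]
  · rw [relIndex_eq_one.2 e]; omega
  have h1 : ¬ PP p t ≤ N[E] := fun e' => e (by rw [inf_of_le_left e']; exact (PP_nml p t).norm)
  have h2 := B.idx h1 le_rfl h
  have key : ∀ g ∈ C{t}, g ∉ N[PP p t ⊓ N[E]] → _ := fun g hg hn =>
    abl_pair B.hp (pcore_pi _ _) inf_le_left (cj_le_of_mem_N inf_le_left ((PP_nml p t).norm hg))
      B.P1_abl (B.P1_abl.cj g) h2 (by
        rwa [← relIndex_cj g, cj_of_mem_N ((PP_nml p t).norm hg)] at h2)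
      fun e' => hn (mem_N_iff_cj.2 e'.symm)
  obtain ⟨g, hg, hn⟩ := SetLike.not_le_iff_exists.1 e
  obtain ⟨a1, -, a2⟩ := key g hg hn
  have hZ := (PP_nml p t).center.norm
  rw [← le_antisymm (le_inf B.Z_le ((cj_of_mem_N (hZ hg)).ge.trans (cj_mono g B.Z_le)))
    (le_inf (inf_le_left.trans inf_le_left) a1)] at a2
  refine relIndex_le_family B.hp.one_lt (fun g hg => cj_le_of_mem_N inf_le_left
    ((PP_nml p t).norm hg)) B.Z_le hZ a2 (fun g hg hn => le_inf (inf_le_left.trans inf_le_left)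
    (key g hg hn).1) ?_
  rw [← card_mul_relIndex (inf_le_left : PP p t ⊓ N[E] ≤ _), h2, a2]
  ring

theorem X_le' : PP p t ⊓ C{s} ≤ YY t s := inf_le_inf_right _ (PP_le_F B.hp t)

theorem X_eq (h : ¬ PP p t ≤ N[PP p t ⊓ N[E]]) : PP p t ⊓ C{s} = zpowers x := by
  have hP := pcore_pi {p} (UU t)
  have h1 : ¬ PP p t ≤ N[E] := fun e => h (by rw [inf_of_le_left e]; exact norm_self _)
  have h2 := (hP.nil B.hp).proper_norm (K := PP p t ⊓ N[E]) (inf_lt_left.2 h1)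
  have h3 : ¬ PP p t ⊓ N[PP p t ⊓ N[E]] ≤ N[E] := fun e => h2.not_ge (le_inf inf_le_left e)
  have h4 := B.idx h3 inf_le_left inf_le_right
  obtain ⟨g, hg, hn⟩ := SetLike.exists_of_lt ((hP.nil B.hp).proper_norm (inf_lt_left.2 h))
  obtain ⟨a1, -, a2⟩ := abl_pair B.hp (hP.inf_left _) h2.le (cj_le_of_mem_N h2.le hg.2) B.P1_abl
    (B.P1_abl.cj g) h4 (by rwa [← relIndex_cj g, cj_of_mem_N hg.2] at h4)
    fun e => hn ⟨hg.1, mem_N_iff_cj.2 e.symm⟩
  have h5 : PP p t ⊓ C{s} ≤ PP p t ⊓ N[E] :=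
    le_inf inf_le_left (B.X_le'.trans (B.Y_le_F1.trans inf_le_right))
  have h6 : (PP p t ⊓ N[E] ⊓ cj g (PP p t ⊓ N[E])) ⊓ (PP p t ⊓ C{s}) = ⊥ := by
    by_contra e
    exact h3 ((norm_of_cent (cents_symm (inf_le_left.trans a1))).trans
      (B.norm _ (inf_le_right.trans B.X_le') e))
  have h7 := card_le (sup_le inf_le_left h5 : (PP p t ⊓ N[E] ⊓ cj g (PP p t ⊓ N[E])) ⊔ _ ≤ _)
  rw [card_sup_of_inf (B.P1_abl.norm h5 inf_le_left) h6, a2, mul_comm p] at h7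
  exact (eq_of_card_ge (le_inf (le_sup_left.trans B.W_le_P) (B.X_le.trans inf_le_right))
    ((Nat.le_of_mul_le_mul_left h7 (card_pos _)).trans B.cx.ge)).symm

theorem nz (h : ¬ PP p t ≤ N[PP p t ⊓ N[E]]) : ¬ ⁅zpowers x, PP p t⁆ ≤ Z[PP p t] := fun e => by
  have h1 : Z[PP p t] ≤ C[zpowers x] := inf_le_right.trans (C_anti (le_sup_left.trans B.W_le_P))
  have h2 : PP p t ≤ N[zpowers x ⊔ Z[PP p t]] := norm_of_comm_le_left (by
    rw [(isProd_sup (norm_of_cent h1)).comm_left_of_cent inf_le_right]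
    exact e.trans le_sup_right)
  have h3 : PP p t ⊓ C[zpowers x ⊔ Z[PP p t]] = PP p t ⊓ N[E] := le_antisymm
    (inf_le_inf_left _ ((C_anti le_sup_left).trans ((C_le_N _).trans B.NX.le)))
    (le_inf inf_le_left (B.P1_abl.cents le_rfl (sup_le (le_sup_left.trans B.W_le_P1) B.Z_le)))
  exact h (h3 ▸ norm_inf (norm_self _) (norm_C h2))

theorem inv_of_not_le (h : ¬ PP p t ≤ N[PP p t ⊓ N[E]]) (h1 : A ≤ PP p t) (h2 : s ∈ N[A])
    (h3 : ¬ zpowers x ≤ A) : Inv s A := by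
  refine inv_of_inf_C (odd_of_le (PP_odd p t) h1) (sq_of B.hf.hs) h2 ?_
  rw [← inf_of_le_left h1, inf_assoc, B.X_eq h, inf_comm]
  exact prime_inf_of_not_le (B.cx.symm ▸ B.hp) h3

theorem A_inv (h : ¬ PP p t ≤ N[PP p t ⊓ N[E]]) : Inv s ⁅PP p t, zpowers s⁆ := by
  have hs := (PP_nml p t).norm B.hf.s_mem_C
  refine B.inv_of_not_le h (comm_le_left (zpowers_le.2 hs)) (mem_N_comm_zp _ _) fun e => B.nz h ?_
  have h1 : PP p t ≤ ⁅PP p t, zpowers s⁆ := by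
    refine (cent_prod (PP_odd p t) B.hf.hs hs).sup_eq.ge.trans (sup_le le_rfl ?_)
    rwa [B.X_eq h]
  have h2 := (B.inv_of_not_le h (ucn_le 2 _) (zpowers_le.1 (norm_ucn 2 (zpowers_le.2 hs)))
    fun e => B.nz h (le_ucn_two.1 e).2).comm_le_C (sq_of B.hf.hs) (ucn_nml 2 _).norm
  have h3 : quo (PP p t) (ucn 1 (PP p t)) = ⊥ := by
    by_contra e
    refine (((pcore_pi _ _).nil B.hp).quo _).center_ne_bot e ?_
    rw [← quo_ucn_succ]
    exact quo_eq_bot_of_le (by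
      rw [ucn_one]; exact le_inf (ucn_le 2 _) (cents_symm (h1.trans h2)))
  rw [quo_eq_bot (ucn_nml 1 _).norm, ucn_one] at h3
  exact (comm_le_of_le (le_sup_left.trans B.W_le_P) le_rfl).trans h3

theorem A_nml (h : ¬ PP p t ≤ N[PP p t ⊓ N[E]]) : ⁅PP p t, zpowers s⁆ ⊴ C{t} := by
  have hs := (PP_nml p t).norm B.hf.s_mem_C
  have h1 : ⁅PP p t, zpowers s⁆ ≤ PP p t := comm_le_left (zpowers_le.2 hs)
  have hA := B.A_inv h
  have h2 : (⁅PP p t, zpowers s⁆).relIndex (PP p t) = p := by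
    have a1 := hA.inf_C (odd_of_le (PP_odd p t) h1)
    have a2 := card_inf_mul_relIndex ⁅PP p t, zpowers s⁆ (PP p t ⊓ C{s})
    rw [← inf_assoc, inf_of_le_left h1, a1, card_bot, one_mul,
      ← (cent_prod (PP_odd p t) B.hf.hs hs).relIndex_eq, B.X_eq h, B.cx] at a2
    exact a2
  refine ⟨h1.trans (PP_nml p t).le, fun g hg => mem_N_iff_cj.2 ?_⟩
  by_contra e
  have hP := (PP_nml p t).norm hg
  obtain ⟨a1, a2, -⟩ := abl_pair B.hp (pcore_pi _ _) h1 (cj_le_of_mem_N h1 hP) hA.abl (hA.abl.cj g)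
    h2 (by rwa [← relIndex_cj g, cj_of_mem_N hP] at h2) (Ne.symm e)
  exact B.nz h ((comm_mono_left (le_sup_left.trans B.W_le_P)).trans
    (le_inf (der1_le _) (a2.trans a1)))

theorem beta (h : ¬ PP p t ≤ N[PP p t ⊓ N[E]]) :
    ∃ K, K ⊴ C{t} ∧ K ≤ F[UU t] ∧ Inv s K ∧ UU t ≤ K ⊔ UU t ⊓ C{s} := by
  have hsH := B.hf.s_mem_C
  have hs := (PP_nml p t).norm hsH
  have hs2 := sq_of B.hf.hs
  have hA := B.A_nml h
  have hAi := B.A_inv h
  have hAP : ⁅PP p t, zpowers s⁆ ≤ PP p t := comm_le_left (zpowers_le.2 hs)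
  generalize hAd : ⁅PP p t, zpowers s⁆ = A at hA hAi hAP
  have hO := (FU_nml t).pcore {p}ᶜ
  have hD := (Fitting_nil (UU t)).pcoreC {p}
  rw [p_core_Fitting B.hp] at hD
  have hOi : Inv s O[{p}ᶜ, F[UU t]] := by
    refine inv_of_inf_C (odd_of_le (FU_odd t) (pcore_le _ _)) hs2 (hO.norm hsH) ?_
    by_contra e
    have := (norm_of_cent (cents_symm (inf_le_left.trans hD.cent))).trans
      (B.norm _ (inf_le_inf_right C{s} (pcore_le _ _)) e)
    exact h (by rw [inf_of_le_left this]; exact norm_self _)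
  have hK := hA.sup hO
  have hKi := hAi.sup hOi (hD.cent.trans (C_anti hAP))
  have hU := UU_nml t
  have hUs := hU.norm hsH
  have d1 := hKi.comm_le_C hs2 (hU.le.trans hK.norm)
  have d2 : ⁅UU t, zpowers s⁆ ≤ centQ (PP p t) A := (comm_mono_right ((le_centQ
    ((PP_nml p t).le.trans hA.norm)).2 ⟨zpowers_le.2 (hA.norm hsH), by rw [commC, hAd]⟩)).trans
    (comm_le_right (norm_centQ (hU.le.trans (PP_nml p t).norm) (hU.le.trans hA.norm)))
  have d3 : ⁅UU t, zpowers s⁆ ⊴ UU t := ⟨comm_le_left (zpowers_le.2 hUs), norm_comm_left _ _⟩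
  have d4 := comm_idem (odd_pcore _) B.hf.hs hUs
  have d5 := (cent_prod (odd_pcore _) B.hf.hs hUs).sup_eq
  generalize ⁅UU t, zpowers s⁆ = D at d1 d2 d3 d4 d5
  have d6 : D ⊓ (A ⊔ O[{p}ᶜ, F[UU t]]) ≤ Z[D] := inf_le_inf_left _ (cents_symm d1)
  have d7 := (nml_of_le_center d6).norm
  have d8 : Nil D := nil_of_quo_center d6 (((isPi_quo_iff d7).2 ((piNat_relIndex_iff d7).2
    fun y hy hy' => ⟨hy, mem_sup_right ?_⟩)).nil B.hp)
  · refine ⟨_, hK, sup_le (hAP.trans hD.left_le) hD.right_le, hKi, d5.ge.trans (sup_le_sup_right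
      (d4.ge.trans ((comm_mono_left (Fitting_max d3 d8)).trans ?_)) _)⟩
    have e := zpowers_le.2 (hK.norm hsH)
    refine ((le_centQ e).1 (hD.sup.ge.trans (sup_le ((le_centQ e).2 ⟨(PP_nml p t).le.trans hK.norm,
      hAd.le.trans le_sup_left⟩) ((le_centQ e).2 ⟨hO.le.trans hK.norm, ?_⟩)))).2
    exact (comm_le_left (zpowers_le.2 (hO.norm hsH))).trans le_sup_right
  · have a1 := zpowers_le.2 hy
    have a2 : zpowers y ≤ C[PP p t] := stable_factor_cent (a1.trans (d1.trans (C_anti le_sup_left)))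
      (by rw [commC]; exact ((le_centQ ((PP_nml p t).le.trans hA.norm)).1 (a1.trans d2)).2) hAP
      (((pcore_pi _ _).of_le hAP).coprime hy'.isPi) (Or.inr (abl_zpowers y).sol)
    refine (Fitting_nil _).mem_pcore hy' (le_FU (a1.trans d3.le) ?_ (mem_zpowers y))
    rw [hD.cp.C_eq]
    exact le_inf a2 (a1.trans (d1.trans (C_anti le_sup_right)))

end BK

end H13.Dih
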