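import Mathlib
import Cfsg.Agent.H13.DihBI3

/-! Case (BI): `C(t)` maximal, some `O_p(U)` neither centralised nor inverted by an involution. -/

set_option autoImplicit false
set_option linter.unusedSectionVars false

namespace H13.Dih

open H24 H26 Cfsg Subgroup

universe u

variable {G : Type u} [Group G] [Finite G] {A E K S : Subgroup G} {t s a e e' g h h' u v w x y z : G}
  {m m' n p : ℕ} {T : G → Subgroup G}

theorem bi_arith {n j i r k c d g p m m' : ℕ} (h1 : n * j = i * r) (h2 : 4 * i ≤ 15 * k ^ 2)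
    (h3 : k ≤ r * m) (h4 : r ≤ c * (p + 1)) (h5 : 2 ≤ c) (h6 : c ≤ p + 1) (h7 : 2 * p ≤ m)
    (h8 : 3 ≤ p) (h9 : j = (m + m') * m') (h10 : m ≤ m' + 1) (h11 : j * (d * (g * d)) ≤ n)
    (h12 : c ≤ d + 1) (h13 : j ≤ g + (2 * (m + m') + 1)) : False := by
  obtain ⟨l, rfl⟩ : ∃ l, m = l + 6 := ⟨m - 6, by omega⟩
  obtain ⟨l', rfl⟩ : ∃ l', m' = l + 5 + l' := ⟨m' - (l + 5), by omega⟩
  obtain ⟨c, rfl⟩ : ∃ l, c = l + 2 := ⟨c - 2, by omega⟩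
  have a1 : (2 * l + 11) * (l + 5) ≤ j := h9 ▸ Nat.mul_le_mul (by omega) (by omega)
  have a2 : 2 * l ^ 2 + 17 * l + 32 ≤ g := by nlinarith
  have a3 : (c + 2) ^ 3 ≤ (p + 7) * d ^ 2 := calc
    _ ≤ (c + 8) * (c + 1) ^ 2 := by nlinarith
    _ ≤ _ := Nat.mul_le_mul (by omega) (Nat.pow_le_pow_left (by omega) 2)
  have a4 : 16 * ((p + 7) * (p + 1) ^ 3) ≤ (l + 20) * (l + 8) ^ 3 := calc
    _ = (2 * p + 14) * (2 * p + 2) ^ 3 := by ring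
    _ ≤ _ := Nat.mul_le_mul (by omega) (Nat.pow_le_pow_left (by omega) 3)
  have a5 : d ^ 2 * (64 * (j ^ 2 * g)) ≤ d ^ 2 * (15 * ((l + 20) * (l + 8) ^ 3 * (l + 6) ^ 2)) := calc
    _ = 64 * (j * (d * (g * d)) * j) := by ring
    _ ≤ 64 * (n * j) := by gcongr
    _ = 16 * (4 * i * r) := by rw [h1]; ring
    _ ≤ 16 * (15 * (r * (l + 6)) ^ 2 * r) := 
      Nat.mul_le_mul_left _ (Nat.mul_le_mul_right _ (h2.trans (by gcongr)))
    _ = 16 * (15 * r ^ 3 * (l + 6) ^ 2) := by ring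
    _ ≤ 16 * (15 * ((c + 2) * (p + 1)) ^ 3 * (l + 6) ^ 2) := by gcongr
    _ = 16 * (15 * ((c + 2) ^ 3 * (p + 1) ^ 3) * (l + 6) ^ 2) := by ring
    _ ≤ 16 * (15 * ((p + 7) * d ^ 2 * (p + 1) ^ 3) * (l + 6) ^ 2) := by gcongr
    _ = d ^ 2 * (15 * (16 * ((p + 7) * (p + 1) ^ 3) * (l + 6) ^ 2)) := by ring
    _ ≤ _ := by gcongr
  have a6 := Nat.le_of_mul_le_mul_left a5 (pow_pos (by omega) 2)
  have a7 : 64 * (((2 * l + 11) * (l + 5)) ^ 2 * (2 * l ^ 2 + 17 * l + 32)) ≤ 64 * (j ^ 2 * g) := by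
    gcongr
  have a8 := a7.trans a6
  nlinarith [Nat.zero_le (l ^ 2), Nat.zero_le (l ^ 3), Nat.zero_le (l ^ 4), Nat.zero_le (l ^ 5),
    Nat.zero_le (l ^ 6)]

namespace BJ

variable (B : BJ t s E m m' T)
include B

theorem outer (hw : w ∈ N[E]) (hf : Four t w) (hE : w ∉ E) : ∃ A v, A ≤ UU t ∧ ♯A = m' ∧ Inv v A ∧
    Four t v ∧ v ∈ N[E] ∧ v ∉ E := by
  obtain ⟨g, h1, h2⟩ := B.mc.fuse hf.symm
  have hc : ♯(cj g (T w)) = m' := (card_cj _ _).trans (B.kl.card_out w hw hE hf.hs)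
  refine ⟨_, w * t, B.mc.cd.le_U B.ht (hc ▸ B.kl.odd_m') ?_, hc,
    h2 ▸ (B.kl.inv' hf.symm hw B.tN).cj g, hf.comm ▸ hf.mul, mul_mem hw B.tN,
    fun e => hE ((mul_mem_cancel_right B.tE).1 e)⟩
  rw [← h1, ← cj_C1]
  exact cj_mono g (B.kl.T_le_C hw hf.hs)

theorem outer_beta (hw : w ∈ N[E]) (hf : Four t w) (hE : w ∉ E) (hK : K ⊴ C{t})
    (hF : K ≤ F[UU t]) (hU : UU t ≤ K ⊔ UU t ⊓ C{s}) : False := by
  obtain ⟨A, v, h1, h2, h3, h4, h5, -⟩ := B.outer hw hf hE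
  have hc : (♯A).Coprime m := h2 ▸ B.kl.coprime.symm
  obtain ⟨k, hk, H⟩ := SchurZassenhaus_subJ (H := C{t} ⊓ N[E]) (L := A ⊔ zpowers v)
    (inf_le_left.trans hK.norm) (sup_le (h1.trans (hU.trans (sup_le_sup_left (le_inf
      (inf_le_left.trans (UU_nml t).le) ((inf_le_inf_right _ (UU_nml t).le).trans B.CV_le)) _)))
      (le_sup_of_le_right (zpowers_le.2 ⟨h4.s_mem_C, h5⟩)))
    ((((B.cop_F hc).mul_right (cop_zp (FU_odd t) h4.hs)).coprime_dvd_left (card_dvd hF)).coprime_dvd_right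
      (isProd_sup (zpowers_le.2 h3.norm)).card_dvd) (Or.inl ((Fitting_nil _).sol.of_le hF))
  obtain ⟨y, hy, hy1⟩ := exists_ne_one (H := A) fun e => by
    have := B.kl.three_le
    rw [← h2, e, card_bot] at this
    omega
  have := B.kill (conj_mem' ((UU_nml t).norm (hK.le hk)) (h1 hy)) (mem_cj.1 (H (mem_sup_left hy))).2
    (by
      rw [← orderOf_conj k, show k * (k⁻¹ * y * k) * k⁻¹ = y by group]
      exact hc.coprime_dvd_left (orderOf_dvd_card' hy))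
    (mem_cj.1 (H (mem_sup_right (mem_zpowers v)))).2 (by
      rw [show (k⁻¹ * y * k)⁻¹ = k⁻¹ * y⁻¹ * k by group, ← h3 y hy]; group)
  exact hy1 (by rw [show y = k * (k⁻¹ * y * k) * k⁻¹ by group, this]; group)

theorem inner' (H : ∀ w ∈ N[E], Four t w → w ∈ E) : ∃ S, Syl 2 C{t} S ∧ UU t ⊓ C{s} ≤ C[S] ∧
    ∀ v, Four t v → ∃ g ∈ C{t}, ∃ c ∈ E ⊓ C[UU t], g * v * g⁻¹ = s * c := by
  obtain ⟨S, hS, hs⟩ := Sylow_superset Nat.prime_two (isPi_zp B.hf.hs) (zpowers_le.2 B.hf.s_mem_C)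
  replace hs := zpowers_le.1 hs
  obtain ⟨a, x, hD, -, hta⟩ := B.mc.ddata B.ht hS
  have h1 := B.inner H hS hs hD hta
  have key : ∀ v ∈ S, Four t v → x⁻¹ * v ∈ zpowers a := fun v hv hf => ((hD.mem v).1 hv).resolve_left
    fun e => hf.ne (eq_of_mem_cyc (cyc_zpowers a) B.ht hf.hs hta e)
  have key2 : ∀ v, x⁻¹ * v ∈ zpowers a → s⁻¹ * v ∈ E ⊓ C[UU t] := fun v hv => by
    have := h1 (mul_mem (inv_mem (key s hs B.hf)) hv)
    rwa [show (x⁻¹ * s)⁻¹ * (x⁻¹ * v) = s⁻¹ * v by group] at this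
  refine ⟨S, hS, cents_symm fun y hy => ?_, fun v hv => ?_⟩
  · rcases (hD.mem y).1 hy with e | e
    · exact C_anti inf_le_left (h1 e).2
    · exact (mul_mem_cancel_left (inv_mem (mem_C_iff_le_C1.2 inf_le_right))).1
        (C_anti inf_le_left (key2 y e).2)
  · obtain ⟨g, hg, e⟩ := Sylow_Jsub Nat.prime_two hS (isPi_zp hv.hs) (zpowers_le.2 hv.s_mem_C)
    exact ⟨g, hg, _, key2 _ (key _ (e (conj_mem_cj g (mem_zpowers v)))
      (hv.of_cl (conj_mem_cl hg (self_mem_cl _ _)))), (mul_inv_cancel_left _ _).symm⟩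

theorem inner_beta (H : ∀ w ∈ N[E], Four t w → w ∈ E) (hK : K ⊴ C{t}) (hF : K ≤ F[UU t])
    (hi : Inv s K) (hU : UU t ≤ K ⊔ UU t ⊓ C{s}) : False := by
  obtain ⟨S, hS, h1, h2⟩ := B.inner' H
  have h3 := hF.trans (Fitting_le _)
  refine B.ne (eq_bot_of_le (B.mc.delta' B.ht B.co (K := K) ⟨hS, hK, hi.abl, odd_of_le (FU_odd t) hF,
    fun v a1 a2 a3 => ?_, le_antisymm (hU.trans (sup_le_sup_left (le_inf inf_le_left h1) _))
    (sup_le h3 inf_le_left)⟩ fun e => B.mc.not_U_le B.co B.U_ne B.hf ?_) ((inf_le_inf_right _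
    (Fitting_le _)).trans (le_inf inf_le_left h1)))
  · obtain ⟨g, hg, c, hc, e⟩ := h2 v ⟨B.ht, a1, a3, a2⟩
    have := (hi.mul_cent (C_anti h3 hc.2)).conj (inv_mem (hK.norm hg))
    rwa [← e, show g⁻¹ * (g * v * g⁻¹) * g⁻¹⁻¹ = v by group] at this
  · rw [e, bot_sup_eq] at hU
    exact hU.trans inf_le_right

theorem ncard_J (H : ∀ w ∈ N[E], Four t w → w ∈ E) :
    (J C{t} \ {t}).ncard ≤ (N[E]).relIndex C{t} * m := by
  obtain ⟨S, -, -, h2⟩ := B.inner' H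
  obtain ⟨R, hR, hc, -, h3⟩ := exists_trans N[E] C{t}
  rw [← hc, ← B.kl.ncard_in B.qs B.tE B.ht, ← Set.ncard_coe_finset, ← Set.ncard_prod]
  refine (Set.ncard_le_ncard (fun v hv => ?_)).trans
    (Set.ncard_image_le (f := fun q : G × G => q.1 * q.2 * q.1⁻¹))
  have hf := (four_iff B.ht).2 hv
  obtain ⟨g, hg, c, hc, e⟩ := h2 v hf
  obtain ⟨a, ha, h4⟩ := h3 _ (inv_mem hg)
  refine ⟨(a, a⁻¹ * v * a⁻¹⁻¹), ⟨ha, hf.of_cl (conj_mem_cl (inv_mem (hR a ha)) (self_mem_cl _ _)), ?_⟩,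
    by group⟩
  have := conj_mem h4 (e ▸ mul_mem B.sE hc.1)
  rwa [show a⁻¹ * g⁻¹ * (g * v * g⁻¹) * (a⁻¹ * g⁻¹)⁻¹ = a⁻¹ * v * a⁻¹⁻¹ by group] at this

theorem index_eq : (N[E]).index * (J E).ncard = (C{t}).index * (N[E]).relIndex C{t} := by
  rw [← B.qs.cl_eq B.tE B.ht (norm_self E) le_rfl, ncard_cl, mul_comm, ← inf_relIndex_right,
    relIndex_mul_index inf_le_right, mul_comm, ← inf_relIndex_left, relIndex_mul_index inf_le_left]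

end BJ

namespace BK

variable (B : BK t s E m m' T p x z)
include B

theorem two_p : 2 * p ≤ m := Nat.le_of_dvd (by have := B.kl.two_le; omega)
  ((Nat.coprime_two_left.2 B.odd).mul_dvd_of_dvd_of_dvd B.kl.even_m.two_dvd
    (B.hzo ▸ B.kl.card_in t B.tE B.ht ▸ orderOf_dvd_card' B.hz))

theorem three_le : 3 ≤ p := by
  have := B.hp.two_le
  have := B.ne2
  omega

theorem z_ne : z ≠ 1 := ne_one_of_orderOf_prime (B.hzo.symm ▸ B.hp)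

theorem outer_gamma (hw : w ∈ N[E]) (hf : Four t w) (hE : w ∉ E)
    (h : (N[WW x z]).relIndex C{t} ≤ p + 1) : False := by
  obtain ⟨A, v, h1, h2, h3, h4, h5, h6⟩ := B.outer hw hf hE
  have hz := (B.kl.inv' h4 B.tN h5).of_le (zpowers_le.2 B.hz)
  have hx : Inv v (zpowers x) := inv_of_inf_C (B.cx ▸ B.odd) (sq_of h4.hs) (B.NX ▸ h5)
    (prime_inf_of_not_le (B.cx.symm ▸ B.hp) fun e => by
      have a1 := le_inf (le_sup_left.trans B.W_le_P) e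
      obtain ⟨E', _, _, _, B'⟩ := B.mc.exists_bi B.co B.hp h4 (ne_bot_of_le B.X_ne a1) fun e' =>
        ne_one_C (B.hzo ▸ B.odd) B.z_ne (hz z (mem_zpowers z))
          (e' (B.W_le_P (mem_sup_right (mem_zpowers z))))
      exact h6 (B.eq_of_cent B.X_le B.X_ne B'.qs.perfect
        (a1.trans ((inf_le_inf_right _ (PP_le_F B.hp t)).trans B'.Y_le)) B'.sE))
  have h7 : N[WW x z] ⊓ A = ⊥ := eq_bot_iff.2 fun y hy => by
    have a1 := (hx.sup hz B.xz).comm_le_C (sq_of h4.hs) (zpowers_le.2 hy.1) (mem_comm_of_inv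
      (mem_zpowers y) (odd_orderOf (h2 ▸ B.kl.odd_m') hy.2) (h3 y hy.2))
    exact B.kill (h1 hy.2) (B.NX ▸ C_le_N _ (C_anti le_sup_left a1))
      (B.kl.coprime.symm.coprime_dvd_left (h2 ▸ orderOf_dvd_card' hy.2)) h5 (h3 y hy.2)
  have h8 := card_inf_mul_relIndex N[WW x z] A
  have h9 := relIndex_le_of_le_right (H := N[WW x z]) (h1.trans (UU_nml t).le) (relIndex_ne_zero' _ _)
  rw [h7, card_bot, one_mul, h2] at h8
  have := B.two_p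
  have := B.three_le
  have := B.kl.mm'
  omega

theorem conj_W (h1 : h ∈ N[WW x z]) (h2 : h ∉ N[E]) :
    h * x * h⁻¹ ∈ WW x z ∧ h * x * h⁻¹ ∉ zpowers x :=
  ⟨conj_mem h1 (mem_sup_left (mem_zpowers x)), fun e => ne_one_of_orderOf_prime
    (B.hxo.symm ▸ B.hp) (conj_eq_one_iff'.1 (mem_bot.1 ((B.TI h2).le ⟨B.X_le e, conj_mem_cj h B.hx⟩)))⟩

theorem dec_W (h1 : y ∈ WW x z) (h2 : y ∉ zpowers x) :
    ∃ a ∈ zpowers x, ∃ b ∈ zpowers z, b ≠ 1 ∧ y = a * b := by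
  obtain ⟨a, ha, b, hb, rfl⟩ := (mem_sup_of_norm (norm_of_cent B.xz)).1 h1
  exact ⟨a, ha, b, hb, fun e => h2 (by rwa [e, mul_one]), rfl⟩

theorem eq_t (h1 : y ∈ WW x z) (h2 : y ∉ zpowers x) (hu : u ∈ J E) (hc : y ∈ C{u}) : u = t := by
  obtain ⟨a, ha, b, hb, hb1, rfl⟩ := B.dec_W h1 h2
  have h3 := zpowers_le.2 B.hz hb
  refine B.kl.eq_of_two B.qs B.tE B.ht (B.kl.cent t B.tN B.ht b (mem_sup_left h3) (fun e => hb1 ?_)
    ⟨hu.1, mem_C1_comm.1 ((mul_mem_cancel_left (C_le_C1 hu.1 (zpowers_le.2 B.xC ha))).1 hc)⟩) hu.2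
  exact eq_one_of_odd_of_sq (odd_orderOf (B.cz ▸ B.odd) hb)
    (mem_bot.1 ((B.kl.T_inf t B.tN B.ht).le ⟨mul_mem h3 h3, e⟩))

theorem z_mem (h1 : y ∈ WW x z) (h2 : y ∉ zpowers x) : z ∈ zpowers x ⊔ zpowers y := by
  obtain ⟨a, ha, b, hb, hb1, rfl⟩ := B.dec_W h1 h2
  exact zpowers_le.2 ((mul_mem_cancel_left (mem_sup_left ha)).1 (mem_sup_right (mem_zpowers _)))
    ((zpowers_eq_of_prime (B.cz.symm ▸ B.hp) hb hb1).ge (mem_zpowers z))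

theorem step (he : e ∈ E) (he' : e' ∈ E) (h1 : h ∈ N[WW x z]) (h2 : h ∉ N[E])
    (h1' : h' ∈ N[WW x z]) (H : (e * h)⁻¹ * (e' * h') ∈ N[E]) : e' * t * e'⁻¹ = e * t * e⁻¹ := by
  obtain ⟨a1, a2⟩ := B.conj_W h1 h2
  have a3 := cj_mono (e⁻¹ * e') ((cj_le_of_mem_N le_sup_left h1').trans B.W_le_H)
  rw [← cj_mul, show e⁻¹ * e' * h' = h * ((e * h)⁻¹ * (e' * h')) by group, cj_mul,
    cj_of_mem_N (B.NX.ge H), cj_C1] at a3
  have a4 := B.eq_t a1 a2 ⟨conj_mem (norm_self E (mul_mem (inv_mem he) he')) B.tE, two_conj B.ht _⟩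
    (a3 (conj_mem_cj h (mem_zpowers x)))
  conv_rhs => rw [← a4]
  group

theorem W_le_EC : WW x z ≤ E ⊔ C[E] :=
  sup_le (le_sup_of_le_right (zpowers_le.2 B.xC)) (le_sup_of_le_left (zpowers_le.2 B.zE))

theorem pair_le (he : e ∈ E) (h1 : y ∈ WW x z) (h2 : w ∈ WW x z) :
    zpowers y ⊔ zpowers (e * w * e⁻¹) ≤ E ⊔ C[E] :=
  sup_le (zpowers_le.2 (B.W_le_EC h1))
    (zpowers_le.2 (conj_mem (norm_self _ (mem_sup_left he)) (B.W_le_EC h2)))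

theorem pair_four (he : e ∈ E) (h1 : y ∈ WW x z) (h1' : y ∉ zpowers x) (h2 : w ∈ WW x z)
    (h2' : w ∉ zpowers x) (H : ∀ z' ∈ T (e * t * e⁻¹), orderOf z' = orderOf z →
      ¬ Odd ♯(closure ({z, z'} : Set G))) :
    ∃ a ∈ zpowers y ⊔ zpowers (e * w * e⁻¹), ∃ b ∈ zpowers y ⊔ zpowers (e * w * e⁻¹), Four a b := by
  by_contra! hh
  have a1 : Hall {2}ᶜ _ O[{2}ᶜ, _] :=
    B.mc.cd.ncompl_of_not_fused fun a ha b hb hf => absurd hf (hh a ha b hb)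
  have o : ∀ v ∈ WW x z, PiElt {2}ᶜ v := fun v hv =>
    piElt_odd.2 (odd_orderOf (PP_odd p t) (B.W_le_P hv))
  have a2 := (pcore_pi _ _).of_le (sup_le
    (zpowers_le.2 (a1.mem_pcore (o y h1) (mem_sup_left (mem_zpowers _))))
    (zpowers_le.2 (a1.mem_pcore ((o w h2).conj e) (mem_sup_right (mem_zpowers _)))))
  have a3 := (o x (mem_sup_left (mem_zpowers x))).isPi.sup a2 ((B.pair_le he h1 h2).trans
    ((sup_le (norm_self E) (C_le_N E)).trans B.NX.ge))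
  have a4 := conj_mem_cj e (B.z_mem h2 h2')
  rw [cj_sup, cj_of_mem_N (B.NX.ge (norm_self E he)), cj_zpowers] at a4
  refine H (e * z * e⁻¹) (B.kl.T_cj e (norm_self E he) t B.tN B.ht ▸ conj_mem_cj e B.hz)
    (orderOf_conj e z) (isPi_odd.1 (a3.of_le ((closure_le _).2 (Set.insert_subset_iff.2 ⟨?_,
      Set.singleton_subset_iff.2 ?_⟩))))
  · exact (sup_le_sup_left le_sup_left (zpowers x) : (_ : Subgroup G) ≤ _) (B.z_mem h1 h1')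
  · exact (sup_le_sup_left le_sup_right (zpowers x) : (_ : Subgroup G) ≤ _) a4

theorem index_ge : ∃ d g, (N[E]).relIndex (C{t} ⊓ N[WW x z]) ≤ d + 1 ∧
    (J E).ncard ≤ g + (2 * (m + m') + 1) ∧ (J E).ncard * (d * (g * d)) ≤ (N[E]).index := by
  classical
  obtain ⟨R, hR, hc, hi, -⟩ := exists_trans N[E] (C{t} ⊓ N[WW x z])
  have he : ∀ u, ∃ e ∈ E, u ∈ J E → e * t * e⁻¹ = u := fun u => by
    by_cases hu : u ∈ J E
    · obtain ⟨e, h1, h2⟩ := B.qs.conj t B.tE u hu.1 B.ht hu.2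
      exact ⟨e, h1, fun _ => h2⟩
    · exact ⟨1, one_mem _, fun h => absurd h hu⟩
  choose e he he' using he
  have k6 := B.kl.k6 t B.tE B.ht z B.hz (B.hzo.symm ▸ B.hp) (B.hzo.symm ▸ B.ne2)
  set D := {t' | t' ∈ J E ∧ ∃ z' ∈ T t', orderOf z' = orderOf z ∧
    Odd ♯(closure ({z, z'} : Set G))} with hD
  refine ⟨(R.filter (· ∉ N[E])).card, (J E \ D).ncard, ?_,
    (Set.ncard_le_ncard_sdiff_add_ncard _ D).trans (by omega), ?_⟩
  · rw [← hc, ← Finset.card_filter_add_card_filter_not (s := R) (· ∉ N[E])]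
    refine Nat.add_le_add_left (Finset.card_le_one.2 fun a ha b hb => ?_) _
    simp only [Finset.mem_filter, not_not] at ha hb
    exact hi a ha.1 b hb.1 (mul_mem (inv_mem ha.2) hb.2)
  have step : ∀ u ∈ J E, ∀ u' ∈ J E, ∀ h ∈ R.filter (· ∉ N[E]), ∀ h' ∈ R.filter (· ∉ N[E]),
      (e u * h)⁻¹ * (e u' * h') ∈ N[E] → u = u' ∧ h = h' := fun u hu u' hu' h hh h' hh' H => by
    rw [Finset.mem_filter] at hh hh'
    have := B.step (he u) (he u') (hR h hh.1).2 hh.2 (hR h' hh'.1).2 H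
    rw [he' u hu, he' u' hu'] at this
    subst this
    exact ⟨rfl, hi h hh.1 h' hh'.1 (by simpa [mul_assoc] using H)⟩
  have key : ∀ u ∈ J E, ∀ h ∈ R.filter (· ∉ N[E]),
      cj (e u * h)⁻¹ (zpowers x) = zpowers (h⁻¹ * x * h⁻¹⁻¹) ∧ h⁻¹ * x * h⁻¹⁻¹ ∈ WW x z ∧
      h⁻¹ * x * h⁻¹⁻¹ ∉ zpowers x ∧ h * x * h⁻¹ ∈ WW x z ∧ h * x * h⁻¹ ∉ zpowers x :=
    fun u hu h hh => by
      rw [Finset.mem_filter] at hh
      have a1 := B.conj_W (inv_mem (hR h hh.1).2) fun e => hh.2 (inv_mem_iff.1 e)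
      refine ⟨?_, a1.1, a1.2, B.conj_W (hR h hh.1).2 hh.2⟩
      rw [mul_inv_rev, cj_mul, cj_of_mem_N (B.NX.ge (norm_self E (inv_mem (he u)))), cj_zpowers]
  rw [← Set.ncard_coe_finset, ← Set.ncard_prod, ← Set.ncard_prod, ← Set.ncard_prod, index_eq_card,
    ← Set.ncard_univ]
  refine Set.ncard_le_ncard_of_injOn (fun q : G × G × G × G =>
    ((e q.1 * q.2.1 * (e q.2.2.1 * q.2.2.2) : G) : G ⧸ N[E])) (fun _ _ => Set.mem_univ _) ?_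
  rintro ⟨u1, h1, u2, h2⟩ ⟨hu1, hh1, hu2, hh2⟩ ⟨v1, k1, v2, k2⟩ ⟨hv1, hk1, hv2, hk2⟩ H
  simp only [Finset.mem_coe] at hu1 hh1 hu2 hh2 hv1 hk1 hv2 hk2
  replace H := QuotientGroup.eq.1 H
  simp only at H
  obtain ⟨a1, a2, a3, -⟩ := key u1 hu1 h1 hh1
  obtain ⟨-, -, -, a4, a5⟩ := key u2 hu2.1 h2 hh2
  obtain ⟨b1, b2, -⟩ := key v1 hv1 k1 hk1
  obtain ⟨-, -, -, b4, -⟩ := key v2 hv2.1 k2 hk2
  obtain ⟨a, ha, b, hb, hf⟩ := B.pair_four (he u2) a2 a3 a4 a5 fun z' h1 h2 h3 =>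
    hu2.2 ⟨hu2.1, z', he' u2 hu2.1 ▸ h1, h2, h3⟩
  have c1 := B.pair_le (he u2) a2 a4
  have c2 := cj_mono ((e u1 * h1)⁻¹ * (e v1 * k1)) (B.pair_le (he v2) b2 b4)
  have c3 := cj_eq_cj_iff.2 (B.NX.ge H)
  have c5 : cj ((e u1 * h1)⁻¹ * (e v1 * k1)) (zpowers (e v2 * (k2 * x * k2⁻¹) * (e v2)⁻¹)) =
      zpowers (e u2 * (h2 * x * h2⁻¹) * (e u2)⁻¹) := by
    rw [← cj_zpowers (e v2), ← cj_zpowers k2, ← cj_mul (e v2), ← cj_mul, mul_assoc, cj_mul, c3,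
      ← cj_mul, inv_mul_cancel_left, cj_mul, cj_zpowers, cj_zpowers]
  rw [cj_sup, ← b1, ← cj_mul, mul_inv_cancel_right, a1, c5] at c2
  have c4 : ∀ a ∈ zpowers (h1⁻¹ * x * h1⁻¹⁻¹) ⊔ zpowers (e u2 * (h2 * x * h2⁻¹) * (e u2)⁻¹),
      orderOf a = 2 → a ∈ E ∧ a ∈ cj ((e u1 * h1)⁻¹ * (e v1 * k1)) E := fun a ha h2 =>
    ⟨B.qs.mem_of_two (c1 ha) (pi_two h2), mem_cj.2 (B.qs.mem_of_two (mem_cj.1 (c2 ha))
      (by simpa using (pi_two h2).conj ((e u1 * h1)⁻¹ * (e v1 * k1))⁻¹))⟩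
  obtain ⟨rfl, rfl⟩ := step u1 hu1 v1 hv1 h1 hh1 k1 hk1 (B.four_cj hf (c4 a ha hf.ht).1
    (c4 b hb hf.hs).1 (c4 a ha hf.ht).2 (c4 b hb hf.hs).2)
  obtain ⟨rfl, rfl⟩ := step u2 hu2.1 v2 hv2.1 h2 hh2 k2 hk2 (by simpa [mul_assoc] using H)
  rfl

theorem inner_gamma (H : ∀ w ∈ N[E], Four t w → w ∈ E)
    (h : (N[WW x z]).relIndex C{t} ≤ p + 1) : False := by
  obtain ⟨d, g, h1, h2, h3⟩ := B.index_ge
  refine bi_arith B.index_eq (B.mc.index_le B.ht) (B.ncard_J H) ?_ B.two_le_c B.c_le B.two_p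
    B.three_le B.kl.card_J (by have := B.kl.mm'; omega) h3 h1 h2
  refine (relIndex_le_of_le_left (inf_le_left (b := N[WW x z])) (relIndex_ne_zero' _ _)).trans ?_
  rw [← relIndex_inf_mul_relIndex, inf_comm]
  exact Nat.mul_le_mul_left _ h

theorem false : False := by
  by_cases H : ∀ w ∈ N[E], Four t w → w ∈ E
  · by_cases h : PP p t ≤ N[PP p t ⊓ N[E]]
    · exact B.inner_gamma H (B.gamma h)
    · obtain ⟨K, h1, h2, h3, h4⟩ := B.beta h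
      exact B.inner_beta H h1 h2 h3 h4
  · push Not at H
    obtain ⟨w, hw, hf, hE⟩ := H
    by_cases h : PP p t ≤ N[PP p t ⊓ N[E]]
    · exact B.outer_gamma hw hf hE (B.gamma h)
    · obtain ⟨K, h1, h2, -, h4⟩ := B.beta h
      exact B.outer_beta hw hf hE h1 h2 h4

end BK

theorem MC.caseBI (h : MC G) (hH : IsCoatom C{t}) (hp : p.Prime) (hf : Four t s)
    (h1 : PP p t ⊓ C{s} ≠ ⊥) (h2 : ¬ PP p t ≤ C{s}) : False := by
  obtain ⟨E, m, m', T, B⟩ := h.exists_bi hH hp hf h1 h2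
  have h3 : PP p t ⊓ C{s} ≤ YY t s := inf_le_inf_right _ (PP_le_F hp t)
  obtain ⟨x, hx, hxo⟩ := exists_orderOf_eq hp (((pcore_pi _ _).inf_left _).dvd_card h1)
  obtain ⟨z, hz, hzo⟩ := exists_orderOf_eq hp (B.kl.card_in t B.tE hf.ht ▸ B.prim p hp
    ((pcore_ne_bot_iff_dvd_Fitting hp).1 (ne_bot_of_le h1 inf_le_left)))
  exact BK.false ⟨⟨B, h, hH, ne_bot_of_le h1 h3⟩, hp, h3 hx, hxo, hz, hzo⟩

end H13.Dih
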