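import Mathlib
import Cfsg.Agent.H13.DihBI

/-! The Gorenstein–Walter theorem. -/

set_option autoImplicit false

namespace H13.Dih

open H24 H26 Cfsg Subgroup

universe u

variable {G : Type u} [Group G] [Finite G]

theorem MC.main (h : MC G) : IsL2 G ∨ IsA7 G := by
  obtain ⟨t, s, hf⟩ := h.ex4
  have ht := hf.ht
  by_cases hU : O[{2}ᶜ, C{t}] = ⊥
  · exact Or.inl (h.isL2_of_bot ht hU)
  by_cases hs : ∀ M : Subgroup G, C{t} ≤ M → M ≠ ⊤ → Sol M
  swap
  · push Not at hs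
    obtain ⟨M, h1, h2, h3⟩ := hs
    exact Or.inr (h.caseC ht hU h1 h2 h3)
  by_cases hH : IsCoatom C{t}
  swap
  · exact Or.inr (h.caseA ht hU hs hH)
  by_cases H : HII t
  · obtain ⟨S, K, hD, hK⟩ := h.caseBII ht hU hH H
    exact Or.inl (h.isL2_of_delta ht hH hD hK)
  · simp only [HII, not_forall, not_or] at H
    obtain ⟨p, hp, v, hv, h1, h2⟩ := H
    exact (h.caseBI hH hp hv h1 h2).elim

theorem CD.sol_of_no_four (h : CD G) {L : Subgroup G} (H : ∀ t ∈ L, ∀ s ∈ L, ¬ Four t s) :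
    NCompl {2} L :=
  h.ncompl_of_not_fused fun t ht s hs hf => absurd hf (H t ht s hs)

theorem CD.sol_quo (h : CD G) {K : Subgroup G} (hK : K ⊴ ⊤) {t s : G} (hf : Four t s)
    (hV : V4 t s ≤ K) : Sol (quo ⊤ K) := by
  obtain ⟨S, hS, hVS⟩ := Sylow_superset Nat.prime_two hf.V_pi le_top
  obtain ⟨a, ha, H⟩ := h.ex hS.pi
  obtain ⟨v, hv, hva⟩ : ∃ v ∈ V4 t s, v ∉ zpowers a := by
    by_contra! e
    exact hf.V_ncyc ((cyc_zpowers a).of_le e)
  have h1 : S ≤ zpowers a ⊔ K := fun g hg => by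
    by_cases e : g ∈ zpowers a
    · exact mem_sup_left e
    · exact (mul_mem_cancel_right (mem_sup_right (hV hv))).1
        (mem_sup_left ((H g hg e).2.2 v (hVS hv) hva))
  have h2 : Cyc (quo S K) := ((cyc_zpowers a).quo K).of_le
    ((quo_le_quo_iff (le_top.trans hK.norm) (le_top.trans hK.norm)).2 h1)
  refine sol_of_ncompl ((h.qn K).sol_of_no_four fun x hx y hy hxy => ?_)
  obtain ⟨g, -, e⟩ := Sylow_Jsub Nat.prime_two (hS.quo hK.norm) hxy.V_pi (Four.V_le.2 ⟨hx, hy⟩)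
  exact hxy.V_ncyc (cyc_cj.1 (h2.of_le e))

theorem CD.four_of_nml (h : CD G) (hs : ¬ Sol (⊤ : Subgroup G))
    (hO : O[{2}ᶜ, (⊤ : Subgroup G)] = ⊥) {K : Subgroup G} (hK : K ⊴ ⊤) (h1 : K ≠ ⊥) :
    ∃ t ∈ K, ∃ s ∈ K, Four t s := by
  by_contra! H
  have h2 : O[{2}ᶜ, K] = ⊥ := eq_bot_of_le hO (hK.pcore_le _)
  obtain ⟨S, hS⟩ := Sylow_exists Nat.prime_two K
  have h3 := (ncompl_iff hS).1 (h.sol_of_no_four H)
  rw [h2] at h3
  obtain rfl := h3.eq_of_left_bot
  obtain ⟨z, hz, hz2⟩ := exists_two_of_pi hS.pi h1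
  have hc : Cyc S := by
    by_contra hc
    obtain ⟨a, x, hD, h4⟩ := h.ddata hS.pi hc
    have ha : zpowers a ≤ S := fun y hy => (hD.mem y).2 (Or.inl hy)
    have hx : x ∈ S := (hD.mem x).2 (Or.inr (by rw [inv_mul_cancel]; exact one_mem _))
    obtain ⟨w, hw, hw2⟩ := exists_two_of_pi (hS.pi.of_le ha) fun e => by
      rw [← card_zpowers', e, card_bot] at h4
      omega
    exact H w (ha hw) x hx (four_of_ddata (hD.le_centralizer hw2 hw) hD hw2 hw hx hD.nmem)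
  exact hs ((h.sol_C hz2).of_le fun g hg => mem_C1_iff_conj.2
    (eq_of_mem_cyc hc hz2 (two_conj hz2 g) hz (hK.conj_mem hg hz)))

theorem gw_of_quotient (h : GW (G ⧸ oddCore G)) : GW G := by
  have e1 : oddCore G = O[{2}ᶜ, (⊤ : Subgroup G)] := (pcore_compl_singleton_top Nat.prime_two).symm
  have e2 : oddCore (G ⧸ oddCore G) = O[{2}ᶜ, (⊤ : Subgroup (G ⧸ oddCore G))] :=
    (pcore_compl_singleton_top Nat.prime_two).symm
  have hf := QuotientGroup.mk'_surjective (oddCore G)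
  have key : oddCore (G ⧸ oddCore G) = ⊥ := by
    rw [← (comap_injective hf).eq_iff, MonoidHom.comap_bot, QuotientGroup.ker_mk']
    have h0 := ker_le_comap (QuotientGroup.mk' (oddCore G)) (oddCore (G ⧸ oddCore G))
    have h1 := card_mul_relIndex h0
    rw [relIndex_ker, map_comap_eq_self_of_surjective hf] at h1
    rw [QuotientGroup.ker_mk'] at h0 h1
    refine le_antisymm (le_trans (le_O ?_ (nml_top _)) e1.ge) h0
    rw [← h1]
    exact (e1 ▸ odd_pcore _ : Odd ♯(oddCore G)).mul (e2 ▸ odd_pcore _)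
  have e : (G ⧸ oddCore G) ⧸ oddCore (G ⧸ oddCore G) ≃* G ⧸ oddCore G :=
    (QuotientGroup.quotientMulEquivOfEq key).trans QuotientGroup.quotientBot
  rcases h with ⟨F, _, _, h1, h2, ⟨e'⟩⟩ | ⟨⟨e'⟩⟩
  · exact Or.inl ⟨F, _, _, h1, h2, ⟨e.symm.trans e'⟩⟩
  · exact Or.inr ⟨e.symm.trans e'⟩

theorem gw_main (n : ℕ) : ∀ (X : Type u) [Group X] [Finite X], Nat.card X = n → CD X →
    ⁅(⊤ : Subgroup X), (⊤ : Subgroup X)⁆ = ⊤ → (⊤ : Subgroup X) ≠ ⊥ → GW X := by
  induction n using Nat.strong_induction_on with | h n ih => ?_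
  intro X _ _ hn hX hp h1
  have hs : ¬ Sol (⊤ : Subgroup X) := fun e => h1 (eq_bot_of_perfect hp e)
  have e1 : oddCore X = O[{2}ᶜ, (⊤ : Subgroup X)] := (pcore_compl_singleton_top Nat.prime_two).symm
  have ho : Odd ♯(oddCore X) := e1 ▸ odd_pcore _
  by_cases hO : oddCore X = ⊥
  swap
  · have hf := QuotientGroup.mk'_surjective (oddCore X)
    refine gw_of_quotient (ih _ ?_ _ rfl (hX.of_surjective _ hf) ?_ fun e => hs ?_)
    · rw [← hn, card_eq_card_quotient_mul_card_subgroup (oddCore X)]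
      exact lt_mul_of_one_lt_right Nat.card_pos (one_lt_card hO)
    · rw [← map_top_of_surjective _ hf, ← map_commutator, hp]
    · rw [← map_top_of_surjective _ hf, Subgroup.map_eq_bot_iff, QuotientGroup.ker_mk'] at e
      exact (sol_of_odd ho).of_le e
  have h4 := fun K => hX.four_of_nml hs (e1 ▸ hO) (K := K)
  have hM : MC X := by
    have : Nontrivial X := by
      obtain ⟨x, -, hx⟩ := exists_ne_one h1
      exact ⟨x, 1, hx⟩
    refine ⟨⟨fun K hK => ?_⟩, hX, ?_, fun L hL hL1 hLp => ?_⟩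
    · by_cases e : K = ⊥
      · exact Or.inl e
      obtain ⟨t, ht, s, hs, hf⟩ := h4 K (nml_top K) e
      have hN := (nml_top K).norm
      exact Or.inr (top_le_iff.1 ((quo_eq_bot hN).1 (eq_bot_of_perfect
        (by rw [← quo_comm hN hN, hp]) (hX.sol_quo (nml_top K) hf (Four.V_le.2 ⟨ht, hs⟩)))))
    · obtain ⟨t, -, s, -, hf⟩ := h4 ⊤ (Nml.refl _) h1
      exact ⟨t, s, hf.ht, hf.hs, hf.ne, hf.comm⟩
    · refine ih _ ?_ L rfl (hX.subgroup L) ?_ fun e => hL1 ?_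
      · rw [← hn, ← card_top (G := X)]
        exact card_lt hL.lt_top
      · apply map_injective L.subtype_injective
        rw [map_commutator, map_subtype_top, hLp]
      · rw [← map_subtype_top L, e, Subgroup.map_bot]
  have e : X ⧸ oddCore X ≃* X :=
    (QuotientGroup.quotientMulEquivOfEq hO).trans QuotientGroup.quotientBot
  rcases hM.main with ⟨F, _, _, h1, h2, ⟨e'⟩⟩ | ⟨⟨e'⟩⟩
  · exact Or.inl ⟨F, _, _, h1, h2, ⟨e.trans e'⟩⟩
  · exact Or.inr ⟨e.trans e'⟩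

/-- Gorenstein–Walter: a nontrivial perfect group all of whose 2-subgroups are cyclic or dihedral. -/
theorem gw_of_cd (h : CD G) (hp : ⁅(⊤ : Subgroup G), (⊤ : Subgroup G)⁆ = ⊤)
    (h1 : (⊤ : Subgroup G) ≠ ⊥) : GW G :=
  gw_main _ G rfl h hp h1

theorem gorenstein_walter [hp : Group.IsPerfect G] (S : Sylow 2 G) (n : ℕ) (hn : 2 ≤ n)
    (hS : Nonempty ((S : Subgroup G) ≃* DihedralGroup n)) : GW G := by
  obtain ⟨e⟩ := hS
  refine gw_of_cd (cd_of_dihedral S e) hp.commutator_eq_top fun h => ?_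
  have h1 := Nat.card_congr e.toEquiv
  rw [eq_bot_of_le h (le_top : (S : Subgroup G) ≤ ⊤), card_bot, DihedralGroup.nat_card] at h1
  omega

end H13.Dih
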