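import Mathlib
import Cfsg.Prelude.Def_CaseTheorems
import Cfsg.Prelude.Def_Characters
import Cfsg.Agent.H24.Base5
import Cfsg.Agent.H22.WrFusion
import Cfsg.Agent.H4.GD

/-!
# Vocabulary for groups with wreathed Sylow 2-subgroups (definitions only)

`N = 2 ^ n`, `S = Z_N ≀ Z_2`, `E0 = Z_N × Z_N`, `t = (-1,-1)`, `u = (-1,1)`, `σ` the swap,
`w` an element acting on `E0` with order three, `H = C(t)`, `O = O(H)`.
-/

set_option autoImplicit false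

namespace H13.W

open H24 Cfsg Subgroup
open H22 (WR WA Bj hh)

universe u

/-- Coordinates for a group with wreathed Sylow 2-subgroup and full fusion. -/
structure WC (G : Type u) [Group G] where
  n : ℕ
  hn : 2 ≤ n
  P : Sylow 2 G
  E : WR (P : Subgroup G) n
  w : G
  hw : ∀ a : WA n, w * E.r a * w⁻¹ = E.r (a.2, -a.1 - a.2)
  fus : ∃ h : G, (∀ j, h * E.r (j, j) = E.r (j, j) * h) ∧ h * E.s 0 * h⁻¹ = E.r (hh n, 0)

namespace WC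

variable {G : Type u} [Group G] (c : WC G)

def t : G := c.E.r (hh c.n, hh c.n)
def u : G := c.E.r (hh c.n, 0)
def σ : G := c.E.s 0
def S : Subgroup G := c.P
def E0 : Subgroup G := c.E.rsub ⊤
def Z : Subgroup G := c.E.rsub (Bj c.n 0)
def H : Subgroup G := C{c.t}
def O : Subgroup G := O[{2}ᶜ, C{c.t}]
/-- `k = |O : C_O(u)|` -/
noncomputable def k : ℕ := (c.O ⊓ C{c.u}).relIndex c.O

end WC

/-- Abstract description of a group `Γ` with `PGL₂(q) = L0 ≤ Γ ≤ PΓL₂(q)`, `|Γ : L0|` odd,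
`q - ε = 2 ^ n * m'`, acting on the projective line `Ω`.  `L = PSL₂(q)`, `T` is the torus of
order `q - ε`, `e` generates its Sylow 2-subgroup, `s ∈ L` is an involution inverting `T`. -/
structure PD (Γ : Type) [Group Γ] (n : ℕ) where
  N : H4.NP
  m' : ℕ
  odd_m' : Odd m'
  hm : N.m = 2 ^ n * m'
  Ω : Type
  [fΩ : Fintype Ω]
  [act : MulAction Γ Ω]
  cardΩ : Fintype.card Ω = N.q + 1
  L : Subgroup Γ
  L0 : Subgroup Γ
  T : Subgroup Γ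
  e : Γ
  s : Γ
  L_le : L ≤ L0
  L_nml : L.Normal
  L0_nml : L0.Normal
  odd_index : Odd L0.index
  L_index : L.relIndex L0 = 2
  card_L0 : ♯L0 = N.q * N.m * N.n
  two_trans : ∀ x y x' y' : Ω, x ≠ y → x' ≠ y' → ∃ g ∈ L0, g • x = x' ∧ g • y = y'
  T_le : T ≤ L0
  T_cyc : Cyc T
  card_T : ♯T = N.m
  e_mem : e ∈ T
  ord_e : orderOf e = 2 ^ n
  e_not : e ∉ L
  s_mem : s ∈ L
  s_sq : s * s = 1
  s_not : s ∉ T
  s_inv : ∀ y ∈ T, s * y * s⁻¹ = y⁻¹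
  fix_e : ∀ x ∈ zpowers e, x ≠ 1 → (Nat.card (MulAction.fixedBy Ω x) : ℤ) = 1 + N.ε
  fix_es : (Nat.card (MulAction.fixedBy Ω (e * s)) : ℤ) = 1 - N.ε
  cent_T : ∀ y ∈ T, y * y ≠ 1 → L0 ⊓ C{y} ≤ T
  cent_u : ∀ g, g ∈ C{e ^ 2 ^ (n - 1)} → g ∈ C{e} ∨ g * s ∈ C{e}
  cover : L0 ⊔ C{e} = ⊤
  inv_conj : ∀ a ∈ L, orderOf a = 2 → ∃ g ∈ L, g * e ^ 2 ^ (n - 1) * g⁻¹ = a
  comm_le : commutator Γ ≤ L
  cyc_quot : ∃ φ, L0 ⊔ zpowers φ = ⊤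
  /-- proper field automorphisms centralise only a small part of `T` -/
  fld_T : ∀ φ ∈ C{e}, φ ∉ T → ♯(T ⊓ C{φ}) ^ 2 < N.m
  /-- proper field automorphisms act nontrivially on a root group -/
  fld_U : ∀ φ ∈ C{e} ⊓ C{s}, Odd (orderOf φ) → φ ≠ 1 →
    ∃ U : Subgroup Γ, IsPi {N.p} U ∧ φ ∈ N[U] ∧ φ ∉ C[U]
  rootfree : ∀ r : ℕ, r.Prime → r ≠ 2 → (N.ε = -1 ∨ r ≠ N.p) → ∀ X : Subgroup Γ, IsPi {r} X →
    e ∈ N[X] → X ≤ C{e}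
  nml_big : N.q ≠ 3 → ∀ K : Subgroup Γ, K.Normal → K ≠ ⊥ → L ≤ K
  perfect : N.q ≠ 3 → ⁅L, L⁆ = L
  cyc_syl : ∀ r : ℕ, r.Prime → r ≠ 2 → r ≠ N.p → ∀ X ≤ L0, IsPi {r} X → Cyc X
  /-- the concrete model -/
  model : ∃ (F : Type) (_ : Field F) (_ : Fintype F), Fintype.card F = N.q ∧
    Nonempty (L0 ≃* Matrix.ProjGenLinGroup (Fin 2) F)

attribute [instance] PD.fΩ PD.act

/-- Root groups (split case `ε = 1`): `U` is normalised by `C(e)`, the opposite root group is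
`s U s⁻¹`. -/
structure Roots {Γ : Type} [Group Γ] {n : ℕ} (d : PD Γ n) (U : Subgroup Γ) : Prop where
  pi : IsPi {d.N.p} U
  card : ♯U = d.N.q
  le : U ≤ d.L
  norm : C{d.e} ≤ N[U]
  gen : U ⊔ cj d.s U = d.L
  inv_sub : ∀ X : Subgroup Γ, IsPi {d.N.p} X → C{d.e} ≤ N[X] → X = ⊥ ∨ X = U ∨ X = cj d.s U
  trans : ∀ x ∈ U, ∀ y ∈ U, x ≠ 1 → y ≠ 1 → ∃ c ∈ d.T, c * x * c⁻¹ = y
  fpf : ∀ c ∈ d.T, ∀ x ∈ U, c * x * c⁻¹ = x → c = 1 ∨ x = 1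
  fix : ∀ x ∈ U, x ≠ 1 → Nat.card (MulAction.fixedBy d.Ω x) = 1
  braid : ∀ x ∈ U, x ≠ 1 → ∃ y ∈ cj d.s U, y ≠ 1 ∧ x * y * x = y * x * y ∧
    x * y * x * (x * y * x) = 1 ∧ ∀ c ∈ d.T, x * y * x * c * (x * y * x)⁻¹ = c⁻¹
  /-- a subgroup without four-groups has at most `q` involutions in `L` -/
  invol : ∀ J : Subgroup Γ, (∀ a ∈ J, ∀ b ∈ J, a * a = 1 → b * b = 1 → a * b = b * a →
    a = 1 ∨ b = 1 ∨ a = b) → {a | a ∈ J ⊓ d.L ∧ orderOf a = 2}.ncard ≤ d.N.q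
  /-- large subgroups of odd order of `L` -/
  big : ∀ J ≤ d.L, Odd ♯J → d.N.q < ♯J → ∃ g ∈ d.L, U ≤ cj g J ∧ ∃ c ∈ d.T, c ≠ 1 ∧ c ∈ cj g J

/-- The structure of `H = C(t)`: `H / O Z ≅ Γ`, and the determinant `H → Z_N`. -/
structure Mod {G : Type u} [Group G] (c : WC G) where
  Γ : Type
  [grp : Group Γ]
  [fin : Finite Γ]
  d : PD Γ c.n
  κ : c.H →* Γ
  surj : Function.Surjective κ
  ker : ∀ x : c.H, κ x = 1 ↔ (x : G) ∈ c.O ⊔ c.Z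
  κ_r : ∀ a : WA c.n, ap κ (c.E.r a) = d.e ^ (a.1 - a.2).val
  κ_σ : ap κ c.σ = d.s
  det : c.H →* Multiplicative (ZMod (2 ^ c.n))
  det_r : ∀ a : WA c.n, ap det (c.E.r a) = Multiplicative.ofAdd (a.1 + a.2)
  det_σ : ap det c.σ = Multiplicative.ofAdd (hh c.n)
  centZ : ⁅c.H, c.Z⁆ ≤ c.O
  roots : d.N.ε = 1 → ∃ U, Roots d U

attribute [instance] Mod.grp Mod.fin

namespace Mod

variable {G : Type u} [Group G] {c : WC G} (M : Mod c)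

/-- `Q = ε q` -/
def Q : ℤ := M.d.N.ε * M.d.N.q
/-- `F = Q² + Q + 1` -/
def F : ℤ := M.Q ^ 2 + M.Q + 1
/-- `ε St(h)`, where `St + 1` is the permutation character on the projective line -/
noncomputable def St (h : G) : ℤ :=
  M.d.N.ε * (Nat.card (MulAction.fixedBy M.d.Ω (ap M.κ h)) - 1)

/-- Two irreducible characters of degree `q² + ε q + 1` in the principal 2-block. -/
structure Chi (fe fo : G → ℂ) : Prop where
  irr_e : IsIrrCharacter G fe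
  irr_o : IsIrrCharacter G fo
  deg_e : fe 1 = M.F
  deg_o : fo 1 = M.F
  val_e : fe c.t = M.Q + 2
  val_o : fo c.t = -M.Q
  inv_e : ∀ g, c.t ∈ zpowers g → ∀ o ∈ c.O, fe (g * o) = fe g
  inv_o : ∀ g, c.t ∈ zpowers g → ∀ o ∈ c.O, fo (g * o) = fo g
  diff : ∀ y ∈ c.H, Odd (orderOf y) → fe (c.t * y) - fo (c.t * y) = 2 * (1 + M.St y)

end Mod

/-- `x ∈ E0` is fixed by a reflection of `N(E0) / C(E0) ≅ S₃` -/
def Sing {n : ℕ} (x : WA n) : Prop := x.1 = x.2 ∨ x.2 = -x.1 - x.2 ∨ x.1 = -x.1 - x.2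

/-- `Θ` is the class function vanishing on elements of odd order which is described by the
`S₃`-invariant function `Λ` on `E0` and the function `ϑ` on the cyclic group `⟨ω⟩` of order `2 N`
(`ω = s (1, 0)`, `ω ^ (2 j) = r (j, j)`). -/
structure Spec {G : Type u} [Group G] {c : WC G} (M : Mod c) (Θ : G → ℂ) (Λ : WA c.n → ℂ)
    (ϑ : ℕ → ℂ) : Prop where
  cf : IsClassFunction G Θ
  odd : ∀ g, Odd (orderOf g) → Θ g = 0
  reg : ∀ x, ¬ Sing x → ∀ y ∈ C{c.E.r x}, Odd (orderOf y) → Θ (c.E.r x * y) = Λ x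
  cen : ∀ j : ℕ, 0 < j → j < 2 ^ c.n → ∀ y ∈ C{c.E.r (j, j)}, Odd (orderOf y) →
    Θ (c.E.r (j, j) * y) = (1 + M.St y) / 2 * Λ (j, j) + (1 - M.St y) / 2 * ϑ (2 * j)
  om : ∀ i : ℕ, Odd i → ∀ y ∈ C{c.E.s (1, 0) ^ i}, Odd (orderOf y) →
    Θ (c.E.s (1, 0) ^ i * y) = ϑ i

/-- Admissible data for `Spec`. -/
structure Adm {n : ℕ} (Λ : WA n → ℂ) (ϑ : ℕ → ℂ) : Prop where
  sw : ∀ a : WA n, Λ (a.2, a.1) = Λ a
  rot : ∀ a : WA n, Λ (a.2, -a.1 - a.2) = Λ a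
  zero : Λ 0 = 0
  per : ∀ i, ϑ (i + 2 ^ (n + 1)) = ϑ i
  half : ∀ i, Odd i → ϑ (i + 2 ^ n) = ϑ i
  zero' : ϑ 0 = 0

section Data

variable {n : ℕ}

/-- the standard faithful character of `Z_N` -/
noncomputable def ch (a : ZMod (2 ^ n)) : ℂ := ZMod.stdAddChar a
/-- power sums of the eigenvalues `(a, b, -a-b)` -/
noncomputable def pw (j : ZMod (2 ^ n)) (x : WA n) : ℂ :=
  ch (j * x.1) + ch (j * x.2) + ch (j * (-x.1 - x.2))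
/-- the orbit sum of the weight `(1, -1, 0)` -/
noncomputable def orb (x : WA n) : ℂ :=
  ch (x.1 - x.2) + ch (x.2 - x.1) + ch (x.1 - (-x.1 - x.2)) + ch ((-x.1 - x.2) - x.1) +
    ch (x.2 - (-x.1 - x.2)) + ch ((-x.1 - x.2) - x.2)
/-- `det⁻¹ ^ j` on `ω ^ i` -/
noncomputable def th (j : ZMod (2 ^ n)) (i : ℕ) : ℂ := ch (-j * ((i : ZMod (2 ^ n)) * (1 + hh n)))
/-- `θ + θ^σ` for a faithful character `θ` of `⟨ω⟩` -/
noncomputable def xi (n i : ℕ) : ℂ := if Even i then 2 * ch ((i / 2 : ℕ) : ZMod (2 ^ n)) else 0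

/-- The eight generalized characters `A₁ = f_e - f_o`, `A₂ = f_e - f̄_o`, `B₁ = g_e - g_o`,
`B₂ = g_e - ḡ_o`, `C = 1 - x + c`, `D = g_e - f_e - c`, `E = h - f_e - g_e`, `G = 1 + χ - f_e`:
values on `E0`. -/
noncomputable def Lam (n : ℕ) : Fin 8 → WA n → ℂ :=
  ![pw (hh n) - pw 1, pw (hh n) - pw (-1), pw (hh n) - pw 1, pw (hh n) - pw (-1), 0, 0,
    orb - 2 * pw (hh n), 3 - pw (hh n)]

/-- ... values on `⟨ω⟩`. -/
noncomputable def The (n : ℕ) : Fin 8 → ℕ → ℂ :=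
  ![th (hh n) - th (1 : ZMod (2 ^ n)), th (hh n) - th (-1 : ZMod (2 ^ n)),
    th (1 : ZMod (2 ^ n)) - th (hh n), th (-1 : ZMod (2 ^ n)) - th (hh n), 2 - xi n,
    xi n - 2 * th (hh n), 0, 1 - th (hh n)]

/-- Gram matrix -/
def Gram : Fin 8 → Fin 8 → ℤ :=
  ![![2, 1, 0, 0, 0, -1, -1, -1], ![1, 2, 0, 0, 0, -1, -1, -1], ![0, 0, 2, 1, 0, 1, -1, 0],
    ![0, 0, 1, 2, 0, 1, -1, 0], ![0, 0, 0, 0, 3, -1, 0, 1], ![-1, -1, 1, 1, -1, 3, 0, 1],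
    ![-1, -1, -1, -1, 0, 0, 3, 1], ![-1, -1, 0, 0, 1, 1, 1, 3]]

/-- inner products with the principal character -/
def One8 : Fin 8 → ℤ := ![0, 0, 0, 0, 1, 0, 0, 1]

/-- values at `t` -/
def Val8 (Q : ℤ) : Fin 8 → ℤ :=
  ![2 * (Q + 1), 2 * (Q + 1), 2 * (Q + 1), 2 * (Q + 1), -2 * (Q - 1), 2 * (Q - 1), -4 * (Q + 1), 0]

/-- `Q F ∑ c_X X(t)² / X(1)` in `PSL₃^ε(q)` -/
def Cls8 (Q : ℤ) : Fin 8 → ℤ :=
  ![4 * Q * (Q + 1), 4 * Q * (Q + 1), 4 * Q * (Q + 1), 4 * Q * (Q + 1), (Q - 1) * (Q + 1) ^ 2,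
    -(Q - 1) * (Q + 1) ^ 2, -(Q + 1) * (Q ^ 2 + 6 * Q + 1), (Q + 1) * (Q - 1) ^ 2]

end Data

/-- every 2-element centralising an involution `t` centralises `O(C(t))` -/
def Kp (G : Type u) [Group G] : Prop :=
  ∀ t : G, orderOf t = 2 → ∀ x ∈ C{t}, PiElt {2} x → O[{2}ᶜ, C{t}] ≤ C{x}

/-- The conclusion of the theorem. -/
def Concl (G : Type u) [Group G] : Prop :=
  (∃ (F : Type) (_ : Field F) (_ : Fintype F), Odd (Fintype.card F) ∧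
      Nonempty (G ≃* Matrix.ProjectiveSpecialLinearGroup (Fin 3) F)) ∨
    (∃ (F : Type) (_ : Field F) (_ : Fintype F) (q : ℕ), Fintype.card F = q ^ 2 ∧ Odd q ∧
      Nonempty (G ≃* Cfsg.PSU 3 F q)) ∨
    Cfsg.IsM11 G

end H13.W
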