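import Mathlib
import Cfsg.Agent.H13.WDefs
import Cfsg.Agent.H13.DihMC

/-! Basic 2-local facts for groups with wreathed Sylow 2-subgroups (coordinates only). -/

set_option autoImplicit false
set_option linter.unusedSectionVars false

namespace H13.W

open H24 H26 Cfsg Subgroup H13.Dih
open H22 (WR WA Bj hh sw)

universe u

/-- the odd core -/
scoped notation:max "𝒪[" L "]" => Cfsg.piCoreOf ({2} : Set ℕ)ᶜ L

section General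

variable {G : Type u} [Group G] [Finite G] {A K L X Y : Subgroup G} {x y : G}

theorem cop2 (hX : Odd ♯X) (hA : IsPi {2} A) : (♯X).Coprime ♯A :=
  (isPi_odd.2 hX).coprime' hA

theorem cent_prod2 (hX : Odd ♯X) (hA : IsPi {2} A) (hn : A ≤ N[X]) :
    IsProd ⁅X, A⁆ (X ⊓ C[A]) X := coprime_cent_prod hn (cop2 hX hA) (sol_of_odd hX)

theorem commGid2 (hX : Odd ♯X) (hA : IsPi {2} A) (hn : A ≤ N[X]) : ⁅⁅X, A⁆, A⁆ = ⁅X, A⁆ :=
  coprime_commGid hn (cop2 hX hA) (sol_of_odd hX)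

theorem odd_sup (hX : Odd ♯X) (hY : Odd ♯Y) (h : Y ≤ N[X]) : Odd ♯(X ⊔ Y) :=
  isPi_odd.1 ((isPi_odd.2 hX).sup (isPi_odd.2 hY) h)

theorem odd_sup' (hX : Odd ♯X) (hY : Odd ♯Y) (h : X ≤ N[Y]) : Odd ♯(X ⊔ Y) :=
  isPi_odd.1 ((isPi_odd.2 hX).sup' (isPi_odd.2 hY) h)

theorem odd_cj (hX : Odd ♯X) (g : G) : Odd ♯(cj g X) := by rwa [card_cj]

/-- elements of odd order of `X A`, `A` a 2-group normalising the odd group `X` -/
theorem mem_of_odd_sup (hX : Odd ♯X) (hA : IsPi {2} A) (hn : A ≤ N[X]) (hx : x ∈ X ⊔ A)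
    (ho : Odd (orderOf x)) : x ∈ X :=
  ((isProd_sup hn).hall_left (isPi_odd.2 hX) (by rwa [compl_compl])).mem_of_nml
    (nml_sup_left hn).norm (piElt_odd.2 ho) hx

theorem le_of_odd_sup (hX : Odd ♯X) (hA : IsPi {2} A) (hn : A ≤ N[X]) (hY : Odd ♯Y)
    (h : Y ≤ X ⊔ A) : Y ≤ X := fun _ hy => mem_of_odd_sup hX hA hn (h hy) (odd_orderOf hY hy)

/-- commutators with a group generated modulo a normal subgroup -/
theorem comm_le_of_gen (hK : L ≤ N[K]) (hA : A ≤ L) {P : Subgroup G → Prop}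
    (hgen : ∀ Z : Subgroup G, (∀ Y, P Y → Y ≤ Z) → X ≤ Z) (hP : ∀ Y, P Y → Y ≤ L ∧ ⁅Y, A⁆ ≤ K) :
    ⁅X, A⁆ ≤ K :=
  ((le_centQ (hA.trans hK)).1 (hgen (centQ A K) fun Y hY =>
    (le_centQ (hA.trans hK)).2 ⟨(hP Y hY).1.trans hK, (hP Y hY).2⟩)).2

theorem comm_sup_le (hA : A ≤ N[K]) (hX : X ≤ N[K]) (hY : Y ≤ N[K]) (h1 : ⁅X, A⁆ ≤ K)
    (h2 : ⁅Y, A⁆ ≤ K) : ⁅X ⊔ Y, A⁆ ≤ K :=
  ((le_centQ hA).1 (sup_le ((le_centQ hA).2 ⟨hX, h1⟩) ((le_centQ hA).2 ⟨hY, h2⟩))).2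

theorem comm_le_of_cent (h : X ≤ C[A]) : ⁅X, A⁆ ≤ K := by
  rw [comm_eq_bot.2 h]; exact bot_le

/-- an involution of `v X` is conjugate to `v` under `X` -/
theorem conj_of_coset (hX : Odd ♯X) {v a : G} (hv : v * v = 1) (ha : a * a = 1)
    (h : a * v⁻¹ ∈ X) : ∃ o ∈ X, o * a * o⁻¹ = v := by
  set z := a * v⁻¹ with hz
  have hv' : v⁻¹ = v := inv_eq_of_mul_eq_one_right hv
  have ha' : a⁻¹ = a := inv_eq_of_mul_eq_one_right ha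
  have e1 : a = z * v := by rw [hz]; group
  have hinv : v * z * v⁻¹ = z⁻¹ := by
    rw [hz, mul_inv_rev, inv_inv, ha', hv']
    calc v * (a * v) * v = v * a * (v * v) := by group
      _ = v * a := by rw [hv, mul_one]
  obtain ⟨k, hk⟩ := odd_orderOf hX h
  have hzk : z ^ (2 * k + 1) = 1 := by rw [← hk, pow_orderOf_eq_one]
  have hinvk : v * z ^ k * v⁻¹ = (z ^ k)⁻¹ := by
    rw [← inv_pow, ← hinv, conj_pow]
  refine ⟨z ^ k, X.pow_mem h k, ?_⟩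
  have : v * (z ^ k)⁻¹ = z ^ k * v := by
    have h2 : v * (z ^ k)⁻¹ * v⁻¹ = z ^ k := by
      have := congrArg (·⁻¹) hinvk
      simp only [mul_inv_rev, inv_inv] at this
      rw [mul_assoc]; exact this
    exact mul_inv_eq_iff_eq_mul.1 h2
  rw [e1, mul_assoc, mul_assoc, this]
  calc z ^ k * (z * (z ^ k * v)) = z ^ (2 * k + 1) * v := by group
    _ = v := by rw [hzk, one_mul]

/-- a power of `v o` is `v` -/
theorem mem_zpowers_of_comm {v o : G} (hv : orderOf v = 2) (ho : Odd (orderOf o))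
    (h : v * o = o * v) : v ∈ zpowers (v * o) :=
  mem_zpowers_mul_left h ((pi_two hv).coprime (piElt_odd.2 ho))

end General

namespace WC

variable {G : Type u} [Group G] (c : WC G)

/-- the normal four-group of `S` -/
def V : Subgroup G := V4 c.t c.u
/-- `D = C(V)` -/
def D : Subgroup G := C{c.t} ⊓ C{c.u}
/-- a generator of `E0` modulo `Z` -/
def ρ : G := c.E.r (1, 0)

theorem n1 : 1 ≤ c.n := by have := c.hn; omega
theorem hh2 : hh c.n + hh c.n = 0 := H22.hh_add_hh c.n1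
theorem nhh : -hh c.n = hh c.n := H22.neg_hh c.n1
theorem hh0 : hh c.n ≠ 0 := H22.hh_ne_zero c.n1

theorem ht : orderOf c.t = 2 := H22.WR.orderOf_z c.E c.n1
theorem hu : orderOf c.u = 2 := H22.WR.orderOf_u c.E c.n1
theorem hσ : orderOf c.σ = 2 := H22.WR.orderOf_s_zero c.E
theorem σσ : c.σ * c.σ = 1 := sq_of c.hσ
theorem σ_inv : c.σ⁻¹ = c.σ := inv_of c.hσ

theorem tu_eq : c.t * c.u = c.E.r (0, hh c.n) := by
  rw [t, u, c.E.r_mul_r]; congr 1; simp [c.hh2]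

theorem four : Four c.t c.u := by
  refine ⟨c.ht, c.hu, fun h => ?_, c.E.r_comm_r _ _⟩
  have := c.E.r_inj.1 h
  exact c.hh0 (congrArg Prod.snd this).symm

theorem htu : orderOf (c.t * c.u) = 2 := c.four.hts

theorem w_t : c.w * c.t * c.w⁻¹ = c.u := by
  rw [t, c.hw, u]; congr 1; simp [c.nhh]

theorem w_u : c.w * c.u * c.w⁻¹ = c.t * c.u := by
  rw [tu_eq, u, c.hw]; congr 1; simp [c.nhh]

theorem w_tu : c.w * (c.t * c.u) * c.w⁻¹ = c.t := by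
  rw [tu_eq, t, c.hw]; congr 1; simp [c.nhh]

theorem σ_r (a : WA c.n) : c.σ * c.E.r a * c.σ⁻¹ = c.E.r (a.2, a.1) := c.E.s_conj_r 0 a

theorem σ_t : c.σ * c.t * c.σ⁻¹ = c.t := c.σ_r _
theorem σ_u : c.σ * c.u * c.σ⁻¹ = c.t * c.u := by rw [tu_eq]; exact c.σ_r _
theorem σ_tu : c.σ * (c.t * c.u) * c.σ⁻¹ = c.u := by rw [tu_eq]; exact c.σ_r _

theorem isR : c.E.IsR c.E0 ⊤ := c.E.isR_rsub ⊤
theorem isRZ : c.E.IsR c.Z (Bj c.n 0) := c.E.isR_rsub _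

theorem mem_E0 {x : G} : x ∈ c.E0 ↔ ∃ a, c.E.r a = x :=
  ⟨fun ⟨a, _, h⟩ => ⟨a, h⟩, fun ⟨a, h⟩ => ⟨a, trivial, h⟩⟩
theorem r_mem (a : WA c.n) : c.E.r a ∈ c.E0 := c.mem_E0.2 ⟨a, rfl⟩
theorem mem_Z {x : G} : x ∈ c.Z ↔ ∃ j, c.E.r (j, j) = x :=
  ⟨fun ⟨a, ha, h⟩ => ⟨a.1, by
      rw [← h]; congr 1; exact Prod.ext rfl (H22.mem_Bj_zero.1 ha)⟩,
    fun ⟨j, h⟩ => ⟨(j, j), H22.diag_mem_Bj j, h⟩⟩

theorem E0_le_S : c.E0 ≤ c.S := c.isR.le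
theorem Z_le_E0 : c.Z ≤ c.E0 := fun _ h => by
  obtain ⟨j, rfl⟩ := c.mem_Z.1 h; exact c.r_mem _
theorem Z_le_S : c.Z ≤ c.S := c.Z_le_E0.trans c.E0_le_S
theorem t_mem_E0 : c.t ∈ c.E0 := c.r_mem _
theorem u_mem_E0 : c.u ∈ c.E0 := c.r_mem _
theorem ρ_mem_E0 : c.ρ ∈ c.E0 := c.r_mem _
theorem t_mem_Z : c.t ∈ c.Z := c.mem_Z.2 ⟨_, rfl⟩
theorem σ_mem_S : c.σ ∈ c.S := c.E.s_mem 0
theorem σ_not_mem : c.σ ∉ c.E0 := c.isR.s_not_mem 0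
theorem t_mem_S : c.t ∈ c.S := c.E0_le_S c.t_mem_E0
theorem u_mem_S : c.u ∈ c.S := c.E0_le_S c.u_mem_E0
theorem V_le_E0 : c.V ≤ c.E0 := Four.V_le.2 ⟨c.t_mem_E0, c.u_mem_E0⟩
theorem V_le_S : c.V ≤ c.S := c.V_le_E0.trans c.E0_le_S
theorem t_mem_V : c.t ∈ c.V := Four.t_mem
theorem u_mem_V : c.u ∈ c.V := Four.s_mem
theorem tu_mem_V : c.t * c.u ∈ c.V := Four.ts_mem
theorem mem_V {x : G} : x ∈ c.V ↔ x = 1 ∨ x = c.t ∨ x = c.u ∨ x = c.t * c.u := c.four.mem_V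
theorem abl_E0 : Abl c.E0 := c.isR.isMulCommutative
theorem C_V : C[c.V] = c.D := Four.C_V

theorem mem_S {x : G} (hx : x ∈ c.S) : x ∈ c.E0 ∨ x * c.σ ∈ c.E0 := by
  rcases c.E.cases hx with ⟨a, rfl⟩ | ⟨a, rfl⟩
  · exact Or.inl (c.r_mem a)
  · exact Or.inr (by rw [σ, c.E.s_mul_s]; exact c.r_mem _)

theorem S_le {X : Subgroup G} (h1 : c.E0 ≤ X) (h2 : c.σ ∈ X) : c.S ≤ X := fun x hx => by
  rcases c.mem_S hx with h | h
  · exact h1 h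
  · simpa using X.mul_mem (h1 h) (X.inv_mem h2)

theorem E0_le {X : Subgroup G} (h1 : c.Z ≤ X) (h2 : c.ρ ∈ X) : c.E0 ≤ X := fun x hx => by
  obtain ⟨a, rfl⟩ := c.mem_E0.1 hx
  have : c.E.r a = c.E.r (a.2, a.2) * c.ρ ^ (a.1 - a.2).val := by
    rw [ρ, c.E.r_pow, c.E.r_mul_r]; congr 1
    ext <;> simp
  rw [this]
  exact X.mul_mem (h1 (c.mem_Z.2 ⟨_, rfl⟩)) (X.pow_mem h2 _)

theorem S_le_CZ : c.S ≤ C[c.Z] := fun g hg => mem_C'.2 fun x hx => by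
  obtain ⟨j, rfl⟩ := c.mem_Z.1 hx
  have := c.E.r_diag_comm (H22.diag_mem_Bj j) hg
  rwa [mul_inv_eq_iff_eq_mul] at this

theorem S_le_H : c.S ≤ c.H := c.S_le_CZ.trans (C_le_C1 c.t_mem_Z)
theorem E0_le_H : c.E0 ≤ c.H := c.E0_le_S.trans c.S_le_H
theorem Z_le_H : c.Z ≤ c.H := c.Z_le_S.trans c.S_le_H
theorem σ_mem_H : c.σ ∈ c.H := c.S_le_H c.σ_mem_S
theorem t_mem_H : c.t ∈ c.H := c.S_le_H c.t_mem_S
theorem u_mem_H : c.u ∈ c.H := c.S_le_H c.u_mem_S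
theorem ρ_mem_H : c.ρ ∈ c.H := c.E0_le_H c.ρ_mem_E0
theorem D_le_H : c.D ≤ c.H := inf_le_left
theorem CE0_le_D : C[c.E0] ≤ c.D := by rw [← C_V]; exact C_anti c.V_le_E0
theorem E0_le_D : c.E0 ≤ c.D := c.abl_E0.le_C.trans c.CE0_le_D
theorem V_le_D : c.V ≤ c.D := c.V_le_E0.trans c.E0_le_D
theorem D_le_C {v : G} (hv : v ∈ c.V) : c.D ≤ C{v} := by rw [← C_V]; exact C_le_C1 hv
theorem E0_le_C {v : G} (hv : v ∈ c.V) : c.E0 ≤ C{v} := c.E0_le_D.trans (c.D_le_C hv)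
theorem O_le_H : c.O ≤ c.H := pcore_le _ _
theorem O_nml : c.O ⊴ c.H := pcore_nml _ _
theorem H_le_NO : c.H ≤ N[c.O] := c.O_nml.norm
theorem σ_not_mem_D : c.σ ∉ c.D := fun h => by
  have h1 := mem_C1_iff_conj.1 h.2
  rw [c.σ_u] at h1
  exact c.four.ts_ne_s h1

theorem u_eq_pow : c.u = c.ρ ^ 2 ^ (c.n - 1) := by
  rw [ρ, c.E.r_pow, u]; congr 1; ext <;> simp [hh]

theorem t_eq_comm : c.u * (c.σ * c.u * c.σ⁻¹) = c.t := by rw [c.σ_u]; exact c.four.s_ts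

theorem mem_V_iff {x : G} : x ∈ c.V ↔ x ∈ c.E0 ∧ x * x = 1 := by
  refine ⟨fun h => ⟨c.V_le_E0 h, c.four.V_sq h⟩, fun ⟨h1, h2⟩ => ?_⟩
  obtain ⟨a, rfl⟩ := c.mem_E0.1 h1
  rcases H22.Om_cases c.n1 (H22.mem_Om'.2 (c.E.r_mul_self_eq_one.1 h2)) with h | h | h | h
  · rw [h, c.E.r_zero]; exact one_mem _
  · rw [h]; exact c.t_mem_V
  · rw [h]; exact c.u_mem_V
  · rw [h, ← tu_eq]; exact c.tu_mem_V

variable [Finite G]

theorem S_syl : Syl 2 ⊤ c.S := syl_top_of_sylow Nat.prime_two c.P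
theorem S_pi : IsPi {2} c.S := c.S_syl.pi
theorem E0_pi : IsPi {2} c.E0 := c.S_pi.of_le c.E0_le_S
theorem Z_pi : IsPi {2} c.Z := c.S_pi.of_le c.Z_le_S
theorem V_pi : IsPi {2} c.V := c.S_pi.of_le c.V_le_S
theorem S_syl_of {L : Subgroup G} (h : c.S ≤ L) : Syl 2 L c.S := c.S_syl.of_le h le_top
theorem odd_O : Odd ♯c.O := odd_pcore _
theorem card_S : ♯c.S = 2 ^ (2 * c.n + 1) := H22.WR.card c.E
theorem card_E0 : ♯c.E0 = 2 ^ (2 * c.n) := by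
  rw [c.isR.card, AddSubgroup.card_top, H22.card_WA]
theorem card_Z : ♯c.Z = 2 ^ c.n := by
  rw [c.isRZ.card, H22.card_Bj (Nat.zero_le _), add_zero]

theorem w_mem_NE0 : c.w ∈ N[c.E0] := mem_N_of_finite fun x hx => by
  obtain ⟨a, rfl⟩ := c.mem_E0.1 hx
  rw [c.hw]; exact c.r_mem _
theorem S_le_NE0 : c.S ≤ N[c.E0] := H22.WR.le_normalizer_U c.isR
theorem σ_mem_NE0 : c.σ ∈ N[c.E0] := c.S_le_NE0 c.σ_mem_S
theorem NE0_le_NV : N[c.E0] ≤ N[c.V] :=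
  H22.normalizer_le_normalizer_of_omega fun _ => c.mem_V_iff
theorem NV_le_ND : N[c.V] ≤ N[c.D] := by rw [← C_V]; exact N_le_NC _
theorem NE0_le_ND : N[c.E0] ≤ N[c.D] := c.NE0_le_NV.trans c.NV_le_ND
theorem D_le_NV : c.D ≤ N[c.V] := by rw [← C_V]; exact C_le_N _
theorem w_mem_NV : c.w ∈ N[c.V] := c.NE0_le_NV c.w_mem_NE0
theorem σ_mem_NV : c.σ ∈ N[c.V] := c.NE0_le_NV c.σ_mem_NE0

theorem conj_V {g v : G} (hg : g ∈ N[c.V]) (hv : v ∈ c.V) (h1 : v ≠ 1) :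
    g * v * g⁻¹ ∈ c.V ∧ g * v * g⁻¹ ≠ 1 := ⟨conj_mem hg hv, by rwa [Ne, conj_eq_one_iff']⟩

/-- the three involutions of `V` are conjugate under `N(E0)` -/
theorem exists_conj {v : G} (hv : v ∈ c.V) (h1 : v ≠ 1) : ∃ g ∈ N[c.E0], g * c.t * g⁻¹ = v := by
  rcases c.mem_V.1 hv with h | h | h | h
  · exact absurd h h1
  · exact ⟨1, one_mem _, by simp [h]⟩
  · exact ⟨c.w, c.w_mem_NE0, by rw [h, c.w_t]⟩
  · exact ⟨c.w * c.w, mul_mem c.w_mem_NE0 c.w_mem_NE0, by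
      rw [h, ← c.w_u, ← c.w_t]; group⟩

theorem NV_cases {g : G} (hg : g ∈ N[c.V]) (hH : g ∈ c.H) : g ∈ c.D ∨ g * c.σ ∈ c.D := by
  have hgt : g * c.t * g⁻¹ = c.t := mem_C1_iff_conj.1 hH
  obtain ⟨h1, h2⟩ := c.conj_V hg c.u_mem_V (ne_one_of c.hu)
  rcases c.mem_V.1 h1 with h | h | h | h
  · exact absurd h h2
  · rw [← hgt] at h
    exact absurd (by simpa using h) c.four.ne
  · exact Or.inl ⟨hH, mem_C1_iff_conj.2 h⟩
  · refine Or.inr ⟨mul_mem hH c.σ_mem_H, mem_C1_iff_conj.2 ?_⟩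
    calc g * c.σ * c.u * (g * c.σ)⁻¹ = g * (c.σ * c.u * c.σ⁻¹) * g⁻¹ := by group
      _ = g * c.t * g⁻¹ * (g * c.u * g⁻¹) := by rw [c.σ_u]; group
      _ = c.u := by rw [hgt, h, c.four.t_ts]

theorem S_inf_CS : c.S ⊓ C[c.S] = c.Z := (H22.WR.isR_center' c.E c.n1).unique c.isRZ

theorem u_not_mem_Z : c.u ∉ c.Z := fun h => by
  obtain ⟨j, hj⟩ := c.mem_Z.1 h
  have := c.E.r_inj.1 hj
  exact c.hh0 ((congrArg Prod.fst this).symm.trans (congrArg Prod.snd this))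

/-- an abelian subgroup of order `N²` of `S` is `E0` -/
theorem eq_E0 {U : Subgroup G} (hU : U ≤ c.S) (ha : Abl U) (hc : ♯U = ♯c.E0) : U = c.E0 :=
  (H22.WR.eq_U_of_card c.hn hU ha (by rw [hc, card_E0])).unique c.isR

/-- a 2-group containing `E0` is `E0` or a conjugate of `S` under `N(E0)` -/
theorem two_cases {R : Subgroup G} (hR : IsPi {2} R) (h : c.E0 ≤ R) :
    R = c.E0 ∨ ∃ g ∈ N[c.E0], R = cj g c.S := by
  obtain ⟨g, -, hg⟩ := Sylow_subJ Nat.prime_two c.S_syl hR le_top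
  have h1 : cj g⁻¹ c.E0 = c.E0 :=
    c.eq_E0 (le_cj_iff.1 (h.trans hg)) (c.abl_E0.cj _) (card_cj _ _)
  have hg' : g ∈ N[c.E0] := by simpa using inv_mem (mem_N_iff_cj.2 h1)
  have hc : c.E0 ⋖ cj g c.S := by
    refine covBy_of_relIndex_prime (h.trans hg) ?_
    rw [← cj_of_mem_N hg', relIndex_cj]
    rw [show c.E0.relIndex c.S = 2 from H22.WR.relIndex_U c.isR]
    exact Nat.prime_two
  rcases covBy_eq_or hc h hg with e | e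
  · exact Or.inl e
  · exact Or.inr ⟨g, hg', e⟩

theorem D_syl : Syl 2 c.D c.E0 := by
  refine syl_of_max Nat.prime_two c.E0_pi c.E0_le_D fun R hR h1 h2 => ?_
  rcases c.two_cases hR h1 with e | ⟨g, hg, e⟩
  · exact e.le
  · exfalso
    have h3 : c.S ≤ c.D := by
      have := cj_mono g⁻¹ h2
      rwa [e, cj_inv_cj, cj_of_mem_N (inv_mem (c.NE0_le_ND hg))] at this
    exact c.σ_not_mem_D (h3 c.σ_mem_S)

theorem cent_of_odd {g : G} (hg : g ∈ N[c.E0]) (ho : Odd (orderOf g)) (hH : g ∈ c.H) :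
    g ∈ C[c.E0] := by
  have hD : g ∈ c.D := ⟨hH, c.four.odd_fix (c.NE0_le_NV hg) ho hH⟩
  have h1 := H22.oddAut_conj hg ho
  refine mem_C'.2 fun x hx => ?_
  have := h1.fix_of_omega (c.E0_pi.isPGroup Nat.prime_two) (fun x hx y hy => c.abl_E0.comm hx hy)
    (fun y hy h2 => mem_C1_iff_conj.1 (c.D_le_C (c.mem_V_iff.2 ⟨hy, h2⟩) hD)) x hx
  rwa [mul_inv_eq_iff_eq_mul] at this

theorem ND_le : c.D ⊓ N[c.E0] ≤ C[c.E0] := fun g hg => by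
  obtain ⟨y, z, hy, hz, hy', hz', rfl⟩ := exists_piElt_decomp {2} g
  have m1 : y ∈ c.D ⊓ N[c.E0] := zpowers_le.2 hg hy'
  have m2 : z ∈ c.D ⊓ N[c.E0] := zpowers_le.2 hg hz'
  refine mul_mem (c.abl_E0.le_C ?_) (c.cent_of_odd m2.2 (piElt_odd.1 hz) m2.1.1)
  exact c.D_syl.le_of_norm hy.isPi (zpowers_le.2 m1.1) (zpowers_le.2 m1.2) (mem_zpowers _)

theorem D_sd : SD 𝒪[c.D] c.E0 c.D := Burnside_normal_complement Nat.prime_two c.D_syl c.ND_le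

theorem le_OD {X : Subgroup G} (hX : Odd ♯X) (h : X ≤ c.D) : X ≤ 𝒪[c.D] :=
  le_of_odd_sup (odd_pcore _) c.E0_pi c.D_sd.norm hX (by rwa [c.D_sd.isProd.sup_eq])

theorem mem_OD {x : G} (hx : x ∈ c.D) (ho : Odd (orderOf x)) : x ∈ 𝒪[c.D] :=
  c.le_OD (by rwa [card_zpowers']) (zpowers_le.2 hx) (mem_zpowers x)

theorem NE0_cases {g : G} (hg : g ∈ N[c.E0]) (hH : g ∈ c.H) :
    g ∈ C[c.E0] ∨ g * c.σ ∈ C[c.E0] := by
  rcases c.NV_cases (c.NE0_le_NV hg) hH with h | h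
  · exact Or.inl (c.ND_le ⟨h, hg⟩)
  · exact Or.inr (c.ND_le ⟨h, mul_mem hg c.σ_mem_NE0⟩)

/-- an element of `N(E0)` moving `t` to `u` and `u` to `t u` acts like `w` -/
theorem like_w {g : G} (hg : g ∈ N[c.E0]) (h1 : g * c.t * g⁻¹ = c.u)
    (h2 : g * c.u * g⁻¹ = c.t * c.u) : g * c.w⁻¹ ∈ C[c.E0] := by
  refine c.ND_le (mem_inf.2 ⟨?_, mul_mem hg (inv_mem c.w_mem_NE0)⟩)
  have e1 : g * c.w⁻¹ ∈ C{c.u} := by
    rw [mem_C1_iff_conj]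
    calc g * c.w⁻¹ * c.u * (g * c.w⁻¹)⁻¹ = g * (c.w⁻¹ * (c.w * c.t * c.w⁻¹) * c.w) * g⁻¹ := by
          rw [c.w_t]; group
      _ = c.u := by rw [← h1]; group
  have e2 : g * c.w⁻¹ ∈ C{c.t * c.u} := by
    rw [mem_C1_iff_conj]
    calc g * c.w⁻¹ * (c.t * c.u) * (g * c.w⁻¹)⁻¹
        = g * (c.w⁻¹ * (c.w * c.u * c.w⁻¹) * c.w) * g⁻¹ := by rw [c.w_u]; group
      _ = c.t * c.u := by rw [← h2]; group
  exact ⟨c.four.C_of_ts' e1 e2, e1⟩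

/-- an element of odd order acting nontrivially on `E0` acts like `w` or `w⁻¹` -/
theorem like_w_of_odd {g : G} (hg : g ∈ N[c.E0]) (ho : Odd (orderOf g)) (hn : g ∉ C[c.E0]) :
    g * c.w⁻¹ ∈ C[c.E0] ∨ g⁻¹ * c.w⁻¹ ∈ C[c.E0] := by
  have key : ∀ g ∈ N[c.E0], Odd (orderOf g) → g * c.t * g⁻¹ = c.u → g * c.w⁻¹ ∈ C[c.E0] := by
    intro g hg ho h1
    refine c.like_w hg h1 ?_
    obtain ⟨h2, h3⟩ := c.conj_V (c.NE0_le_NV hg) c.u_mem_V (ne_one_of c.hu)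
    rcases c.mem_V.1 h2 with h | h | h | h
    · exact absurd h h3
    · exfalso
      have h4 : g * g ∈ C{c.t} := by
        rw [mem_C1_iff_conj]
        calc g * g * c.t * (g * g)⁻¹ = g * (g * c.t * g⁻¹) * g⁻¹ := by group
          _ = c.t := by rw [h1, h]
      have h5 : g ∈ C{c.t} := zpowers_le.2 h4 (mem_zpowers_sq ho)
      exact c.four.ne (h1.symm.trans (mem_C1_iff_conj.1 h5))
    · rw [← h1] at h
      nth_rewrite 1 [h1] at h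
      exact absurd (by simpa using h) c.four.ne
    · exact h
  obtain ⟨h2, h3⟩ := c.conj_V (c.NE0_le_NV hg) c.t_mem_V (ne_one_of c.ht)
  rcases c.mem_V.1 h2 with h | h | h | h
  · exact absurd h h3
  · exact absurd (c.cent_of_odd hg ho (mem_C1_iff_conj.2 h)) hn
  · exact Or.inl (key g hg ho h)
  · refine Or.inr (key g⁻¹ (inv_mem hg) (by rwa [orderOf_inv]) ?_)
    obtain ⟨h4, h5⟩ := c.conj_V (c.NE0_le_NV (inv_mem hg)) c.t_mem_V (ne_one_of c.ht)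
    rcases c.mem_V.1 h4 with h' | h' | h' | h'
    · exact absurd h' h5
    · exfalso
      have : g * c.t * g⁻¹ = c.t := by rw [← h']; nth_rewrite 2 [h']; rw [← h']; group
      exact c.four.ts_ne_t (h.symm.trans this)
    · exact h'
    · exfalso
      have h6 : g * g ∈ C{c.t} := by
        rw [mem_C1_iff_conj]
        calc g * g * c.t * (g * g)⁻¹ = g * (g * c.t * g⁻¹) * g⁻¹ := by group
          _ = g * (g⁻¹ * c.t * g⁻¹⁻¹) * g⁻¹ := by rw [h, h']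
          _ = c.t := by group
      have h7 : g ∈ C{c.t} := zpowers_le.2 h6 (mem_zpowers_sq ho)
      exact c.four.ts_ne_t (h.symm.trans (mem_C1_iff_conj.1 h7))

/-- `σ σ^w` acts like `w` -/
theorem σσw : c.σ * (c.w * c.σ * c.w⁻¹) * c.w⁻¹ ∈ C[c.E0] := by
  refine c.like_w (mul_mem c.σ_mem_NE0 (mul_mem (mul_mem c.w_mem_NE0 c.σ_mem_NE0)
    (inv_mem c.w_mem_NE0))) ?_ ?_
  · calc c.σ * (c.w * c.σ * c.w⁻¹) * c.t * (c.σ * (c.w * c.σ * c.w⁻¹))⁻¹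
        = c.σ * (c.w * (c.σ * (c.w⁻¹ * (c.w * (c.t * c.u) * c.w⁻¹) * c.w) * c.σ⁻¹) * c.w⁻¹) *
          c.σ⁻¹ := by rw [c.w_tu]; group
      _ = c.σ * (c.w * (c.σ * (c.t * c.u) * c.σ⁻¹) * c.w⁻¹) * c.σ⁻¹ := by group
      _ = c.u := by rw [c.σ_tu, c.w_u, c.σ_tu]
  · calc c.σ * (c.w * c.σ * c.w⁻¹) * c.u * (c.σ * (c.w * c.σ * c.w⁻¹))⁻¹
        = c.σ * (c.w * (c.σ * (c.w⁻¹ * (c.w * c.t * c.w⁻¹) * c.w) * c.σ⁻¹) * c.w⁻¹) *
          c.σ⁻¹ := by rw [c.w_t]; group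
      _ = c.σ * (c.w * (c.σ * c.t * c.σ⁻¹) * c.w⁻¹) * c.σ⁻¹ := by group
      _ = c.t * c.u := by rw [c.σ_t, c.w_t, c.σ_u]

theorem exists_fus : ∃ h ∈ c.H, h * c.σ * h⁻¹ = c.u := by
  obtain ⟨h, h1, h2⟩ := c.fus
  exact ⟨h, mem_C1.2 (h1 _), h2⟩

/-- involutions of a subgroup containing `S` -/
theorem invol_cases {L : Subgroup G} (hS : c.S ≤ L) {a : G} (ha : a ∈ L) (ho : orderOf a = 2) :
    ∃ g ∈ L, g * a * g⁻¹ = c.t ∨ g * a * g⁻¹ = c.u ∨ g * a * g⁻¹ = c.σ := by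
  obtain ⟨g, hg, h⟩ := Sylow_Jsub Nat.prime_two (c.S_syl_of hS) (isPi_zp ho) (zpowers_le.2 ha)
  have h1 : g * a * g⁻¹ ∈ c.S := h (conj_mem_cj g (mem_zpowers a))
  rcases H22.WR.involution_cases c.E c.n1 h1 (two_conj ho g) with e | (e | e) | ⟨b, hb, e⟩
  · exact ⟨g, hg, Or.inl e⟩
  · exact ⟨g, hg, Or.inr (Or.inl e)⟩
  · refine ⟨c.σ * g, mul_mem (hS c.σ_mem_S) hg, Or.inr (Or.inl ?_)⟩
    rw [← c.σ_tu, tu_eq, ← e]; group
  · obtain ⟨d, hd⟩ := H22.WR.s_conj c.E (a := b) (b := 0) (by simpa using hb)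
    refine ⟨c.E.r d * g, mul_mem (hS (c.E.r_mem d)) hg, Or.inr (Or.inr ?_)⟩
    rw [σ, ← hd, ← e]; group

theorem invol_H {a : G} (ha : a ∈ c.H) (ho : orderOf a = 2) (h1 : a ≠ c.t) :
    ∃ g ∈ c.H, g * a * g⁻¹ = c.u := by
  obtain ⟨g, hg, h | h | h⟩ := c.invol_cases c.S_le_H ha ho
  · exfalso
    apply h1
    have := mem_C1_iff_conj.1 (inv_mem hg)
    rw [← this, ← h]; group
  · exact ⟨g, hg, h⟩
  · obtain ⟨f, hf, e⟩ := c.exists_fus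
    exact ⟨f * g, mul_mem hf hg, by rw [← e, ← h]; group⟩

theorem invol_G {a : G} (ho : orderOf a = 2) : ∃ g, g * a * g⁻¹ = c.t := by
  have key : ∀ g, g * a * g⁻¹ = c.u → ∃ g, g * a * g⁻¹ = c.t := fun g h =>
    ⟨c.w⁻¹ * g, by rw [show c.w⁻¹ * g * a * (c.w⁻¹ * g)⁻¹ = c.w⁻¹ * (g * a * g⁻¹) * c.w by group,
      h, ← c.w_t]; group⟩
  obtain ⟨g, -, h | h | h⟩ := c.invol_cases le_top (mem_top a) ho
  · exact ⟨g, h⟩
  · exact key g h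
  · obtain ⟨f, -, e⟩ := c.exists_fus
    exact key (f * g) (by rw [← e, ← h]; group)

theorem cj_H (g : G) : cj g c.H = C{g * c.t * g⁻¹} := cj_C1 g c.t
theorem cj_O (g : G) : cj g c.O = 𝒪[C{g * c.t * g⁻¹}] := by
  rw [O, ← pcore_cj, cj_C1]

/-- odd normal subgroups of a subgroup covering `H / O` lie in `O` -/
theorem le_O_of_cover {K X : Subgroup G} (hK : K ≤ c.H) (hc : c.H ≤ K ⊔ c.O) (hX : Odd ♯X)
    (hXH : X ≤ c.H) (hn : K ≤ N[X]) : X ≤ c.O := by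
  have h1 : c.O ⊔ X ⊴ c.H := ⟨sup_le c.O_le_H hXH, hc.trans (sup_le
    (norm_sup (hK.trans c.H_le_NO) hn) (norm_of_le le_sup_left))⟩
  exact le_sup_right.trans (le_O (odd_sup c.odd_O hX (hXH.trans c.H_le_NO)) h1)

end WC

end H13.W
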