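import Mathlib
import Cfsg.Agent.H13.WBasic
import Cfsg.Agent.H4.GD2

/-! Consequences of the axioms `PD`, `Roots`, `Mod`. -/

set_option autoImplicit false
set_option linter.unusedSectionVars false
set_option linter.style.haveILetI false

namespace H13.W

open H24 H26 Cfsg Subgroup H13.Dih
open H22 (WR WA Bj hh sw)
open scoped commutatorElement

universe u

theorem pow_dvd_sq_sub_one {p k : ℕ} (hp : p.Prime) (h2 : p ≠ 2) {j : ℤ}
    (h : (p : ℤ) ^ k ∣ j ^ p - 1) : (p : ℤ) ^ k ∣ (j - 1) ^ 2 := by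
  rcases Nat.eq_zero_or_pos k with rfl | hk
  · simp
  haveI := Fact.mk hp
  have h1 : (p : ℤ) ∣ j ^ p - 1 := (dvd_pow_self _ hk.ne').trans h
  have h3 : (p : ℤ) ∣ j - 1 := by
    rw [← ZMod.intCast_zmod_eq_zero_iff_dvd] at h1 ⊢
    push_cast at h1 ⊢
    rwa [ZMod.pow_card] at h1
  have h4 : ¬ (p : ℤ) ∣ j := fun hj => by
    have := dvd_sub hj h3
    rw [sub_sub_cancel] at this
    exact hp.one_lt.ne' (by exact_mod_cast Int.eq_one_of_dvd_one (by positivity) this)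
  have h5 := Int.emultiplicity_pow_sub_pow hp (hp.odd_of_ne_two h2) (x := j) (y := 1) h3 h4 p
  rw [one_pow, Nat.Prime.emultiplicity_self hp] at h5
  have hpz : Prime (p : ℤ) := Nat.prime_iff_prime_int.1 hp
  rw [pow_dvd_iff_le_emultiplicity] at h ⊢
  rw [emultiplicity_pow hpz]
  have h6 : (1 : ℕ∞) ≤ emultiplicity (p : ℤ) (j - 1) := by
    have := (pow_dvd_iff_le_emultiplicity (a := (p : ℤ)) (b := j - 1) (k := 1)).1 (by simpa)
    simpa using this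
  rw [h5] at h
  refine h.trans ?_
  rw [Nat.cast_ofNat, two_mul]
  gcongr

/-- an automorphism of odd prime order `p` of a cyclic `p`-group is quadratic -/
theorem quad_of_cyc {G : Type*} [Group G] [Finite G] {p : ℕ} (hp : p.Prime) (h2 : p ≠ 2)
    {τ φ : G} (hτ : PiElt {p} τ) (hφ : φ ^ p = 1) (hn : φ * τ * φ⁻¹ ∈ zpowers τ) :
    ⁅τ, φ⁆ ∈ C{φ} := by
  obtain ⟨j, hj⟩ := hn
  simp only at hj
  obtain ⟨k, hk⟩ := hτ.exists_pow hp
  have hz : ∀ a : ℤ, φ * τ ^ a * φ⁻¹ = τ ^ (a * j) := fun a => by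
    rw [← conj_zpow, ← hj, ← zpow_mul, mul_comm]
  have hi : ∀ i : ℕ, φ ^ i * τ * (φ ^ i)⁻¹ = τ ^ (j ^ i) := fun i => by
    induction i with
    | zero => simp
    | succ i ih =>
      calc φ ^ (i + 1) * τ * (φ ^ (i + 1))⁻¹ = φ * (φ ^ i * τ * (φ ^ i)⁻¹) * φ⁻¹ := by group
        _ = τ ^ (j ^ (i + 1)) := by rw [ih, hz, pow_succ]
  have h1 : τ ^ (j ^ p - 1) = 1 := by
    have := hi p
    rw [hφ] at this
    rw [zpow_sub, ← this]; simp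
  have h3 : τ ^ ((j - 1) ^ 2) = 1 := by
    rw [← orderOf_dvd_iff_zpow_eq_one, hk] at h1 ⊢
    push_cast at h1 ⊢
    exact pow_dvd_sq_sub_one hp h2 h1
  have h4 : ⁅τ, φ⁆ = τ ^ (1 - j) := by
    have := hz (-1)
    rw [commutatorElement_def, zpow_sub, zpow_one, mul_assoc, mul_assoc, ← mul_assoc φ,
      ← zpow_neg_one τ, this]
    simp
  rw [mem_C1_comm, mem_C1_iff_conj, h4, hz]
  have : (1 - j) * j = (1 - j) + -(j - 1) ^ 2 := by ring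
  rw [this, zpow_add, zpow_neg, h3]; simp

namespace PD

variable {Γ : Type} [Group Γ] [Finite Γ] {n : ℕ} (d : PD Γ n)

theorem sq_mem_L {x : Γ} (hx : x ∈ d.L0) : x * x ∈ d.L := by
  have h := d.L_index
  have := (mul_self_mem_of_index_two (H := d.L.subgroupOf d.L0) h ⟨x, hx⟩)
  exact this

theorem odd_mem_L {x : Γ} (hx : x ∈ d.L0) (ho : Odd (orderOf x)) : x ∈ d.L :=
  zpowers_le.2 (d.sq_mem_L hx) (mem_zpowers_sq ho)

theorem e_mem_L0 : d.e ∈ d.L0 := d.T_le d.e_mem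

theorem T_abl : Abl d.T := d.T_cyc.abl
theorem T_le_C : d.T ≤ C{d.e} := d.T_abl.le_C.trans (C_le_C1 d.e_mem)

theorem ee (hn : 2 ≤ n) : d.e * d.e ≠ 1 := fun h => by
  have h1 : orderOf d.e ∣ 2 := orderOf_dvd_of_pow_eq_one (by rw [sq, h])
  rw [d.ord_e] at h1
  have := Nat.le_of_dvd two_pos h1
  have h3 : 2 ^ 2 ≤ 2 ^ n := Nat.pow_le_pow_right two_pos hn
  omega

theorem L0_inf_C (hn : 2 ≤ n) : d.L0 ⊓ C{d.e} = d.T :=
  le_antisymm (d.cent_T _ d.e_mem (d.ee hn)) (le_inf d.T_le d.T_le_C)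

theorem mem_T (hn : 2 ≤ n) {x : Γ} (h1 : x ∈ d.L0) (h2 : x ∈ C{d.e}) : x ∈ d.T := by
  rw [← d.L0_inf_C hn]; exact ⟨h1, h2⟩

theorem C_norm_T (hn : 2 ≤ n) : C{d.e} ≤ N[d.T] := by
  rw [← d.L0_inf_C hn]
  haveI := d.L0_nml
  exact norm_inf (norm_of_normal _ _) (norm_self _)

theorem s_inv' : d.s⁻¹ = d.s := inv_eq_of_mul_eq_one_right d.s_sq

theorem s_not_C (hn : 2 ≤ n) : d.s ∉ C{d.e} := fun h =>
  d.s_not (d.mem_T hn (d.L_le d.s_mem) h)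

theorem s_mem_NC : d.s ∈ N[C{d.e}] := by
  rw [mem_N_iff_cj, cj_C1, d.s_inv _ d.e_mem, ← C_zpowers, zpowers_inv, C_zpowers]

theorem cj_s_of_le {X : Subgroup Γ} (h : X ≤ d.T) : cj d.s X = X :=
  cj_of_mem_N (mem_N_of_finite fun x hx => by rw [d.s_inv x (h hx)]; exact inv_mem hx)

theorem comm_mem_L (x y : Γ) : ⁅x, y⁆ ∈ d.L := d.comm_le (commutator_mem_commutator trivial trivial)

theorem comm_le_L (X Y : Subgroup Γ) : ⁅X, Y⁆ ≤ d.L :=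
  (commutator_mono le_top le_top).trans d.comm_le

theorem L0_le : d.L0 ≤ d.L ⊔ zpowers d.e := fun x hx => by
  by_cases h : x ∈ d.L
  · exact mem_sup_left h
  · have h1 := (mul_mem_iff_of_index_two (H := d.L.subgroupOf d.L0) d.L_index
      (a := ⟨x, hx⟩) (b := ⟨d.e, d.e_mem_L0⟩)).2 (iff_of_false h d.e_not)
    have h2 : x * d.e ∈ d.L := h1
    simpa using mul_mem (mem_sup_left h2 : _ ∈ d.L ⊔ zpowers d.e)
      (inv_mem (mem_sup_right (mem_zpowers d.e)))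

theorem L_sup_C : d.L ⊔ C{d.e} = ⊤ := by
  rw [eq_top_iff, ← d.cover]
  exact sup_le (d.L0_le.trans (sup_le_sup_left (zpowers_le_C1 _) _)) le_sup_right

theorem eq_top {K : Subgroup Γ} (h1 : d.L ≤ K) (h2 : C{d.e} ≤ K) : K = ⊤ := by
  rw [eq_top_iff, ← d.L_sup_C]; exact sup_le h1 h2

/-- the commuting trick: an element of `C(e)` acting quadratically on `T` lies in `T` -/
theorem mem_T_of_comm (hn : 2 ≤ n) {φ : Γ} (hφ : φ ∈ C{d.e}) (h : ∀ τ ∈ d.T, ⁅τ, φ⁆ ∈ C{φ}) :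
    φ ∈ d.T := by
  by_contra hT
  have h1 := d.fld_T φ hφ hT
  have hN := d.C_norm_T hn hφ
  have hm : ∀ τ ∈ d.T, ⁅τ, φ⁆ ∈ d.T := fun τ hτ => by
    have := mul_mem hτ (conj_mem hN (inv_mem hτ))
    rwa [commutatorElement_def, mul_assoc, mul_assoc, ← mul_assoc φ]
  let f : d.T →* ↥(d.T ⊓ C{φ}) := MonoidHom.mk' (fun τ => ⟨⁅(τ : Γ), φ⁆, hm τ τ.2, h τ τ.2⟩) (by
    intro a b
    ext
    have e1 := d.T_abl.comm b.2 (conj_mem hN (inv_mem (mul_mem a.2 b.2)))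
    have e2 := d.T_abl.comm (conj_mem hN (inv_mem a.2)) (hm b b.2)
    simp only [coe_mul, commutatorElement_def] at e1 e2 ⊢
    calc (a : Γ) * b * φ * ((a : Γ) * b)⁻¹ * φ⁻¹
        = a * ((b * φ * (b : Γ)⁻¹ * φ⁻¹) * (φ * (a : Γ)⁻¹ * φ⁻¹)) := by group
      _ = _ := by rw [← e2]; group)
  have h2 : Nat.card f.ker ≤ ♯(d.T ⊓ C{φ}) := by
    rw [← card_subgroupOf_of_le (inf_le_left : d.T ⊓ C{φ} ≤ d.T)]
    refine card_le fun x hx => ⟨x.2, mem_C1.2 ?_⟩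
    have : ⁅(x : Γ), φ⁆ = 1 := congrArg Subtype.val hx
    exact commutatorElement_eq_one_iff_mul_comm.1 this
  have h3 : Nat.card f.range ≤ ♯(d.T ⊓ C{φ}) := Nat.card_le_card_of_injective _ Subtype.val_injective
  have h4 := f.ker.card_mul_index
  rw [index_ker, d.card_T] at h4
  have := Nat.mul_le_mul h2 h3
  rw [h4, ← sq] at this
  omega

theorem le_T_of_abl (hn : 2 ≤ n) {A : Subgroup Γ} (hA : A ≤ C{d.e}) (hN : d.T ≤ N[A])
    (ha : Abl A) : A ≤ d.T := fun φ hφ =>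
  d.mem_T_of_comm hn (hA hφ) fun τ hτ => mem_C1.2 (ha.comm (by
    have := mul_mem (conj_mem (hN hτ) hφ) (inv_mem hφ)
    exact this) hφ)

theorem two_mem {τ : Γ} (hτ : τ ∈ d.T) (h : PiElt {2} τ) : τ ∈ zpowers d.e := by
  have h1 : Syl 2 d.T (zpowers d.e) := by
    refine Syl.mk' Nat.prime_two (zpowers_le.2 d.e_mem)
      (isPi_of_card Nat.prime_two (by rw [card_zpowers', d.ord_e])) ?_
    have := card_mul_relIndex (zpowers_le.2 d.e_mem)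
    rw [card_zpowers', d.ord_e, d.card_T, d.hm] at this
    rw [Nat.eq_of_mul_eq_mul_left (by positivity) this]
    exact d.odd_m'.not_two_dvd_nat
  exact h1.mem_of_nml (d.T_abl.norm le_rfl (zpowers_le.2 d.e_mem)) h hτ

/-- a proper field automorphism of order `p` acts nontrivially on the `p'`-part of `T` -/
theorem exists_not_cent (hn : 2 ≤ n) {p : ℕ} (hp : p.Prime) (h2 : p ≠ 2) {φ : Γ}
    (hφ : φ ∈ C{d.e}) (hT : φ ∉ d.T) (hφp : φ ^ p = 1) :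
    ∃ τ ∈ d.T, PiElt {p}ᶜ τ ∧ Odd (orderOf τ) ∧ τ ∉ C{φ} := by
  by_contra hc
  push Not at hc
  refine hT (d.mem_T_of_comm hn hφ fun τ hτ => ?_)
  obtain ⟨y, z, hy, hz, hy', hz', rfl⟩ := exists_piElt_decomp {p} τ
  have my : y ∈ d.T := zpowers_le.2 hτ hy'
  have mz : z ∈ d.T := zpowers_le.2 hτ hz'
  have h1 : z ∈ C{φ} := by
    obtain ⟨a, b, ha, hb, ha', hb', rfl⟩ := exists_piElt_decomp {2} z
    refine mul_mem ?_ (hc b (zpowers_le.2 mz hb') (hz.of_mem_zpowers hb') (piElt_odd.1 hb))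
    exact zpowers_le.2 (mem_C1_comm.1 hφ) (d.two_mem (zpowers_le.2 mz ha') ha)
  have h3 : ⁅y * z, φ⁆ = ⁅y, φ⁆ := by
    have := mem_C1_iff_conj.1 h1
    calc ⁅y * z, φ⁆ = y * (z * φ * z⁻¹) * y⁻¹ * φ⁻¹ := by rw [commutatorElement_def]; group
      _ = _ := by rw [this, commutatorElement_def]
  rw [h3]
  exact quad_of_cyc hp h2 hy hφp
    (conj_mem (H25.cyc_N_le d.T_cyc (zpowers_le.2 my) (d.C_norm_T hn hφ)) (mem_zpowers y))

theorem q_ne_three (hn : 2 ≤ n) (h : d.N.ε = 1) : d.N.q ≠ 3 := fun h3 => by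
  have h1 := d.N.hm
  have h4 : 2 ^ 2 ∣ d.N.m := d.hm ▸ (pow_dvd_pow 2 hn).mul_right _
  rw [h, h3] at h1
  have : d.N.m = 2 := by omega
  rw [this] at h4
  norm_num at h4

/-- for `q = 3` the centraliser of `e` is generated by `e` -/
theorem C_le_of_three (hn : 2 ≤ n) (h : d.N.q = 3) : C{d.e} ≤ zpowers d.e := by
  have hm : d.N.m = 4 := by
    have h4 : 2 ^ 2 ∣ d.N.m := d.hm ▸ (pow_dvd_pow 2 hn).mul_right _
    rcases d.N.cases with ⟨-, h1, -⟩ | ⟨-, h1, -⟩ <;> omega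
  have hT : d.T = zpowers d.e := by
    refine (eq_of_card_ge (zpowers_le.2 d.e_mem) ?_).symm
    rw [card_zpowers', d.ord_e, d.card_T, hm]
    exact Nat.pow_le_pow_right two_pos hn
  intro φ hφ
  rw [← hT]
  refine d.mem_T_of_comm hn hφ fun τ hτ => ?_
  rw [hT] at hτ
  have : τ ∈ C{φ} := zpowers_le.2 (mem_C1_comm.1 hφ) hτ
  rw [commutatorElement_eq_one_iff_mul_comm.2 (mem_C1.1 this)]
  exact one_mem _

theorem û_mem (hn : 2 ≤ n) : d.e ^ 2 ^ (n - 1) ∈ d.L := by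
  obtain ⟨k, rfl⟩ : ∃ k, n = k + 2 := ⟨n - 2, by omega⟩
  rw [show k + 2 - 1 = k + 1 by omega, pow_succ, pow_mul, sq]
  exact d.sq_mem_L (pow_mem d.e_mem_L0 _)

theorem û_ne (hn : 2 ≤ n) : d.e ^ 2 ^ (n - 1) ≠ 1 := fun h => by
  have h1 := orderOf_dvd_of_pow_eq_one h
  rw [d.ord_e, Nat.pow_dvd_pow_iff_le_right (by norm_num)] at h1
  omega

end PD

namespace Roots

variable {Γ : Type} [Group Γ] [Finite Γ] {n : ℕ} {d : PD Γ n} {U : Subgroup Γ} (R : Roots d U)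
include R

theorem odd : Odd ♯U := odd_of_pi d.N.p_ne R.pi

theorem ne_bot : U ≠ ⊥ := fun h => by
  have := R.card
  rw [h, card_bot] at this
  have := d.N.three_le_q
  omega

theorem ne_cj : cj d.s U ≠ U := fun h => by
  have h1 := R.gen
  rw [h, sup_idem] at h1
  have h2 := eq_one_of_odd_of_sq (odd_orderOf R.odd (h1 ▸ d.s_mem)) d.s_sq
  exact d.s_not (h2 ▸ one_mem _)

theorem norm' : C{d.e} ≤ N[cj d.s U] := by
  have := norm_cj R.norm d.s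
  rwa [cj_of_mem_N d.s_mem_NC] at this

theorem inf_cj : U ⊓ cj d.s U = ⊥ := by
  rcases R.inv_sub _ (R.pi.inf_left _) (norm_inf R.norm R.norm') with h | h | h
  · exact h
  · exact absurd (eq_of_card_eq (inf_eq_left.1 h) (card_cj _ _).symm).symm R.ne_cj
  · exact absurd (eq_of_card_eq (inf_eq_right.1 h) (card_cj _ _)) R.ne_cj

theorem not_le_C (hn : 2 ≤ n) : ¬ U ≤ C{d.e} := fun h => by
  obtain ⟨x, hx, h1⟩ := exists_ne_one R.ne_bot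
  rcases R.fpf d.e d.e_mem x hx (mem_C1_iff_conj.1 (mem_C1_comm.1 (h hx))) with e | e
  · exact d.ee hn (by rw [e, one_mul])
  · exact h1 e

theorem not_le_C' (hn : 2 ≤ n) : ¬ cj d.s U ≤ C{d.e} := fun h => by
  rw [cj_le_iff, cj_of_mem_N (inv_mem d.s_mem_NC)] at h
  exact R.not_le_C hn h

theorem eq_bot_of_le_C (hn : 2 ≤ n) {X : Subgroup Γ} (hX : IsPi {d.N.p} X) (hN : C{d.e} ≤ N[X])
    (h : X ≤ C{d.e}) : X = ⊥ := by
  rcases R.inv_sub X hX hN with e | e | e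
  · exact e
  · exact absurd (e ▸ h) (R.not_le_C hn)
  · exact absurd (e ▸ h) (R.not_le_C' hn)

end Roots

namespace Mod

variable {G : Type u} [Group G] [Finite G] {c : WC G} (M : Mod c)
variable {K R X : Subgroup G} {x y : G}
include M

theorem mem_ker (hx : x ∈ c.H) : ap M.κ x = 1 ↔ x ∈ c.O ⊔ c.Z := by
  rw [ap_of_mem _ hx, M.ker]

omit M in
theorem OZ_le_H : c.O ⊔ c.Z ≤ c.H := sup_le c.O_le_H c.Z_le_H

theorem ker_eq : pre M.κ ⊥ = c.O ⊔ c.Z := by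
  ext x
  rw [mem_pre_bot]
  exact ⟨fun h => (M.mem_ker h.1).1 h.2, fun h => ⟨OZ_le_H h, (M.mem_ker (OZ_le_H h)).2 h⟩⟩

theorem range_eq : M.κ.range = ⊤ := MonoidHom.range_eq_top.2 M.surj
theorem img_H : img M.κ c.H = ⊤ := by rw [img_dom, M.range_eq]
theorem img_pre' (Y : Subgroup M.Γ) : img M.κ (pre M.κ Y) = Y :=
  img_pre_of_le (by rw [M.range_eq]; exact le_top)

theorem exists_ap (g : M.Γ) : ∃ x ∈ c.H, ap M.κ x = g := by
  obtain ⟨x, rfl⟩ := M.surj g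
  exact ⟨x, x.2, ap_coe _ _⟩

theorem κ_O (hx : x ∈ c.O) : ap M.κ x = 1 := (M.mem_ker (c.O_le_H hx)).2 (mem_sup_left hx)
theorem κ_Z (hx : x ∈ c.Z) : ap M.κ x = 1 := (M.mem_ker (c.Z_le_H hx)).2 (mem_sup_right hx)
theorem κ_t : ap M.κ c.t = 1 := M.κ_Z c.t_mem_Z
theorem κ_ρ : ap M.κ c.ρ = M.d.e := by
  haveI : Fact (1 < 2 ^ c.n) := ⟨Nat.one_lt_two_pow (by have := c.hn; omega)⟩
  rw [WC.ρ, M.κ_r]; simp [ZMod.val_one]
theorem κ_u : ap M.κ c.u = M.d.e ^ 2 ^ (c.n - 1) := by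
  rw [c.u_eq_pow, ap_pow _ c.ρ_mem_H, M.κ_ρ]
theorem κ_E0 (hx : x ∈ c.E0) : ap M.κ x ∈ zpowers M.d.e := by
  obtain ⟨a, rfl⟩ := c.mem_E0.1 hx
  rw [M.κ_r]; exact pow_mem (mem_zpowers _) _
theorem img_O : img M.κ c.O = ⊥ := (img_eq_bot c.O_le_H).2 (by rw [M.ker_eq]; exact le_sup_left)
theorem img_E0 : img M.κ c.E0 = zpowers M.d.e := by
  refine le_antisymm (fun z hz => ?_) (zpowers_le.2 (M.κ_ρ ▸ ap_mem_img _ c.ρ_mem_E0 c.ρ_mem_H))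
  obtain ⟨x, hx, -, rfl⟩ := mem_img.1 hz
  exact M.κ_E0 hx

omit M in
theorem mem_O_of_odd (hx : x ∈ c.O ⊔ c.Z) (ho : Odd (orderOf x)) : x ∈ c.O :=
  mem_of_odd_sup c.odd_O c.Z_pi (c.Z_le_H.trans c.H_le_NO) hx ho

theorem mem_O (hx : x ∈ c.H) (h : ap M.κ x = 1) (ho : Odd (orderOf x)) : x ∈ c.O :=
  mem_O_of_odd ((M.mem_ker hx).1 h) ho

theorem le_O_of_img (hX : X ≤ c.H) (ho : Odd ♯X) (h : img M.κ X = ⊥) : X ≤ c.O := fun x hx =>
  M.mem_O (hX hx) (by have := ap_mem_img M.κ hx (hX hx); rwa [h] at this) (odd_orderOf ho hx)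

theorem det_odd (hx : x ∈ c.H) (ho : Odd (orderOf x)) : ap M.det x = 1 := by
  have h1 := orderOf_ap_dvd M.det hx
  have h2 : orderOf (ap M.det x) ∣ 2 ^ c.n := by
    have := orderOf_dvd_natCard (ap M.det x)
    simpa using this
  exact orderOf_eq_one_iff.1 (Nat.eq_one_of_dvd_coprimes
    ((Nat.coprime_two_right.2 ho).pow_right _) h1 h2)

theorem comm_OZ : ⁅c.O ⊔ c.Z, c.H⁆ ≤ c.O :=
  comm_sup_le c.H_le_NO (norm_self _) (c.Z_le_H.trans c.H_le_NO) (comm_le_left c.H_le_NO)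
    (by rw [commC]; exact M.centZ)

theorem conj_OZ (hx : x ∈ c.O ⊔ c.Z) (hy : y ∈ c.H) : ∃ o ∈ c.O, y * x * y⁻¹ = o * x := by
  have := M.comm_OZ (commutator_mem_commutator hx hy)
  refine ⟨⁅x, y⁆⁻¹, inv_mem this, ?_⟩
  rw [commutatorElement_def]; group

theorem ker_det (hx : x ∈ c.O ⊔ c.Z) (h : ap M.det x = 1) : x ∈ c.O ∨ x * c.t ∈ c.O := by
  obtain ⟨o, ho, z, hz, rfl⟩ := (mem_sup_of_norm (c.Z_le_H.trans c.H_le_NO)).1 hx
  rw [ap_mul _ (c.O_le_H ho) (c.Z_le_H hz), M.det_odd (c.O_le_H ho) (odd_orderOf c.odd_O ho),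
    one_mul] at h
  obtain ⟨j, rfl⟩ := c.mem_Z.1 hz
  rw [M.det_r] at h
  rcases (H22.add_self_eq_zero_iff c.n1).1 (ofAdd_eq_one.1 h) with rfl | rfl
  · left
    rw [show ((0, 0) : WA c.n) = 0 from rfl, c.E.r_zero, mul_one]; exact ho
  · right
    rw [mul_assoc, show c.E.r (hh c.n, hh c.n) = c.t from rfl, sq_of c.ht, mul_one]; exact ho

/-- elements with the same images under `κ` and `det` -/
theorem eq_mod (hx : x ∈ c.H) (hy : y ∈ c.H) (h1 : ap M.κ x = ap M.κ y)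
    (h2 : ap M.det x = ap M.det y) : x * y⁻¹ ∈ c.O ∨ x * y⁻¹ * c.t ∈ c.O := by
  have hxy := mul_mem hx (inv_mem hy)
  refine M.ker_det ((M.mem_ker hxy).1 ?_) ?_
  · rw [ap_mul _ hx (inv_mem hy), ap_inv _ hy, h1, mul_inv_cancel]
  · rw [ap_mul _ hx (inv_mem hy), ap_inv _ hy, h2, mul_inv_cancel]

theorem det_conj (hx : x ∈ c.H) (hy : y ∈ c.H) : ap M.det (x * y * x⁻¹) = ap M.det y := by
  rw [ap_conj _ hx hy, mul_comm (ap M.det x), mul_inv_cancel_right]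

omit M in
theorem t_not_mem_O : c.t ∉ c.O := not_mem_of_odd c.odd_O c.ht

/-- an element of `H` centralising `e` modulo the kernel centralises `u` modulo `O` -/
theorem conj_u_of_C (hx : x ∈ c.H) (h : ap M.κ x ∈ C{M.d.e}) :
    x * c.u * x⁻¹ * c.u⁻¹ ∈ c.O := by
  have hρ := c.ρ_mem_H
  have h1 := M.eq_mod (mul_mem (mul_mem hx hρ) (inv_mem hx)) hρ
    (by rw [ap_conj _ hx hρ, M.κ_ρ, mem_C1_iff_conj.1 h]) (M.det_conj hx hρ)
  have hN := c.H_le_NO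
  have key : ∀ a ∈ c.H, ∀ b ∈ c.H, a * b⁻¹ ∈ c.O → ∀ k : ℕ, a ^ k * (b ^ k)⁻¹ ∈ c.O := by
    intro a ha b hb hab k
    induction k with
    | zero => simp
    | succ k ih =>
      have := mul_mem (conj_mem (hN ha) ih) hab
      convert this using 1
      rw [pow_succ' a, pow_succ' b]; group
  rcases h1 with h1 | h1
  · have := key _ (mul_mem (mul_mem hx hρ) (inv_mem hx)) _ hρ h1 (2 ^ (c.n - 1))
    rwa [conj_pow, ← c.u_eq_pow] at this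
  · have ht : c.t * c.ρ = c.ρ * c.t := (mem_C1.1 hρ).symm
    have := key _ (mul_mem (mul_mem hx hρ) (inv_mem hx)) (c.t * c.ρ) (mul_mem c.t_mem_H hρ)
      (by rwa [mul_inv_rev, inv_of c.ht, ← mul_assoc]) (2 ^ (c.n - 1))
    rw [conj_pow, (show Commute c.t c.ρ from ht).mul_pow, ← c.u_eq_pow] at this
    have h3 : c.t ^ 2 ^ (c.n - 1) = 1 := by
      apply orderOf_dvd_iff_pow_eq_one.1
      rw [c.ht]; exact dvd_pow_self 2 (by have := c.hn; omega)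
    rwa [h3, one_mul] at this

theorem κ_D (hx : x ∈ c.D) : ap M.κ x ∈ C{M.d.e} := by
  have hxH := c.D_le_H hx
  have h1 : ap M.κ x ∈ C{M.d.e ^ 2 ^ (c.n - 1)} := by
    rw [← M.κ_u, mem_C1, ← ap_mul _ hxH c.u_mem_H, ← ap_mul _ c.u_mem_H hxH, mem_C1.1 hx.2]
  refine (M.d.cent_u _ h1).resolve_right fun h2 => ?_
  rw [← M.κ_σ, ← ap_mul _ hxH c.σ_mem_H] at h2
  have h3 := M.conj_u_of_C (mul_mem hxH c.σ_mem_H) h2
  have h4 : x * c.σ * c.u * (x * c.σ)⁻¹ = c.t * c.u := by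
    calc x * c.σ * c.u * (x * c.σ)⁻¹ = x * (c.σ * c.u * c.σ⁻¹) * x⁻¹ := by group
      _ = _ := by rw [c.σ_u, mem_C1_iff_conj.1 (c.D_le_C c.tu_mem_V hx)]
  rw [h4, mul_inv_cancel_right] at h3
  exact t_not_mem_O h3

theorem img_D_le : img M.κ c.D ≤ C{M.d.e} := fun z hz => by
  obtain ⟨x, hx, -, rfl⟩ := mem_img.1 hz
  exact M.κ_D hx

/-- odd subgroups of `D` are centralised by `E0` modulo `O` -/
theorem comm_OD : ⁅𝒪[c.D], c.E0⁆ ≤ c.O := by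
  have h1 : 𝒪[c.D] ≤ c.H := (pcore_le _ _).trans c.D_le_H
  have h2 : ⁅𝒪[c.D], c.E0⁆ ≤ 𝒪[c.D] := comm_le_left c.D_sd.norm
  refine M.le_O_of_img (h2.trans h1) (odd_of_le (odd_pcore _) h2) ?_
  rw [img_comm _ h1 c.E0_le_H, M.img_E0, comm_eq_bot, C_zpowers]
  exact (img_mono _ (pcore_le _ _)).trans M.img_D_le

theorem comm_OD' {v : G} (hv : v ∈ c.V) (h1 : v ≠ 1) : ⁅𝒪[c.D], c.E0⁆ ≤ 𝒪[C{v}] := by
  obtain ⟨g, hg, rfl⟩ := c.exists_conj hv h1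
  have := cj_mono g M.comm_OD
  rwa [cj_comm, cj_of_mem_N hg, ← pcore_cj, cj_of_mem_N (c.NE0_le_ND hg), c.cj_O] at this

theorem comm_odd_D (hX : Odd ♯X) (h : X ≤ c.D) {v : G} (hv : v ∈ c.V) (h1 : v ≠ 1) :
    ⁅X, c.E0⁆ ≤ 𝒪[C{v}] := (comm_mono_left (c.le_OD hX h)).trans (M.comm_OD' hv h1)

/-- lifting `C(e)` to the centraliser of `E0` in a subgroup containing `E0` -/
theorem lift_C (hK : K ≤ c.H) (hE : c.E0 ≤ K) (hx : x ∈ K) (h : ap M.κ x ∈ C{M.d.e}) :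
    ∃ o ∈ c.O ⊓ K, o * x ∈ C[c.E0] := by
  have hOK : Odd ♯(c.O ⊓ K) := odd_of_le c.odd_O inf_le_left
  have hN : K ≤ N[c.O ⊓ K] := norm_inf (hK.trans c.H_le_NO) (norm_self _)
  obtain ⟨o, ho, e⟩ := conj_of_coset hOK (sq_of c.hu) (a := x * c.u * x⁻¹)
    (sq_of (two_conj c.hu x)) (mem_inf.2 ⟨M.conj_u_of_C (hK hx) h,
      mul_mem (mul_mem (mul_mem hx (hE c.u_mem_E0)) (inv_mem hx)) (inv_mem (hE c.u_mem_E0))⟩)
  have ho2 : o ∈ K := ho.2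
  have h1 : o * x ∈ c.D := ⟨hK (mul_mem ho2 hx), mem_C1_iff_conj.2 (by
    rw [mul_inv_rev, ← mul_assoc, mul_assoc o, mul_assoc o, e])⟩
  obtain ⟨o', ho', e'⟩ := coprime_lift_cent (hE.trans hN) (cop2 hOK c.E0_pi)
    (Or.inl (sol_of_odd hOK)) (g := o * x) fun a ha => by
      refine mem_inf.2 ⟨?_, mul_mem (mul_mem (mul_mem (hE ha) (mul_mem ho2 hx)) (inv_mem (hE ha)))
        (inv_mem (mul_mem ho2 hx))⟩
      obtain ⟨b, hb, z, hz, e1⟩ := c.D_sd.isProd.mul _ h1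
      have := M.comm_OD (commutator_mem_commutator hb ha)
      have h3 : a * (o * x) * a⁻¹ * (o * x)⁻¹ = ⁅b, a⁆⁻¹ := by
        rw [e1, commutatorElement_def]
        calc a * (b * z) * a⁻¹ * (b * z)⁻¹ = a * b * (z * a⁻¹) * z⁻¹ * b⁻¹ := by group
          _ = _ := by rw [c.abl_E0.comm hz (inv_mem ha)]; group
      rw [h3]; exact inv_mem this
  exact ⟨o' * o, mul_mem ho' ho, by rwa [mul_assoc]⟩

theorem img_inf_CE0 (hK : K ≤ c.H) (hE : c.E0 ≤ K) :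
    img M.κ (K ⊓ C[c.E0]) = img M.κ K ⊓ C{M.d.e} := by
  refine le_antisymm (le_inf (img_mono _ inf_le_left)
    ((img_mono _ (inf_le_right.trans c.CE0_le_D)).trans M.img_D_le)) fun z hz => ?_
  obtain ⟨x, hx, hxH, rfl⟩ := mem_img.1 hz.1
  obtain ⟨o, ho, e⟩ := M.lift_C hK hE hx hz.2
  have := ap_mem_img M.κ (A := K ⊓ C[c.E0]) ⟨mul_mem ho.2 hx, e⟩ (hK (mul_mem ho.2 hx))
  rwa [ap_mul _ (hK ho.2) hxH, M.κ_O ho.1, one_mul] at this

theorem img_CE0 : img M.κ C[c.E0] = C{M.d.e} := by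
  have := M.img_inf_CE0 le_rfl c.E0_le_H
  rwa [M.img_H, top_inf_eq, inf_eq_right.2 (c.CE0_le_D.trans c.D_le_H)] at this

theorem img_D : img M.κ c.D = C{M.d.e} :=
  le_antisymm M.img_D_le (by rw [← M.img_CE0]; exact img_mono _ c.CE0_le_D)

theorem cover_iff (hK : K ≤ c.H) (hZ : c.Z ≤ K) : c.H ≤ K ⊔ c.O ↔ img M.κ K = ⊤ := by
  rw [← top_le_iff, ← M.img_H, img_le_img_iff le_rfl hK, M.ker_eq, ← sup_assoc, sup_right_comm,
    sup_eq_left.2 hZ]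

theorem img_normal (hK : K ≤ c.H) (hc : c.H ≤ K ⊔ c.O) (hR : K ≤ N[R]) :
    (img M.κ R).Normal := by
  have h1 := img_norm M.κ hR
  have h2 : img M.κ K = ⊤ := by
    rw [← top_le_iff, ← M.img_H, img_le_img_iff le_rfl hK, M.ker_eq]
    exact hc.trans (sup_le_sup_left le_sup_left _)
  rw [h2] at h1
  exact normalizer_eq_top_iff.1 (top_le_iff.1 h1)

theorem L_le_img (hq : M.d.N.q ≠ 3) (hK : K ≤ c.H) (hc : c.H ≤ K ⊔ c.O) (hR : K ≤ N[R])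
    (h : img M.κ R ≠ ⊥) : M.d.L ≤ img M.κ R := M.d.nml_big hq _ (M.img_normal hK hc hR) h

/-- a subgroup normalised by `u` whose image contains `s` contains `t` -/
theorem t_mem (hu : c.u ∈ N[R]) (h : M.d.s ∈ img M.κ R) : c.t ∈ R := by
  obtain ⟨g, hg, hgH, e⟩ := mem_img.1 h
  have h1 : c.σ⁻¹ * g ∈ c.O ⊔ c.Z := by
    rw [← M.mem_ker (mul_mem (inv_mem c.σ_mem_H) hgH), ap_mul _ (inv_mem c.σ_mem_H) hgH,
      ap_inv _ c.σ_mem_H, M.κ_σ, e, inv_mul_cancel]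
  obtain ⟨o, ho, e1⟩ := M.conj_OZ h1 c.u_mem_H
  have h2 : c.u * g * c.u⁻¹ * g⁻¹ = c.t * (c.σ * o * c.σ⁻¹) := by
    have h3 : c.u * c.σ * c.u⁻¹ = c.t * c.σ := by
      rw [inv_of c.hu, ← c.t_eq_comm]; group
    calc c.u * g * c.u⁻¹ * g⁻¹
        = (c.u * c.σ * c.u⁻¹) * (c.u * (c.σ⁻¹ * g) * c.u⁻¹) * g⁻¹ := by group
      _ = _ := by rw [h3, e1]; group
  have h4 : c.σ * o * c.σ⁻¹ ∈ c.O := conj_mem (c.H_le_NO c.σ_mem_H) ho
  have h5 := mul_mem (conj_mem hu hg) (inv_mem hg)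
  rw [h2] at h5
  exact zpowers_le.2 h5 (mem_zpowers_of_comm c.ht (odd_orderOf c.odd_O h4)
    (mem_C1.1 (c.O_le_H h4)).symm)

theorem t_mem' (hq : M.d.N.q ≠ 3) (hK : K ≤ c.H) (hu : c.u ∈ K) (hc : c.H ≤ K ⊔ c.O)
    (hR : K ≤ N[R]) (h : img M.κ R ≠ ⊥) : c.t ∈ R :=
  M.t_mem (hR hu) (M.L_le_img hq hK hc hR h M.d.s_mem)

theorem comm_le_O (hX : X ≤ c.H) (ho : Odd ♯X) (hN : c.E0 ≤ N[X]) (h : img M.κ X ≤ C{M.d.e}) :
    ⁅X, c.E0⁆ ≤ c.O := by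
  have h2 : ⁅X, c.E0⁆ ≤ X := comm_le_left hN
  refine M.le_O_of_img (h2.trans hX) (odd_of_le ho h2) ?_
  rwa [img_comm _ hX c.E0_le_H, M.img_E0, comm_eq_bot, C_zpowers]

/-- `E0`-invariant `p`-subgroups of `C(v)` when there are no root groups -/
theorem rootfree {p : ℕ} (hp : p.Prime) (h2 : p ≠ 2) (hε : M.d.N.ε = -1 ∨ p ≠ M.d.N.p)
    (hX : IsPi {p} X) (hN : c.E0 ≤ N[X]) {v : G} (hv : v ∈ c.V) (h1 : v ≠ 1) :
    ⁅X ⊓ C{v}, c.E0⁆ ≤ 𝒪[C{v}] := by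
  obtain ⟨g, hg, rfl⟩ := c.exists_conj hv h1
  have hN' : c.E0 ≤ N[cj g⁻¹ X ⊓ c.H] := by
    refine norm_inf ?_ (norm_of_le c.E0_le_H)
    have := norm_cj hN g⁻¹
    rwa [cj_of_mem_N (inv_mem hg)] at this
  have hp' : IsPi {p} (cj g⁻¹ X ⊓ c.H) := (hX.cj _).inf_left _
  have := M.comm_le_O inf_le_right (odd_of_pi h2 hp') hN'
    (M.d.rootfree p hp h2 hε _ (hp'.img _) (M.κ_ρ ▸ ap_mem_N _ (hN' c.ρ_mem_E0) c.ρ_mem_H))
  have h3 := cj_mono g this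
  rwa [cj_comm, cj_inf, cj_cj_inv, cj_of_mem_N hg, c.cj_H, c.cj_O] at h3

end Mod

end H13.W
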