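import Mathlib
import Cfsg.Agent.H24.Base5

/-!
# The configuration `2^3 · GL(3,2)`: coordinates
-/

set_option autoImplicit false
set_option linter.unusedSectionVars false
set_option linter.unusedVariables false

namespace H13.K3

open Cfsg H24 Subgroup

universe u

variable {G : Type u} [Group G]

/-- the natural module -/
abbrev W : Type := Fin 3 → ZMod 2

/-- its endomorphisms -/
abbrev En : Type := Matrix (Fin 3) (Fin 3) (ZMod 2)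

/-- the first basis vector -/
def e0 : W := ![1, 0, 0]

/-- a matrix of order three fixing `e0` -/
def Y3 : En := !![1, 0, 0; 0, 0, 1; 0, 1, 1]

/-- coordinates on `V` in which `N(V)` induces `GL(3,2)` -/
structure Co (V : Subgroup G) (ι : W → G) (ψ : ↥N[V] →* En) : Prop where
  add : ∀ a b, ι (a + b) = ι a * ι b
  inj : Function.Injective ι
  mem : ∀ g, g ∈ V ↔ ∃ a, ι a = g
  act : ∀ (m : ↥N[V]) (a : W), ι ((ψ m).mulVec a) = (m : G) * ι a * (m : G)⁻¹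
  sur : ∀ A B : En, A * B = 1 → ∃ m, ψ m = A

/-- the centre -/
def Zq (Q : Subgroup G) : Subgroup G := Q ⊓ C[Q]

theorem mem_Zq {Q : Subgroup G} {z : G} : z ∈ Zq Q ↔ z ∈ Q ∧ ∀ q ∈ Q, q * z = z * q := by
  simp [Zq, mem_centralizer_iff]

/-- the preimage of `Ω₁(Z(Q / Z(Q)))` -/
def Bq (Q : Subgroup G) : Subgroup G where
  carrier := {b | b ∈ Q ∧ b * b ∈ Zq Q ∧ ∀ q ∈ Q, q * b * q⁻¹ * b⁻¹ ∈ Zq Q}
  one_mem' := ⟨one_mem _, by simp, fun q hq => by simp⟩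
  mul_mem' := by
    rintro a b ⟨ha, ha2, ha3⟩ ⟨hb, hb2, hb3⟩
    refine ⟨mul_mem ha hb, ?_, fun q hq => ?_⟩
    · have h1 := (mem_Zq.1 (ha3 b hb)).2 a ha
      have h2 := (mem_Zq.1 ha2).2 b hb
      have : a * b * (a * b) = (b * a * b⁻¹ * a⁻¹) * (a * a) * (b * b) := by
        calc a * b * (a * b) = (a * (b * a * b⁻¹ * a⁻¹)) * a * (b * b) := by group
          _ = _ := by rw [h1]; group
      rw [this]
      exact mul_mem (mul_mem (ha3 b hb) ha2) hb2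
    · have h1 := (mem_Zq.1 (hb3 q hq)).2 a ha
      have : q * (a * b) * q⁻¹ * (a * b)⁻¹ = (q * a * q⁻¹ * a⁻¹) * (q * b * q⁻¹ * b⁻¹) := by
        calc q * (a * b) * q⁻¹ * (a * b)⁻¹
            = (q * a * q⁻¹ * a⁻¹) * (a * (q * b * q⁻¹ * b⁻¹)) * a⁻¹ := by group
          _ = _ := by rw [h1]; group
      rw [this]
      exact mul_mem (ha3 q hq) (hb3 q hq)
  inv_mem' := by
    rintro a ⟨ha, ha2, ha3⟩
    refine ⟨inv_mem ha, ?_, fun q hq => ?_⟩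
    · have : a⁻¹ * a⁻¹ = (a * a)⁻¹ := by group
      rw [this]; exact inv_mem ha2
    · have h1 := (mem_Zq.1 (inv_mem (ha3 q hq))).2 a⁻¹ (inv_mem ha)
      have : q * a⁻¹ * q⁻¹ * a⁻¹⁻¹ = (q * a * q⁻¹ * a⁻¹)⁻¹ := by
        calc q * a⁻¹ * q⁻¹ * a⁻¹⁻¹ = (a⁻¹ * (q * a * q⁻¹ * a⁻¹)⁻¹) * a := by group
          _ = _ := by rw [h1]; group
      rw [this]
      exact inv_mem (ha3 q hq)

theorem mem_Bq {Q : Subgroup G} {b : G} :
    b ∈ Bq Q ↔ b ∈ Q ∧ b * b ∈ Zq Q ∧ ∀ q ∈ Q, q * b * q⁻¹ * b⁻¹ ∈ Zq Q := Iff.rfl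

theorem Zq_le_Bq (Q : Subgroup G) : Zq Q ≤ Bq Q := by
  intro z hz
  refine ⟨(mem_Zq.1 hz).1, mul_mem hz hz, fun q hq => ?_⟩
  rw [(mem_Zq.1 hz).2 q hq]; simp

theorem Bq_le (Q : Subgroup G) : Bq Q ≤ Q := fun _ h => h.1

theorem conj_Zq {Q : Subgroup G} {m z : G} (hm : m ∈ N[Q]) (hz : z ∈ Zq Q) :
    m * z * m⁻¹ ∈ Zq Q := by
  obtain ⟨h1, h2⟩ := mem_Zq.1 hz
  refine mem_Zq.2 ⟨(mem_normalizer_iff.1 hm z).1 h1, fun q hq => ?_⟩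
  have h3 : m⁻¹ * q * m⁻¹⁻¹ ∈ Q := (mem_normalizer_iff.1 (inv_mem hm) q).1 hq
  calc q * (m * z * m⁻¹) = m * (m⁻¹ * q * m⁻¹⁻¹ * z) * m⁻¹ := by group
    _ = m * z * m⁻¹ * q := by rw [h2 _ h3]; group

theorem conj_Bq {Q : Subgroup G} {m b : G} (hm : m ∈ N[Q]) (hb : b ∈ Bq Q) :
    m * b * m⁻¹ ∈ Bq Q := by
  obtain ⟨h1, h2, h3⟩ := hb
  refine ⟨(mem_normalizer_iff.1 hm b).1 h1, ?_, fun q hq => ?_⟩
  · have : m * b * m⁻¹ * (m * b * m⁻¹) = m * (b * b) * m⁻¹ := by group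
    rw [this]; exact conj_Zq hm h2
  · have h4 : m⁻¹ * q * m⁻¹⁻¹ ∈ Q := (mem_normalizer_iff.1 (inv_mem hm) q).1 hq
    have : q * (m * b * m⁻¹) * q⁻¹ * (m * b * m⁻¹)⁻¹ =
        m * (m⁻¹ * q * m⁻¹⁻¹ * b * (m⁻¹ * q * m⁻¹⁻¹)⁻¹ * b⁻¹) * m⁻¹ := by group
    rw [this]; exact conj_Zq hm (h3 _ h4)

theorem norm_of_conj {Q X : Subgroup G}
    (h : ∀ m ∈ N[Q], ∀ x ∈ X, m * x * m⁻¹ ∈ X) : N[Q] ≤ N[X] := by
  intro m hm
  rw [mem_normalizer_iff]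
  refine fun x => ⟨h m hm x, fun hx => ?_⟩
  have := h m⁻¹ (inv_mem hm) _ hx
  simpa [mul_assoc] using this

theorem norm_Zq (Q : Subgroup G) : N[Q] ≤ N[Zq Q] :=
  norm_of_conj fun _ hm _ hx => conj_Zq hm hx

theorem norm_Bq (Q : Subgroup G) : N[Q] ≤ N[Bq Q] :=
  norm_of_conj fun _ hm _ hx => conj_Bq hm hx

end H13.K3
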