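import Mathlib
import Cfsg.Agent.H12.NGA2
import Cfsg.Agent.H12.NGC2

/-!
# The configuration of the Tits group: points, lines and the action on the lines through a point
-/

set_option autoImplicit false
set_option linter.unusedSectionVars false
set_option linter.unusedVariables false

namespace H13.NT

open Subgroup Cfsg H24 H11.ZN H12.NG H26
open H3.NG hiding ea_sq ea_of_sq ea_le

universe u

variable {G : Type u} [Group G]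

/-- the local data at a flag -/
structure TC (V : Subgroup G) (z : G) : Prop where
  ca : CA (C{z} ⊓ N[V]) V z
  ab : Abl (Uz V z)
  cardU : ♯(Uz V z) = 32
  cardD : ♯(Dv V) = 8
  idxC : (Qz z).relIndex C{z} = 20
  idxU : ∀ y ∈ V, y ≠ 1 → y ≠ z → (Qz z).relIndex (Uz V y) = 2

/-- the set of lines -/
structure Geo (𝓛 : Set (Subgroup G)) : Prop where
  conj : ∀ V ∈ 𝓛, ∀ g, cj g V ∈ 𝓛
  tr : ∀ V ∈ 𝓛, ∀ W ∈ 𝓛, ∃ g, cj g V = W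
  tc : ∀ V ∈ 𝓛, ∀ z ∈ V, z ≠ 1 → TC V z

/-- flags -/
structure Fl (𝓛 : Set (Subgroup G)) (V : Subgroup G) (z : G) : Prop where
  geo : Geo 𝓛
  ln : V ∈ 𝓛
  mem : z ∈ V
  ne : z ≠ 1

/-- the group generated by the lines through `z` -/
def UU (𝓛 : Set (Subgroup G)) (z : G) : Subgroup G := ⨆ W ∈ 𝓛, ⨆ _ : z ∈ W, W

/-- points -/
def Pt (𝓛 : Set (Subgroup G)) (p : G) : Prop := ∃ W, Fl 𝓛 W p

/-- elements centralising `u` modulo `Z` -/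
def St (Z : Subgroup G) (u : G) : Subgroup G where
  carrier := {g | g ∈ N[Z] ∧ g * u * g⁻¹ * u⁻¹ ∈ Z}
  one_mem' := ⟨one_mem _, by simp⟩
  mul_mem' := fun {a b} ha hb => ⟨mul_mem ha.1 hb.1, by
    have := mul_mem (conj_mem ha.1 hb.2) ha.2
    convert this using 1
    group⟩
  inv_mem' := fun {a} ha => ⟨inv_mem ha.1, by
    have := conj_mem' ha.1 (inv_mem ha.2)
    convert this using 1
    group⟩

theorem mem_St {Z : Subgroup G} {u g : G} : g ∈ St Z u ↔ g ∈ N[Z] ∧ g * u * g⁻¹ * u⁻¹ ∈ Z := Iff.rfl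

variable [Finite G] {𝓛 : Set (Subgroup G)} {S V W W' X A B : Subgroup G}
  {z y g g' c f w q p t t' u s a b x e : G}

theorem pow_mem_idx (h : A ⊴ B) (hg : g ∈ B) : g ^ A.relIndex B ∈ A := by
  have := h.normal
  exact (pow_index_mem (A.subgroupOf B) ⟨g, hg⟩ :)

theorem mul_idx2 (h : A.relIndex B = 2) (ha : a ∈ B) (hb : b ∈ B) (ha' : a ∉ A) (hb' : b ∉ A) :
    a * b ∈ A := by
  have := (mul_mem_iff_of_index_two (H := A.subgroupOf B) h (a := ⟨a, ha⟩) (b := ⟨b, hb⟩)).2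
    (iff_of_false ha' hb')
  exact this

theorem idxS (h : CA S V z) (h20 : (Qz z).relIndex C{z} = 20) :
    (Qz z).relIndex S = 4 ∧ S.relIndex C{z} = 5 := by
  have h1 := relIndex_mul_relIndex _ _ _ h.Q_le_S h.S_le_C
  have h2 := Syl.not_dvd Nat.prime_two (h.syl.of_le h.S_le_C le_top)
  obtain ⟨k, h3⟩ := (piNat_singleton Nat.prime_two (relIndex_ne_zero' _ _)).1 (h.syl.pi.relIndex (Qz z))
  rw [h20, h3] at h1
  have h4 : k ≤ 4 := by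
    by_contra h5
    have : 2 ^ 5 ∣ 20 := h1 ▸ (pow_dvd_pow 2 (by omega)).mul_right _
    omega
  rw [h3]
  interval_cases k <;> omega

theorem S_eq (h : CA S V z) (h20 : (Qz z).relIndex C{z} = 20) : S = C{z} ⊓ N[V] := by
  have h0 := le_inf h.S_le_C h.nml.norm
  have h1 := relIndex_mul_relIndex _ _ _ h0 (inf_le_left : _ ≤ C{z})
  rw [(idxS h h20).2] at h1
  rcases (Nat.dvd_prime Nat.prime_five).1 (Dvd.intro _ h1) with e | e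
  · exact le_antisymm h0 (relIndex_eq_one.1 e)
  · rw [e] at h1
    exact absurd ((relIndex_eq_one.1 (by omega : (C{z} ⊓ N[V]).relIndex C{z} = 1)).trans inf_le_right) h.nle

theorem tc_of (h : TitsC S V z) : TC V z :=
  ⟨S_eq h.toCA h.idxC ▸ h.toCA, h.ab, h.cardU, h.cardD, h.idxC, h.idxU⟩

theorem TC.conj (h : TC V z) (g : G) : TC (cj g V) (g * z * g⁻¹) := by
  have h1 := h.ca.conjG₁ g
  rw [cj_inf, cj_C1, cj_N] at h1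
  refine ⟨h1, by rw [CA.Uz_conj]; exact h.ab.cj g, by rw [CA.Uz_conj, card_cj, h.cardU], ?_,
    by rw [CA.Qz_conj, ← cj_C1, relIndex_cj, h.idxC], fun y hy y1 y2 => ?_⟩
  · obtain ⟨w, hw, w1, wz⟩ := h.ca.ex_w₁
    rw [h1.D_eq (conj_mem_cj g hw) (cjne g w1) (by simpa using wz), CA.Uz_conj, CA.Uz_conj, ← cj_inf,
      card_cj, ← h.ca.D_eq hw w1 wz, h.cardD]
  · obtain ⟨w, hw, rfl⟩ := mem_cj'.1 hy
    rw [CA.Qz_conj, CA.Uz_conj, relIndex_cj]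
    exact h.idxU w hw (by simpa using y1) (by simpa using y2)

theorem geo_of (h : TitsC S V z) : Fl {W | ∃ g, cj g V = W} V z := by
  refine ⟨⟨?_, ?_, ?_⟩, ⟨1, cj_one V⟩, h.z_mem, h.z1⟩
  · rintro _ ⟨a, rfl⟩ g
    exact ⟨g * a, cj_mul _ _ _⟩
  · rintro _ ⟨a, rfl⟩ _ ⟨b, rfl⟩
    exact ⟨b * a⁻¹, by rw [cj_mul, cj_inv_cj]⟩
  · rintro _ ⟨a, rfl⟩ p hp p1
    obtain ⟨y, hy, rfl⟩ := mem_cj'.1 hp
    obtain ⟨m, hm, rfl⟩ := h.trans hy (by simpa using p1)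
    have := ((tc_of h).conj m).conj a
    rwa [cj_of_mem_N (mem_inf.1 hm).1] at this

theorem Geo.U_cj (h : Geo 𝓛) (g z : G) : UU 𝓛 (g * z * g⁻¹) = cj g (UU 𝓛 z) := by
  have key : ∀ g z : G, cj g (UU 𝓛 z) ≤ UU 𝓛 (g * z * g⁻¹) := fun g z => by
    rw [cj_le_iff]
    refine iSup₂_le fun W hW => iSup_le fun hz => ?_
    rw [← cj_le_iff]
    exact le_iSup₂_of_le (cj g W) (h.conj W hW g) (le_iSup_of_le (conj_mem_cj g hz) le_rfl)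
  refine le_antisymm ?_ (key g z)
  have := key g⁻¹ (g * z * g⁻¹)
  rwa [cj_le_iff, inv_inv, show g⁻¹ * (g * z * g⁻¹) * g = z by group] at this

namespace Fl

variable (h : Fl 𝓛 V z)
include h

theorem tc : TC V z := h.geo.tc V h.ln z h.mem h.ne
theorem ca : CA (C{z} ⊓ N[V]) V z := h.tc.ca
theorem conj (g : G) : Fl 𝓛 (cj g V) (g * z * g⁻¹) :=
  ⟨h.geo, h.geo.conj V h.ln g, conj_mem_cj g h.mem, cjne g h.ne⟩
theorem conjC (hg : g ∈ C{z}) : Fl 𝓛 (cj g V) z := mem_C1_iff_conj.1 hg ▸ h.conj g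
theorem conjN (hg : g ∈ N[V]) : Fl 𝓛 V (g * z * g⁻¹) := cj_of_mem_N hg ▸ h.conj g
theorem pt (hy : y ∈ V) (h1 : y ≠ 1) : Fl 𝓛 V y := ⟨h.geo, h.ln, hy, h1⟩
theorem sq : z * z = 1 := h.ca.z_sq
theorem inv : z⁻¹ = z := inv_sq h.sq
theorem ea : EA V := h.ca.ea
theorem card : ♯V = 4 := h.ca.card
theorem memZ : x ∈ zpowers z ↔ x = 1 ∨ x = z := mem_zp2 h.sq
theorem Z_le : zpowers z ≤ V := zpowers_le.2 h.mem
theorem CV_le : C[V] ≤ C{z} := C_le_C1 h.mem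
theorem CV_le_S : C[V] ≤ C{z} ⊓ N[V] := le_inf h.CV_le (C_le_N V)
theorem third (h' : Fl 𝓛 V y) (hne : y ≠ z) : Fl 𝓛 V (z * y) :=
  h.pt (mul_mem h.mem h'.mem) (ea_mul_ne h.ea h.mem hne.symm)
theorem third_ne (h' : Fl 𝓛 V y) : z * y ≠ z := fun e => h'.ne (mul_eq_left.1 e)
theorem third_ne' : z * y ≠ y := fun e => h.ne (mul_eq_right.1 e)
theorem cases (h' : Fl 𝓛 V y) (hne : y ≠ z) (hx : x ∈ V) : x = 1 ∨ x = z ∨ x = y ∨ x = z * y :=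
  four_cases h.ea h.card h.mem h'.mem h.ne h'.ne hne.symm hx
theorem ex_pt : ∃ y, Fl 𝓛 V y ∧ y ≠ z := by
  obtain ⟨w, hw, w1, wz⟩ := h.ca.ex_w₁
  exact ⟨w, h.pt hw w1, wz⟩
theorem pt_of (hy : y ∈ V) (h1 : y ∉ zpowers z) : Fl 𝓛 V y ∧ y ≠ z :=
  ⟨h.pt hy fun e => h1 (e ▸ one_mem _), fun e => h1 (e ▸ mem_zpowers _)⟩
theorem notZ (h' : Fl 𝓛 V y) (hne : y ≠ z) : y ∉ zpowers z := fun e => (h.memZ.1 e).elim h'.ne hne
theorem le_of (h' : Fl 𝓛 V y) (hne : y ≠ z) (h1 : z ∈ X) (h2 : y ∈ X) : V ≤ X :=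
  four_le₂ h.card h.mem h'.mem h.ne h'.ne hne h1 h2
theorem cent (h' : Fl 𝓛 V y) (hne : y ≠ z) (h1 : g ∈ C{z}) (h2 : g ∈ C{y}) : g ∈ C[V] :=
  mem_C_iff_le_C1.2 (h.le_of h' hne (mem_C1_comm.1 h1) (mem_C1_comm.1 h2))
theorem eq_of (h' : Fl 𝓛 V y) (hne : y ≠ z) (k : Fl 𝓛 W z) (hy : y ∈ W) : V = W :=
  eq_of_card_eq (h.le_of h' hne k.mem hy) (h.card.trans k.card.symm)
theorem meet (k : Fl 𝓛 W z) (hne : V ≠ W) (h1 : x ∈ V) (h2 : x ∈ W) : x ∈ zpowers z := by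
  by_contra e
  exact hne (h.eq_of (h.pt_of h1 e).1 (h.pt_of h1 e).2 k h2)
theorem Zinf (h' : Fl 𝓛 V y) (hne : y ≠ z) (h1 : x ∈ zpowers z) (h2 : x ∈ zpowers y) : x = 1 :=
  (h.memZ.1 h1).resolve_right fun e => h'.notZ h hne.symm (e ▸ h2)

theorem le_U : V ≤ UU 𝓛 z := le_iSup₂_of_le V h.ln (le_iSup_of_le h.mem le_rfl)
theorem z_U : z ∈ UU 𝓛 z := h.le_U h.mem
theorem Z_U : zpowers z ≤ UU 𝓛 z := zpowers_le.2 h.z_U
theorem U_le (hX : ∀ W, Fl 𝓛 W z → W ≤ X) : UU 𝓛 z ≤ X :=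
  iSup₂_le fun W hW => iSup_le fun hz => hX W ⟨h.geo, hW, hz, h.ne⟩
theorem line (k : Fl 𝓛 W z) : ∃ c ∈ C{z}, cj c V = W := by
  obtain ⟨g, rfl⟩ := h.geo.tr V h.ln W k.ln
  obtain ⟨c, hc, e⟩ := h.ca.line k.mem
  exact ⟨c, hc, e.symm⟩
theorem U_eq : Uz V z = UU 𝓛 z := le_antisymm (ncl_le fun g hg => (h.conjC hg).le_U)
  (h.U_le fun W k => by obtain ⟨c, hc, rfl⟩ := h.line k; exact le_ncl hc)
theorem flag (k : Fl 𝓛 W y) : ∃ g, cj g V = W ∧ g * z * g⁻¹ = y := by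
  obtain ⟨g, rfl⟩ := h.geo.tr V h.ln W k.ln
  obtain ⟨m, hm, e⟩ := h.ca.trans (mem_cj.1 k.mem) (by simpa using cjne g⁻¹ k.ne)
  refine ⟨g * m, by rw [cj_mul, cj_of_mem_N (mem_inf.1 hm).1], ?_⟩
  calc _ = g * (m * z * m⁻¹) * g⁻¹ := by group
    _ = _ := by rw [e]; group

omit h in
theorem Q_le_C (z : G) : Qz z ≤ C{z} := (CA.Q_nml₁ z).le
omit h in
theorem C_le_NQ (z : G) : C{z} ≤ N[Qz z] := (CA.Q_nml₁ z).norm
omit h in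
theorem C_le_NZ (z : G) : C{z} ≤ N[zpowers z] := CA.zp_norm₁ z
omit h in
theorem Q_pi (z : G) : IsPi {2} (Qz z) := pcore_pi _ _
theorem U_le_Q : UU 𝓛 z ≤ Qz z := h.U_eq ▸ h.ca.U_le_Q
theorem U_le_C : UU 𝓛 z ≤ C{z} := h.U_le_Q.trans (Q_le_C z)
theorem V_le_Q : V ≤ Qz z := h.ca.V_le_Q
theorem C_le_NU : C{z} ≤ N[UU 𝓛 z] := h.U_eq ▸ h.ca.U_nml.norm
theorem abU : Abl (UU 𝓛 z) := h.U_eq ▸ h.tc.ab
theorem cardU : ♯(UU 𝓛 z) = 32 := h.U_eq ▸ h.tc.cardU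
theorem U_le_CV : UU 𝓛 z ≤ C[V] := h.abU.cents le_rfl h.le_U
theorem Q_le_N : Qz z ≤ N[V] := h.ca.Q_le_N₁
theorem Q_le_S : Qz z ≤ C{z} ⊓ N[V] := h.ca.Q_le_S
theorem cmU (hq : q ∈ Qz z) (hu : u ∈ UU 𝓛 z) : q * u * q⁻¹ * u⁻¹ ∈ zpowers z :=
  h.ca.cm_U₁ (h.U_eq ▸ hu) hq
theorem memQ (hg : g ∈ C{z}) (hc : ∀ u ∈ UU 𝓛 z, g * u * g⁻¹ * u⁻¹ ∈ zpowers z) : g ∈ Qz z :=
  h.ca.mem_Q hg (h.U_eq ▸ hc)
theorem CU_le_Q : C[UU 𝓛 z] ≤ Qz z := fun g hg => h.memQ (C_le_C1 h.z_U hg) fun u hu => by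
  rw [conj_eq_of_mem_C hg hu, mul_inv_cancel]; exact one_mem _
theorem CU_le_CV : C[UU 𝓛 z] ≤ C[V] := C_anti h.le_U
theorem sqU (hu : u ∈ UU 𝓛 z) : u * u = 1 := by
  let T : Subgroup G :=
    { carrier := {u | u ∈ UU 𝓛 z ∧ u * u = 1}
      one_mem' := ⟨one_mem _, by simp⟩
      mul_mem' := fun {a b} ha hb => ⟨mul_mem ha.1 hb.1, by
        rw [mul_assoc, ← mul_assoc b, h.abU.comm hb.1 ha.1, mul_assoc, hb.2, mul_one, ha.2]⟩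
      inv_mem' := fun {a} ha => ⟨inv_mem ha.1, by rw [← mul_inv_rev, ha.2, inv_one]⟩ }
  exact (h.U_le (X := T) (fun W k x hx => ⟨k.le_U hx, ea_sq k.ea hx⟩) hu).2
theorem invU (hu : u ∈ UU 𝓛 z) : u⁻¹ = u := inv_sq (h.sqU hu)
theorem eaU : EA (UU 𝓛 z) := ea_of_sq fun _ => h.sqU
theorem D_eq (h' : Fl 𝓛 V y) (hne : y ≠ z) : Dv V = UU 𝓛 z ⊓ UU 𝓛 y := by
  rw [h.ca.D_eq h'.mem h'.ne hne, h.U_eq, h'.U_eq]
theorem D_le_U : Dv V ≤ UU 𝓛 z := h.U_eq ▸ CA.D_le₁ h.mem h.ne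
theorem V_le_D : V ≤ Dv V := h.ca.V_le_D
theorem cardD : ♯(Dv V) = 8 := h.tc.cardD
theorem N_le_ND : N[V] ≤ N[Dv V] := h.ca.D_nml.norm
theorem memD (h' : Fl 𝓛 V y) (hne : y ≠ z) (h1 : u ∈ UU 𝓛 z) (h2 : u ∈ UU 𝓛 y) : u ∈ Dv V :=
  h.D_eq h' hne ▸ mem_inf.2 ⟨h1, h2⟩
theorem idxU (h' : Fl 𝓛 V y) (hne : y ≠ z) : (Qz z).relIndex (UU 𝓛 y) = 2 :=
  h'.U_eq ▸ h.tc.idxU y h'.mem h'.ne hne
theorem ex_t (h' : Fl 𝓛 V y) (hne : y ≠ z) : ∃ t ∈ UU 𝓛 y, t ∉ Qz z :=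
  SetLike.not_le_iff_exists.1 fun e => by
    have := h.idxU h' hne
    rw [relIndex_eq_one.2 e] at this
    omega
theorem ex_x : ∃ x ∈ Qz z, x ∉ C[V] := SetLike.not_le_iff_exists.1 h.ca.Q_not_le
theorem mv (h' : Fl 𝓛 V y) (hne : y ≠ z) (hx : x ∈ C{z} ⊓ N[V]) (hx' : x ∉ C[V]) :
    x * y * x⁻¹ = z * y :=
  four_mv h.ea h.card h.mem h'.mem h.ne h'.ne hne.symm (mem_inf.1 hx).2 (mem_inf.1 hx).1 hx'
theorem ix (ha : a ∈ C{z} ⊓ N[V]) (hb : b ∈ C{z} ⊓ N[V]) (ha' : a ∉ C[V]) (hb' : b ∉ C[V]) :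
    a * b ∈ C[V] :=
  four_ix h.ea h.card h.mem h.ne (mem_inf.1 ha).2 (mem_inf.1 ha).1 (mem_inf.1 hb).2 (mem_inf.1 hb).1 ha' hb'
theorem ex_line : ∃ W, Fl 𝓛 W z ∧ W ≠ V := by
  obtain ⟨c, hc, hc'⟩ := SetLike.not_le_iff_exists.1 h.ca.nle
  exact ⟨_, h.conjC hc, fun e => hc' (mem_N_iff_cj.2 e)⟩

/-! ### The group `C / Q` -/

theorem idx4 : (Qz z).relIndex (C{z} ⊓ N[V]) = 4 := (idxS h.ca h.tc.idxC).1
theorem idx5 : (C{z} ⊓ N[V]).relIndex C{z} = 5 := (idxS h.ca h.tc.idxC).2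
theorem F_inf (hg : g ∈ F2 C{z}) (hg' : g ∈ N[V]) : g ∈ Qz z := h.ca.F_inf ▸ mem_inf.2 ⟨hg, hg'⟩
theorem idxF : (Qz z).relIndex (F2 C{z}) = 5 := by
  have h1 := relIndex_mul_relIndex _ _ _ (Q2_le_F2 C{z}) (F2_le C{z})
  have h2 := F2_odd C{z}
  have h3 : (Qz z).relIndex (F2 C{z}) ≠ 1 := fun e => h.ca.F_ne (relIndex_eq_one.1 e)
  rw [h.tc.idxC] at h1
  have h4 : (Qz z).relIndex (F2 C{z}) ∣ 4 * 5 := Dvd.intro _ h1
  exact ((Nat.dvd_prime Nat.prime_five).1 (Nat.Coprime.dvd_of_dvd_mul_left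
    ((Nat.coprime_two_right.2 h2).pow_right 2) h4)).resolve_left h3
theorem pow5 (hg : g ∈ F2 C{z}) : g ^ 5 ∈ Qz z :=
  h.idxF ▸ pow_mem_idx ((CA.Q_nml₁ z).of_le (Q2_le_F2 _) (F2_le _)) hg
theorem ex_f : ∃ f ∈ F2 C{z}, f ∉ Qz z ∧ orderOf f = 5 := by
  obtain ⟨f, hf, e⟩ := exists_orderOf_eq (H := F2 C{z}) Nat.prime_five
    (h.idxF ▸ Dvd.intro_left _ (card_mul_relIndex (Q2_le_F2 C{z})))
  refine ⟨f, hf, fun e' => ?_, e⟩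
  have := one_of_odd (Q_pi z) e' (by rw [e]; decide)
  rw [this, orderOf_one] at e
  omega
theorem zp_cs (hw : w ∈ F2 C{z}) (hw' : w ∉ Qz z) : zpowers (cs (Qz z) w) = quo (F2 C{z}) (Qz z) := by
  have hn := (F2_le C{z}).trans (C_le_NQ z)
  exact zpowers_eq_of_prime (by rw [card_quo hn, h.idxF]; exact Nat.prime_five) (cs_mem_quo hw (hn hw))
    fun e => hw' ((cs_eq_one (hn hw)).1 e)
theorem ord_cs (hw : w ∈ F2 C{z}) (hw' : w ∉ Qz z) : orderOf (cs (Qz z) w) = 5 := by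
  rw [← card_zpowers', h.zp_cs hw hw', card_quo ((F2_le C{z}).trans (C_le_NQ z)), h.idxF]
theorem F_gen (hw : w ∈ F2 C{z}) (hw' : w ∉ Qz z) (hf : f ∈ F2 C{z}) :
    ∃ i < 5, ∃ q ∈ Qz z, f = w ^ i * q := by
  classical
  have hn := (F2_le C{z}).trans (C_le_NQ z)
  have h1 : cs (Qz z) f ∈ zpowers (cs (Qz z) w) := h.zp_cs hw hw' ▸ cs_mem_quo hf (hn hf)
  obtain ⟨i, hi, e⟩ := Finset.mem_image.1 (mem_zpowers_iff_mem_range_orderOf.1 h1)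
  rw [Finset.mem_range, h.ord_cs hw hw'] at hi
  rw [← ap_pow _ (hn hw), cs_eq_cs (pow_mem (hn hw) i) (hn hf)] at e
  exact ⟨i, hi, _, e, by group⟩
theorem F_le (hw : w ∈ F2 C{z}) (hw' : w ∉ Qz z) (h1 : w ∈ X) (h2 : Qz z ≤ X) : F2 C{z} ≤ X :=
  fun f hf => by
    obtain ⟨i, -, q, hq, rfl⟩ := h.F_gen hw hw' hf
    exact mul_mem (pow_mem h1 i) (h2 hq)
theorem powF (hw : w ∈ F2 C{z}) (hw' : w ∉ Qz z) {i : ℕ} (hi : w ^ i ∈ Qz z) : 5 ∣ i := by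
  have hn := (F2_le C{z}).trans (C_le_NQ z)
  rw [← h.ord_cs hw hw', orderOf_dvd_iff_pow_eq_one, ← ap_pow _ (hn hw)]
  exact cs_of_mem hi
theorem memF (hw : w ∈ F2 C{z}) (hw' : w ∉ Qz z) (hg : g ∈ C{z}) (e : g * w * g⁻¹ * w⁻¹ ∈ Qz z) :
    g ∈ F2 C{z} := by
  have h1 : F2 C{z} ≤ St (Qz z) g := h.F_le hw hw' ⟨C_le_NQ z (F2_le _ hw), cm_symm e⟩ fun q hq =>
    ⟨norm_self _ hq, by
      have := mul_mem hq (conj_mem (C_le_NQ z hg) (inv_mem hq))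
      convert this using 1
      group⟩
  exact F2_cent h.ca.ch2.1 hg fun f hf => cm_symm (h1 hf).2
theorem inv1 (hg : g ∈ C{z}) (h2 : g * g ∈ Qz z) (hg' : g ∉ Qz z) (hw : w ∈ F2 C{z}) :
    g * w * g⁻¹ * w ∈ Qz z := by
  have hn := (F2_le C{z}).trans (C_le_NQ z)
  have gn := C_le_NQ z hg
  by_cases hw' : w ∈ Qz z
  · exact mul_mem (conj_mem gn hw') hw'
  have h1 : cs (Qz z) g ∈ N[zpowers (cs (Qz z) w)] := by
    rw [h.zp_cs hw hw']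
    exact quo_norm _ (F2_nml C{z}).norm (cs_mem_quo hg gn)
  have h3 : cs (Qz z) g * cs (Qz z) g = 1 := by rw [← ap_mul _ gn gn]; exact cs_of_mem h2
  rcases cent_or_inv (by rw [h.ord_cs hw hw']; exact Nat.prime_five) h1 h3 with e | e
  · rw [← ap_conj _ gn (hn hw), ← mul_inv_eq_one, ← ap_inv _ (hn hw), ← ap_mul _
      (mul_mem (mul_mem gn (hn hw)) (inv_mem gn)) (inv_mem (hn hw)), cs_eq_one
      (mul_mem (mul_mem (mul_mem gn (hn hw)) (inv_mem gn)) (inv_mem (hn hw)))] at e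
    have h4 := h.pow5 (h.memF hw hw' hg e)
    rw [show g ^ 5 = g * g * (g * g) * g by simp only [pow_succ, pow_zero, one_mul, mul_assoc]] at h4
    exact absurd ((mul_mem_cancel_left (mul_mem h2 h2)).1 h4) hg'
  · rwa [← ap_conj _ gn (hn hw), ← mul_eq_one_iff_eq_inv, ← ap_mul _
      (mul_mem (mul_mem gn (hn hw)) (inv_mem gn)) (hn hw), cs_eq_one
      (mul_mem (mul_mem (mul_mem gn (hn hw)) (inv_mem gn)) (hn hw))] at e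
theorem inv2 (hg : g ∈ C{z}) (h2 : g * g ∈ Qz z) (h3 : g ∉ Qz z) (hg' : g' ∈ C{z})
    (h2' : g' * g' ∈ Qz z) (h3' : g' ∉ Qz z) : g * g' ∈ F2 C{z} := by
  obtain ⟨f, hf, hf', -⟩ := h.ex_f
  refine h.memF hf hf' (mul_mem hg hg') ?_
  have := mul_mem (conj_mem (C_le_NQ z hg) (h.inv1 hg' h2' h3' hf)) (h.inv1 hg h2 h3 (inv_mem hf))
  convert this using 1
  group
theorem inv3 (hg : g ∈ C{z} ⊓ N[V]) (h2 : g * g ∈ Qz z) (h3 : g ∉ Qz z) (hg' : g' ∈ C{z} ⊓ N[V])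
    (h2' : g' * g' ∈ Qz z) (h3' : g' ∉ Qz z) : g * g' ∈ Qz z :=
  h.F_inf (h.inv2 (mem_inf.1 hg).1 h2 h3 (mem_inf.1 hg').1 h2' h3')
    (mul_mem (mem_inf.1 hg).2 (mem_inf.1 hg').2)
theorem C_dec (hc : c ∈ C{z}) : ∃ f ∈ F2 C{z}, ∃ s ∈ C{z} ⊓ N[V], c = f * s := by
  refine (isProd_of_coprime_relIndex (F2_le C{z}) inf_le_left ?_).mul c hc
  have h1 := relIndex_mul_relIndex _ _ _ (Q2_le_F2 C{z}) (F2_le C{z})
  rw [h.tc.idxC, h.idxF] at h1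
  rw [h.idx5, show (F2 C{z}).relIndex C{z} = 4 by omega]
  decide
theorem lineF (hw : w ∈ F2 C{z}) (hw' : w ∉ Qz z) (k : Fl 𝓛 W z) : ∃ i < 5, cj (w ^ i) V = W := by
  obtain ⟨c, hc, rfl⟩ := h.line k
  obtain ⟨f, hf, s, hs, rfl⟩ := h.C_dec hc
  obtain ⟨i, hi, q, hq, rfl⟩ := h.F_gen hw hw' hf
  exact ⟨i, hi, by rw [cj_mul, cj_mul, cj_of_mem_N (mem_inf.1 hs).2, cj_of_mem_N (h.Q_le_N hq)]⟩
/-- an element fixing two lines through `z` lies in `Q` -/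
theorem two (k : Fl 𝓛 W z) (hne : W ≠ V) (hg : g ∈ C{z}) (h1 : g ∈ N[V]) (h2 : g ∈ N[W]) : g ∈ Qz z := by
  obtain ⟨f, hf, hf', -⟩ := h.ex_f
  obtain ⟨i, -, rfl⟩ := h.lineF hf hf' k
  have h3 := inv_mem (pow_mem hf i)
  rw [← cj_N, mem_cj] at h2
  refine h.F_inf (h.memF h3 (fun e => hne (cj_of_mem_N (h.Q_le_N (inv_mem_iff.1 e)))) hg
    (cm_symm (h.F_inf ?_ ?_))) h1
  · have := mul_mem h3 ((F2_nml C{z}).conj_mem hg (pow_mem hf i))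
    convert this using 1
    group
  · rw [inv_inv]
    exact mul_mem h2 (inv_mem h1)
theorem ncard_lines : {W | Fl 𝓛 W z}.ncard = 5 := by
  let _ : MulAction C{z} (Subgroup G) :=
    { smul := fun g X => cj g X, one_smul := cj_one, mul_smul := fun a b => cj_mul _ _ }
  have h1 := MulAction.index_stabilizer C{z} V
  have h2 : MulAction.orbit C{z} V = {W | Fl 𝓛 W z} := by
    ext W
    exact ⟨fun ⟨x, hx⟩ => hx ▸ h.conjC x.2, fun k => by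
      obtain ⟨c, hc, e⟩ := h.line k
      exact ⟨⟨c, hc⟩, e⟩⟩
  have h3 : MulAction.stabilizer C{z} V = (C{z} ⊓ N[V]).subgroupOf C{z} := by
    ext x
    rw [mem_subgroupOf, mem_inf, mem_N_iff_cj]
    exact ⟨fun e => ⟨x.2, e⟩, fun e => e.2⟩
  rw [← h2, ← h1, h3, ← h.idx5, relIndex]
/-- `C(V)` is transitive on the other lines through `z` -/
theorem trR (k : Fl 𝓛 W z) (k' : Fl 𝓛 W' z) (h1 : W ≠ V) (h2 : W' ≠ V) : ∃ s ∈ C[V], cj s W = W' := by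
  let _ : MulAction ↥(C{z} ⊓ N[V]) (Subgroup G) :=
    { smul := fun g X => cj g X, one_smul := cj_one, mul_smul := fun a b => cj_mul _ _ }
  have h3 := MulAction.index_stabilizer ↥(C{z} ⊓ N[V]) W
  have h4 : MulAction.stabilizer ↥(C{z} ⊓ N[V]) W = (Qz z).subgroupOf (C{z} ⊓ N[V]) := by
    ext x
    rw [mem_subgroupOf]
    exact ⟨fun e => h.two k h1 x.2.1 x.2.2 (mem_N_iff_cj.2 e), fun e => cj_of_mem_N (k.Q_le_N e)⟩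
  rw [h4, ← relIndex, h.idx4] at h3
  have h5 : MulAction.orbit ↥(C{z} ⊓ N[V]) W = {W | Fl 𝓛 W z} \ {V} := by
    refine Set.eq_of_subset_of_ncard_le ?_ ?_
    · rintro _ ⟨x, rfl⟩
      exact ⟨k.conjC x.2.1, fun e => h1 ((cj_eq_iff.1 e).trans (cj_of_mem_N (inv_mem x.2.2)))⟩
    · rw [Set.ncard_sdiff_singleton_of_mem (s := {W | Fl 𝓛 W z}) h, h.ncard_lines, ← h3]
  obtain ⟨⟨s, hs⟩, e⟩ : W' ∈ MulAction.orbit ↥(C{z} ⊓ N[V]) W := h5 ▸ ⟨k', h2⟩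
  by_cases hc : s ∈ C[V]
  · exact ⟨s, hc, e⟩
  obtain ⟨x, hx, hx'⟩ := h.ex_x
  exact ⟨s * x, h.ix hs (h.Q_le_S hx) hc hx', by rw [cj_mul, cj_of_mem_N (k.Q_le_N hx)]; exact e⟩
theorem le_of_two (k : Fl 𝓛 W z) (hne : W ≠ V) (h1 : V ≤ X) (h2 : W ≤ X) (hn : C[V] ≤ N[X]) :
    UU 𝓛 z ≤ X := h.U_le fun W' k' => by
  by_cases e : W' = V
  · exact e ▸ h1
  obtain ⟨s, hs, rfl⟩ := h.trR k k' hne e
  exact cj_le_of_mem_N h2 (hn hs)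
/-- points at distance four are not in `Q` -/
theorem notQ (h' : Fl 𝓛 V y) (hne : y ≠ z) (k : Fl 𝓛 W z) (hW : W ≠ V) (hp : p ∈ W) (hq : p ∈ Qz y) :
    p ∈ zpowers z := by
  by_contra e
  obtain ⟨t, ht, ht'⟩ := h'.ex_t h hne.symm
  exact ht' (h.le_of_two k hW h'.V_le_Q (k.le_of (k.pt_of hp e).1 (k.pt_of hp e).2 (h'.V_le_Q h.mem) hq)
    (h'.CV_le.trans (C_le_NQ y)) ht)
theorem fpf (hw : w ∈ F2 C{z}) (hw' : w ∉ Qz z) (hu : u ∈ UU 𝓛 z)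
    (e : w * u * w⁻¹ * u⁻¹ ∈ zpowers z) : u ∈ zpowers z := by
  obtain ⟨f, hf, hf', f5⟩ := h.ex_f
  have fC := F2_le _ hf
  have fo : Odd (orderOf f) := by rw [f5]; decide
  have h1 := (h.F_le (X := St (zpowers z) u) hw hw' ⟨C_le_NZ z (F2_le _ hw), e⟩
    (fun q hq => ⟨C_le_NZ z (Q_le_C z hq), h.cmU hq hu⟩) hf).2
  have h2 : f ∈ C{u} := mem_of_sq fo (mem_C1_iff_conj.2 (by
    have h3 := mem_C1_iff_conj.1 fC
    rw [show f * f * u * (f * f)⁻¹ = f * (f * u * f⁻¹) * f⁻¹ by group]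
    rcases h.memZ.1 h1 with e | e <;> rw [mul_inv_eq_iff_eq_mul] at e
    · rw [e, one_mul, e, one_mul]
    · rw [e, cjm, e, h3, mml h.sq]))
  have n := h.C_le_NU fC
  have h3 := card_comm1 h.abU n
  have h4 := fpf_dvd Nat.prime_five f5 (norm_comm_right _ _ (mem_zpowers f)) (odd_TI1 h.eaU n fo)
  have h5 : ♯⁅UU 𝓛 z, zpowers f⁆ ≠ 1 := fun e =>
    hf' (h.CU_le_Q (comm_eq_bot'.1 (card_eq_one'.1 e) (mem_zpowers f)))
  have h6 : zpowers z ≤ UU 𝓛 z ⊓ C{f} := le_inf h.Z_U (zpowers_le.2 (mem_C1_comm.1 fC))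
  have h7 := card_le h6
  rw [card_zp2 h.sq h.ne] at h7
  rw [h.cardU] at h3
  obtain ⟨k, hk, h8⟩ := (Nat.dvd_prime_pow Nat.prime_two (m := 5)).1 (Dvd.intro_left _ h3)
  rw [eq_of_card_ge h6 (by rw [card_zp2 h.sq h.ne]; rw [h8] at h3 h4 h5; interval_cases k <;> omega)]
  exact mem_inf.2 ⟨hu, mem_C1_comm.1 h2⟩

end Fl

end H13.NT
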