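import Mathlib
import Cfsg.Agent.H13.NT1

/-!
# The configuration of the Tits group: the module `U`
-/

set_option autoImplicit false
set_option linter.unusedSectionVars false
set_option linter.unusedVariables false

namespace H13.NT

open Subgroup Cfsg H24 H11.ZN H12.NG H26
open H3.NG hiding ea_sq ea_of_sq ea_le

universe u

variable {G : Type u} [Group G]

/-- `q` centralises exactly the line `W` through `z` -/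
def TA (𝓛 : Set (Subgroup G)) (z : G) (W : Subgroup G) (q : G) : Prop :=
  q ∈ C[W] ∧ ∀ W', Fl 𝓛 W' z → W' ≠ W → q ∉ C[W']

/-- `q` moves exactly the lines `W`, `W'` through `z` -/
def TP (𝓛 : Set (Subgroup G)) (z : G) (W W' : Subgroup G) (q : G) : Prop :=
  q ∉ C[W] ∧ q ∉ C[W'] ∧ ∀ X, Fl 𝓛 X z → X ≠ W → X ≠ W' → q ∈ C[X]

/-- products of two points on different lines through `z` -/
def Pr (𝓛 : Set (Subgroup G)) (z u : G) : Prop :=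
  ∃ W W' p p', Fl 𝓛 W z ∧ Fl 𝓛 W' z ∧ W' ≠ W ∧ p ∈ W ∧ p' ∈ W' ∧ p ∉ zpowers z ∧ p' ∉ zpowers z ∧
    u = p * p'

theorem comb5 : ∀ b : Fin 5 → Bool, ((if b 0 then 0 else 1) + (if b 1 then 0 else 1) + (if b 2 then 0 else 1) +
    (if b 3 then 0 else 1) + (if b 4 then 0 else 1)) % 2 = 0 → (∀ i, b i) ∨ (∃ i, b i ∧ ∀ j, j ≠ i → ¬ b j) ∨
      ∃ i j, j ≠ i ∧ ¬ b i ∧ ¬ b j ∧ ∀ k, k ≠ i → k ≠ j → b k := by decide +kernel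

theorem perm5 : ∀ i j k : Fin 5, i ≠ j → i ≠ k → j ≠ k → ∃ l m, [i, j, k, l, m].Perm [0, 1, 2, 3, 4] := by
  decide +kernel

variable [Finite G] {𝓛 : Set (Subgroup G)} {S V W W' X A B : Subgroup G}
  {z y y' g g' c f w q p p' t t' u u' s a a' b x e r : G}

theorem ea_id (hA : EA A) {p₁ p₂ p₃ a b c d e : G} (h1 : p₁ ∈ A) (h2 : p₂ ∈ A) (h3 : p₃ ∈ A) (ha : a ∈ A)
    (hb : b ∈ A) (hc : c ∈ A) (hd : d ∈ A) (he : e ∈ A) :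
    p₁ * p₂ * p₃ = p₁ * a * (p₂ * b) * (p₃ * c) * (a * b * c * d * e) * d * e := by
  lift p₁ to A using h1; lift p₂ to A using h2; lift p₃ to A using h3; lift a to A using ha
  lift b to A using hb; lift c to A using hc; lift d to A using hd; lift e to A using he
  let _ : CommGroup A := { (inferInstance : Group A) with
    mul_comm := fun a b => Subtype.ext (ea_comm hA a.2 b.2) }
  have sq : ∀ x : A, x * x = 1 := fun x => Subtype.ext (ea_sq hA x.2)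
  norm_cast
  rw [show p₁ * a * (p₂ * b) * (p₃ * c) * (a * b * c * d * e) * d * e =
    p₁ * p₂ * p₃ * (a * a) * (b * b) * (c * c) * (d * d) * (e * e) by ac_rfl]
  simp [sq]

theorem Pt.conj (h : Pt 𝓛 p) (g : G) : Pt 𝓛 (g * p * g⁻¹) := by
  obtain ⟨W, k⟩ := h
  exact ⟨_, k.conj g⟩

namespace Fl

variable (h : Fl 𝓛 V z)
include h

theorem U'_le_S (h' : Fl 𝓛 V y) : UU 𝓛 y ≤ C{z} ⊓ N[V] := h'.U_le_CV.trans h.CV_le_S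
theorem U'_le_C (h' : Fl 𝓛 V y) : UU 𝓛 y ≤ C{z} := h'.U_le_CV.trans h.CV_le
theorem mulZ (ha : a ∈ V) (hb : b ∈ V) (ha' : a ∉ zpowers z) (hb' : b ∉ zpowers z) : a * b ∈ zpowers z := by
  obtain ⟨k, hk⟩ := h.pt_of ha ha'
  rcases h.cases k hk hb with rfl | rfl | rfl | rfl
  · exact absurd (one_mem _) hb'
  · exact absurd (mem_zpowers _) hb'
  · rw [k.sq]; exact one_mem _
  · rw [ea_comm h.ea h.mem ha, mml k.sq]; exact mem_zpowers _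
theorem tt (h' : Fl 𝓛 V y) (k : Fl 𝓛 W z) (k' : Fl 𝓛 W p) (hW : W ≠ V) (ht : t ∈ UU 𝓛 y)
    (h1 : t ∉ Qz z) (ht' : t' ∈ UU 𝓛 p) (h2 : t' ∉ Qz z) : t * t' ∈ F2 C{z} ∧ t * t' ∉ Qz z :=
  ⟨h.inv2 (h.U'_le_C h' ht) (h'.sqU ht ▸ one_mem _) h1 (k.U'_le_C k' ht') (k'.sqU ht' ▸ one_mem _) h2,
    fun e => h2 (h.two k hW (k.U'_le_C k' ht')
      ((mul_mem_cancel_left (C_le_N V (h'.U_le_CV ht))).1 (h.Q_le_N e)) (C_le_N W (k'.U_le_CV ht')))⟩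
theorem DD (k : Fl 𝓛 W z) (hW : W ≠ V) (h1 : x ∈ Dv V) (h2 : x ∈ Dv W) : x ∈ zpowers z := by
  obtain ⟨y, h', hy⟩ := h.ex_pt
  obtain ⟨p, k', hp⟩ := k.ex_pt
  obtain ⟨t, ht, t1⟩ := h.ex_t h' hy
  obtain ⟨t', ht', t2⟩ := k.ex_t k' hp
  obtain ⟨h3, h4⟩ := h.tt h' k k' hW ht t1 ht' t2
  refine h.fpf h3 h4 (h.D_le_U h1) ?_
  rw [mem_C1_iff_conj.1 (mul_mem (mem_C1.2 (h'.abU.comm ht (h'.D_le_U h1)))
    (mem_C1.2 (k'.abU.comm ht' (k'.D_le_U h2)))), mul_inv_cancel]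
  exact one_mem _
theorem theta (h' : Fl 𝓛 V y) (ht : t ∈ UU 𝓛 y) (t1 : t ∉ Qz z) (hu : u ∈ UU 𝓛 z)
    (e : t * u * t⁻¹ * u⁻¹ ∈ zpowers z) : u ∈ Dv V := by
  by_contra hn
  obtain ⟨f, hf, hf', -⟩ := h.ex_f
  have fC := F2_le _ hf
  have h1 : Dv V < UU 𝓛 z ⊓ St (zpowers z) t := lt_of_le_of_ne (fun d hd => mem_inf.2 ⟨h.D_le_U hd,
    C_le_NZ z (h.U_le_C (h.D_le_U hd)), by
      rw [h'.abU.comm (h'.D_le_U hd) ht]; simp⟩)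
    fun e' => hn (e' ▸ mem_inf.2 ⟨hu, C_le_NZ z (h.U_le_C hu), cm_symm e⟩)
  have h2 := two_mul_card_le h1
  set A := UU 𝓛 z ⊓ St (zpowers z) t
  have h3 : cj f A ≤ UU 𝓛 z := cj_le_of_mem_N inf_le_left (h.C_le_NU fC)
  have h4 := card_sup (A := A) (B := cj f A) (h.abU.norm h3 inf_le_left)
  have h5 := card_le (sup_le (inf_le_left : A ≤ _) h3)
  obtain ⟨h6, h7⟩ := h.tt h' (h.conjC fC) (h'.conj f) (fun e => hf' (h.F_inf hf (mem_N_iff_cj.2 e))) ht t1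
    (h.geo.U_cj f y ▸ conj_mem_cj f ht) fun e => t1 ((conj_mem_iff (C_le_NQ z fC)).1 e)
  have h8 : A ⊓ cj f A ≤ zpowers z := fun x hx => by
    obtain ⟨a, ha, rfl⟩ := mem_cj'.1 (mem_inf.1 hx).2
    have tn := C_le_NZ z (h.U'_le_C h' ht)
    have fn := C_le_NZ z fC
    refine h.fpf h6 h7 (h3 (conj_mem_cj f ha)) (mul_mem (show t ∈ St _ _ from
      ⟨tn, cm_symm (mem_inf.1 (mem_inf.1 hx).1).2.2⟩) (show f * t * f⁻¹ ∈ St _ _ from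
        ⟨mul_mem (mul_mem fn tn) (inv_mem fn), ?_⟩)).2
    have := conj_mem fn (cm_symm (mem_inf.1 ha).2.2)
    convert this using 1
    group
  have h9 := card_le h8
  rw [card_zp2 h.sq h.ne] at h9
  rw [h.cardD] at h2
  rw [h.cardU] at h5
  rw [card_cj] at h4
  nlinarith
theorem HH (h' : Fl 𝓛 V y) (hne : y ≠ z) (h'' : Fl 𝓛 V y') (hne' : y' ≠ z) (hu : u ∈ UU 𝓛 z)
    (hq : u ∈ Qz y) : u ∈ Qz y' := by
  rcases h.cases h' hne h''.mem with e | e | e | e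
  · exact absurd e h''.ne
  · exact absurd e hne'
  · exact e ▸ hq
  obtain ⟨x, hx, hx'⟩ := h.ex_x
  have h1 := conj_mem_cj x hq
  rw [← CA.Qz_conj, h.mv h' hne (h.Q_le_S hx) hx', ← e] at h1
  have := mul_mem (inv_mem (h''.V_le_Q (h.Z_le (h.cmU hx hu)))) h1
  convert this using 1
  group
theorem Hcomm (h' : Fl 𝓛 V y) (hne : y ≠ z) (ha : a ∈ UU 𝓛 z) (h1 : a ∈ Qz y) (ha' : a' ∈ UU 𝓛 y)
    (h2 : a' ∈ Qz z) : a * a' = a' * a := by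
  have := h.Zinf h' hne (cm_symm (h.cmU h2 ha)) (h'.cmU h1 ha')
  rwa [mul_inv_eq_one, mul_inv_eq_iff_eq_mul] at this
theorem D_le_H (h' : Fl 𝓛 V y) : Dv V ≤ Qz z ⊓ UU 𝓛 y := le_inf (h.D_le_U.trans h.U_le_Q) h'.D_le_U
theorem idxH (h' : Fl 𝓛 V y) (hne : y ≠ z) : (Dv V).relIndex (Qz z ⊓ UU 𝓛 y) = 2 := by
  have h1 := card_inf_mul_relIndex (Qz z) (UU 𝓛 y)
  have h2 := card_mul_relIndex (h.D_le_H h')
  rw [h.idxU h' hne, h'.cardU] at h1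
  rw [h.cardD] at h2
  omega
theorem mulH (h' : Fl 𝓛 V y) (hne : y ≠ z) (ha : a ∈ UU 𝓛 y) (h1 : a ∈ Qz z) (h2 : a ∉ Dv V)
    (hb : b ∈ UU 𝓛 y) (h3 : b ∈ Qz z) (h4 : b ∉ Dv V) : a * b ∈ Dv V :=
  mul_idx2 (h.idxH h' hne) (mem_inf.2 ⟨h1, ha⟩) (mem_inf.2 ⟨h3, hb⟩) h2 h4
theorem ex_a (h' : Fl 𝓛 V y) (hne : y ≠ z) : ∃ a ∈ UU 𝓛 y, a ∈ Qz z ∧ a ∉ Dv V := by
  obtain ⟨a, ha, h1⟩ := SetLike.not_le_iff_exists.1 fun e : Qz z ⊓ UU 𝓛 y ≤ Dv V => by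
    have := h.idxH h' hne
    rw [relIndex_eq_one.2 e] at this
    omega
  exact ⟨a, (mem_inf.1 ha).2, (mem_inf.1 ha).1, h1⟩
theorem mulU (h' : Fl 𝓛 V y) (hne : y ≠ z) (ha : a ∈ UU 𝓛 y) (h1 : a ∉ Qz z) (hb : b ∈ UU 𝓛 y)
    (h2 : b ∉ Qz z) : a * b ∈ Qz z := mul_idx2 (h.idxU h' hne) ha hb h1 h2
theorem H_le (h' : Fl 𝓛 V y) (hne : y ≠ z) (ha : a ∈ UU 𝓛 y) (h1 : a ∈ Qz z) (h2 : a ∉ Dv V)
    (h3 : Dv V ≤ X) (h4 : a ∈ X) : Qz z ⊓ UU 𝓛 y ≤ X := fun b hb => by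
  by_cases e : b ∈ Dv V
  · exact h3 e
  · exact (mul_mem_cancel_left h4).1 (h3 (h.mulH h' hne ha h1 h2 (mem_inf.1 hb).2 (mem_inf.1 hb).1 e))
theorem U'_le (h' : Fl 𝓛 V y) (hne : y ≠ z) (ht : t ∈ UU 𝓛 y) (h1 : t ∉ Qz z)
    (h3 : Qz z ⊓ UU 𝓛 y ≤ X) (h4 : t ∈ X) : UU 𝓛 y ≤ X := fun b hb => by
  by_cases e : b ∈ Qz z
  · exact h3 (mem_inf.2 ⟨e, hb⟩)
  · exact (mul_mem_cancel_left h4).1 (h3 (mem_inf.2 ⟨h.mulU h' hne ht h1 hb e, mul_mem ht hb⟩))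
theorem ta (h' : Fl 𝓛 V y) (hne : y ≠ z) (ha : a ∈ UU 𝓛 y) (h1 : a ∈ Qz z) (h2 : a ∉ Dv V) :
    TA 𝓛 z V a := ⟨h'.U_le_CV ha, fun W k hW e => by
  obtain ⟨b, hb, b1⟩ := h'.ex_t h hne.symm
  have h3 := h.le_of_two (X := C[Qz z ⊓ UU 𝓛 y]) k hW (cents_symm (inf_le_right.trans h'.U_le_CV))
    (cents_symm (h.H_le h' hne ha h1 h2 (h.D_le_U.trans k.U_le_CV) e))
    (norm_C (norm_inf (h.CV_le.trans (C_le_NQ z)) (h'.CV_le.trans h'.C_le_NU))) hb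
  refine h2 (h'.theta h hb b1 ha ?_)
  rw [conj_eq_of_mem_C h3 (mem_inf.2 ⟨h1, ha⟩), mul_inv_cancel]
  exact one_mem _⟩
theorem ex_ta : ∃ a ∈ Qz z, TA 𝓛 z V a := by
  obtain ⟨y, h', hy⟩ := h.ex_pt
  obtain ⟨a, ha, h1, h2⟩ := h.ex_a h' hy
  exact ⟨a, h1, h.ta h' hy ha h1 h2⟩
theorem mem_CU (hq : ∀ W, Fl 𝓛 W z → q ∈ C[W]) : q ∈ C[UU 𝓛 z] :=
  mem_C_iff_le_C1.2 (h.U_le fun W k => mem_C_iff_le_C1.1 (hq W k))
theorem ixQ (ha : a ∈ Qz z) (hb : b ∈ Qz z) (ha' : a ∉ C[V]) (hb' : b ∉ C[V]) : a * b ∈ C[V] :=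
  h.ix (h.Q_le_S ha) (h.Q_le_S hb) ha' hb'
theorem TA_mul (ha : a ∈ Qz z) (hb : b ∈ Qz z) (h1 : TA 𝓛 z V a) (h2 : TA 𝓛 z V b) :
    a * b ∈ C[UU 𝓛 z] := h.mem_CU fun W k => by
  by_cases e : W = V
  · exact e ▸ mul_mem h1.1 h2.1
  · exact k.ixQ ha hb (h1.2 W k e) (h2.2 W k e)

/-- coordinates -/
theorem five : ∃ (l : Fin 5 → Subgroup G) (v : Fin 5 → G), (∀ i, Fl 𝓛 (l i) z) ∧ (∀ i, v i ∈ l i) ∧
    (∀ i, v i ∉ zpowers z) ∧ Function.Injective l ∧ (∀ W, Fl 𝓛 W z → ∃ i, l i = W) ∧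
    v 0 * v 1 * v 2 * v 3 * v 4 ∈ zpowers z := by
  obtain ⟨f, hf, hf', f5⟩ := h.ex_f
  obtain ⟨y, h', hy⟩ := h.ex_pt
  have fC := F2_le _ hf
  have k : ∀ i : ℕ, Fl 𝓛 (cj (f ^ i) V) z := fun i => h.conjC (pow_mem fC i)
  have m : ∀ i : ℕ, f ^ i * y * (f ^ i)⁻¹ ∈ UU 𝓛 z := fun i => (k i).le_U (conj_mem_cj _ h'.mem)
  refine ⟨fun i => cj (f ^ (i : ℕ)) V, fun i => f ^ (i : ℕ) * y * (f ^ (i : ℕ))⁻¹, fun i => k i,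
    fun i => conj_mem_cj _ h'.mem, fun i e => h.notZ h' hy ((conj_mem_iff (C_le_NZ z (pow_mem fC _))).1 e),
    fun i j e => ?_, fun W k => ?_, h.fpf hf hf' (mul_mem (mul_mem (mul_mem (mul_mem (m _) (m _)) (m _))
      (m _)) (m _)) ?_⟩
  · wlog hij : (j : ℕ) ≤ i generalizing i j
    · exact (this j i e.symm (by omega)).symm
    obtain ⟨d, hd⟩ := Nat.exists_eq_add_of_le hij
    have h1 := cj_eq_cj_iff.1 e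
    rw [hd, pow_add, inv_mul_cancel_left] at h1
    have := h.powF hf hf' (h.F_inf (pow_mem hf d) h1)
    exact Fin.ext (by omega)
  · obtain ⟨i, hi, e⟩ := h.lineF hf hf' k
    exact ⟨⟨i, hi⟩, e⟩
  · have e5 : f ^ 5 = 1 := f5 ▸ pow_orderOf_eq_one f
    have e : ∀ i : ℕ, f * (f ^ i * y * (f ^ i)⁻¹) * f⁻¹ = f ^ (i + 1) * y * (f ^ (i + 1))⁻¹ := fun i => by
      group
    have c := h.abU.comm (m 0) (mul_mem (mul_mem (mul_mem (m 1) (m 2)) (m 3)) (m 4))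
    show f * (f ^ 0 * y * (f ^ 0)⁻¹ * (f ^ 1 * y * (f ^ 1)⁻¹) * (f ^ 2 * y * (f ^ 2)⁻¹) *
      (f ^ 3 * y * (f ^ 3)⁻¹) * (f ^ 4 * y * (f ^ 4)⁻¹)) * f⁻¹ * (f ^ 0 * y * (f ^ 0)⁻¹ *
      (f ^ 1 * y * (f ^ 1)⁻¹) * (f ^ 2 * y * (f ^ 2)⁻¹) * (f ^ 3 * y * (f ^ 3)⁻¹) *
      (f ^ 4 * y * (f ^ 4)⁻¹))⁻¹ ∈ _
    rw [cjm, cjm, cjm, cjm, e, e, e, e, e, show f ^ (4 + 1) = f ^ 0 by rw [e5, pow_zero], ← c]
    simp only [← mul_assoc, mul_inv_cancel, one_mem]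
theorem cm_if (hq : q ∈ Qz z) (hp : p ∈ V) (hp' : p ∉ zpowers z) [Decidable (q ∈ C[V])] :
    q * p * q⁻¹ = z ^ (if q ∈ C[V] then 0 else 1) * p := by
  split_ifs with e
  · rw [conj_eq_of_mem_C e hp, pow_zero, one_mul]
  · rw [h.mv (h.pt_of hp hp').1 (h.pt_of hp hp').2 (h.Q_le_S hq) e, pow_one]
theorem tri (hq : q ∈ Qz z) : q ∈ C[UU 𝓛 z] ∨ (∃ W, Fl 𝓛 W z ∧ TA 𝓛 z W q) ∨
    ∃ W W', Fl 𝓛 W z ∧ Fl 𝓛 W' z ∧ W' ≠ W ∧ TP 𝓛 z W W' q := by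
  classical
  obtain ⟨l, v, h1, h2, h3, h4, h5, h6⟩ := h.five
  have h7 := mem_C1_iff_conj.1 (C1_le_C1_of_mem_zpowers h6 (Q_le_C z hq))
  have c : ∀ (n : ℕ) (i : Fin 5) (x : G), v i * (z ^ n * x) = z ^ n * (v i * x) := fun n i x => by
    rw [← mul_assoc, ea_comm (h1 i).ea (h2 i) (pow_mem (h1 i).mem n), mul_assoc]
  rw [cjm, cjm, cjm, cjm, (h1 0).cm_if hq (h2 0) (h3 0), (h1 1).cm_if hq (h2 1) (h3 1),
    (h1 2).cm_if hq (h2 2) (h3 2), (h1 3).cm_if hq (h2 3) (h3 3), (h1 4).cm_if hq (h2 4) (h3 4)] at h7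
  simp only [mul_assoc, c] at h7
  simp only [← mul_assoc, ← pow_add, mul_left_inj, mul_eq_right] at h7
  have h8 := orderOf_dvd_of_pow_eq_one h7
  rw [orderOf_eq_prime (p := 2) (by rw [pow_two, h.sq]) h.ne] at h8
  rcases comb5 (fun i => decide (q ∈ C[l i])) (by simp only [decide_eq_true_eq]; omega) with
    e | ⟨i, e, e'⟩ | ⟨i, j, e, e1, e2, e3⟩
  · exact Or.inl (h.mem_CU fun W k => by obtain ⟨i, rfl⟩ := h5 W k; simpa using e i)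
  · exact Or.inr (Or.inl ⟨l i, h1 i, by simpa using e, fun W k hW => by
      obtain ⟨j, rfl⟩ := h5 W k
      simpa using e' j fun e => hW (e ▸ rfl)⟩)
  · exact Or.inr (Or.inr ⟨l i, l j, h1 i, h1 j, h4.ne e, by simpa using e1, by simpa using e2,
      fun W k hW hW' => by
        obtain ⟨m, rfl⟩ := h5 W k
        simpa using e3 m (fun e => hW (e ▸ rfl)) fun e => hW' (e ▸ rfl)⟩)
theorem three {W₁ W₂ W₃ : Subgroup G} {p₁ p₂ p₃ : G} (k1 : Fl 𝓛 W₁ z) (k2 : Fl 𝓛 W₂ z) (k3 : Fl 𝓛 W₃ z)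
    (h1 : p₁ ∈ W₁) (h2 : p₂ ∈ W₂) (h3 : p₃ ∈ W₃) :
    ∃ W W' p p', Fl 𝓛 W z ∧ Fl 𝓛 W' z ∧ p ∈ W ∧ p' ∈ W' ∧ p₁ * p₂ * p₃ = p * p' := by
  by_cases a1 : p₁ ∈ W₂
  · exact ⟨_, _, _, _, k2, k3, mul_mem a1 h2, h3, rfl⟩
  by_cases a2 : p₂ ∈ W₃
  · exact ⟨_, _, _, _, k1, k3, h1, mul_mem a2 h3, mul_assoc _ _ _⟩
  by_cases a3 : p₃ ∈ W₁
  · exact ⟨_, _, _, _, k1, k2, mul_mem h1 a3, h2, by
      rw [mul_assoc, h.abU.comm (k2.le_U h2) (k3.le_U h3), mul_assoc]⟩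
  obtain ⟨l, v, b1, b2, b3, -, b5, b6⟩ := h.five
  obtain ⟨i, rfl⟩ := b5 _ k1
  obtain ⟨j, rfl⟩ := b5 _ k2
  obtain ⟨k, rfl⟩ := b5 _ k3
  obtain ⟨m, n, e⟩ := perm5 i j k (fun e => a1 (e ▸ h1)) (fun e => a3 (e ▸ h3)) fun e => a2 (e ▸ h2)
  have u := fun i => (b1 i).le_U (b2 i)
  have e2 := (e.map v).prod_eq' (List.pairwise_of_forall_mem_list fun a ha b hb => by
    obtain ⟨a, -, rfl⟩ := List.mem_map.1 ha
    obtain ⟨b, -, rfl⟩ := List.mem_map.1 hb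
    exact h.abU.comm (u a) (u b))
  simp only [List.map_cons, List.map_nil, List.prod_cons, List.prod_nil, mul_one, ← mul_assoc] at e2
  refine ⟨_, _, _, _, b1 m, b1 n, mul_mem ((b1 m).Z_le (mul_mem (mul_mem (mul_mem
    (k1.mulZ h1 (b2 i) (fun e => a1 (k2.Z_le e)) (b3 i)) (k2.mulZ h2 (b2 j) (fun e => a2 (k3.Z_le e)) (b3 j)))
    (k3.mulZ h3 (b2 k) (fun e => a3 (k1.Z_le e)) (b3 k))) (e2 ▸ b6))) (b2 m), b2 n, ?_⟩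
  exact ea_id h.eaU (k1.le_U h1) (k2.le_U h2) (k3.le_U h3) (u i) (u j) (u k) (u m) (u n)
theorem clsU (hu : u ∈ UU 𝓛 z) : (∃ W, Fl 𝓛 W z ∧ u ∈ W) ∨ Pr 𝓛 z u := by
  let T : Subgroup G :=
    { carrier := {u | ∃ W W' p p', Fl 𝓛 W z ∧ Fl 𝓛 W' z ∧ p ∈ W ∧ p' ∈ W' ∧ u = p * p'}
      one_mem' := ⟨V, V, 1, 1, h, h, one_mem _, one_mem _, (mul_one 1).symm⟩
      mul_mem' := by
        rintro _ _ ⟨W₁, W₂, p₁, p₂, k1, k2, h1, h2, rfl⟩ ⟨W₃, W₄, p₃, p₄, k3, k4, h3, h4, rfl⟩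
        obtain ⟨W, W', p, p', k, k', h5, h6, e⟩ := h.three k1 k2 k3 h1 h2 h3
        rw [← mul_assoc, e]
        exact h.three k k' k4 h5 h6 h4
      inv_mem' := by
        rintro _ ⟨W₁, W₂, p₁, p₂, k1, k2, h1, h2, rfl⟩
        exact ⟨W₂, W₁, _, _, k2, k1, inv_mem h2, inv_mem h1, mul_inv_rev _ _⟩ }
  obtain ⟨W, W', p, p', k, k', h1, h2, rfl⟩ := h.U_le (X := T)
    (fun W k x hx => ⟨W, W, x, 1, k, k, hx, one_mem _, (mul_one x).symm⟩) hu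
  by_cases a1 : p ∈ W'
  · exact Or.inl ⟨W', k', mul_mem a1 h2⟩
  by_cases a2 : p' ∈ W
  · exact Or.inl ⟨W, k, mul_mem h1 a2⟩
  exact Or.inr ⟨W, W', p, p', k, k', fun e => a1 (e ▸ h1), h1, h2, fun e => a1 (k'.Z_le e),
    fun e => a2 (k.Z_le e), rfl⟩
theorem pr_conj (h1 : Pr 𝓛 z u) (h2 : Pr 𝓛 z u') : ∃ c ∈ C{z}, c * u * c⁻¹ = u' := by
  obtain ⟨W₁, W₂, p₁, p₂, k1, k2, n1, a1, a2, b1, b2, rfl⟩ := h1
  obtain ⟨W₃, W₄, p₃, p₄, k3, k4, n2, a3, a4, b3, b4, rfl⟩ := h2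
  obtain ⟨c, hc, rfl⟩ := k1.line k3
  obtain ⟨s, hs, rfl⟩ := k3.trR (k2.conjC hc) k4 (by simpa using n1) n2
  have sc := mul_mem (k3.CV_le hs) hc
  have zn := fun x (e : s * c * x * (s * c)⁻¹ ∈ zpowers z) => (conj_mem_iff (C_le_NZ z sc)).1 e
  have a5 : s * c * p₁ * (s * c)⁻¹ ∈ cj c W₁ := by
    rw [← cj_of_mem_C hs, ← cj_mul]; exact conj_mem_cj _ a1
  have a6 : s * c * p₂ * (s * c)⁻¹ ∈ cj s (cj c W₂) := by rw [← cj_mul]; exact conj_mem_cj _ a2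
  have z1 := k3.mulZ a5 a3 (fun e => b1 (zn _ e)) b3
  have z2 := k4.mulZ a4 a6 b4 fun e => b2 (zn _ e)
  have z3 : s * c * (p₁ * p₂) * (s * c)⁻¹ * (p₃ * p₄)⁻¹ ∈ zpowers z := by
    have := mul_mem z1 (conj_mem (C_le_NZ z (k3.U_le_C (k3.le_U a3))) (inv_mem z2))
    rw [cjm, mul_inv_rev p₃, ← k4.invU (k4.le_U a6)]
    convert this using 1
    rw [mul_assoc _ p₃, ← mul_assoc p₃, ← mul_assoc p₃, k3.sqU (k3.le_U a3)]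
    group
  rcases h.memZ.1 z3 with e | e <;> rw [mul_inv_eq_iff_eq_mul] at e
  · exact ⟨_, sc, by rw [e, one_mul]⟩
  obtain ⟨a, ha, h3, h4⟩ := k3.ex_ta
  refine ⟨a * (s * c), mul_mem (Q_le_C z ha) sc, ?_⟩
  rw [show a * (s * c) * (p₁ * p₂) * (a * (s * c))⁻¹ = a * (s * c * (p₁ * p₂) * (s * c)⁻¹) * a⁻¹ by group,
    e, cjm, cjm, mem_C1_iff_conj.1 (Q_le_C z ha), conj_eq_of_mem_C h3 a3,
    k4.mv (k4.pt_of a4 b4).1 (k4.pt_of a4 b4).2 (k4.Q_le_S ha) (h4 _ k4 n2), ← mul_assoc p₃,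
    ea_comm k3.ea a3 k3.mem, mul_assoc, mml h.sq]
theorem ex_r : ∃ r ∈ Dv V, r ∉ V := SetLike.not_le_iff_exists.1 fun e => by
  have := card_le e
  rw [h.cardD, h.card] at this
  omega
theorem pr_of (hr : r ∈ Dv V) (hr' : r ∉ V) : Pr 𝓛 z r := (h.clsU (h.D_le_U hr)).resolve_left
  fun ⟨W, k, e⟩ => hr' (by
    by_cases hW : W = V
    · exact hW ▸ e
    · exact h.Z_le (h.DD k hW hr (k.V_le_D e)))
theorem pr_D (hu : Pr 𝓛 z u) : ∃ W, Fl 𝓛 W z ∧ u ∈ Dv W ∧ u ∉ W := by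
  obtain ⟨r, hr, hr'⟩ := h.ex_r
  obtain ⟨c, hc, rfl⟩ := h.pr_conj (h.pr_of hr hr') hu
  obtain ⟨y, h', hy⟩ := h.ex_pt
  refine ⟨_, h.conjC hc, (h.conj c).memD (h'.conj c) (by simpa using hy) ?_ ?_, by simpa using hr'⟩ <;>
    rw [h.geo.U_cj]
  exacts [conj_mem_cj c (h.D_le_U hr), conj_mem_cj c (h'.D_le_U hr)]
theorem ex_q (hr : r ∈ Dv V) (hr' : r ∉ V) : ∃ q ∈ Qz z, q ∈ C[V] ∧ q * r * q⁻¹ = z * r := by
  by_contra! e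
  have h1 := h.ca.comm_DQ hr hr' h.mem h.ne
  rw [comm_eq_bot'.2 fun q hq => ?_] at h1
  · exact h.ne (mem_bot.1 (h1 ▸ mem_zpowers z))
  rw [C_zpowers, mem_C1_iff_conj]
  rcases h.memZ.1 (h.cmU (mem_inf.1 hq).1 (h.D_le_U hr)) with e' | e' <;> rw [mul_inv_eq_iff_eq_mul] at e'
  · rw [e', one_mul]
  · exact absurd e' (e q (mem_inf.1 hq).1 (mem_inf.1 hq).2)
theorem ex_xr (hr : r ∈ Dv V) (hr' : r ∉ V) : ∃ x ∈ Qz z, x ∉ C[V] ∧ x ∈ C{r} := by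
  obtain ⟨x, hx, hx'⟩ := h.ex_x
  obtain ⟨q, hq, h1, h2⟩ := h.ex_q hr hr'
  rcases h.memZ.1 (h.cmU hx (h.D_le_U hr)) with e | e <;> rw [mul_inv_eq_iff_eq_mul] at e
  · exact ⟨x, hx, hx', mem_C1_iff_conj.2 (by rw [e, one_mul])⟩
  refine ⟨x * q, mul_mem hx hq, fun e' => hx' ((mul_mem_cancel_right h1).1 e'), mem_C1_iff_conj.2 ?_⟩
  rw [show x * q * r * (x * q)⁻¹ = x * (q * r * q⁻¹) * x⁻¹ by group, h2, cjm, e,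
    mem_C1_iff_conj.1 (Q_le_C z hx), mml h.sq]
/-- a product of two different transpositions of the points of `V` -/
theorem cyc3 (h' : Fl 𝓛 V y) (hne : y ≠ z) (ha : a ∈ C{z} ⊓ N[V]) (ha' : a ∉ C[V])
    (hb : b ∈ C{y} ⊓ N[V]) (hb' : b ∉ C[V]) {n : ℕ} (hn : (a * b) ^ n = 1) : 3 ∣ n := by
  by_contra h3
  have c := ea_comm h.ea h.mem h'.mem
  have e1 : a * b * z * (a * b)⁻¹ = y := by
    rw [show a * b * z * (a * b)⁻¹ = a * (b * z * b⁻¹) * a⁻¹ by group, h'.mv h hne.symm hb hb', cjm,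
      h.mv h' hne ha ha', mem_C1_iff_conj.1 (mem_inf.1 ha).1, c, mmr h.sq]
  have e2 : a * b * y * (a * b)⁻¹ = z * y := by
    rw [show a * b * y * (a * b)⁻¹ = a * (b * y * b⁻¹) * a⁻¹ by group, mem_C1_iff_conj.1 (mem_inf.1 hb).1,
      h.mv h' hne ha ha']
  generalize a * b = g at *
  have e3 : g ^ 3 ∈ C{z} := mem_C1_iff_conj.2 (by
    rw [show g ^ 3 * z * (g ^ 3)⁻¹ = g * (g * (g * z * g⁻¹) * g⁻¹) * g⁻¹ by rw [pow_three]; group, e1, e2, cjm, e1, e2, c,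
      mml h'.sq])
  have := H12.mem_of_pow_mem_of_coprime ((Nat.Prime.coprime_iff_not_dvd Nat.prime_three).2 h3) e3
    (hn ▸ one_mem _)
  exact hne (e1.symm.trans (mem_C1_iff_conj.1 this))
theorem nonpt (hr : r ∈ Dv V) (hr' : r ∉ V) : ¬ Pt 𝓛 r := fun ⟨W, k⟩ => by
  obtain ⟨y, h', hy⟩ := h.ex_pt
  obtain ⟨a, ha, a1, a2⟩ := h.ex_xr hr hr'
  obtain ⟨b, hb, b1, b2⟩ := h'.ex_xr hr hr'
  have h1 := h.cyc3 h' hy (h.Q_le_S ha) a1 (h'.Q_le_S hb) b1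
    (orderOf_dvd_iff_pow_eq_one.1 (orderOf_dvd_card' (mul_mem a2 b2)))
  obtain ⟨n, hn⟩ := (Q_pi r).card_eq_pow Nat.prime_two
  rw [← card_mul_relIndex (Q_le_C r), k.tc.idxC, hn, Nat.Prime.dvd_mul Nat.prime_three] at h1
  exact h1.elim (fun e => absurd (Nat.prime_three.dvd_of_dvd_pow e) (by decide)) (by decide)
theorem pr_npt (hu : Pr 𝓛 z u) : ¬ Pt 𝓛 u ∧ u ≠ 1 := by
  obtain ⟨W, k, h1, h2⟩ := h.pr_D hu
  exact ⟨k.nonpt h1 h2, fun e => h2 (e ▸ one_mem _)⟩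
theorem ptU (hu : u ∈ UU 𝓛 z) (hp : Pt 𝓛 u) : ∃ W, Fl 𝓛 W z ∧ u ∈ W :=
  (h.clsU hu).resolve_right fun e => (h.pr_npt e).1 hp

end Fl

end H13.NT
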