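import Mathlib
import Cfsg.Agent.H13.NT2

/-!
# The configuration of the Tits group: the centraliser of `U` and the involutions
-/

set_option autoImplicit false
set_option linter.unusedSectionVars false
set_option linter.unusedVariables false

namespace H13.NT

open Subgroup Cfsg H24 H11.ZN H12.NG H26
open H3.NG hiding ea_sq ea_of_sq ea_le

universe u

variable {G : Type u} [Group G]

/-- the part of `Q` generated by the neighbouring modules -/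
def XX (𝓛 : Set (Subgroup G)) (z : G) : Subgroup G :=
  ⨆ m ∈ {m | ∃ W, Fl 𝓛 W z ∧ Fl 𝓛 W m ∧ m ≠ z}, Qz z ⊓ UU 𝓛 m

variable [Finite G] {𝓛 : Set (Subgroup G)} {S V W W' X A B : Subgroup G}
  {z y y' g g' c c' f w q p p' t t' u u' s a a' a'' b x e r m j : G}

theorem XX_le (h : ∀ W m, Fl 𝓛 W z → Fl 𝓛 W m → m ≠ z → Qz z ⊓ UU 𝓛 m ≤ X) : XX 𝓛 z ≤ X :=
  iSup₂_le fun m ⟨W, h1, h2, h3⟩ => h W m h1 h2 h3

theorem XX_le_Q : XX 𝓛 z ≤ Qz z := XX_le fun _ _ _ _ _ => inf_le_left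

theorem Fl.le_XX (h : Fl 𝓛 V z) (h' : Fl 𝓛 V y) (hne : y ≠ z) : Qz z ⊓ UU 𝓛 y ≤ XX 𝓛 z :=
  le_iSup₂_of_le y ⟨V, h, h', hne⟩ le_rfl

theorem Geo.H_cj (h : Geo 𝓛) (g z y : G) :
    Qz (g * z * g⁻¹) ⊓ UU 𝓛 (g * y * g⁻¹) = cj g (Qz z ⊓ UU 𝓛 y) := by
  rw [cj_inf, CA.Qz_conj, h.U_cj]

theorem Geo.H_cj' (h : Geo 𝓛) (hg : g ∈ C{z}) (y : G) :
    Qz z ⊓ UU 𝓛 (g * y * g⁻¹) = cj g (Qz z ⊓ UU 𝓛 y) := by
  rw [← h.H_cj, mem_C1_iff_conj.1 hg]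

theorem Geo.XX_cj (h : Geo 𝓛) (g z : G) : XX 𝓛 (g * z * g⁻¹) = cj g (XX 𝓛 z) := by
  have key : ∀ g z : G, cj g (XX 𝓛 z) ≤ XX 𝓛 (g * z * g⁻¹) := fun g z => by
    rw [cj_le_iff]
    refine XX_le fun W m k k' hm => ?_
    rw [← cj_le_iff, ← h.H_cj]
    exact (k.conj g).le_XX (k'.conj g) (by simpa using hm)
  refine le_antisymm ?_ (key g z)
  have := key g⁻¹ (g * z * g⁻¹)
  rwa [cj_le_iff, inv_inv, show g⁻¹ * (g * z * g⁻¹) * g = z by group] at this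

theorem St_self (hg : g ∈ N[X]) (h : g * x = x * g) : g ∈ St X x :=
  ⟨hg, by rw [h, mul_inv_cancel_right, mul_inv_cancel]; exact one_mem _⟩

namespace Fl

variable (h : Fl 𝓛 V z)
include h

theorem C_le_NX : C{z} ≤ N[XX 𝓛 z] := fun g hg =>
  mem_N_iff_cj.2 (by rw [← h.geo.XX_cj, mem_C1_iff_conj.1 hg])
theorem U_le_XX : UU 𝓛 z ≤ XX 𝓛 z := h.U_le fun W k => by
  obtain ⟨y, k', hy⟩ := k.ex_pt
  exact (le_inf k.V_le_Q k'.le_U).trans (k.le_XX k' hy)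
theorem ex_xU : ∃ W m x, Fl 𝓛 W z ∧ Fl 𝓛 W m ∧ m ≠ z ∧ W ≠ V ∧ x ∈ UU 𝓛 m ∧ x ∈ Qz z ∧ x ∉ C[V] := by
  obtain ⟨W, k, hW⟩ := h.ex_line
  obtain ⟨m, k', hm⟩ := k.ex_pt
  obtain ⟨x, hx, h1, h2⟩ := k.ex_a k' hm
  exact ⟨W, m, x, k, k', hm, hW, hx, h1, (k.ta k' hm hx h1 h2).2 V h hW.symm⟩
theorem ex_xX : ∃ x ∈ XX 𝓛 z, x ∉ C[V] := by
  obtain ⟨W, m, x, k, k', hm, -, h1, h2, h3⟩ := h.ex_xU
  exact ⟨x, k.le_XX k' hm (mem_inf.2 ⟨h2, h1⟩), h3⟩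
theorem st_or (hg : g * x * g⁻¹ * x⁻¹ ∈ zpowers z) : g * x * g⁻¹ = x ∨ g * x * g⁻¹ = z * x := by
  rcases h.memZ.1 hg with e | e <;> rw [mul_inv_eq_iff_eq_mul] at e
  exacts [Or.inl (by rw [e, one_mul]), Or.inr e]
theorem ixS (hg : g ∈ C{z}) (h1 : g * x * g⁻¹ * x⁻¹ ∈ zpowers z) (h2 : g' * x * g'⁻¹ * x⁻¹ ∈ zpowers z)
    (h3 : g ∉ C{x}) (h4 : g' ∉ C{x}) : g * g' ∈ C{x} := by
  rw [mem_C1_iff_conj] at *
  rw [show g * g' * x * (g * g')⁻¹ = g * (g' * x * g'⁻¹) * g⁻¹ by group, (h.st_or h2).resolve_left h4, cjm,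
    hg, (h.st_or h1).resolve_left h3, mml h.sq]
theorem idxT (h' : Fl 𝓛 V y) (hne : y ≠ z) (hr : r ∈ Dv V) (hr' : r ∉ V) :
    (Qz z).relIndex (C{z} ⊓ N[V] ⊓ St (zpowers z) r) = 2 ∧
      (C{z} ⊓ N[V] ⊓ St (zpowers z) r).relIndex (C{z} ⊓ N[V]) = 2 := by
  have h0 : Qz z ≤ C{z} ⊓ N[V] ⊓ St (zpowers z) r := le_inf h.Q_le_S fun q hq =>
    ⟨C_le_NZ z (Q_le_C z hq), h.cmU hq (h.D_le_U hr)⟩
  have h1 := relIndex_mul_relIndex _ _ _ h0 (inf_le_left : _ ≤ C{z} ⊓ N[V])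
  obtain ⟨t, ht, t1⟩ := h.ex_t h' hne
  obtain ⟨q, hq, q1, q2⟩ := h'.ex_q hr hr'
  have h2 : (Qz z).relIndex (C{z} ⊓ N[V] ⊓ St (zpowers z) r) ≠ 1 := fun e => t1 (relIndex_eq_one.1 e
    (mem_inf.2 ⟨h.U'_le_S h' ht, St_self (C_le_NZ z (h.U'_le_C h' ht)) (h'.abU.comm ht (h'.D_le_U hr))⟩))
  have h3 : (C{z} ⊓ N[V] ⊓ St (zpowers z) r).relIndex (C{z} ⊓ N[V]) ≠ 1 := fun e => h.notZ h' hne (by
    have := (mem_inf.1 (relIndex_eq_one.1 e (h.CV_le_S q1))).2.2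
    rwa [q2, mul_inv_cancel_right] at this)
  rw [h.idx4] at h1
  have h4 := Nat.le_of_dvd (by omega) (Dvd.intro _ h1)
  generalize (Qz z).relIndex _ = a at *
  interval_cases a <;> omega
theorem SD (h' : Fl 𝓛 V y) (hne : y ≠ z) (hr : r ∈ Dv V) (hr' : r ∉ V) (hg : g ∈ C{z} ⊓ N[V])
    (h1 : g * r * g⁻¹ * r⁻¹ ∈ zpowers z) (ht : t ∈ UU 𝓛 y) (t1 : t ∉ Qz z) : g ∈ Qz z ∨ g * t ∈ Qz z :=
  or_iff_not_imp_left.2 fun e => mul_idx2 (h.idxT h' hne hr hr').1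
    (mem_inf.2 ⟨hg, C_le_NZ z (mem_inf.1 hg).1, h1⟩) (mem_inf.2 ⟨h.U'_le_S h' ht,
      St_self (C_le_NZ z (h.U'_le_C h' ht)) (h'.abU.comm ht (h'.D_le_U hr))⟩) e t1
theorem Y0 (h' : Fl 𝓛 V y) (hne : y ≠ z) (hc : c ∈ C[UU 𝓛 z]) (hu : u ∈ UU 𝓛 y) :
    c * u * c⁻¹ * u⁻¹ ∈ Dv V := by
  by_contra e
  have h1 : c * u * c⁻¹ * u⁻¹ ∈ C[UU 𝓛 z] := by
    have := mul_mem hc (conj_mem (norm_C h.C_le_NU (h.U'_le_C h' hu)) (inv_mem hc))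
    convert this using 1
    group
  obtain ⟨W, k, hW⟩ := h.ex_line
  exact (h.ta h' hne (mul_mem (conj_mem (h'.C_le_NU (h'.CV_le (h.CU_le_CV hc))) hu) (inv_mem hu))
    (h.CU_le_Q h1) e).2 W k hW (k.CU_le_CV h1)
theorem Y1 (h' : Fl 𝓛 V y) (hne : y ≠ z) (hc : c ∈ C[UU 𝓛 z]) (hb : b ∈ UU 𝓛 z) (b1 : b ∉ Qz y) :
    c ∈ Qz y ∨ c * b ∈ Qz y := by
  obtain ⟨r, hr, hr'⟩ := h.ex_r
  refine h'.SD h hne.symm hr hr' (h'.CV_le_S (h.CU_le_CV hc)) ?_ hb b1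
  rw [conj_eq_of_mem_C hc (h.D_le_U hr), mul_inv_cancel]
  exact one_mem _
theorem Y2 (h' : Fl 𝓛 V y) (hne : y ≠ z) (hc : c ∈ C[UU 𝓛 z]) (ha : a ∈ UU 𝓛 y) (a1 : a ∈ Qz z) :
    c * a * c⁻¹ * a⁻¹ ∈ V := by
  obtain ⟨b, hb, b1⟩ := h'.ex_t h hne.symm
  rcases h.Y1 h' hne hc hb b1 with e | e
  · exact h'.Z_le (h'.cmU e ha)
  have n := C_le_N V (h.CU_le_CV hc)
  exact (mul_mem (show c * b ∈ St V a from ⟨h'.Q_le_N e, h'.Z_le (h'.cmU e ha)⟩) (inv_mem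
    (show b ∈ St V a from ⟨C_le_N V (h.U_le_CV hb), h.Z_le (cm_symm (h.cmU a1 hb))⟩)) |>
      fun k => by rw [mul_inv_cancel_right] at k; exact k.2)
theorem Y3 (h' : Fl 𝓛 V y) (hne : y ≠ z) (hc : c ∈ C[UU 𝓛 z]) (ha : a ∈ UU 𝓛 y) (a1 : a ∈ Qz z)
    (a2 : a ∉ Dv V) (e : c * a * c⁻¹ * a⁻¹ ∈ zpowers z) : XX 𝓛 z ≤ St (zpowers z) c := by
  have hn : C[UU 𝓛 z] ≤ N[UU 𝓛 z] := C_le_N _
  have h1 : ∀ W m, Fl 𝓛 W z → Fl 𝓛 W m → m ≠ z → UU 𝓛 m ≤ C{z} ⊓ centQ C[UU 𝓛 z] (UU 𝓛 z) :=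
    fun W m k k' hm u hu => mem_inf.2 ⟨k.U'_le_C k' hu, (mem_centQ hn).2 ⟨h.C_le_NU (k.U'_le_C k' hu),
      fun c hc => cm_symm (k.D_le_U (k.Y0 k' hm hc hu))⟩⟩
  have h2 : Qz z ⊓ UU 𝓛 y ≤ St (zpowers z) c := h.H_le h' hne ha a1 a2 (fun d hd =>
    St_self (C_le_NZ z (h.U_le_C (h.D_le_U hd))) (mem_C.1 hc d (h.D_le_U hd)))
    ⟨C_le_NZ z (Q_le_C z a1), cm_symm e⟩
  have h3 : ∀ g ∈ C{z} ⊓ centQ C[UU 𝓛 z] (UU 𝓛 z), Qz z ⊓ UU 𝓛 (g * y * g⁻¹) ≤ St (zpowers z) c :=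
    fun g hg x hx => by
      obtain ⟨g1, g2⟩ := mem_inf.1 hg
      rw [h.geo.H_cj' g1] at hx
      obtain ⟨b, hb, rfl⟩ := mem_cj'.1 hx
      have bq := (mem_inf.1 hb).1
      have u1 := ((mem_centQ hn).1 (inv_mem g2)).2 c hc
      have gn := C_le_NZ z g1
      have h4 := mul_mem (show _ ∈ St (zpowers z) b from ⟨C_le_NZ z (h.U_le_C u1), cm_symm (h.cmU bq u1)⟩)
        (show c ∈ St (zpowers z) b from ⟨C_le_NZ z (Q_le_C z (h.CU_le_Q hc)), cm_symm (h2 hb).2⟩)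
      refine ⟨mul_mem (mul_mem gn (C_le_NZ z (Q_le_C z bq))) (inv_mem gn), ?_⟩
      have := conj_mem gn (cm_symm h4.2)
      rw [commutatorElement_def] at this
      convert this using 1
      group
  obtain ⟨t, ht, t1⟩ := h.ex_t h' hne
  obtain ⟨W₁, k1, n1⟩ := h.ex_line
  obtain ⟨m₁, k1', m1⟩ := k1.ex_pt
  obtain ⟨t', ht', t2⟩ := k1.ex_t k1' m1
  obtain ⟨w1, w2⟩ := h.tt h' k1 k1' n1 ht t1 ht' t2
  have w3 := mul_mem (h1 _ _ h h' hne ht) (h1 _ _ k1 k1' m1 ht')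
  refine XX_le fun W m k k' hm => ?_
  obtain ⟨i, -, rfl⟩ := h.lineF w1 w2 k
  have w4 := pow_mem w3 i
  have n2 : (t * t') ^ i * y * ((t * t') ^ i)⁻¹ ≠ z := fun e =>
    h.notZ h' hne ((conj_mem_iff (C_le_NZ z (mem_inf.1 w4).1)).1 (e ▸ mem_zpowers z))
  rcases k.cases (h'.conj _) n2 k'.mem with e | e | e | e
  · exact absurd e k'.ne
  · exact absurd e hm
  · exact e ▸ h3 _ w4
  obtain ⟨W₂, m₂, x, k2, k2', m2, -, x1, x2, x3⟩ := k.ex_xU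
  rw [e, ← k.mv (h'.conj _) n2 (k.Q_le_S x2) x3]
  have := h3 _ (mul_mem (h1 _ _ k2 k2' m2 x1) w4)
  convert this using 3
  group
theorem pairs (h' : Fl 𝓛 V y) (ht : t ∈ UU 𝓛 y) (t1 : t ∉ Qz z) (k : Fl 𝓛 W z) (hW : W ≠ V) :
    ∃ W', Fl 𝓛 W' z ∧ W' ≠ V ∧ W' ≠ W ∧ W' ≠ cj t W ∧
      ∀ X, Fl 𝓛 X z → X = V ∨ X = W ∨ X = cj t W ∨ X = W' ∨ X = cj t W' := by
  have tc := h.U'_le_C h' ht
  have tn := C_le_N V (h'.U_le_CV ht)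
  have a1 : ∀ X, Fl 𝓛 X z → X ≠ V → cj t X ≠ X := fun X k e e' => t1 (h.two k e tc tn (mem_N_iff_cj.2 e'))
  have a2 : ∀ X, X ≠ V → cj t X ≠ V := fun X e e' =>
    e ((cj_eq_iff.1 e').trans (cj_of_mem_N (inv_mem tn)))
  obtain ⟨W', k', h1⟩ := Set.exists_mem_notMem_of_ncard_lt_ncard (s := {V, W, cj t W})
    (t := {W | Fl 𝓛 W z}) (by
      rw [h.ncard_lines]
      exact lt_of_le_of_lt (Set.ncard_insert_le _ _) (by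
        have := Set.ncard_insert_le W {cj t W}
        rw [Set.ncard_singleton] at this
        omega))
  simp only [Set.mem_insert_iff, Set.mem_singleton_iff, not_or] at h1
  obtain ⟨b1, b2, b3⟩ := h1
  have b4 : W ≠ cj t W' := fun e => b3 (by rw [e, ← cj_mul, h'.sqU ht, cj_one])
  refine ⟨W', k', b1, b2, b3, fun X hX => ?_⟩
  have h2 : ({V, W, cj t W, W', cj t W'} : Set (Subgroup G)) = {W | Fl 𝓛 W z} := by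
    refine Set.eq_of_subset_of_ncard_le ?_ ?_
    · rintro _ (rfl | rfl | rfl | rfl | rfl)
      exacts [h, k, k.conjC tc, k', Fl.conjC k' tc]
    · rw [h.ncard_lines, Set.ncard_insert_of_notMem, Set.ncard_insert_of_notMem, Set.ncard_insert_of_notMem,
        Set.ncard_pair (a1 W' k' b1).symm]
      · simpa using ⟨Ne.symm b3, Ne.symm b2⟩
      · simpa using ⟨(a1 W k hW).symm, Ne.symm b2, b4⟩
      · simpa using ⟨hW.symm, (a2 W hW).symm, Ne.symm b1, (a2 W' b1).symm⟩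
  exact (h2.ge hX :)
theorem memE : e ∈ C[Wv V] ↔ ∀ y, Fl 𝓛 V y → e ∈ C[UU 𝓛 y] := by
  rw [mem_C_iff_le_C1]
  exact ⟨fun h1 y h' => mem_C_iff_le_C1.2 (h'.U_eq ▸ (le_sup3 (X := Uz V) h'.mem h'.ne).trans h1),
    fun h1 => sup3_le fun y hy y1 => (h.pt hy y1).U_eq ▸ mem_C_iff_le_C1.1 (h1 y (h.pt hy y1))⟩
theorem E_St (he : e ∈ C[Wv V]) : XX 𝓛 z ≤ St (zpowers z) e := by
  obtain ⟨y, h', hy⟩ := h.ex_pt
  obtain ⟨a, ha, a1, a2⟩ := h.ex_a h' hy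
  refine h.Y3 h' hy (h.memE.1 he z h) ha a1 a2 ?_
  rw [conj_eq_of_mem_C (h.memE.1 he y h') ha, mul_inv_cancel]
  exact one_mem _
theorem N_le_NE : N[V] ≤ N[C[Wv V]] :=
  norm_C fun m hm => mem_N_sup3 hm fun y _ _ => CA.Uz_conj₁ hm y
theorem E_ea : EA C[Wv V] := ea_of_sq fun e he => by
  by_contra h1
  have h2 := h.ca.z_mem_of₁ (X := C[Wv V] ⊓ ⨅ y ∈ V, ⨅ _ : y ≠ 1, C[XX 𝓛 y])
    ((Q_pi z).of_le (inf_le_left.trans fun e he => h.CU_le_Q (h.memE.1 he z h)))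
    (inf_le_right.trans (norm_inf h.N_le_NE fun m hm => mem_N_inf3 hm fun y _ _ => by
      rw [h.geo.XX_cj, cj_C]))
    (ne_bot_of_mem (mem_inf.2 ⟨mul_mem he he, le_inf3 (Y := zpowers (e * e)) (fun y hy y1 =>
      zpowers_le.2 (mem_C'.2 fun x hx => ?_)) (mem_zpowers _)⟩) h1)
  · obtain ⟨y, h', hy⟩ := h.ex_pt
    obtain ⟨x, hx, x1⟩ := h'.ex_xX
    exact x1 (h.cent h' hy (mem_C1.2 (mem_C.1 (inf3_le (X := fun y => C[XX 𝓛 y]) h'.mem h'.ne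
      (mem_inf.1 h2).2) x hx)) (Q_le_C y (XX_le_Q hx)))
  have k := h.pt hy y1
  refine ccj ?_
  rw [show e * e * x * (e * e)⁻¹ = e * (e * x * e⁻¹) * e⁻¹ by group]
  rcases k.st_or (cm_symm (k.E_St he hx).2) with e' | e'
  · rw [e', e']
  · rw [e', cjm, e', conj_eq_of_mem_C (h.memE.1 he y k) k.z_U, mml k.sq]
theorem D_le_E : Dv V ≤ C[Wv V] := fun d hd => h.memE.2 fun y h' => h'.abU.le_C (h'.D_le_U hd)
theorem E_V (he : e ∈ C[Wv V]) (h1 : XX 𝓛 z ≤ C{e}) : e ∈ V := by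
  by_contra h2
  obtain ⟨x, hx, x1⟩ := h.ex_xX
  have h3 := h.ca.delta (X := XX 𝓛) (fun _ _ _ => XX_le_Q) (fun y _ _ m _ => h.geo.XX_cj m y)
    (fun e => x1 (e hx)) h.E_ea (h.V_le_D.trans h.D_le_E) (inf_le_right.trans h.N_le_NE)
    (fun y hy y1 => cm_le fun e he x hx => cm_symm ((h.pt hy y1).E_St he hx).2) he h2
  rw [comm_eq_bot'.2 (by rw [C_zpowers]; exact inf_le_left.trans h1)] at h3
  exact h.ne (mem_bot.1 (h3 ▸ mem_zpowers z))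
theorem H_cent (h' : Fl 𝓛 V y) (hne : y ≠ z) (he : e ∈ C[UU 𝓛 z]) (h1 : XX 𝓛 z ≤ St (zpowers z) e)
    (ha : a ∈ UU 𝓛 y) (a1 : a ∈ Qz z) (a2 : a ∉ Dv V) (a3 : e ∈ C{a}) (k : Fl 𝓛 V m) (hm : m ≠ z) :
    Qz z ⊓ UU 𝓛 m ≤ C{e} := by
  have h2 := h.H_le h' hne ha a1 a2 (h.D_le_U.trans (mem_C_iff_le_C1.1 he)) (mem_C1_comm.1 a3)
  rcases h.cases h' hne k.mem with e' | e' | e' | e'
  · exact absurd e' k.ne
  · exact absurd e' hm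
  · exact e' ▸ h2
  obtain ⟨x, hx, x1⟩ := h.ex_xX
  have xq := XX_le_Q hx
  rw [e', ← h.mv h' hne (h.Q_le_S xq) x1, h.geo.H_cj' (Q_le_C z xq)]
  intro b hb
  have h3 := cj_C1 x e ▸ cj_mono x h2 hb
  rcases h.st_or (h1 hx).2 with e'' | e'' <;> rw [e''] at h3
  · exact h3
  · exact mem_C1_comm.1 ((mul_mem_cancel_left (mem_C1_comm.1 (Q_le_C z (cj_le_of_mem_N inf_le_left
      (norm_self _ xq) hb)))).1 (mem_C1_comm.1 h3))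
theorem E_le (he : e ∈ C[Wv V]) : e ∈ Dv V := by
  obtain ⟨y, h', hy⟩ := h.ex_pt
  obtain ⟨t, ht, t1⟩ := h.ex_t h' hy
  obtain ⟨W₁, k1, n1⟩ := h.ex_line
  obtain ⟨W₂, k2, n2, -, -, hall⟩ := h.pairs h' ht t1 k1 n1
  obtain ⟨m₁, k1', m1⟩ := k1.ex_pt
  obtain ⟨m₂, k2', m2⟩ := k2.ex_pt
  obtain ⟨a₁, a1, a2, a3⟩ := k1.ex_a k1' m1
  obtain ⟨a₂, b1, b2, b3⟩ := k2.ex_a k2' m2
  have tc := h.U'_le_C h' ht
  have key : ∀ e ∈ C[Wv V], e ∈ C{a₁} → e ∈ C{a₂} → e ∈ V := fun e he e1 e2 => h.E_V he (by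
    have c1 := fun m => k1.H_cent (m := m) k1' m1 (h.memE.1 he z h) (h.E_St he) a1 a2 a3 e1
    have c2 := fun m => k2.H_cent (m := m) k2' m2 (h.memE.1 he z h) (h.E_St he) b1 b2 b3 e2
    have c3 : ∀ W, (∀ m, Fl 𝓛 W m → m ≠ z → Qz z ⊓ UU 𝓛 m ≤ C{e}) → ∀ m, Fl 𝓛 (cj t W) m → m ≠ z →
        Qz z ⊓ UU 𝓛 m ≤ C{e} := fun W c m k hm => by
      obtain ⟨m, hm', rfl⟩ := mem_cj'.1 k.mem
      have := k.conj t⁻¹
      rw [cj_inv_cj] at this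
      rw [h.geo.H_cj' tc, ← cjc (mem_C.1 (h.memE.1 he y h') t ht), ← cj_C1, cj_le_cj]
      exact c m (this.pt hm' (by simpa using k.ne)) fun e => hm (by rw [e]; exact mem_C1_iff_conj.1 tc)
    refine XX_le fun W m k k' hm => ?_
    rcases hall W k with rfl | rfl | rfl | rfl | rfl
    exacts [inf_le_right.trans (mem_C_iff_le_C1.1 (h.memE.1 he m k')), c1 m k' hm, c3 _ c1 m k' hm,
      c2 m k' hm, c3 _ c2 m k' hm])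
  have ix : ∀ a ∈ XX 𝓛 z, ∀ e ∈ C[Wv V], ∀ e' ∈ C[Wv V], e ∉ C{a} → e' ∉ C{a} → e * e' ∈ C{a} :=
    fun a ha e he e' he' => h.ixS (C_le_C1 h.z_U (h.memE.1 he z h)) (cm_symm (h.E_St he ha).2)
      (cm_symm (h.E_St he' ha).2)
  have i1 := ix _ (k1.le_XX k1' m1 (mem_inf.2 ⟨a2, a1⟩))
  have i2 := ix _ (k2.le_XX k2' m2 (mem_inf.2 ⟨b2, b1⟩))
  have yD := h.V_le_D h'.mem
  have yE := h.D_le_E yD
  have y1 : y ∉ C{a₁} := fun e => (k1.ta k1' m1 a1 a2 a3).2 V h n1.symm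
    (h.cent h' hy (Q_le_C z a2) (mem_C1_comm.1 e))
  have y2 : y ∉ C{a₂} := fun e => (k2.ta k2' m2 b1 b2 b3).2 V h n2.symm
    (h.cent h' hy (Q_le_C z b2) (mem_C1_comm.1 e))
  obtain ⟨r, hr, r1, r2⟩ : ∃ r ∈ Dv V, r ∈ C{a₁} ∧ r ∉ C{a₂} := by
    obtain ⟨r, hr, hr'⟩ := h.ex_r
    have rE := h.D_le_E hr
    by_cases e : r ∈ C{a₁}
    · exact ⟨r, hr, e, fun e' => hr' (key r rE e e')⟩
    · exact ⟨r * y, mul_mem hr yD, i1 _ rE _ yE e y1, fun e' =>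
        hr' ((mul_mem_cancel_right h'.mem).1 (key _ (mul_mem rE yE) (i1 _ rE _ yE e y1) e'))⟩
  have rE := h.D_le_E hr
  have last : ∀ e ∈ C[Wv V], e ∈ C{a₁} → e ∈ Dv V := fun e he e1 => by
    by_cases e2 : e ∈ C{a₂}
    · exact h.V_le_D (key e he e1 e2)
    · exact (mul_mem_cancel_right hr).1 (h.V_le_D (key _ (mul_mem he rE) (mul_mem e1 r1) (i2 _ he _ rE e2 r2)))
  by_cases e1 : e ∈ C{a₁}
  · exact last e he e1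
  · exact (mul_mem_cancel_right yD).1 (last _ (mul_mem he yE) (i1 _ he _ yE e1 y1))
theorem ED (h' : Fl 𝓛 V y) (hne : y ≠ z) (h1 : e ∈ C[UU 𝓛 z]) (h2 : e ∈ C[UU 𝓛 y])
    (h3 : e ∈ C[UU 𝓛 (z * y)]) : e ∈ Dv V := h.E_le (h.memE.2 fun m k => by
  rcases h.cases h' hne k.mem with e' | e' | e' | e'
  exacts [absurd e' k.ne, e' ▸ h1, e' ▸ h2, e' ▸ h3])
theorem AAA (h' : Fl 𝓛 V y) (hne : y ≠ z) (ha : a ∈ UU 𝓛 z) (a1 : a ∈ Qz y) (a2 : a ∉ Dv V)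
    (hb : b ∈ UU 𝓛 y) (b1 : b ∈ Qz z) (b2 : b ∉ Dv V) (hc : c ∈ UU 𝓛 (z * y)) (c1 : c ∈ Qz z)
    (c2 : c ∉ Dv V) : a * (b * c) ∈ Dv V := by
  have k := h.third h' hne
  have n1 := h.third_ne h'
  have n2 := h.third_ne' (y := y)
  have a3 := h.HH h' hne k n1 ha a1
  have b3 := h'.HH h hne.symm k n2 hb b1
  have c3 := k.HH h n1.symm h' n2.symm hc c1
  refine h.ED h' hne (mul_mem (h.abU.le_C ha) (h.TA_mul b1 c1 (h.ta h' hne hb b1 b2) (h.ta k n1 hc c1 c2)))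
    ?_ ?_
  · rw [← mul_assoc, h.Hcomm h' hne ha a1 hb b1, mul_assoc]
    exact mul_mem (h'.abU.le_C hb) (h'.TA_mul a1 c3 (h'.ta h hne.symm ha a1 a2) (h'.ta k n2 hc c3 c2))
  · rw [← mul_assoc]
    exact mul_mem (k.TA_mul a3 b3 (k.ta h n1.symm ha a3 a2) (k.ta h' n2.symm hb b3 b2)) (k.abU.le_C hc)
theorem cjA (h' : Fl 𝓛 V y) (hne : y ≠ z) (ha : a ∈ UU 𝓛 y) (a1 : a ∈ Qz z) (a2 : a ∉ Dv V)
    (hx : x ∈ C{z} ⊓ N[V]) (x1 : x ∉ C[V]) :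
    x * a * x⁻¹ ∈ UU 𝓛 (z * y) ∧ x * a * x⁻¹ ∈ Qz z ∧ x * a * x⁻¹ ∉ Dv V :=
  ⟨by rw [← h.mv h' hne hx x1, h.geo.U_cj]; exact conj_mem_cj x ha, conj_mem (C_le_NQ z (mem_inf.1 hx).1) a1,
    fun e => a2 ((conj_mem_iff (h.N_le_ND (mem_inf.1 hx).2)).1 e)⟩
theorem cmA (h' : Fl 𝓛 V y) (hne : y ≠ z) (ha : a ∈ UU 𝓛 y) (a1 : a ∈ Qz z) (a2 : a ∉ Dv V)
    (hx : x ∈ Qz z) (x1 : x ∉ C[V]) :
    a * (x * a * x⁻¹) ∈ UU 𝓛 z ∧ a * (x * a * x⁻¹) ∈ Qz y ∧ a * (x * a * x⁻¹) ∉ Dv V := by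
  obtain ⟨b, hb, b1, b2⟩ := h'.ex_a h hne.symm
  obtain ⟨c, c1, c2⟩ := h.cjA h' hne ha a1 a2 (h.Q_le_S hx) x1
  have h1 := h.AAA h' hne hb b1 b2 ha a1 a2 c c1 c2
  exact ⟨(mul_mem_cancel_left hb).1 (h.D_le_U h1), (mul_mem_cancel_left b1).1 (h'.U_le_Q (h'.D_le_U h1)),
    fun e => b2 ((mul_mem_cancel_right e).1 h1)⟩
theorem cmX (hx : x ∈ XX 𝓛 z) (hq : q ∈ Qz z) : x * q * x⁻¹ * q⁻¹ ∈ UU 𝓛 z := by
  refine (XX_le (X := St (UU 𝓛 z) q) (fun W m k k' hm a ha => ?_) hx).2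
  obtain ⟨a1, a0⟩ := mem_inf.1 ha
  refine ⟨h.C_le_NU (Q_le_C z a1), ?_⟩
  by_cases a2 : a ∈ Dv W
  · exact h.Z_U (cm_symm (h.cmU hq (k.D_le_U a2)))
  rw [k'.invU a0, mul_assoc, mul_assoc, ← mul_assoc q]
  by_cases q1 : q ∈ C[W]
  · exact k.D_le_U (k.mulH k' hm a0 a1 a2 (conj_mem (k'.C_le_NU (k'.CV_le q1)) a0)
      (conj_mem (norm_self _ hq) a1) fun e => a2 ((conj_mem_iff (k.N_le_ND (C_le_N W q1))).1 e))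
  · exact (k.cmA k' hm a0 a1 a2 hq q1).1
theorem Y4 (h' : Fl 𝓛 V y) (hne : y ≠ z) (hc : c ∈ C[UU 𝓛 z]) (ha : a ∈ UU 𝓛 y) (a1 : a ∈ Qz z)
    (a2 : a ∉ Dv V) (e : c * a * c⁻¹ * a⁻¹ ∈ zpowers z) : c ∈ UU 𝓛 z := by
  have key : ∀ u ∈ UU 𝓛 z, c * u ∈ C[UU 𝓛 z] ∧ c * u * a * (c * u)⁻¹ * a⁻¹ ∈ zpowers z := fun u hu =>
    ⟨mul_mem hc (h.abU.le_C hu), (mul_mem (show c ∈ St _ a from ⟨C_le_NZ z (C_le_C1 h.z_U hc), e⟩)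
      (show u ∈ St _ a from ⟨C_le_NZ z (h.U_le_C hu), cm_symm (h.cmU a1 hu)⟩)).2⟩
  have k3 : ∀ u ∈ UU 𝓛 z, c * u ∈ C[UU 𝓛 y] → c ∈ UU 𝓛 z := fun u hu h1 => by
    obtain ⟨x, hx, x1⟩ := h.ex_xX
    have h2 := (h.Y3 h' hne (key u hu).1 ha a1 a2 (key u hu).2 hx).2
    have h3 := conj_mem_cj x h1
    rw [cj_C, ← h.geo.U_cj, h.mv h' hne (h.Q_le_S (XX_le_Q hx)) x1] at h3
    have k := h.third h' hne
    refine (mul_mem_cancel_right hu).1 (h.D_le_U (h.ED h' hne (key u hu).1 h1 ?_))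
    have := mul_mem (inv_mem (k.abU.le_C (k.le_U (h.Z_le h2)))) h3
    convert this using 1
    group
  obtain ⟨t, ht, t1⟩ := h.ex_t h' hne
  obtain ⟨b, hb, b1, b2⟩ := h'.ex_a h hne.symm
  have k2 : ∀ u ∈ UU 𝓛 z, c * u ∈ Qz y → Qz z ⊓ UU 𝓛 y ≤ C{c * u} := fun u hu h1 =>
    h.H_le h' hne ha a1 a2 (h.D_le_U.trans (mem_C_iff_le_C1.1 (key u hu).1)) (mem_C1_comm.1
      (mem_C1_iff_conj.2 (mul_inv_eq_one.1 (h.Zinf h' hne (key u hu).2 (h'.cmU h1 ha)))))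
  have k1 : ∀ u ∈ UU 𝓛 z, c * u ∈ Qz y → c ∈ UU 𝓛 z := fun u hu h1 => by
    by_cases e1 : c * u ∈ C{t}
    · exact k3 u hu (mem_C_iff_le_C1.2 (h.U'_le h' hne ht t1 (k2 u hu h1) (mem_C1_comm.1 e1)))
    have e2 : b ∉ C{t} := fun e2 => b2 (h.theta h' ht t1 hb (by
      rw [mem_C1_iff_conj.1 (mem_C1_comm.1 e2), mul_inv_cancel]; exact one_mem _))
    have e3 := h'.ixS (Q_le_C y h1) (h'.cmU h1 ht) (h'.cmU b1 ht) e1 e2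
    rw [mul_assoc] at e3
    exact k3 _ (mul_mem hu hb) (mem_C_iff_le_C1.2 (h.U'_le h' hne ht t1 (k2 _ (mul_mem hu hb)
      (mul_assoc c u b ▸ mul_mem h1 b1)) (mem_C1_comm.1 e3)))
  obtain ⟨d, hd, d1⟩ := h'.ex_t h hne.symm
  rcases h.Y1 h' hne hc hd d1 with e | e
  exacts [k1 1 (one_mem _) (by rwa [mul_one]), k1 d hd e]
theorem Q0mul (hc : c ∈ C[UU 𝓛 z]) (c1 : c ∉ UU 𝓛 z) (hc' : c' ∈ C[UU 𝓛 z]) (c2 : c' ∉ UU 𝓛 z) :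
    c * c' ∈ UU 𝓛 z := by
  obtain ⟨y, h', hy⟩ := h.ex_pt
  obtain ⟨a, ha, a1, a2⟩ := h.ex_a h' hy
  refine h.Y4 h' hy (mul_mem hc hc') ha a1 a2 ?_
  have h1 := h.Y2 h' hy hc' ha a1
  have := h.mulZ h1 (h.Y2 h' hy hc ha a1) (fun e => c2 (h.Y4 h' hy hc' ha a1 a2 e))
    fun e => c1 (h.Y4 h' hy hc ha a1 a2 e)
  rw [← conj_eq_of_mem_C (h.CU_le_CV hc) h1] at this
  convert this using 1
  group
theorem Q0sqZ (hc : c ∈ C[UU 𝓛 z]) : c * c ∈ zpowers z := by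
  by_cases c1 : c ∈ UU 𝓛 z
  · rw [h.sqU c1]; exact one_mem _
  obtain ⟨f, hf, hf', -⟩ := h.ex_f
  have fn := h.C_le_NU (F2_le _ hf)
  have h1 := h.Q0mul hc c1 (conj_mem (N_le_NC _ fn) hc) fun e => c1 ((conj_mem_iff fn).1 e)
  have h2 := h.Q0mul hc c1 hc c1
  refine h.fpf hf hf' h2 ?_
  have h3 := mem_C.1 hc _ h1
  have h4 := h.sqU h1
  rw [h.invU h2, cjm]
  generalize f * c * f⁻¹ = d at *
  rw [show d * d * (c * c) = c⁻¹ * (c * d * (c⁻¹ * (c * d * c))) * c by group, h3, inv_mul_cancel_left, h4]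
  simp
theorem sqA (hq : q ∈ Qz z) (h1 : TA 𝓛 z V q) : q * q ∈ V := by
  obtain ⟨y, h', hy⟩ := h.ex_pt
  obtain ⟨a, ha, a1, a2⟩ := h.ex_a h' hy
  have h2 := h.TA_mul a1 hq (h.ta h' hy ha a1 a2) h1
  have := mul_mem (cm_symm (h.Y2 h' hy h2 ha a1)) (h.Z_le (h.Q0sqZ h2))
  rwa [mml (h'.sqU ha), h'.invU ha, mul_assoc, inv_mul_cancel_left, mul_assoc, mml (h'.sqU ha)] at this
theorem sqP (k : Fl 𝓛 W z) (hW : W ≠ V) (hq : q ∈ Qz z) (h1 : TP 𝓛 z V W q) : q * q ∉ zpowers z := by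
  intro e
  obtain ⟨y, h', hy⟩ := h.ex_pt
  obtain ⟨a, ha, a1, a2⟩ := h.ex_a h' hy
  obtain ⟨t1, t2⟩ := h.ta h' hy ha a1 a2
  have h2 := k.sqA (mul_mem a1 hq) ⟨k.ixQ a1 hq (t2 W k hW) h1.2.1, fun X k' hX e' => by
    by_cases e'' : X = V
    · exact h1.1 ((mul_mem_cancel_left t1).1 (e'' ▸ e'))
    · exact t2 X k' e'' ((mul_mem_cancel_right (h1.2.2 X k' e'' hX)).1 e')⟩
  obtain ⟨-, h3, h4⟩ := h.cmA h' hy ha a1 a2 hq h1.1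
  rw [show a * q * (a * q) = a * (q * a * q⁻¹) * (q * q) by group] at h2
  exact h4 (h.V_le_D (h.Z_le ((mul_mem_cancel_right e).1
    (h.notQ h' hy k hW h2 (mul_mem h3 (h'.V_le_Q (h.Z_le e)))))))
theorem tri' (hq : q ∈ Qz z) (h2 : q * q ∈ zpowers z) : q ∈ C[UU 𝓛 z] ∨ ∃ W, Fl 𝓛 W z ∧ TA 𝓛 z W q :=
  (h.tri hq).imp_right fun e => e.resolve_right fun ⟨W, W', k, k', n, e⟩ => k.sqP k' n hq e h2
theorem Q0sq (hc : c ∈ C[UU 𝓛 z]) (c1 : c ∉ UU 𝓛 z) : c * c = z := by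
  refine (h.memZ.1 (h.Q0sqZ hc)).resolve_left fun e => ?_
  obtain ⟨y, h', hy⟩ := h.ex_pt
  obtain ⟨a, ha, a1, a2⟩ := h.ex_a h' hy
  obtain ⟨b, hb, b1, b2⟩ := h'.ex_a h hy.symm
  have key : ∀ u ∈ UU 𝓛 z, c * u ∉ Qz y := fun u hu h1 => by
    have h2 := mul_mem hc (h.abU.le_C hu)
    refine c1 ((mul_mem_cancel_right hu).1 (h.Y4 h' hy h2 ha a1 a2 ?_))
    suffices c * u ∈ C{a} by rw [mem_C1_iff_conj.1 this, mul_inv_cancel]; exact one_mem _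
    rcases h'.tri' h1 (by
      rw [mul_assoc, ← mul_assoc u, mem_C.1 hc u hu, mul_assoc, h.sqU hu, mul_one, e]
      exact one_mem _) with e' | ⟨W, k, e'⟩
    · exact C_le_C1 ha e'
    obtain rfl : V = W := by_contra fun n => e'.2 V h' n (h.CU_le_CV h2)
    exact (mul_mem_cancel_left (mem_C1.2 (h.Hcomm h' hy hb b1 ha a1))).1
      (C_le_C1 ha (h'.TA_mul b1 h1 (h'.ta h hy.symm hb b1 b2) e'))
  obtain ⟨d, hd, d1⟩ := h'.ex_t h hy.symm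
  rcases h.Y1 h' hy hc hd d1 with e | e
  exacts [key 1 (one_mem _) (by rwa [mul_one]), key d hd e]
theorem invA (hj : j ∈ Qz z) (j2 : j * j = 1) (h1 : TA 𝓛 z V j) : ∃ m, Fl 𝓛 V m ∧ j ∈ UU 𝓛 m := by
  obtain ⟨y, h', hy⟩ := h.ex_pt
  obtain ⟨a, ha, a1, a2⟩ := h.ex_a h' hy
  have h2 := h.TA_mul a1 hj (h.ta h' hy ha a1 a2) h1
  have h3 : a * j * a * (a * j)⁻¹ * a⁻¹ = a * j * (a * j) := by
    rw [mul_inv_rev, inv_sq j2, h'.invU ha, mul_assoc _ (j * a), mmr (h'.sqU ha), mul_assoc]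
  have h4 := h.Y4 h' hy h2 ha a1 a2 (h3 ▸ h.Q0sqZ h2)
  rw [h.sqU h4] at h3
  have h5 : a * j ∈ Qz y := by_contra fun e => a2 (h'.theta h h4 e ha (h3 ▸ one_mem _))
  by_cases h6 : a * j ∈ Dv V
  · exact ⟨y, h', (mul_mem_cancel_left ha).1 (h'.D_le_U h6)⟩
  have k := h.third h' hy
  obtain ⟨c, hc, c1, c2⟩ := h.ex_a k (h.third_ne h')
  have h7 := h.AAA h' hy h4 h5 h6 ha a1 a2 hc c1 c2
  rw [← mul_assoc, h.Hcomm h' hy h4 h5 ha a1, mml (h'.sqU ha)] at h7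
  exact ⟨_, k, (mul_mem_cancel_right hc).1 (k.D_le_U h7)⟩
/-- every involution of `C(z)` lies in `U_m` for a point `m` on a line through `z` -/
theorem invC (hj : j ∈ C{z}) (j2 : j * j = 1) : ∃ W m, Fl 𝓛 W z ∧ Fl 𝓛 W m ∧ j ∈ UU 𝓛 m := by
  by_cases j1 : j ∈ Qz z
  · rcases h.tri' j1 (j2 ▸ one_mem _) with e | ⟨W, k, e⟩
    · exact ⟨V, z, h, h, by_contra fun e' => h.ne ((h.Q0sq e e').symm.trans j2)⟩
    · obtain ⟨m, k', e'⟩ := k.invA j1 j2 e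
      exact ⟨W, m, k, k', e'⟩
  have ex : ∀ W, Fl 𝓛 W z → ∃ m X t, Fl 𝓛 W m ∧ m ≠ z ∧ Fl 𝓛 X m ∧ X ≠ W ∧ t ∈ X ∧ t ∉ zpowers m ∧
      t ∉ Qz z := fun W k => by
    obtain ⟨m, k', hm⟩ := k.ex_pt
    obtain ⟨X, k2, hX⟩ := k'.ex_line
    obtain ⟨t, k3, ht⟩ := k2.ex_pt
    exact ⟨m, X, t, k', hm, k2, hX, k3.mem, k2.notZ k3 ht,
      fun e => k2.notZ k3 ht (k'.notQ k hm.symm k2 hX k3.mem e)⟩
  obtain ⟨W, m, X, t, k, k', hm, k2, hX, t0, t1, t2, t3⟩ : ∃ W m X t, Fl 𝓛 W z ∧ Fl 𝓛 W m ∧ m ≠ z ∧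
      Fl 𝓛 X m ∧ X ≠ W ∧ t ∈ X ∧ t ∉ zpowers m ∧ t ∉ Qz z ∧ j * t ∉ Qz z := by
    obtain ⟨W, k, hW⟩ := h.ex_line
    obtain ⟨m, X, t, a1, a2, a3, a4, a5, a6, a7⟩ := ex V h
    obtain ⟨m', X', t', b1, b2, b3, b4, b5, b6, b7⟩ := ex W k
    by_cases e : j * t ∈ Qz z
    · refine ⟨W, m', X', t', k, b1, b2, b3, b4, b5, b6, b7, fun e' =>
        (h.tt a1 k b1 hW (a3.le_U a5) a7 (b3.le_U b5) b7).2 ?_⟩
      have := mul_mem (inv_mem e) e'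
      rwa [mul_inv_rev, a3.invU (a3.le_U a5), mul_assoc, inv_mul_cancel_left] at this
    · exact ⟨V, m, X, t, h, a1, a2, a3, a4, a5, a6, a7, e⟩
  have tU := k2.le_U t0
  have tC := k.U'_le_C k' tU
  have tt := k'.sqU tU
  have w1 := h.inv2 hj (j2 ▸ one_mem _) j1 tC (tt ▸ one_mem _) t2
  have wC := F2_le _ w1
  have inv : ∀ n : ℕ, t * (j * t) ^ n * t⁻¹ = ((j * t) ^ n)⁻¹ := fun n => by
    rw [← conj_pow, ← inv_pow, mul_inv_rev, inv_sq j2, ← mul_assoc, mul_inv_cancel_right, inv_sq tt]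
  have c1 := h.pow5 w1
  have c2 : (j * t) ^ 5 ∈ C[UU 𝓛 z] := by
    have all : ∀ A B, Fl 𝓛 A z → Fl 𝓛 B z → (j * t) ^ 5 ∈ C[A] → (j * t) ^ 5 ∈ C[B] := fun A B kA kB e => by
      obtain ⟨i, -, rfl⟩ := kA.lineF w1 t3 kB
      rw [← cj_C, mem_cj, show ((j * t) ^ i)⁻¹ * (j * t) ^ 5 * (j * t) ^ i = (j * t) ^ 5 by group]
      exact e
    rcases h.tri c1 with e | ⟨A, kA, e, -⟩ | ⟨A, B, kA, kB, n, e, -, e'⟩
    · exact e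
    · exact h.mem_CU fun B kB => all A B kA kB e
    obtain ⟨y, kA', hy⟩ := kA.ex_pt
    obtain ⟨s, hs, s1⟩ := kA.ex_t kA' hy
    obtain ⟨D, kD, n1, n2, -⟩ := kA.pairs kA' hs s1 kB n
    exact absurd (all D A kD kA (e' D kD n1 n2)) e
  have c3 : (j * t) ^ 5 ∈ UU 𝓛 z := by
    by_contra e
    have h1 := h.Q0sq c2 e
    refine (k'.pr_npt ⟨W, X, z, t, k', k2, hX, h.mem |> fun _ => k.mem, t0, k'.notZ k hm.symm, t1, rfl⟩).1 ?_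
    have h2 := Pt.conj ⟨X, k2.pt t0 fun e => t1 (e ▸ one_mem _)⟩ ((j * t) ^ 5)
    have h3 := inv 5
    rw [mul_inv_eq_iff_eq_mul] at h3
    rwa [mul_assoc, ← mul_right_inj t⁻¹ |>.1 (show t⁻¹ * ((j * t) ^ 5 * t) = t⁻¹ * (t * ((j * t) ^ 5)⁻¹) by
      rw [inv_mul_cancel_left, eq_inv_iff_mul_eq_one, mul_assoc, mul_assoc, h3]; group), ← mul_assoc,
      h1] at h2
  have c4 := h.fpf w1 t3 c3 (by
    rw [← pow_succ', pow_succ, mul_inv_cancel_right, mul_inv_cancel]; exact one_mem _)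
  have c5 : (j * t) ^ 3 * t * ((j * t) ^ 3)⁻¹ = (j * t) ^ 5 * j := by
    rw [← inv 3, ← mul_assoc, ← mul_assoc, mmr tt, ← pow_add, pow_succ _ 5, mul_assoc, mul_inv_cancel_right]
  refine ⟨_, _, k.conjC (pow_mem wC 3), k'.conj _, (mul_mem_cancel_left ((k'.conj _).le_U
    ((k.conjC (pow_mem wC 3)).Z_le c4))).1 ?_⟩
  rw [← c5, h.geo.U_cj]
  exact conj_mem_cj _ tU

end Fl

end H13.NT
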