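import Mathlib
import Cfsg.Agent.H13.NT3

/-!
# The configuration of the Tits group: `U` is self-centralising
-/

set_option autoImplicit false
set_option linter.unusedSectionVars false
set_option linter.unusedVariables false

namespace H13.NT

open Subgroup Cfsg H24 H11.ZN H12.NG H26
open H3.NG hiding ea_sq ea_of_sq ea_le

universe u

variable {G : Type u} [Group G] [Finite G] {𝓛 : Set (Subgroup G)} {S V W W' X A B K : Subgroup G}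
  {z y y' g g' c c' f w q p p' t t' u u' s a a' a'' b x e r m m' j v : G}

theorem sup2 (hn : a ∈ N[A]) (h2 : a * a ∈ A) (hx : x ∈ A ⊔ zpowers a) : x * a ∈ A ∨ x ∈ A := by
  let T : Subgroup G :=
    { carrier := {x | x * a ∈ A ∨ x ∈ A}
      one_mem' := Or.inr (one_mem _)
      mul_mem' := by
        rintro x y (hx | hx) (hy | hy)
        · refine Or.inr ?_
          have := mul_mem (mul_mem hx (conj_mem' hn hy)) (inv_mem h2)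
          convert this using 1
          group
        · refine Or.inl ?_
          have := mul_mem hx (conj_mem' hn hy)
          convert this using 1
          group
        · exact Or.inl (mul_assoc x y a ▸ mul_mem hx hy)
        · exact Or.inr (mul_mem hx hy)
      inv_mem' := by
        rintro x (hx | hx)
        · refine Or.inl ?_
          have := mul_mem (conj_mem hn (inv_mem hx)) h2
          convert this using 1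
          group
        · exact Or.inr (inv_mem hx) }
  exact sup_le (b := zpowers a) (c := T) (fun x hx => Or.inr hx) (zpowers_le.2 (Or.inl h2)) hx

theorem card_sup2 (hn : a ∈ N[A]) (h2 : a * a ∈ A) (h1 : a ∉ A) : ♯(A ⊔ zpowers a) = ♯A * 2 := by
  rw [← card_mul_relIndex (le_sup_left : A ≤ A ⊔ zpowers a), relIndex_eq_two_iff_exists_notMem_and.2
    ⟨a, mem_sup_right (mem_zpowers a), h1, fun b hb => sup2 hn h2 hb⟩]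

theorem transfer2 (hS : Syl 2 ⊤ S) (hK : K.relIndex S = 2) (hc : commutator G = ⊤) (hy : y ∈ S) (hy' : y ∉ K)
    (h : ∀ (k : ℕ) (g : G), g⁻¹ * y ^ k * g ∈ S → (g⁻¹ * y ^ k * g ∈ K ↔ y ^ k ∈ K)) : False := by
  have hn : (K.subgroupOf S).Normal := normal_of_index_eq_two hK
  let _ : CommGroup (S ⧸ K.subgroupOf S) :=
    { (inferInstance : Group (S ⧸ K.subgroupOf S)) with
      mul_comm := (isCyclic_of_prime_card (p := 2) hK).commGroup.mul_comm }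
  let φ : S →* S ⧸ K.subgroupOf S := QuotientGroup.mk' _
  have h1 := H3.transfer_eq_pow_of_forall φ y (φ ⟨y, hy⟩) fun k a hk => by
    rw [← map_pow]
    apply QuotientGroup.eq_iff_div_mem.2
    rw [div_eq_mul_inv, mul_mem_iff_of_index_two hK, inv_mem_iff]
    exact h k a hk
  have h2 : MonoidHom.transfer φ y = 1 := Abelianization.commutator_subset_ker _ (hc ▸ mem_top y)
  rw [h2, ← map_pow, eq_comm] at h1
  have h3 : y ^ S.index ∈ K := (QuotientGroup.eq_one_iff (N := K.subgroupOf S) _).1 h1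
  obtain ⟨n, hn⟩ : Odd S.index := by
    have := Syl.not_dvd Nat.prime_two hS
    rw [relIndex_top_right] at this
    exact Nat.not_even_iff_odd.1 fun e => this e.two_dvd
  rw [hn, pow_succ, pow_mul, pow_two] at h3
  exact hy' ((mul_mem_cancel_left (pow_mem (mul_idx2 hK hy hy hy' hy') n)).1 h3)

theorem TA.conj (h : TA 𝓛 z W a) (hg : g ∈ C{z}) : TA 𝓛 z (cj g W) (g * a * g⁻¹) :=
  ⟨cj_C g W ▸ conj_mem_cj g h.1, fun W' k hW e => h.2 _ (k.conjC (inv_mem hg))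
    (fun e' => hW (by rw [← e', cj_cj_inv])) (by rwa [← cj_C, mem_cj, inv_inv])⟩

namespace Fl

variable (h : Fl 𝓛 V z)
include h

theorem ex_taX : ∃ a ∈ XX 𝓛 z, TA 𝓛 z V a := by
  obtain ⟨y, h', hy⟩ := h.ex_pt
  obtain ⟨a, ha, h1, h2⟩ := h.ex_a h' hy
  exact ⟨a, h.le_XX h' hy (mem_inf.2 ⟨h1, ha⟩), h.ta h' hy ha h1 h2⟩
theorem TP_mul (k : Fl 𝓛 W z) (hW : W ≠ V) (ha : a ∈ Qz z) (hq : q ∈ Qz z) (h1 : TA 𝓛 z V a)
    (h2 : TP 𝓛 z V W q) : TA 𝓛 z W (a * q) :=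
  ⟨k.ixQ ha hq (h1.2 W k hW) h2.2.1, fun X k' hX e' => by
    by_cases e'' : X = V
    · exact h2.1 ((mul_mem_cancel_left h1.1).1 (e'' ▸ e'))
    · exact h1.2 X k' e'' ((mul_mem_cancel_right (h2.2.2 X k' e'' hX)).1 e')⟩
theorem QX (hq : q ∈ Qz z) : ∃ x ∈ XX 𝓛 z, x * q ∈ C[UU 𝓛 z] := by
  have key : ∀ W q, Fl 𝓛 W z → q ∈ Qz z → TA 𝓛 z W q → ∃ x ∈ XX 𝓛 z, x * q ∈ C[UU 𝓛 z] :=
    fun W q k hq e => by
      obtain ⟨a, ha, h1⟩ := k.ex_taX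
      exact ⟨a, ha, k.TA_mul (XX_le_Q ha) hq h1 e⟩
  rcases h.tri hq with e | ⟨W, k, e⟩ | ⟨W, W', k, k', n, e⟩
  · exact ⟨1, one_mem _, by rwa [one_mul]⟩
  · exact key W q k hq e
  obtain ⟨a, ha, h1⟩ := k.ex_taX
  obtain ⟨x, hx, h2⟩ := key _ _ k' (mul_mem (XX_le_Q ha) hq) (k.TP_mul k' n (XX_le_Q ha) hq h1 e)
  exact ⟨x * a, mul_mem hx ha, by rwa [mul_assoc]⟩
theorem sqX0 (hx : x ∈ XX 𝓛 z) : x * x ∈ UU 𝓛 z := by
  let T : Subgroup G :=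
    { carrier := {x | x ∈ XX 𝓛 z ∧ x * x ∈ UU 𝓛 z}
      one_mem' := ⟨one_mem _, by simp⟩
      mul_mem' := fun {a b} ha hb => ⟨mul_mem ha.1 hb.1, by
        have := mul_mem (mul_mem ha.2 (h.cmX (inv_mem ha.1) (XX_le_Q hb.1))) hb.2
        convert this using 1
        group⟩
      inv_mem' := fun {a} ha => ⟨inv_mem ha.1, by rw [← mul_inv_rev]; exact inv_mem ha.2⟩ }
  exact (XX_le (X := T) (fun W m k k' hm a ha => ⟨k.le_XX k' hm ha, by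
    rw [k'.sqU (mem_inf.1 ha).2]; exact one_mem _⟩) hx).2
theorem HU (h' : Fl 𝓛 V y) (hne : y ≠ z) (k : Fl 𝓛 V m) (hm : m ≠ z) (ha : a ∈ UU 𝓛 y) (a1 : a ∈ Qz z)
    (a2 : a ∉ Dv V) (hA : UU 𝓛 z ≤ A) (a3 : a ∈ A) : Qz z ⊓ UU 𝓛 m ≤ A := by
  have h1 := h.H_le h' hne ha a1 a2 (h.D_le_U.trans hA) a3
  rcases h.cases h' hne k.mem with e | e | e | e
  · exact absurd e k.ne
  · exact absurd e hm
  · exact e ▸ h1
  subst e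
  obtain ⟨b, hb, b1, b2⟩ := h'.ex_a h hne.symm
  obtain ⟨c, hc, c1, c2⟩ := h.ex_a k hm
  exact h.H_le k hm hc c1 c2 (h.D_le_U.trans hA) ((mul_mem_cancel_left a3).1
    ((mul_mem_cancel_left (hA hb)).1 (hA (h.D_le_U (h.AAA h' hne hb b1 b2 ha a1 a2 hc c1 c2)))))
theorem tu (h' : Fl 𝓛 V y) (ht : t ∈ UU 𝓛 y) (t1 : t ∉ Qz z) (hu : u ∈ UU 𝓛 z) (u1 : u ∈ Qz y)
    (u2 : u ∉ Dv V) : t * u * t⁻¹ = y * u :=
  (h'.st_or (cm_symm (h'.cmU u1 ht))).resolve_left fun e => u2 (h.theta h' ht t1 hu (by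
    rw [e, mul_inv_cancel]; exact one_mem _))
theorem kap (h' : Fl 𝓛 V y) (hne : y ≠ z) (ha : a ∈ UU 𝓛 y) (a1 : a ∈ Qz z) (a2 : a ∉ Dv V)
    (ht : t ∈ UU 𝓛 y) (t1 : t ∉ Qz z) (hx : x ∈ Qz z) (x1 : x ∉ C[V]) :
    ∃ v ∈ V, v ∉ zpowers z ∧ x * (t * x * t⁻¹) * a * (x * (t * x * t⁻¹))⁻¹ = v * a := by
  obtain ⟨u0, u1, u2⟩ := h.cmA h' hne ha a1 a2 hx x1
  have e1 : x * a * x⁻¹ = a * (a * (x * a * x⁻¹)) := (mml (h'.sqU ha) _).symm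
  generalize a * (x * a * x⁻¹) = u at u0 u1 u2 e1
  have e2 := h.tu h' ht t1 u0 u1 u2
  have e3 := h'.abU.comm ht ha
  have e4 := h.mv h' hne (h.Q_le_S hx) x1
  have k := h.third h' hne
  refine ⟨z * y * (x * u * x⁻¹ * u⁻¹), mul_mem k.mem (h.Z_le (h.cmU hx u0)), fun e =>
    h.notZ k (h.third_ne h') ((mul_mem_cancel_right (h.cmU hx u0)).1 e), ?_⟩
  rw [show x * (t * x * t⁻¹) * a * (x * (t * x * t⁻¹))⁻¹ = x * (t * (x * (t⁻¹ * (a * t)) * x⁻¹) * t⁻¹) * x⁻¹ by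
    group, ← e3, inv_mul_cancel_left, e1, cjm t, cjc e3, e2, cjm, cjm, e1, e4,
    mem_C.1 (h'.U_le_CV ha) _ (mul_mem k.mem (h.Z_le (h.cmU hx u0))), mul_assoc a,
    h.abU.comm u0 (mul_mem (h.le_U k.mem) (conj_mem (h.C_le_NU (Q_le_C z hx)) u0)), h.invU u0]
  simp only [mul_assoc]
theorem wC (k : Fl 𝓛 W z) (h' : Fl 𝓛 V y) (hne : y ≠ z) (k' : Fl 𝓛 W v) (hv : v ≠ z) (ha : a ∈ Qz z)
    (h1 : a ∉ C[V]) (h2 : a ∉ C[W]) : a ∈ C{y * v} := by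
  rw [mem_C1_iff_conj, cjm, h.mv h' hne (h.Q_le_S ha) h1, k.mv k' hv (k.Q_le_S ha) h2,
    ea_comm h.ea h.mem h'.mem, mul_assoc, mml h.sq]
theorem wN (h' : Fl 𝓛 V y) (hne : y ≠ z) (hv : v ∈ W) (ha : a ∈ Qz z)
    (h1 : a ∉ C[V]) (h2 : a ∈ C[W]) : a ∉ C{y * v} := by
  rw [mem_C1_iff_conj, cjm, h.mv h' hne (h.Q_le_S ha) h1, conj_eq_of_mem_C h2 hv, mul_left_inj]
  exact h.third_ne'
theorem step (h1 : UU 𝓛 z ≤ A) (h2 : A ≤ XX 𝓛 z) (ha : a ∈ XX 𝓛 z) (hw : w ∈ UU 𝓛 z) (h3 : A ≤ C{w})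
    (h4 : a ∉ C{w}) (h5 : A ⊓ C[UU 𝓛 z] ≤ UU 𝓛 z) : UU 𝓛 z ≤ A ⊔ zpowers a ∧ A ⊔ zpowers a ≤ XX 𝓛 z ∧
      (A ⊔ zpowers a) ⊓ C[UU 𝓛 z] ≤ UU 𝓛 z ∧ ♯(A ⊔ zpowers a) = ♯A * 2 := by
  have hn : a ∈ N[A] := mem_N_of_finite fun b hb => by
    have := mul_mem (h1 (h.cmX ha (XX_le_Q (h2 hb)))) hb
    rwa [inv_mul_cancel_right] at this
  have hs := h1 (h.sqX0 ha)
  refine ⟨h1.trans le_sup_left, sup_le h2 (zpowers_le.2 ha), fun x hx => ?_, card_sup2 hn hs fun e => h4 (h3 e)⟩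
  rcases sup2 hn hs (mem_inf.1 hx).1 with e | e
  · exact absurd ((mul_mem_cancel_left (C_le_C1 hw (mem_inf.1 hx).2)).1 (h3 e)) h4
  · exact h5 (mem_inf.2 ⟨e, (mem_inf.1 hx).2⟩)

theorem XU : XX 𝓛 z ⊓ C[UU 𝓛 z] ≤ UU 𝓛 z ∧ ♯(XX 𝓛 z) = 512 := by
  obtain ⟨y, h', hy⟩ := h.ex_pt
  obtain ⟨t, ht, t1⟩ := h.ex_t h' hy
  obtain ⟨W₁, k1, n1⟩ := h.ex_line
  obtain ⟨W₃, k3, n3, n4, n5, hall⟩ := h.pairs h' ht t1 k1 n1
  obtain ⟨m₁, k1', m1⟩ := k1.ex_pt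
  obtain ⟨m₃, k3', m3⟩ := k3.ex_pt
  obtain ⟨a₀, a0, a1, a2⟩ := h.ex_a h' hy
  obtain ⟨a₁, b0, b1, b2⟩ := k1.ex_a k1' m1
  obtain ⟨a₃, c0, c1, c2⟩ := k3.ex_a k3' m3
  have tc := h.U'_le_C h' ht
  have tn := C_le_N V (h'.U_le_CV ht)
  have k2 := k1.conjC tc
  have k4 := k3.conjC tc
  have k2' := k1'.conj t
  have k4' := k3'.conj t
  have nz : ∀ m, m ≠ z → t * m * t⁻¹ ≠ z := fun m hm e => hm (by
    rw [← mem_C1_iff_conj.1 tc] at e; simpa using e)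
  have n2 : ∀ X, X ≠ V → cj t X ≠ V := fun X e e' => e ((cj_eq_iff.1 e').trans (cj_of_mem_N (inv_mem tn)))
  have n6 : ∀ X, Fl 𝓛 X z → X ≠ V → cj t X ≠ X := fun X k e e' => t1 (h.two k e tc tn (mem_N_iff_cj.2 e'))
  have n7 : cj t W₃ ≠ W₁ := fun e => n5 (by rw [← e, ← cj_mul, h'.sqU ht, cj_one])
  have n8 : cj t W₃ ≠ cj t W₁ := by simpa using n4
  have x0 := h.le_XX h' hy (mem_inf.2 ⟨a1, a0⟩)
  have x1 := k1.le_XX k1' m1 (mem_inf.2 ⟨b1, b0⟩)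
  have x3 := k3.le_XX k3' m3 (mem_inf.2 ⟨c1, c0⟩)
  have x2 := conj_mem (h.C_le_NX tc) x1
  have x4 := conj_mem (h.C_le_NX tc) x3
  have T0 := h.ta h' hy a0 a1 a2
  have T1 := k1.ta k1' m1 b0 b1 b2
  have T3 := k3.ta k3' m3 c0 c1 c2
  have T2 := T1.conj tc
  have T4 := T3.conj tc
  have q := fun x (hx : x ∈ XX 𝓛 z) => XX_le_Q hx
  have wU : ∀ W m, Fl 𝓛 W z → Fl 𝓛 W m → y * m ∈ UU 𝓛 z := fun W m k k' =>
    mul_mem (h.le_U h'.mem) (k.le_U k'.mem)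
  have wc : ∀ W m, Fl 𝓛 W z → Fl 𝓛 W m → UU 𝓛 z ≤ C{y * m} := fun W m k k' =>
    mem_C_iff_le_C1.1 (h.abU.le_C (wU W m k k'))
  have wa : ∀ W m W' a, Fl 𝓛 W z → Fl 𝓛 W m → m ≠ z → a ∈ XX 𝓛 z → TA 𝓛 z W' a → V ≠ W' → W ≠ W' →
      zpowers a ≤ C{y * m} := fun W m W' a k k' hm ha T e e' =>
    zpowers_le.2 (h.wC k h' hy k' hm (q a ha) (T.2 V h e) (T.2 W k e'))
  obtain ⟨s1, s2, s3, s4⟩ := h.step le_rfl h.U_le_XX x1 (wU _ _ k1 k1') (wc _ _ k1 k1')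
    (h.wN h' hy k1'.mem b1 (T1.2 V h n1.symm) T1.1) inf_le_left
  obtain ⟨s1, s2, s3, s5⟩ := h.step s1 s2 x2 (wU _ _ k2 k2') (sup_le (wc _ _ k2 k2')
    (wa _ _ _ _ k2 k2' (nz _ m1) x1 T1 n1.symm (n6 _ k1 n1)))
    (h.wN h' hy k2'.mem (q _ x2) (T2.2 V h (n2 _ n1).symm) T2.1) s3
  obtain ⟨s1, s2, s3, s6⟩ := h.step s1 s2 x3 (wU _ _ k3 k3') (sup_le (sup_le (wc _ _ k3 k3')
    (wa _ _ _ _ k3 k3' m3 x1 T1 n1.symm n4)) (wa _ _ _ _ k3 k3' m3 x2 T2 (n2 _ n1).symm n5))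
    (h.wN h' hy k3'.mem c1 (T3.2 V h n3.symm) T3.1) s3
  obtain ⟨s1, s2, s3, s7⟩ := h.step s1 s2 x4 (wU _ _ k4 k4') (sup_le (sup_le (sup_le (wc _ _ k4 k4')
    (wa _ _ _ _ k4 k4' (nz _ m3) x1 T1 n1.symm n7)) (wa _ _ _ _ k4 k4' (nz _ m3) x2 T2 (n2 _ n1).symm n8))
    (wa _ _ _ _ k4 k4' (nz _ m3) x3 T3 n3.symm (n6 _ k3 n3)))
    (h.wN h' hy k4'.mem (q _ x4) (T4.2 V h (n2 _ n3).symm) T4.1) s3
  rw [s6, s5, s4, h.cardU] at s7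
  set A := UU 𝓛 z ⊔ zpowers a₁ ⊔ zpowers (t * a₁ * t⁻¹) ⊔ zpowers a₃ ⊔ zpowers (t * a₃ * t⁻¹)
  have y1 : a₁ ∈ A := mem_sup_left (mem_sup_left (mem_sup_left (mem_sup_right (mem_zpowers _))))
  have y2 : t * a₁ * t⁻¹ ∈ A := mem_sup_left (mem_sup_left (mem_sup_right (mem_zpowers _)))
  have y3 : a₃ ∈ A := mem_sup_left (mem_sup_right (mem_zpowers _))
  have y4 : t * a₃ * t⁻¹ ∈ A := mem_sup_right (mem_zpowers _)
  have y0 : a₀ ∈ A := by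
    obtain ⟨v, v1, v2, v3⟩ := h.kap h' hy a0 a1 a2 ht t1 b1 (T1.2 V h n1.symm)
    obtain ⟨v', v4, v5, v6⟩ := h.kap h' hy a0 a1 a2 ht t1 c1 (T3.2 V h n3.symm)
    have g1 := h.ixQ b1 (q _ x2) (T1.2 V h n1.symm) (T2.2 V h (n2 _ n1).symm)
    have g2 := h.ixQ c1 (q _ x4) (T3.2 V h n3.symm) (T4.2 V h (n2 _ n3).symm)
    have TP1 : ∀ W a, Fl 𝓛 W z → W ≠ V → a ∈ XX 𝓛 z → TA 𝓛 z W a → TP 𝓛 z W (cj t W) (a * (t * a * t⁻¹)) :=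
      fun W a k n ha T => ⟨fun e => (T.conj tc).2 W k (n6 W k n).symm ((mul_mem_cancel_left T.1).1 e),
        fun e => T.2 _ (k.conjC tc) (n6 W k n) ((mul_mem_cancel_right (T.conj tc).1).1 e),
        fun X k' e e' => k'.ixQ (q a ha) (q _ (conj_mem (h.C_le_NX tc) ha)) (T.2 X k' e) ((T.conj tc).2 X k' e')⟩
    have P1 := TP1 _ _ k1 n1 x1 T1
    have P3 := TP1 _ _ k3 n3 x3 T3
    have y5 := mul_mem (mul_mem y1 y2) (mul_mem y3 y4)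
    generalize a₁ * (t * a₁ * t⁻¹) = g at *
    generalize a₃ * (t * a₃ * t⁻¹) = g' at *
    refine (mul_mem_cancel_right y5).1 (s1 (h.Y4 h' hy (h.TA_mul a1 (q _ (s2 y5)) T0 ⟨mul_mem g1 g2,
      fun X k n e => ?_⟩) a0 a1 a2 ?_))
    · rcases hall X k with rfl | rfl | rfl | rfl | rfl
      exacts [n rfl, P1.1 ((mul_mem_cancel_right (P3.2.2 _ k n4.symm n7.symm)).1 e),
        P1.2.1 ((mul_mem_cancel_right (P3.2.2 _ k n5.symm n8.symm)).1 e),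
        P3.1 ((mul_mem_cancel_left (P1.2.2 _ k n4 n5)).1 e),
        P3.2.1 ((mul_mem_cancel_left (P1.2.2 _ k n7 n8)).1 e)]
    · rw [show a₀ * (g * g') * a₀ * (a₀ * (g * g'))⁻¹ = a₀ * (g * (g' * a₀ * g'⁻¹) * g⁻¹) * a₀⁻¹ by group, v6,
        cjm g, v3, conj_eq_of_mem_C g1 v4, ← mul_assoc v', ← mul_assoc a₀, mul_inv_cancel_right]
      exact conj_mem (C_le_NZ z (Q_le_C z a1)) (h.mulZ v4 v1 v5 v2)
  have dn : ∀ W a, Fl 𝓛 W z → a ∉ Dv W → t * a * t⁻¹ ∉ Dv (cj t W) := fun W a k e e' => by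
    obtain ⟨m, k', hm⟩ := k.ex_pt
    rw [(k.conj t).D_eq (k'.conj t) (by simpa using hm), h.geo.U_cj, h.geo.U_cj, ← cj_inf, ← k.D_eq k' hm] at e'
    exact e (by simpa using e')
  have un : ∀ m a, a ∈ UU 𝓛 m → t * a * t⁻¹ ∈ UU 𝓛 (t * m * t⁻¹) := fun m a e =>
    h.geo.U_cj t m ▸ conj_mem_cj t e
  have e : XX 𝓛 z = A := le_antisymm (XX_le fun W m k k' hm => by
    rcases hall W k with rfl | rfl | rfl | rfl | rfl
    exacts [k.HU h' hy k' hm a0 a1 a2 s1 y0, k.HU k1' m1 k' hm b0 b1 b2 s1 y1,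
      k.HU k2' (nz _ m1) k' hm (un _ _ b0) (q _ x2) (dn _ _ k1 b2) s1 y2, k.HU k3' m3 k' hm c0 c1 c2 s1 y3,
      k.HU k4' (nz _ m3) k' hm (un _ _ c0) (q _ x4) (dn _ _ k3 c2) s1 y4]) s2
  exact e ▸ ⟨s3, s7⟩

theorem XU' (hx : x ∈ XX 𝓛 z) (h1 : x ∈ C[UU 𝓛 z]) : x ∈ UU 𝓛 z := h.XU.1 (mem_inf.2 ⟨hx, h1⟩)
theorem sqX (hq : q ∈ XX 𝓛 z) (hp : Pt 𝓛 (q * q)) : q * q = z := by
  have ta : ∀ W q, Fl 𝓛 W z → q ∈ XX 𝓛 z → TA 𝓛 z W q → q * q ∈ zpowers z := fun W q k hq e => by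
    obtain ⟨y, k', hy⟩ := k.ex_pt
    obtain ⟨a, ha, a1, a2⟩ := k.ex_a k' hy
    have h1 := h.XU' (mul_mem (k.le_XX k' hy (mem_inf.2 ⟨a1, ha⟩)) hq)
      (k.TA_mul a1 (XX_le_Q hq) (k.ta k' hy ha a1 a2) e)
    have h2 := h.cmU a1 h1
    rwa [h.invU h1, k'.invU ha, mml (k'.sqU ha), mul_assoc, mml (k'.sqU ha)] at h2
  obtain ⟨X, k0⟩ := hp
  refine (h.memZ.1 ?_).resolve_left k0.ne
  rcases h.tri (XX_le_Q hq) with e | ⟨W, k, e⟩ | ⟨W, W', k, k', n, e⟩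
  · exact h.Q0sqZ e
  · exact ta W q k hq e
  obtain ⟨y, h', hy⟩ := k.ex_pt
  obtain ⟨a, ha, a1, a2⟩ := k.ex_a h' hy
  have h2 := ta _ _ k' (mul_mem (k.le_XX h' hy (mem_inf.2 ⟨a1, ha⟩)) hq)
    (k.TP_mul k' n a1 (XX_le_Q hq) (k.ta h' hy ha a1 a2) e)
  obtain ⟨-, h3, h4⟩ := k.cmA h' hy ha a1 a2 (XX_le_Q hq) e.1
  rw [show a * q * (a * q) = a * (q * a * q⁻¹) * (q * q) by group] at h2
  obtain ⟨Y, k1, h5⟩ := h.ptU (h.sqX0 hq) ⟨X, k0⟩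
  by_cases n' : Y = W
  · exact absurd ((mul_mem_cancel_right (k.V_le_D (n' ▸ h5))).1 (k.V_le_D (k.Z_le h2))) h4
  · exact k.notQ h' hy k1 n' h5 ((mul_mem_cancel_left h3).1 (h'.V_le_Q (k.Z_le h2)))
theorem notX (k : Fl 𝓛 W p) (h1 : c ∈ C[UU 𝓛 p]) (h2 : c ∉ UU 𝓛 p) : c ∉ XX 𝓛 z := fun e => by
  have h3 := k.Q0sq h1 h2
  obtain rfl : p = z := h3.symm.trans (h.sqX e ⟨W, h3.symm ▸ k⟩)
  exact h2 (h.XU' e h1)
theorem tb (h' : Fl 𝓛 V y) (hne : y ≠ z) (k : Fl 𝓛 V m) (hm : m ≠ z) (ht : t ∈ UU 𝓛 y) (t1 : t ∉ Qz z)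
    (ht' : t' ∈ UU 𝓛 m) (t2 : t' ∉ Qz z) : t' * t ∈ XX 𝓛 z := by
  rcases h.cases h' hne k.mem with e | e | e | e
  · exact absurd e k.ne
  · exact absurd e hm
  · subst e
    exact h.le_XX k hm (mem_inf.2 ⟨h.mulU k hm ht' t2 ht t1, mul_mem ht' ht⟩)
  obtain ⟨x, hx, x1⟩ := h.ex_xX
  have xq := XX_le_Q hx
  have h1 : x * t * x⁻¹ ∈ UU 𝓛 m := by
    rw [e, ← h.mv h' hne (h.Q_le_S xq) x1, h.geo.U_cj]; exact conj_mem_cj x ht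
  have := mul_mem (h.le_XX k hm (mem_inf.2 ⟨h.mulU k hm ht' t2 h1 fun e =>
    t1 ((conj_mem_iff (norm_self _ xq)).1 e), mul_mem ht' h1⟩))
    (mul_mem hx (conj_mem' (h.C_le_NX (h.U'_le_C h' ht)) (inv_mem hx)))
  convert this using 1
  group
theorem XQX (h' : Fl 𝓛 V y) (hne : y ≠ z) (hx : x ∈ XX 𝓛 z) (x1 : x ∈ Qz y) : x ∈ XX 𝓛 y := by
  obtain ⟨t, ht, t1⟩ := h.ex_t h' hne
  obtain ⟨W, k, n1⟩ := h.ex_line
  obtain ⟨W', k', n2, n3, n4, hall⟩ := h.pairs h' ht t1 k n1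
  have tc := h.U'_le_C h' ht
  have key : ∀ x ∈ XX 𝓛 z, x ∈ Qz y → x ∈ C[W] → x ∈ C[W'] → x ∈ XX 𝓛 y := fun x hx x1 e1 e2 => by
    have xq := XX_le_Q hx
    have c : ∀ X, Fl 𝓛 X z → x ∈ C[X] → x ∈ C[cj t X] := fun X k e => by
      have h1 := mul_mem ((k.conjC tc).U_le_CV (h.le_U (h'.Z_le (h'.cmU x1 ht))))
        (show t * x * t⁻¹ ∈ C[cj t X] from cj_C t X ▸ conj_mem_cj t e)
      convert h1 using 1
      group
    refine h'.le_XX h hne.symm (mem_inf.2 ⟨x1, h.XU' hx (h.mem_CU fun X k2 => ?_)⟩)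
    rcases hall X k2 with rfl | rfl | rfl | rfl | rfl
    exacts [h.cent h' hne (Q_le_C z xq) (Q_le_C y x1), e1, c _ k e1, e2, c _ k' e2]
  obtain ⟨a, ha, a1, a2⟩ := h.ex_a h' hne
  have a3 := h.le_XX h' hne (mem_inf.2 ⟨a1, ha⟩)
  have a4 := h.ta h' hne ha a1 a2
  obtain ⟨b, hb, b1⟩ := h'.ex_t h hne.symm
  obtain ⟨c, hc, c1⟩ := k.ex_taX
  have cq := XX_le_Q hc
  have c2 := c1.conj tc
  have c3 := conj_mem (h.C_le_NX tc) hc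
  have k3 := h.third h' hne
  have c4 : c⁻¹ * t * c ∈ UU 𝓛 (z * y) := by
    rw [← h.mv h' hne (h.Q_le_S (inv_mem cq)) (by simpa using c1.2 V h n1.symm), h.geo.U_cj]
    simpa using conj_mem_cj c⁻¹ ht
  have c5 : c⁻¹ * t * c ∉ Qz y := fun e => t1 ((conj_mem_iff' (norm_self _ cq)).1
    (k3.HH h' h.third_ne'.symm h (h.third_ne h').symm c4 e))
  have g1 : b * (c⁻¹ * t * c) * t⁻¹ ∈ XX 𝓛 y :=
    mul_mem (h'.tb k3 h.third_ne' h hne.symm c4 c5 hb b1) (inv_mem (h'.U_le_XX ht))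
  rw [show b * (c⁻¹ * t * c) * t⁻¹ = b * (c⁻¹ * (t * c * t⁻¹)) by group] at g1
  have g2 := mul_mem (h.U_le_XX hb) (mul_mem (inv_mem hc) c3)
  have g3 : b * (c⁻¹ * (t * c * t⁻¹)) ∉ C[W] := fun e => c2.2 W k
    (fun e => t1 (h.two k n1 tc (C_le_N V (h'.U_le_CV ht)) (mem_N_iff_cj.2 e.symm)))
    ((mul_mem_cancel_left (inv_mem c1.1)).1 ((mul_mem_cancel_left (k.U_le_CV hb)).1 e))
  have g4 : b * (c⁻¹ * (t * c * t⁻¹)) ∈ C[W'] := mul_mem (k'.U_le_CV hb)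
    (k'.ixQ (inv_mem cq) (XX_le_Q c3) (by simpa using c1.2 W' k' n3) (c2.2 W' k' n4))
  generalize b * (c⁻¹ * (t * c * t⁻¹)) = g at *
  have key2 : ∀ x ∈ XX 𝓛 z, x ∈ Qz y → x ∈ C[W'] → x ∈ XX 𝓛 y := fun x hx x1 e2 => by
    by_cases e1 : x ∈ C[W]
    · exact key x hx x1 e1 e2
    · exact (mul_mem_cancel_right g1).1 (key _ (mul_mem hx g2) (mul_mem x1 (XX_le_Q g1))
        (k.ixQ (XX_le_Q hx) (XX_le_Q g2) e1 g3) (mul_mem e2 g4))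
  by_cases e2 : x ∈ C[W']
  · exact key2 x hx x1 e2
  · exact (mul_mem_cancel_right (h'.U_le_XX ha)).1 (key2 _ (mul_mem hx a3) (mul_mem x1 (h'.U_le_Q ha))
      (k'.ixQ (XX_le_Q hx) a1 e2 (a4.2 W' k' n2)))
theorem ex_s (h' : Fl 𝓛 V y) (hne : y ≠ z) : ∃ s ∈ XX 𝓛 y, s ∈ C[V] ∧ s * s ∉ Qz z := by
  obtain ⟨r, hr, hr'⟩ := h.ex_r
  obtain ⟨q, hq, q1, q2⟩ := h'.ex_q hr hr'
  obtain ⟨x, hx, x1⟩ := h'.QX hq
  obtain ⟨t, ht, t1⟩ := h.ex_t h' hne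
  have x2 : x⁻¹ ∈ C[V] := inv_mem ((mul_mem_cancel_right q1).1 (h'.CU_le_CV x1))
  have key : ∀ c ∈ C{r}, x⁻¹ * c ∉ Qz z := fun c hc e => h.notZ h' hne (by
    have h1 := h.cmU e (h.D_le_U hr)
    rwa [show x⁻¹ * c * r * (x⁻¹ * c)⁻¹ = q * ((x * q)⁻¹ * (c * r * c⁻¹) * (x * q)⁻¹⁻¹) * q⁻¹ by group,
      mem_C1_iff_conj.1 hc, conj_eq_of_mem_C (inv_mem x1) (h'.D_le_U hr), q2, mul_inv_cancel_right] at h1)
  exact ⟨x⁻¹, inv_mem hx, x2, fun e => key t (mem_C1.2 (h'.abU.comm ht (h'.D_le_U hr)))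
    (h.inv3 (h.CV_le_S x2) e (by simpa using key 1 (one_mem _)) (h.U'_le_S h' ht) (h'.sqU ht ▸ one_mem _) t1)⟩
theorem ptQ (hp : Pt 𝓛 p) (h1 : p ∈ Qz z) : ∃ W, Fl 𝓛 W z ∧ p ∈ W := by
  obtain ⟨X, k0⟩ := hp
  obtain ⟨W, m, k, k', e⟩ := h.invC (Q_le_C z h1) k0.sq
  obtain ⟨Y, k1, e'⟩ := k'.ptU e ⟨X, k0⟩
  by_cases n1 : z = m
  · exact ⟨Y, n1 ▸ k1, e'⟩
  by_cases n2 : Y = W
  · exact ⟨W, k, n2 ▸ e'⟩
  · exact ⟨W, k, k'.Z_le (k'.notQ k n1 k1 n2 e' h1)⟩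
theorem invS (hj : j ∈ C{z} ⊓ N[V]) (j2 : j * j = 1) (j1 : j ∉ Qz z) :
    ∃ m, Fl 𝓛 V m ∧ m ≠ z ∧ j ∈ UU 𝓛 m := by
  obtain ⟨W, m, k, k', e⟩ := h.invC (mem_inf.1 hj).1 j2
  obtain rfl : W = V := by_contra fun n =>
    j1 (h.two k n (mem_inf.1 hj).1 (mem_inf.1 hj).2 (C_le_N W (k'.U_le_CV e)))
  exact ⟨m, k', fun e' => j1 (h.U_le_Q (e' ▸ e)), e⟩
/-- `U` is self-centralising -/
theorem CU [IsSimpleGroup G] : C[UU 𝓛 z] ≤ UU 𝓛 z := by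
  intro c hc
  by_contra c1
  obtain ⟨y, h', hy⟩ := h.ex_pt
  obtain ⟨s, s1, s2, s3⟩ := h.ex_s h' hy
  have s4 := h'.sqX0 s1
  have s5 := h'.sqU s4
  have sn := h.C_le_NX (h.CV_le s2)
  have s6 : s ∈ N[XX 𝓛 z ⊔ zpowers (s * s)] := norm_sup (zpowers_le.2 sn)
    (zpowers_le.2 (C_le_NZ _ (mem_C1.2 (mul_assoc s s s).symm))) (mem_zpowers s)
  have d1 := fun x => sup2 (x := x) (mul_mem sn sn) (s5 ▸ one_mem _)
  have d2 := fun x => sup2 (x := x) s6 (mem_sup_right (mem_zpowers _))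
  have nq : ∀ g ∈ Qz z, g * s ∉ XX 𝓛 z ⊔ zpowers (s * s) := fun g hg e => by
    rcases d1 _ e with e | e
    · rw [mul_assoc] at e
      have h1 := (mul_mem_cancel_left hg).1 (XX_le_Q e)
      have h2 := mul_mem h1 h1
      rw [show s * (s * s) * (s * (s * s)) = s * s * (s * s * (s * s)) by group, s5, mul_one] at h2
      exact s3 h2
    · have h1 := (mul_mem_cancel_left hg).1 (XX_le_Q e)
      exact s3 (mul_mem h1 h1)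
  have k1 := card_sup2 (mul_mem sn sn) (s5 ▸ one_mem _) fun e => s3 (XX_le_Q e)
  have k2 := card_sup2 s6 (mem_sup_right (mem_zpowers _)) (by simpa using nq 1 (one_mem _))
  have xK : XX 𝓛 z ≤ XX 𝓛 z ⊔ zpowers (s * s) ⊔ zpowers s := le_sup_left.trans le_sup_left
  have sK : s ∈ XX 𝓛 z ⊔ zpowers (s * s) ⊔ zpowers s := mem_sup_right (mem_zpowers s)
  have KS : XX 𝓛 z ⊔ zpowers (s * s) ⊔ zpowers s ≤ C{z} ⊓ N[V] := sup_le (sup_le (XX_le_Q.trans h.Q_le_S)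
    (zpowers_le.2 (h.CV_le_S (mul_mem s2 s2)))) (zpowers_le.2 (h.CV_le_S s2))
  set K := XX 𝓛 z ⊔ zpowers (s * s) ⊔ zpowers s
  have KQ : ∀ g ∈ K, g ∈ Qz z → g ∈ XX 𝓛 z := fun g hg e =>
    (d1 g ((d2 g hg).resolve_left (nq g e))).resolve_left fun e' => s3 ((mul_mem_cancel_left e).1 (XX_le_Q e'))
  have KQ' : ∀ g ∈ K, g ∈ Qz y → g ∈ XX 𝓛 y := fun g hg e => by
    have d3 : ∀ g ∈ XX 𝓛 z ⊔ zpowers (s * s), g ∈ Qz y → g ∈ XX 𝓛 y := fun g hg e => (d1 g hg).elim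
      (fun e' => (mul_mem_cancel_right (mul_mem s1 s1)).1 (h.XQX h' hy e' (mul_mem e (h'.U_le_Q s4))))
      fun e' => h.XQX h' hy e' e
    exact (d2 g hg).elim (fun e' => (mul_mem_cancel_right s1).1 (d3 _ e' (mul_mem e (XX_le_Q s1))))
      fun e' => d3 g e' e
  have KQ'' : ∀ m, Fl 𝓛 V m → m ≠ z → ∀ g ∈ K, g ∈ Qz m → g ∈ XX 𝓛 m := fun m k hm g hg e => by
    rcases h.cases h' hy k.mem with e' | e' | e' | e'
    · exact absurd e' k.ne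
    · exact absurd e' hm
    · subst e'
      exact KQ' g hg e
    obtain ⟨x, hx, x1⟩ := h.ex_xX
    rw [e', ← h.mv h' hy (h.Q_le_S (XX_le_Q hx)) x1] at e ⊢
    rw [CA.Qz_conj, mem_cj] at e
    rw [h.geo.XX_cj, mem_cj]
    exact KQ' _ (mul_mem (mul_mem (inv_mem (xK hx)) hg) (xK hx)) e
  have UK : ∀ m, Fl 𝓛 V m → m ≠ z → UU 𝓛 m ≤ K := fun m k hm u hu => by
    by_cases e : u ∈ Qz z
    · exact xK (h.le_XX k hm (mem_inf.2 ⟨e, hu⟩))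
    · exact (mul_mem_cancel_right (mul_mem sK sK)).1 (xK (h.tb h' hy k hm s4 s3 hu e))
  have IK : ∀ j ∈ C{z} ⊓ N[V], j * j = 1 → j ∈ K := fun j hj j2 => by
    by_cases j1 : j ∈ Qz z
    · obtain ⟨W, m, k, k', e⟩ := h.invC (mem_inf.1 hj).1 j2
      by_cases n : m = z
      · exact xK (h.U_le_XX (n ▸ e))
      · exact xK (k.le_XX k' n (mem_inf.2 ⟨j1, e⟩))
    · obtain ⟨m, k, hm, e⟩ := h.invS hj j2 j1
      exact UK m k hm e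
  have NK : ∀ W p c, Fl 𝓛 W p → c ∈ C[UU 𝓛 p] → c ∉ UU 𝓛 p → c ∉ K := fun W p c k c1 c2 e => by
    by_cases q1 : c ∈ Qz z
    · exact h.notX k c1 c2 (KQ c e q1)
    have cS := KS e
    have c3 := k.Q0sq c1 c2
    by_cases q2 : p ∈ Qz z
    · obtain ⟨X, k1, e1⟩ := h.ptQ ⟨W, k⟩ q2
      have k2 := k1.pt e1 k.ne
      obtain rfl : X = V := by_contra fun n =>
        q1 (h.two k1 n (mem_inf.1 cS).1 (mem_inf.1 cS).2 (C_le_N X (k2.CU_le_CV c1)))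
      have n : p ≠ z := fun n => q1 (h.CU_le_Q (n ▸ c1))
      obtain ⟨t, ht, t1⟩ := h.ex_t k2 n
      exact h.notX k (mul_mem c1 (k.abU.le_C ht)) (fun e' => c2 ((mul_mem_cancel_right ht).1 e'))
        (KQ _ (mul_mem e (UK p k2 n ht)) (h.inv3 cS (c3 ▸ q2) q1 (h.U'_le_S k2 ht) (k.sqU ht ▸ one_mem _) t1))
    obtain ⟨m, k1, hm, e1⟩ := h.invS (c3 ▸ mul_mem cS cS) k.sq q2
    obtain ⟨X, k2, e2⟩ := k1.ptU e1 ⟨W, k⟩
    have c4 := (k2.pt e2 k.ne).CU_le_CV c1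
    exact k1.notX k c1 c2 (KQ'' m k1 hm c e (k1.two k2 (fun n => q2 (h.V_le_Q (n ▸ e2))) (k2.CV_le c4)
      (mem_inf.1 cS).2 (C_le_N X c4)))
  have i1 : (XX 𝓛 z).relIndex (Qz z) = 2 := relIndex_eq_two_iff_exists_notMem_and.2
    ⟨c, h.CU_le_Q hc, h.notX h hc c1, fun q hq => by
      obtain ⟨x, hx, x1⟩ := h.QX hq
      by_cases e : x * q ∈ UU 𝓛 z
      · exact Or.inr ((mul_mem_cancel_left hx).1 (h.U_le_XX e))
      · exact Or.inl ((mul_mem_cancel_left hx).1 (mul_assoc x q c ▸ h.U_le_XX (h.Q0mul x1 e hc c1)))⟩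
  have i2 := card_mul_relIndex (XX_le_Q (𝓛 := 𝓛) (z := z))
  have i3 := card_mul_relIndex h.Q_le_S
  have i4 := card_mul_relIndex KS
  rw [k2, k1, ← i3, ← i2, i1, h.idx4, h.XU.2] at i4
  refine transfer2 h.ca.syl (K := K) (by omega) (((inferInstance : (commutator G).Normal).eq_bot_or_eq_top).resolve_left
    fun e => ?_) (h.Q_le_S (h.CU_le_Q hc)) (NK V z c h hc c1) fun n g hg => ?_
  · obtain ⟨x, -, x1⟩ := h.ex_x
    exact x1 (mem_C.2 fun v _ => commutatorElement_eq_one_iff_mul_comm.1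
      (mem_bot.1 (e ▸ commutator_mem_commutator (mem_top v) (mem_top x))))
  have c2 := pow_mem hc n
  by_cases e : c ^ n ∈ UU 𝓛 z
  · exact iff_of_true (IK _ hg (by
      rw [show g⁻¹ * c ^ n * g * (g⁻¹ * c ^ n * g) = g⁻¹ * (c ^ n * c ^ n) * g by group, h.sqU e]; simp))
      (xK (h.U_le_XX e))
  · refine iff_of_false (NK _ _ _ (h.conj g⁻¹) ?_ ?_) (NK V z _ h c2 e) <;> rw [h.geo.U_cj]
    · rw [← cj_C]
      simpa using conj_mem_cj g⁻¹ c2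
    · simpa [mem_cj, mul_assoc] using e
theorem Q_eq [IsSimpleGroup G] : Qz z = XX 𝓛 z := le_antisymm (fun q hq => by
  obtain ⟨x, hx, x1⟩ := h.QX hq
  exact (mul_mem_cancel_left hx).1 (h.U_le_XX (h.CU x1))) XX_le_Q
theorem cardQ [IsSimpleGroup G] : ♯(Qz z) = 512 := h.Q_eq ▸ h.XU.2

end Fl

end H13.NT
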