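import Mathlib
import Cfsg.Agent.H13.NT4

/-!
# The configuration of the Tits group: the octagon and the order of the group
-/

set_option autoImplicit false
set_option linter.unusedSectionVars false
set_option linter.unusedVariables false

namespace H13.NT

open Subgroup Cfsg H24 H11.ZN H12.NG H26
open H3.NG hiding ea_sq ea_of_sq ea_le

universe u

variable {G : Type u} [Group G]

/-- non-backtracking walks starting at the point `z` -/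
inductive Wk (𝓛 : Set (Subgroup G)) (z : G) : ℕ → G → Subgroup G → Prop
  | zero {W : Subgroup G} : Fl 𝓛 W z → Wk 𝓛 z 0 z W
  | succ {k : ℕ} {p q : G} {W X : Subgroup G} : Wk 𝓛 z k p W → Fl 𝓛 W q → q ≠ p → Fl 𝓛 X q → X ≠ W →
      Wk 𝓛 z (k + 1) q X

open Classical in
/-- the invariant of a pair of points -/
noncomputable def dd (𝓛 : Set (Subgroup G)) (x : G) : ℕ :=
  if x = 1 then 0 else if Pt 𝓛 x then 1 else if x * x = 1 then 2 else if x ^ 4 = 1 then 3 else 4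

theorem dbl {α β : Type*} [Finite α] [Finite β] (s : Set α) (t : Set β) (r : α → β → Prop) {m n : ℕ}
    (h1 : ∀ a ∈ s, {b | b ∈ t ∧ r a b}.ncard = m) (h2 : ∀ b ∈ t, {a | a ∈ s ∧ r a b}.ncard = n) :
    s.ncard * m = t.ncard * n := by
  classical
  rw [Set.ncard_eq_toFinset_card s, Set.ncard_eq_toFinset_card t]
  refine Finset.card_mul_eq_card_mul r (fun a ha => ?_) fun b hb => ?_
  · rw [← h1 a (by simpa using ha), ← Set.ncard_coe_finset]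
    congr 1
    ext
    simp
  · rw [← h2 b (by simpa using hb), ← Set.ncard_coe_finset]
    congr 1
    ext
    simp

variable [Finite G] {𝓛 : Set (Subgroup G)} {S V W W' X Y A B K : Subgroup G} {k k' i n : ℕ}
  {z y y' g g' c c' f w q p p' t t' u u' s a a' a'' b x e r m m' j v : G}

namespace Fl

variable (h : Fl 𝓛 V z)
include h

theorem D_cj (g : G) : Dv (cj g V) = cj g (Dv V) := by
  obtain ⟨y, h', hy⟩ := h.ex_pt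
  rw [(h.conj g).D_eq (h'.conj g) (by simpa using hy), h.geo.U_cj, h.geo.U_cj, ← cj_inf, ← h.D_eq h' hy]
theorem fixpt (hq : q ∈ N[V]) (q2 : q * q = 1) : ∃ y, Fl 𝓛 V y ∧ q ∈ C{y} := by
  by_cases e : q * z * q⁻¹ = z
  · exact ⟨z, h, mem_C1_iff_conj.2 e⟩
  refine ⟨_, h.third (h.conjN hq) e, mem_C1_iff_conj.2 ?_⟩
  rw [cjm, ea_comm h.ea h.mem (h.conjN hq).mem, mul_right_inj,
    show q * (q * z * q⁻¹) * q⁻¹ = q * q * z * (q * q)⁻¹ by group, q2]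
  simp
theorem P1 (hp : Pt 𝓛 q) (hq : q ∈ N[V]) : ∃ y W, Fl 𝓛 V y ∧ Fl 𝓛 W y ∧ q ∈ W := by
  obtain ⟨X, k0⟩ := hp
  obtain ⟨y, h', hy⟩ := h.fixpt hq k0.sq
  by_cases e : q ∈ Qz y
  · obtain ⟨W, k, e'⟩ := h'.ptQ ⟨X, k0⟩ e
    exact ⟨y, W, h', k, e'⟩
  obtain ⟨m, k, -, e'⟩ := h'.invS (mem_inf.2 ⟨hy, hq⟩) k0.sq e
  obtain ⟨W, k', e''⟩ := k.ptU e' ⟨X, k0⟩
  exact ⟨m, W, k, k', e''⟩
theorem U_le_Cr (hr : r ∈ Dv V) : UU 𝓛 z ≤ C{r} := mem_C_iff_le_C1.1 (h.abU.le_C (h.D_le_U hr))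
theorem ptD (hp : Pt 𝓛 p) (h1 : p ∈ Dv V) : p ∈ V := by_contra fun e => h.nonpt h1 e hp
theorem P_le [IsSimpleGroup G] (hr : r ∈ Dv V) (hr' : r ∉ V) : Q2 C{r} ≤ C{z} := by
  obtain ⟨g, -, hg⟩ := Sylow_subJ Nat.prime_two h.ca.syl (Q := Q2 C{r} ⊔ (C{z} ⊓ N[V] ⊓ C{r}))
    ((pcore_pi _ _).sup (h.ca.syl.pi.of_le inf_le_left) (inf_le_right.trans (Q2_nml _).norm)) le_top
  have h1 := hg.trans (cj_mono g inf_le_left)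
  rw [cj_C1] at h1
  have k := h.conj g
  generalize g * z * g⁻¹ = p at h1 k
  have h2 := le_sup_right.trans h1
  have h3 : ∀ y, Fl 𝓛 V y → p ∈ UU 𝓛 y := fun y h' =>
    h'.CU (mem_C_iff_le_C1.2 ((le_inf (h.U'_le_S h') (h'.U_le_Cr hr)).trans h2))
  obtain ⟨y, h', hy⟩ := h.ex_pt
  obtain ⟨x, x1, x2, x3⟩ := h.ex_xr hr hr'
  obtain rfl : p = z := by_contra fun e => x2 (h.cent (h.pt (h.ptD ⟨_, k⟩ (h.memD h' hy (h3 z h) (h3 y h')))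
    k.ne) e (Q_le_C z x1) (h2 (mem_inf.2 ⟨h.Q_le_S x1, x3⟩)))
  exact le_sup_left.trans h1
theorem P_le' [IsSimpleGroup G] (hr : r ∈ Dv V) (hr' : r ∉ V) : Q2 C{r} ≤ C[V] := fun g hg => by
  obtain ⟨y, h', hy⟩ := h.ex_pt
  exact h.cent h' hy (h.P_le hr hr' hg) (h'.P_le hr hr' hg)
theorem le_P [IsSimpleGroup G] (hr : r ∈ Dv V) (hr' : r ∉ V) : V ≤ Q2 C{r} :=
  (le_inf (h.le_U.trans (h.U_le_Cr hr)) (cents_symm (h.P_le' hr hr'))).trans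
    (h.ca.l2.cent (h.sqU (h.D_le_U hr)) fun e => hr' (e ▸ one_mem _)).2
theorem ZP [IsSimpleGroup G] (hr : r ∈ Dv V) (hr' : r ∉ V) (hp : Pt 𝓛 p) (h1 : p ∈ Q2 C{r})
    (h2 : p ∈ C[Q2 C{r}]) : p ∈ V := by
  by_contra h3
  obtain ⟨y, W, h', k, e⟩ := h.P1 hp (C_le_N V (h.P_le' hr hr' h1))
  have hW : W ≠ V := fun e' => h3 (e' ▸ e)
  obtain ⟨y', h'', hy⟩ := h'.ex_pt
  obtain ⟨x, x1, x2, x3⟩ := h''.ex_xr hr hr'
  have xn := h''.Q_le_N x1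
  have h4 := (Q2_nml _).conj_mem x3 h1
  have h5 := h.P_le' hr hr' h4
  obtain ⟨k1, n1⟩ := k.pt_of e fun e' => h3 (h'.Z_le e')
  have k2 := k.conj x
  have k3 := h'.conjN xn
  refine h3 ((conj_mem_iff xn).1 (k3.Z_le (k3.notQ h' ?_ k2 (fun e' => hW ?_) (conj_mem_cj x e)
    (h'.two k hW (h'.CV_le h5) (C_le_N V h5) (C_le_N W (k.cent k1 n1 (h'.CV_le h5)
      (mem_C1.2 (mem_C.1 h2 _ h4))))))))
  · rw [h''.mv h' hy.symm (h''.Q_le_S x1) x2]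
    exact h''.third_ne'.symm
  · exact (cj_eq_iff.1 e').trans (cj_of_mem_N (inv_mem xn))
theorem rU [IsSimpleGroup G] (hr : r ∈ Dv V) (hr' : r ∉ V) (k : Fl 𝓛 W p) (h1 : r ∈ Dv W) (h2 : r ∉ W) :
    W = V := by
  obtain ⟨q, k', hq⟩ := k.ex_pt
  have key : ∀ p, Fl 𝓛 W p → p ∈ V := fun p k => h.ZP hr hr' ⟨W, k⟩ (k.le_P h1 h2 k.mem)
    (cents_symm (k.P_le' h1 h2) k.mem)
  exact k.eq_of k' hq (h.pt (key p k) k.ne) (key q k')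
theorem CR [IsSimpleGroup G] (hr : r ∈ Dv V) (hr' : r ∉ V) : C{r} ≤ N[V] := fun g hg =>
  mem_N_iff_cj.2 (h.rU hr hr' (h.conj g) (by
    rw [h.D_cj, ← mem_C1_iff_conj.1 hg]; exact conj_mem_cj g hr) (by
    rw [← mem_C1_iff_conj.1 hg]; simpa using hr'))

theorem dd1 (h' : Fl 𝓛 V y) (hne : y ≠ z) : dd 𝓛 (z * y) = 1 := by
  rw [dd, if_neg (h.third h' hne).ne, if_pos ⟨V, h.third h' hne⟩]
theorem dd2 (k : Fl 𝓛 W z) (hW : W ≠ V) (h1 : Fl 𝓛 V p) (n1 : z ≠ p) (h2 : Fl 𝓛 W q) (n2 : q ≠ z) :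
    dd 𝓛 (p * q) = 2 := by
  have := h.pr_npt ⟨V, W, p, q, h, k, hW, h1.mem, h2.mem, h.notZ h1 n1.symm, k.notZ h2 n2, rfl⟩
  rw [dd, if_neg this.2, if_neg this.1, if_pos (h.sqU (mul_mem (h.le_U h1.mem) (k.le_U h2.mem)))]
theorem dd3 (h' : Fl 𝓛 V y) (hne : y ≠ z) (k : Fl 𝓛 W z) (hW : V ≠ W) (h1 : Fl 𝓛 W p) (n1 : z ≠ p)
    (k' : Fl 𝓛 X y) (hX : X ≠ V) (h2 : Fl 𝓛 X q) (n2 : q ≠ y) : dd 𝓛 (p * q) = 3 := by
  have p1 := k.le_U h1.mem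
  have q1 := k'.le_U h2.mem
  have p2 : p ∉ Qz y := fun e => k.notZ h1 n1.symm (h.notQ h' hne k hW.symm h1.mem e)
  have q2 : q ∉ Qz z := fun e => k'.notZ h2 n2 (h'.notQ h hne.symm k' hX h2.mem e)
  have e1 : p * q * (p * q) = p * q * p⁻¹ * q⁻¹ := by rw [h1.inv, h2.inv, mul_assoc (p * q)]
  have e2 : p * q * (p * q) ≠ 1 := fun e => p2 (h'.U_le_Q (h'.D_le_U (h.theta h' q1 q2 p1
    (cm_symm (by rw [← e1, e]; exact one_mem _)))))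
  have e3 : p * q * (p * q) ∈ UU 𝓛 y := e1 ▸ mul_mem (conj_mem (h'.C_le_NU (h'.U'_le_C h p1)) q1) (inv_mem q1)
  rw [dd, if_neg fun e => e2 (by rw [e, one_mul]), if_neg fun ⟨_, e⟩ => e2 e.sq, if_neg e2,
    if_pos (by rw [← h'.sqU e3, show 4 = 2 + 2 from rfl, pow_add, pow_two])]
theorem dd4 (h' : Fl 𝓛 V y) (k : Fl 𝓛 W z) (k' : Fl 𝓛 W p) (hW : W ≠ V) (ht : t ∈ UU 𝓛 y)
    (h1 : t ∉ Qz z) (ht' : t' ∈ UU 𝓛 p) (h2 : t' ∉ Qz z) : dd 𝓛 (t * t') = 4 := by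
  obtain ⟨h3, h4⟩ := h.tt h' k k' hW ht h1 ht' h2
  have e : (t * t') ^ 4 ≠ 1 := fun e => absurd (h.powF h3 h4 (e ▸ one_mem _)) (by decide)
  have e' : t * t' * (t * t') ≠ 1 := fun e' => e (by rw [show 4 = 2 * 2 from rfl, pow_mul, pow_two (t * t'), e', one_pow])
  rw [dd, if_neg fun e => e' (by rw [e, one_mul]), if_neg fun ⟨_, e⟩ => e' e.sq, if_neg e', if_neg e]
theorem nq (h' : Fl 𝓛 V y) (hne : y ≠ z) (k : Fl 𝓛 W z) (hW : W ≠ V) (k' : Fl 𝓛 W p) (hp : p ≠ z) :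
    p ∉ Qz y := fun e => k.notZ k' hp (h.notQ h' hne k hW k'.mem e)

end Fl

theorem Wk.fl (h : Wk 𝓛 z k p W) : Fl 𝓛 W p := by
  cases h <;> assumption

theorem Wk.dd_eq (h : Wk 𝓛 z k p W) (hk : k ≤ 4) : dd 𝓛 (z * p) = k := by
  rcases h with h | ⟨h, a1, a2, a3, a4⟩
  · rw [h.sq, dd, if_pos rfl]
  rcases h with h | ⟨h, b1, b2, b3, b4⟩
  · exact h.dd1 a1 a2
  rcases h with h | ⟨h, c1, c2, c3, c4⟩
  · exact b1.dd2 b3 b4 h b2 a1 a2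
  rcases h with h | ⟨h, d1, d2, d3, d4⟩
  · exact c3.dd3 b1 b2 c1 c4 h c2 b3 b4 a1 a2
  rcases h with h | ⟨h, -, -, -, -⟩
  · exact c1.dd4 d3 c3 b1 c4 (d1.le_U h.mem) (d3.nq c1 c2 d1 d4.symm h d2.symm) (b3.le_U a1.mem)
      (b1.nq c3 b2.symm b3 b4 a1 a2)
  · omega

theorem Wk.k_eq (h : Wk 𝓛 z k p W) (h' : Wk 𝓛 z k' p X) (hk : k ≤ 4) (hk' : k' ≤ 4) : k = k' :=
  (h.dd_eq hk).symm.trans (h'.dd_eq hk')

theorem Wk.next (h : Wk 𝓛 z k p W) (h' : Fl 𝓛 W q) (hq : q ≠ p) : ∃ X, Wk 𝓛 z (k + 1) q X := by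
  obtain ⟨X, h1, h2⟩ := h'.ex_line
  exact ⟨X, h.succ h' hq h1 h2⟩

theorem Wk.uniq (h : Wk 𝓛 z k p W) (h' : Wk 𝓛 z k' q W) (hk : k ≤ 3) (hk' : k' ≤ 3) : p = q ∧ k = k' := by
  by_cases e : p = q
  · subst e
    exact ⟨rfl, h.k_eq h' (by omega) (by omega)⟩
  obtain ⟨X, h1⟩ := h.next h'.fl (Ne.symm e)
  obtain ⟨Y, h2⟩ := h'.next h.fl e
  have := h1.k_eq h' (by omega) (by omega)
  have := h2.k_eq h (by omega) (by omega)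
  omega

/-- the line joining a point to its predecessor is unique -/
theorem Wk.pred (h : Wk 𝓛 z k p W) (h' : Wk 𝓛 z k p' W') (hk : k ≤ 2) (h1 : Fl 𝓛 W q) (h2 : q ≠ p)
    (h3 : Fl 𝓛 W' q) : W = W' ∧ p = p' := by
  obtain rfl : W = W' := by_contra fun e => by
    have := ((h.succ h1 h2 h3 (Ne.symm e)).uniq h' (by omega) (by omega)).2
    omega
  exact ⟨rfl, (h.uniq h' (by omega) (by omega)).1⟩

/-- points and lines close to `z` -/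
def NP (𝓛 : Set (Subgroup G)) (z : G) (k : ℕ) (p : G) : Prop := ∃ i ≤ k, ∃ W, Wk 𝓛 z i p W

/-- lines close to `z` -/
def NL (𝓛 : Set (Subgroup G)) (z : G) (k : ℕ) (W : Subgroup G) : Prop := ∃ i ≤ k, ∃ p, Wk 𝓛 z i p W

theorem NL.np (h : NL 𝓛 z k W) (h' : Fl 𝓛 W p) : NP 𝓛 z (k + 1) p := by
  obtain ⟨i, hi, q, h⟩ := h
  by_cases e : p = q
  · exact ⟨i, by omega, W, e ▸ h⟩
  · exact ⟨i + 1, by omega, h.next h' e⟩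

theorem NP.nl (h : NP 𝓛 z k p) (h' : Fl 𝓛 W p) : NL 𝓛 z k W := by
  obtain ⟨i, hi, X, h⟩ := h
  rcases h with h | @⟨i, q, _, Y, _, h, a1, a2, a3, a4⟩
  · exact ⟨0, hi, z, .zero h'⟩
  by_cases e : W = Y
  · exact ⟨i, by omega, q, e ▸ h⟩
  · exact ⟨i + 1, hi, p, h.succ a1 a2 h' e⟩

theorem Fl.nl3 [IsSimpleGroup G] (h : Fl 𝓛 V z) (k : Fl 𝓛 W p) : NL 𝓛 z 3 W := by
  obtain ⟨r, hr, hr'⟩ := k.ex_r
  have r2 := k.sqU (k.D_le_U hr)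
  have rn := k.nonpt hr hr'
  obtain ⟨j1, j2, j3⟩ := H6.central_involution h.sq r2 (Nat.not_odd_iff_even.1 fun e => by
    obtain ⟨g, hg⟩ := isConj_iff.1 (H6.isConj_of_odd h.sq r2 e)
    exact rn (hg ▸ Pt.conj ⟨V, h⟩ g))
  generalize (z * r) ^ (orderOf (z * r) / 2) = j at *
  obtain ⟨j0, j1⟩ := H6.orderOf_eq_two_iff.1 j1
  obtain ⟨X, m, k1, k2, e⟩ := h.invC (mem_C1.2 j2) j0
  have n1 := NL.np ⟨0, le_rfl, z, .zero k1⟩ k2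
  rcases k2.clsU e with ⟨Y, k3, e'⟩ | e'
  · obtain ⟨y, W', k4, k5, e''⟩ := k.P1 ⟨Y, k3.pt e' j1⟩ (k.CR hr hr' (mem_C1.2 j3))
    exact ((((n1.nl k3).np (k3.pt e' j1)).nl (k5.pt e'' j1)).np k5).nl k4
  obtain ⟨Y, k3, d1, d2⟩ := k2.pr_D e'
  obtain ⟨y, k4, hy⟩ := k3.fixpt (k3.CR d1 d2 (mem_C1.2 j3.symm)) r2
  obtain ⟨W', m', k5, k6, e''⟩ := k4.invC hy r2
  obtain ⟨Y', k7, d3, d4⟩ := k6.pr_D ((k6.clsU e'').resolve_left fun ⟨Y', k7, d⟩ =>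
    rn ⟨Y', k7.pt d fun e => hr' (e ▸ one_mem _)⟩)
  exact k.rU hr hr' k7 d3 d4 ▸ ((((n1.nl k3).np k4).nl k5).np k6).nl k7

theorem Fl.ncard_pts (h : Fl 𝓛 V z) : {p | Fl 𝓛 V p}.ncard = 3 := by
  obtain ⟨y, h', hy⟩ := h.ex_pt
  refine Set.ncard_eq_three.2 ⟨z, y, z * y, hy.symm, (h.third_ne h').symm, h.third_ne'.symm, ?_⟩
  ext p
  refine ⟨fun k => (h.cases h' hy k.mem).resolve_left k.ne, ?_⟩
  rintro (rfl | rfl | rfl)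
  exacts [h, h', h.third h' hy]

theorem cntP (hk : k ≤ 2) : {W | ∃ p, Wk 𝓛 z k p W}.ncard * 2 = {p | ∃ W, Wk 𝓛 z (k + 1) p W}.ncard * 1 := by
  refine dbl _ _ (fun W p => Fl 𝓛 W p) ?_ ?_
  · rintro W ⟨p, h⟩
    rw [show {q | q ∈ {p | ∃ W, Wk 𝓛 z (k + 1) p W} ∧ Fl 𝓛 W q} = {q | Fl 𝓛 W q} \ {p} from Set.ext fun q =>
      ⟨fun ⟨⟨X, h1⟩, h2⟩ => ⟨h2, fun (e : q = p) => by
        have := h1.k_eq (e ▸ h) (by omega) (by omega)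
        omega⟩, fun ⟨h1, h2⟩ => ⟨h.next h1 h2, h1⟩⟩,
      Set.ncard_sdiff_singleton_of_mem (s := {q | Fl 𝓛 W q}) h.fl, h.fl.ncard_pts]
  · rintro q ⟨X, h⟩
    rcases h with - | @⟨_, p, _, W, _, h, a1, a2, a3, a4⟩
    exact Set.ncard_eq_one.2 ⟨W, Set.ext fun Y => ⟨fun ⟨⟨p', h'⟩, h1⟩ => (h.pred h' hk a1 a2 h1).1.symm,
      fun (e : Y = W) => e ▸ ⟨⟨p, h⟩, a1⟩⟩⟩

theorem cntL (hk : k ≤ 2) :
    {p | ∃ W, Wk 𝓛 z (k + 1) p W}.ncard * 4 = {W | ∃ p, Wk 𝓛 z (k + 1) p W}.ncard * 1 := by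
  refine dbl _ _ (fun p W => Wk 𝓛 z (k + 1) p W) ?_ ?_
  · rintro q ⟨X, h⟩
    rcases h with - | @⟨_, p, _, W, _, h, a1, a2, a3, a4⟩
    rw [show {Y | Y ∈ {W | ∃ p, Wk 𝓛 z (k + 1) p W} ∧ Wk 𝓛 z (k + 1) q Y} = {Y | Fl 𝓛 Y q} \ {W} from
      Set.ext fun Y => ⟨fun ⟨_, h2⟩ => ⟨h2.fl, fun (e : Y = W) => by
        have := (h2.uniq (e ▸ h) (by omega) (by omega)).2
        omega⟩, fun ⟨h1, h2⟩ => ⟨⟨q, h.succ a1 a2 h1 h2⟩, h.succ a1 a2 h1 h2⟩⟩,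
      Set.ncard_sdiff_singleton_of_mem (s := {Y | Fl 𝓛 Y q}) a1, a1.ncard_lines]
  · rintro W ⟨p, h⟩
    exact Set.ncard_eq_one.2 ⟨p, Set.ext fun q => ⟨fun ⟨_, h1⟩ => (h1.uniq h (by omega) (by omega)).1,
      fun (e : q = p) => e ▸ ⟨⟨W, h⟩, h⟩⟩⟩

theorem Fl.ncard_all [IsSimpleGroup G] (h : Fl 𝓛 V z) : 𝓛.ncard = 2925 := by
  have h0 : {W | ∃ p, Wk 𝓛 z 0 p W}.ncard = 5 := by
    rw [← h.ncard_lines]
    congr 1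
    ext W
    exact ⟨fun ⟨p, k⟩ => by cases k; assumption, fun k => ⟨z, .zero k⟩⟩
  have a0 := cntP (𝓛 := 𝓛) (z := z) (k := 0) (by omega)
  have a1 := cntP (𝓛 := 𝓛) (z := z) (k := 1) (by omega)
  have a2 := cntP (𝓛 := 𝓛) (z := z) (k := 2) (by omega)
  have b0 := cntL (𝓛 := 𝓛) (z := z) (k := 0) (by omega)
  have b1 := cntL (𝓛 := 𝓛) (z := z) (k := 1) (by omega)
  have b2 := cntL (𝓛 := 𝓛) (z := z) (k := 2) (by omega)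
  have d : ∀ k k', k ≤ 3 → k' ≤ 3 → k ≠ k' → Disjoint {W | ∃ p, Wk 𝓛 z k p W} {W | ∃ p, Wk 𝓛 z k' p W} :=
    fun k k' h1 h2 h3 => Set.disjoint_left.2 fun W ⟨p, a⟩ ⟨q, b⟩ => h3 (a.uniq b h1 h2).2
  have e : 𝓛 = {W | ∃ p, Wk 𝓛 z 0 p W} ∪ {W | ∃ p, Wk 𝓛 z 1 p W} ∪ {W | ∃ p, Wk 𝓛 z 2 p W} ∪
      {W | ∃ p, Wk 𝓛 z 3 p W} := by
    ext W
    refine ⟨fun hW => ?_, by rintro (((⟨p, k⟩ | ⟨p, k⟩) | ⟨p, k⟩) | ⟨p, k⟩) <;> exact k.fl.ln⟩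
    obtain ⟨g, rfl⟩ := h.geo.tr V h.ln W hW
    obtain ⟨i, hi, k⟩ := h.nl3 (h.conj g)
    interval_cases i
    exacts [.inl (.inl (.inl k)), .inl (.inl (.inr k)), .inl (.inr k), .inr k]
  rw [e, Set.ncard_union_eq, Set.ncard_union_eq, Set.ncard_union_eq (d 0 1 (by omega) (by omega) (by omega))]
  · simp only [zero_add, Nat.reduceAdd] at *
    omega
  all_goals simp only [Set.disjoint_union_left]; and_intros <;> exact d _ _ (by omega) (by omega) (by omega)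

theorem Fl.card_G [IsSimpleGroup G] (h : Fl 𝓛 V z) : Nat.card G = 17971200 := by
  have h1 := dbl 𝓛 {p | Pt 𝓛 p} (fun W p => Fl 𝓛 W p) (m := 3) (n := 5) (fun W hW => by
    obtain ⟨g, rfl⟩ := h.geo.tr V h.ln W hW
    rw [← (h.conj g).ncard_pts]
    congr 1
    ext p
    exact ⟨fun e => e.2, fun e => ⟨⟨_, e⟩, e⟩⟩) fun p ⟨W, k⟩ => by
      rw [← k.ncard_lines]
      congr 1
      ext X
      exact ⟨fun e => e.2, fun e => ⟨e.ln, e⟩⟩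
  have h2 : {p | Pt 𝓛 p} = {y | ∃ x ∈ (⊤ : Subgroup G), x * z * x⁻¹ = y} := by
    ext p
    exact ⟨fun ⟨W, k⟩ => by obtain ⟨g, -, e⟩ := h.flag k; exact ⟨g, mem_top g, e⟩,
      fun ⟨g, _, e⟩ => e ▸ Pt.conj ⟨V, h⟩ g⟩
  rw [h2, ncard_cls, h.ncard_all] at h1
  have h3 := card_mul_relIndex (le_top : C{z} ≤ ⊤)
  rw [← card_mul_relIndex (Fl.Q_le_C z), h.cardQ, h.tc.idxC, card_top] at h3
  omega

end H13.NT
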