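import Mathlib
import Cfsg.Agent.H13.NT5

/-!
# The configuration of the Tits group: root involutions of an apartment and a `(2,3,5)`-triple
-/

set_option autoImplicit false
set_option linter.unusedSectionVars false
set_option linter.unusedVariables false

namespace H13.NT

open Subgroup Cfsg H24 H11.ZN H12.NG H26
open H3.NG hiding ea_sq ea_of_sq ea_le

universe u

variable {G : Type u} [Group G]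

theorem cox5 {a b c d : G} (a2 : a * a = 1) (b2 : b * b = 1) (c2 : c * c = 1) (d2 : d * d = 1)
    (ab : b * a * b = a * b * a) (bc : c * b * c = b * c * b) (cd : d * c * d = c * d * c)
    (ac : c * a = a * c) (ad : d * a = a * d) (bd : d * b = b * d) : (a * d * (b * c)) ^ 5 = 1 := by
  have r : ∀ {x y : G}, x = y → ∀ w, x * w = y * w := fun e w => by rw [e]
  have e1 := r ab; have e2 := r bc; have e3 := r cd; have e4 := r ac; have e5 := r ad; have e6 := r bd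
  simp only [mul_assoc] at e1 e2 e3 e4 e5 e6
  have e7 : ∀ w, c * (b * (a * (c * w))) = b * (c * (b * (a * w))) := fun w => by rw [← e4, e2]
  have e8 : ∀ w, d * (c * (b * (d * w))) = c * (d * (c * (b * w))) := fun w => by rw [← e6, e3]
  have e9 : ∀ w, d * (c * (b * (a * (d * w)))) = c * (d * (c * (b * (a * w)))) := fun w => by rw [← e5, e8]
  rw [← mul_one (_ ^ 5)]
  simp only [pow_succ, pow_zero, one_mul, mul_assoc, e1, e2, e3, e4, e5, e6, e7, e8, e9, mml a2, mml b2,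
    mml c2, mml d2]

theorem triple_of {a b : G} (a2 : a * a = 1) (a1 : a ≠ 1) (b3 : b ^ 3 = 1) (h : (a * b) ^ 5 = 1) :
    ∃ a b : G, orderOf a = 2 ∧ orderOf b = 3 ∧ orderOf (a * b) = 5 := by
  have : Fact (Nat.Prime 5) := ⟨Nat.prime_five⟩
  refine ⟨a, b, H6.orderOf_eq_two_of a2 a1, orderOf_eq_prime b3 fun e => a1 ?_, orderOf_eq_prime h fun e => a1 ?_⟩
  · rwa [e, mul_one, show a ^ 5 = a * a * (a * a) * a by simp only [pow_succ, pow_zero, one_mul, mul_assoc],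
      a2, one_mul, one_mul] at h
  · rwa [← inv_eq_of_mul_eq_one_right e, inv_sq a2, pow_three, a2, mul_one] at b3

/-- two points on a line -/
def Ed (𝓛 : Set (Subgroup G)) (p : G) (W : Subgroup G) (q : G) : Prop := Fl 𝓛 W p ∧ Fl 𝓛 W q ∧ q ≠ p

/-- apartments -/
structure Apt (𝓛 : Set (Subgroup G)) (p₀ p₁ p₂ p₃ p₄ p₅ p₆ p₇ : G) (l₀ l₁ l₂ l₃ l₄ l₅ l₆ l₇ : Subgroup G) :
    Prop where
  e0 : Ed 𝓛 p₀ l₀ p₁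
  e1 : Ed 𝓛 p₁ l₁ p₂
  e2 : Ed 𝓛 p₂ l₂ p₃
  e3 : Ed 𝓛 p₃ l₃ p₄
  e4 : Ed 𝓛 p₄ l₄ p₅
  e5 : Ed 𝓛 p₅ l₅ p₆
  e6 : Ed 𝓛 p₆ l₆ p₇
  e7 : Ed 𝓛 p₇ l₇ p₀
  n0 : l₁ ≠ l₀
  n1 : l₂ ≠ l₁
  n2 : l₃ ≠ l₂
  n3 : l₄ ≠ l₃
  n4 : l₅ ≠ l₄
  n5 : l₆ ≠ l₅
  n6 : l₇ ≠ l₆
  n7 : l₀ ≠ l₇

/-- root involutions -/
def Rt (V : Subgroup G) (m m' r : G) : Prop := r ∈ Dv V ∧ r ∉ V ∧ r ∈ Qz m ∧ r ∈ Qz m'

variable [Finite G] {𝓛 : Set (Subgroup G)} {V W W' X Y : Subgroup G} {k : ℕ}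
  {z y g q p r r' m m' : G} {p₀ p₁ p₂ p₃ p₄ p₅ p₆ p₇ r₀ r₁ r₂ r₃ r₄ r₅ r₆ r₇ : G}
  {l₀ l₁ l₂ l₃ l₄ l₅ l₆ l₇ : Subgroup G}

theorem Wk.conj (h : Wk 𝓛 z k p W) (g : G) : Wk 𝓛 (g * z * g⁻¹) k (g * p * g⁻¹) (cj g W) := by
  induction h with
  | zero h => exact .zero (h.conj g)
  | succ _ h1 h2 h3 h4 ih => exact ih.succ (h1.conj g) (by simpa using h2) (h3.conj g) (by simpa using h4)

theorem Ed.symm (h : Ed 𝓛 p W q) : Ed 𝓛 q W p := ⟨h.2.1, h.1, h.2.2.symm⟩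

theorem Rt.symm (h : Rt V m m' r) : Rt V m' m r := ⟨h.1, h.2.1, h.2.2.2, h.2.2.1⟩

theorem Rt.conj (h : Rt V m m' r) (k : Fl 𝓛 V z) (g : G) :
    Rt (cj g V) (g * m * g⁻¹) (g * m' * g⁻¹) (g * r * g⁻¹) := by
  rw [Rt, k.D_cj, CA.Qz_conj, CA.Qz_conj]
  simpa [Rt] using h

theorem ex_rt (a : Ed 𝓛 m W z) (b : Ed 𝓛 z V y) (c : Ed 𝓛 y W' m') (h1 : V ≠ W) (h2 : W' ≠ V) :
    ∃ r, Rt V m m' r := by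
  obtain ⟨r, r1, r2, r3⟩ : ∃ r ∈ Dv V, r ∉ V ∧ r ∈ Qz m := by
    obtain ⟨r, r1, r2⟩ := b.1.ex_r
    by_cases e : r ∈ Qz m
    · exact ⟨r, r1, r2, e⟩
    · exact ⟨r * y, mul_mem r1 (b.1.V_le_D b.2.1.mem), fun e' => r2 ((mul_mem_cancel_right b.2.1.mem).1 e'),
        a.1.mulU a.2.1 a.2.2 (b.1.D_le_U r1) e (b.1.le_U b.2.1.mem)
          (a.2.1.nq a.1 a.2.2.symm b.1 h1 b.2.1 b.2.2)⟩
  by_cases e : r ∈ Qz m'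
  · exact ⟨r, r1, r2, r3, e⟩
  · exact ⟨r * z, mul_mem r1 (b.1.V_le_D b.1.mem), fun e' => r2 ((mul_mem_cancel_right b.1.mem).1 e'),
      mul_mem r3 (a.1.V_le_Q a.2.1.mem), c.2.1.mulU c.1 c.2.2.symm (b.2.1.D_le_U r1) e (b.2.1.le_U b.1.mem)
        (c.1.nq c.2.1 c.2.2 b.2.1 h2.symm b.1 b.2.2.symm)⟩

theorem Rt.uniq (a : Ed 𝓛 m W z) (b : Ed 𝓛 z V y) (c : Ed 𝓛 y W' m') (h1 : V ≠ W) (h2 : W' ≠ V)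
    (h : Rt V m m' r) (h' : Rt V m m' r') : r = r' := by
  have h3 : r * r' ∈ V := mul_idx2 (by
    have := card_mul_relIndex b.1.V_le_D
    rw [b.1.card, b.1.cardD] at this
    omega) h.1 h'.1 h.2.1 h'.2.1
  rw [← b.1.invU (b.1.D_le_U h'.1), ← mul_eq_one_iff_eq_inv]
  exact b.1.Zinf b.2.1 b.2.2 (a.2.1.notQ a.1 a.2.2.symm b.1 h1 h3 (mul_mem h.2.2.1 h'.2.2.1))
    (c.1.notQ c.2.1 c.2.2 b.2.1 h2.symm h3 (mul_mem h.2.2.2 h'.2.2.2))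

theorem Rt.mv (h : Rt V m m' r) (a : Ed 𝓛 m W z) (b : Fl 𝓛 V z) (h1 : V ≠ W) (c : Fl 𝓛 X m) (h2 : X ≠ W) :
    r ∉ C[X] :=
  (a.1.ta a.2.1 a.2.2 (b.D_le_U h.1) h.2.2.1 fun e => h.2.1 (b.Z_le (b.DD a.2.1 h1.symm h.1 e))).2 X c h2

theorem Fl.ex_apt [IsSimpleGroup G] (h : Fl 𝓛 l₀ p₀) : ∃ p₁ p₂ p₃ p₄ p₅ p₆ p₇ l₁ l₂ l₃ l₄ l₅ l₆ l₇,
    Apt 𝓛 p₀ p₁ p₂ p₃ p₄ p₅ p₆ p₇ l₀ l₁ l₂ l₃ l₄ l₅ l₆ l₇ := by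
  obtain ⟨p₁, a1, b1⟩ := h.ex_pt
  obtain ⟨l₁, c1, d1⟩ := a1.ex_line
  obtain ⟨p₂, a2, b2⟩ := c1.ex_pt
  obtain ⟨l₂, c2, d2⟩ := a2.ex_line
  obtain ⟨p₃, a3, b3⟩ := c2.ex_pt
  obtain ⟨l₃, c3, d3⟩ := a3.ex_line
  obtain ⟨p₄, a4, b4⟩ := c3.ex_pt
  obtain ⟨l₄, c4, d4⟩ := a4.ex_line
  have w := ((((Wk.zero h).succ a1 b1 c1 d1).succ a2 b2 c2 d2).succ a3 b3 c3 d3).succ a4 b4 c4 d4
  have w1 := (((Wk.zero c1).succ a2 b2 c2 d2).succ a3 b3 c3 d3).succ a4 b4 c4 d4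
  obtain ⟨i, hi, p₅, w'⟩ := h.nl3 c4
  have n : p₄ ≠ p₅ := fun e => by
    have := w.k_eq (e ▸ w') (by omega) (by omega)
    omega
  obtain ⟨X, w2⟩ := w'.next c4 n
  obtain rfl : i = 3 := by
    have := w.k_eq w2 (by omega) (by omega)
    omega
  rcases w' with - | @⟨_, p₆, _, l₅, _, w', e1, e2, e3, e4⟩
  have f6 := w'.fl
  rcases w' with - | @⟨_, p₇, _, l₆, _, w', f1, f2, f3, f4⟩
  have f7 := w'.fl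
  rcases w' with - | @⟨_, p₈, _, l₇, _, w', g1, g2, g3, g4⟩
  rcases w' with ⟨w'⟩
  refine ⟨p₁, p₂, p₃, p₄, p₅, p₆, p₇, l₁, l₂, l₃, l₄, l₅, l₆, l₇, ⟨h, a1, b1⟩, ⟨c1, a2, b2⟩, ⟨c2, a3, b3⟩,
    ⟨c3, a4, b4⟩, ⟨c4, e3, n.symm⟩, ⟨e1, f3, e2.symm⟩, ⟨f1, g3, f2.symm⟩, ⟨g1, w', g2.symm⟩, d1, d2, d3, d4,
    e4.symm, f4.symm, g4.symm, ?_⟩
  rintro rfl
  by_cases e : p₇ = p₁
  · subst e
    have := (w1.uniq (((Wk.zero g3).succ f1 f2 f3 f4).succ e1 e2 e3 e4) (by omega) (by omega)).2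
    omega
  · exact n (w1.uniq ((((Wk.zero a1).succ g1 e g3 g4).succ f1 f2 f3 f4).succ e1 e2 e3 e4)
      (by omega) (by omega)).1

namespace Apt

variable (h : Apt 𝓛 p₀ p₁ p₂ p₃ p₄ p₅ p₆ p₇ l₀ l₁ l₂ l₃ l₄ l₅ l₆ l₇)
include h

theorem rot : Apt 𝓛 p₁ p₂ p₃ p₄ p₅ p₆ p₇ p₀ l₁ l₂ l₃ l₄ l₅ l₆ l₇ l₀ :=
  ⟨h.e1, h.e2, h.e3, h.e4, h.e5, h.e6, h.e7, h.e0, h.n1, h.n2, h.n3, h.n4, h.n5, h.n6, h.n7, h.n0⟩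
theorem ex : ∃ r, Rt l₀ p₇ p₂ r := ex_rt h.e7 h.e0 h.e1 h.n7 h.n0
theorem sq (R : Rt l₀ p₇ p₂ r₀) : r₀ * r₀ = 1 := h.e0.1.sqU (h.e0.1.D_le_U R.1)
theorem c1 (R : Rt l₀ p₇ p₂ r₀) (R' : Rt l₁ p₀ p₃ r₁) : r₀ * r₁ = r₁ * r₀ :=
  h.e1.1.abU.comm (h.e0.2.1.D_le_U R.1) (h.e1.1.D_le_U R'.1)
theorem c2 (R : Rt l₀ p₇ p₂ r₀) (R' : Rt l₂ p₁ p₄ r₂) : r₀ * r₂ = r₂ * r₀ :=
  h.e1.1.Hcomm h.e1.2.1 h.e1.2.2 (h.e0.2.1.D_le_U R.1) R.2.2.2 (h.e2.1.D_le_U R'.1) R'.2.2.1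
theorem mv (R : Rt l₀ p₇ p₂ r₀) : r₀ ∉ C[l₂] := R.symm.mv h.e1.symm h.e0.2.1 h.n0.symm h.e2.1 h.n1
theorem refl (R : Rt l₀ p₇ p₂ r₀) (R' : Rt l₄ p₃ p₆ r₄) (hg : g = r₀ * r₄ * r₀) :
    g * r₀ * g⁻¹ = r₄ ∧ ∀ r₇ r₅, Rt l₇ p₆ p₁ r₇ → Rt l₅ p₄ p₇ r₅ → g * r₇ * g⁻¹ = r₅ := by
  have s0 := h.sq R
  have s4 := h.rot.rot.rot.rot.sq R'
  have g2 : g * g = 1 := by simp only [hg, mul_assoc, mml s0, mml s4, s0]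
  have h1 : g * p₂ * g⁻¹ = p₃ := by
    have a := h.e2.1.mv h.e2.2.1 h.e2.2.2 (h.e2.1.Q_le_S R.2.2.2) (h.mv R)
    have b := h.e2.2.1.mv h.e2.1 h.e2.2.2.symm (h.e2.2.1.Q_le_S R'.2.2.1)
      (R'.mv h.e3 h.e4.1 h.n3 h.e2.2.1 h.n2.symm)
    have c := mem_C1_iff_conj.1 (Fl.Q_le_C _ R.2.2.2)
    rw [hg, show r₀ * r₄ * r₀ * p₂ * (r₀ * r₄ * r₀)⁻¹ = r₀ * (r₄ * (r₀ * p₂ * r₀⁻¹) * r₄⁻¹) * r₀⁻¹ by group, c, b,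
      cjm, a, c, ea_comm h.e2.1.ea h.e2.1.mem h.e2.2.1.mem, mmr h.e2.1.sq]
  have h2 : cj g l₆ = l₆ := cj_of_mem_N (hg ▸ mul_mem (mul_mem (h.e6.2.1.Q_le_N R.2.2.1)
    (h.e6.1.Q_le_N R'.2.2.2)) (h.e6.2.1.Q_le_N R.2.2.1))
  have a1 := (Wk.zero h.e1.2.1).succ h.e1.1 h.e1.2.2.symm h.e0.2.1 h.n0.symm
  have a2 := a1.succ h.e0.1 h.e0.2.2.symm h.e7.2.1 h.n7.symm
  have a3 := a2.succ h.e7.1 h.e7.2.2.symm h.e6.2.1 h.n6.symm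
  have b1 := (Wk.zero h.e3.1).succ h.e3.2.1 h.e3.2.2 h.e4.1 h.n3
  have b2 := b1.succ h.e4.2.1 h.e4.2.2 h.e5.1 h.n4
  have b3 := b2.succ h.e5.2.1 h.e5.2.2 h.e6.1 h.n5
  replace a1 := a1.conj g
  replace a2 := a2.conj g
  replace a3 := a3.conj g
  rw [h1] at a1 a2 a3
  rw [h2] at a3
  have h3 := (a3.uniq b3 (by omega) (by omega)).1
  obtain ⟨h4, h5⟩ := b2.pred a2 (by omega) h.e5.2.1 h.e5.2.2 (h3 ▸ h.e7.1.conj g)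
  obtain ⟨h6, h7⟩ := b1.pred a1 (by omega) h.e4.2.1 h.e4.2.2 (h5 ▸ h.e0.1.conj g)
  have h8 : g * p₆ * g⁻¹ = p₇ := by
    rw [← h3, show g * (g * p₇ * g⁻¹) * g⁻¹ = g * g * p₇ * (g * g)⁻¹ by group, g2]
    simp
  refine ⟨Rt.uniq h.e3 h.e4 h.e5 h.n3 h.n4 ?_ R', fun r₇ r₅ R7 R5 => Rt.uniq h.e4 h.e5 h.e6 h.n4 h.n5 ?_ R5⟩
  · rw [h6, ← h1, ← h3]
    exact R.symm.conj h.e0.1 g
  · rw [h4, h7, ← h8]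
    exact R7.symm.conj h.e7.1 g
theorem braid (R : Rt l₀ p₇ p₂ r₀) (R' : Rt l₄ p₃ p₆ r₄) : r₄ * r₀ * r₄ = r₀ * r₄ * r₀ := by
  have s0 := h.sq R
  have s4 := h.rot.rot.rot.rot.sq R'
  have := (h.refl R R' rfl).1
  rw [mmr s0, mul_inv_eq_iff_eq_mul] at this
  exact (mul_assoc _ _ _).trans ((congrArg _ this).trans (mml s4 _))
theorem triple : ∃ a b : G, orderOf a = 2 ∧ orderOf b = 3 ∧ orderOf (a * b) = 5 := by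
  have h1 := h.rot
  have h2 := h1.rot
  have h4 := h2.rot.rot
  have h5 := h4.rot
  have h6 := h5.rot
  obtain ⟨r₀, R0⟩ := h.ex
  obtain ⟨r₁, R1⟩ := h1.ex
  obtain ⟨r₂, R2⟩ := h2.ex
  obtain ⟨r₄, R4⟩ := h4.ex
  obtain ⟨r₅, R5⟩ := h5.ex
  obtain ⟨r₆, R6⟩ := h6.ex
  have s0 := h.sq R0
  have s1 := h1.sq R1
  have s2 := h2.sq R2
  have s4 := h4.sq R4
  have s5 := h5.sq R5
  have c01 := cjc (h.c1 R0 R1).symm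
  have c12 := cjc (h1.c1 R1 R2)
  have c45 := cjc (h4.c1 R4 R5).symm
  have e : r₅ * r₀ * r₅⁻¹ = r₁ * r₆ * r₁⁻¹ := by
    rw [← (h1.refl R1 R5 rfl).2 _ _ R0 R6, show r₁ * (r₁ * r₅ * r₁ * r₀ * (r₁ * r₅ * r₁)⁻¹) * r₁⁻¹ =
      r₁ * r₁ * (r₅ * (r₁ * r₀ * r₁⁻¹) * r₅⁻¹) * (r₁ * r₁)⁻¹ by group, s1, c01]
    simp
  have t2 : r₅ * r₀ * r₅⁻¹ * (r₅ * r₀ * r₅⁻¹) = 1 := by rw [← cjm, s0]; simp
  have bc : r₅ * r₀ * r₅⁻¹ * r₄ * (r₅ * r₀ * r₅⁻¹) = r₄ * (r₅ * r₀ * r₅⁻¹) * r₄ := by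
    rw [← c45, ← cjm, ← cjm, ← cjm, ← cjm, h.braid R0 R4]
  refine triple_of (a := r₀ * r₂) (b := r₄ * (r₅ * r₀ * r₅⁻¹)) ?_ (fun e' => h.mv R0 ?_) ?_
    (cox5 s0 s4 t2 s2 (h.braid R0 R4) bc ?_ ?_ (h.c2 R0 R2).symm (h2.c2 R2 R4))
  · rw [mul_assoc, ← mul_assoc r₂, ← h.c2 R0 R2, mmr s2, s0]
  · rw [eq_inv_of_mul_eq_one_left e']
    exact inv_mem (h.e2.1.U_le_CV (h.e2.1.D_le_U R2.1))
  · generalize r₅ * r₀ * r₅⁻¹ = c at *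
    rw [pow_three, mul_assoc r₄ c, ← mul_assoc c, ← mul_assoc c, bc, mul_assoc r₄ c, mul_assoc r₄, mml s4,
      mul_assoc, mml s4, t2]
  · rw [e, ← c12, ← cjm, ← cjm, ← cjm, ← cjm, h2.braid R2 R6]
  · rw [e, ← c01, ← cjm, ← cjm, h6.c2 R6 R0]

end Apt

theorem Fl.triple [IsSimpleGroup G] (h : Fl 𝓛 V z) :
    ∃ a b : G, orderOf a = 2 ∧ orderOf b = 3 ∧ orderOf (a * b) = 5 := by
  obtain ⟨_, _, _, _, _, _, _, _, _, _, _, _, _, _, k⟩ := h.ex_apt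
  exact k.triple

end H13.NT
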