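import Mathlib
import Cfsg.Agent.H6.XA
import Cfsg.Agent.H16.ZH2
import Cfsg.Agent.H12.TID

/-!
A TI-subgroup of order 16 with all transvections: `L₅(2)` or `M₂₄`.
-/

set_option autoImplicit false
set_option linter.unusedSectionVars false
set_option linter.unusedVariables false

namespace H13.TL

open Subgroup H24 H15 H15.XP Module H28 H28.Held H29
open scoped commutatorElement

variable {G : Type*} [Group G] [Finite G]

/-- the pattern of `He` does not allow a TI-subgroup -/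
theorem no215 {φ : Hc →* G} (H : HS φ) (P : Pat φ (IsConj (φ zc)) 215) {A : Subgroup G}
    (ab : ∀ x ∈ A, ∀ y ∈ A, x * y = y * x) (zA : φ zc ∈ A) (nA : ∀ h, φ h ∈ N[A])
    (ti : ∀ g, ∀ a ∈ A, a ≠ 1 → g * a * g⁻¹ ∈ A → g ∈ N[A]) {a : G} (ha : a ∈ A) (a1 : a ≠ 1) (a2 : a * a = 1)
    (az : a ≠ φ zc) : False := by
  have cj : ∀ h b, φ b ∈ A → φ (h * b * hinv h) ∈ A := fun h b hb => by
    rw [hinv_eq, map_mul, map_mul, map_inv]; exact conj_mem (nA h) hb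
  have cm : ∀ {b c}, φ b ∈ A → φ c ∈ A → b * c = c * b := fun hb hc =>
    H.inj (by rw [map_mul, map_mul, ab _ hb _ hc])
  obtain ⟨k, hk, _, ⟨h, rfl⟩, e⟩ := H.into_M (M := φ.range) (fun h => ⟨h, rfl⟩) (H.cen _ (ab _ ha _ zA)) a2 a1
  have m : φ (rep k) ∈ A := e ▸ conj_mem (nA h) ha
  have f1 : ∀ k < 8, k = 0 ∨ (∃ i, rep k = uu i) ∨ ∃ h ∈ [⟪16851073⟫, ⟪17565825⟫, ⟪16916547⟫],
      h * rep k * hinv h * rep k ≠ rep k * (h * rep k * hinv h) := by decide +kernel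
  have f2 : ∀ i, (215 : ℕ).testBit (cls (uu i)) = true ∧ om 215 i = true ∧ zc ≠ 1 ∧ yy i true * ww i ∈ Uc i ∧
      yy i true * (yy i true * ww i) = ww i ∧ ∃ h ∈ [⟪16916545⟫, ⟪17041537⟫], h * uu i * hinv h = ww i ∧
      ∃ h ∈ [⟪16910593⟫, ⟪16851073⟫], h * uu i * hinv h * (yy i true * sig (lU i) (yy i true * ww i)) ≠
        yy i true * sig (lU i) (yy i true * ww i) * (h * uu i * hinv h) := by decide +kernel
  rcases f1 k hk with rfl | ⟨i, ei⟩ | ⟨h', -, ne⟩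
  · rw [rep_zero, mul_inv_eq_iff_eq_mul, ← map_mul, ← zc_comm, map_mul, mul_right_inj] at e
    exact az e
  · obtain ⟨g1, g2, g3, g4, g5, h1, -, g6, h2, -, g7⟩ := f2 i
    obtain ⟨n, S⟩ := H.exists_side (by simp) P g1
    rw [g2] at S
    rw [ei] at m
    have hn := ti n _ zA ((map_ne_one_iff φ H.inj).2 g3) ((show n * φ zc * n⁻¹ = _ from S.hz) ▸ m)
    have := (S.hy.mul (S.hU _ g4)).congr g5 rfl
    exact g7 (cm (cj _ _ m) (this ▸ conj_mem hn (g6 ▸ cj _ _ m)))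
  · exact ne (cm (cj _ _ m) m)

theorem held_ti [IsSimpleGroup G] {z : G} (hz : orderOf z = 2) (e : C{z} ≃* C{s5})
    (ni : ¬ Cfsg.IsIsolatedInvolution z) {A : Subgroup G} (ab : ∀ x ∈ A, ∀ y ∈ A, x * y = y * x) (zA : z ∈ A)
    (nA : C{z} ≤ N[A]) (ti : ∀ g, ∀ a ∈ A, a ≠ 1 → g * a * g⁻¹ ∈ A → g ∈ N[A]) {a : G} (ha : a ∈ A) (a1 : a ≠ 1)
    (a2 : a * a = 1) (az : a ≠ z) : Nonempty (G ≃* L5) ∨ Nonempty (G ≃* Cfsg.M24) := by
  obtain ⟨φ, H, rfl⟩ := exists_HS hz e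
  obtain ⟨m, hm, P⟩ := H.exists_D
  have nn : ∀ i, ¬ ((Vc i).map φ).Normal := fun i h1 => by
    have f : zc ∈ Vc i ∧ zc ≠ 1 ∧ tt i ∉ Vc i := by cases i <;> decide +kernel
    rcases h1.eq_bot_or_eq_top with k | k
    · exact (map_ne_one_iff φ H.inj).2 f.2.1 (k.le ⟨zc, f.1, rfl⟩)
    · obtain ⟨v, hv, e⟩ := k.ge (Subgroup.mem_top (φ (tt i)))
      exact f.2.2 (H.inj e ▸ hv)
  rcases List.mem_cons.1 hm with rfl | hm
  · refine absurd ⟨hz, fun g hg => ?_⟩ ni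
    obtain ⟨k, hk, e, h, e'⟩ := H.into_H P (isConj_iff.2 ⟨g, rfl⟩) hg.eq.symm
    obtain rfl : k = 0 := by clear e'; revert k; decide
    rw [e', rep_zero, zc_comm, inv_mul_cancel_right]
  rcases List.mem_cons.1 hm with rfl | hm
  · exact absurd (H.agl (i := false) P).1 (nn _)
  rcases List.mem_cons.1 hm with rfl | hm
  · exact absurd (H.agl (i := true) P).1 (nn _)
  obtain ⟨x, B⟩ := H.exists_both hm P
  obtain ⟨k1, k2⟩ := mem_eL (φ := φ) x (L := [0, 1, 2, 3, 4, 5, 6, 7]) (by decide)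
  have top := eq_top H hm P B k1 fun i => k2 i (by cases i <;> decide)
  have iv := eL_iv (φ := φ) fun i => (B.side i).tn
  have rel := fun r => B.rel H hm (r := r)
  simp only [List.mem_cons, List.not_mem_nil, or_false] at hm
  rcases hm with rfl | rfl | rfl | rfl
  exacts [Or.inl (iso_pp iv (fun r hr => rel r (rel_pp r hr)) top),
    Or.inr (iso_pq iv (fun r hr => rel r (rel_pq r hr)) top),
    Or.inr (iso_qp iv (fun r hr => rel r (rel_qp r hr)) top),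
    (no215 H P ab zA (fun h => nA (mem_C1.2 (by rw [← map_mul, zc_comm, map_mul]))) ti ha a1 a2 az).elim]

/-- the elements acting trivially on `A / z` -/
def Qz (A : Subgroup G) (z : G) (h1 : z ∈ A) (h2 : orderOf z = 2) : Subgroup G :=
  subOf (fun x => ∀ a ∈ A, x * a * x⁻¹ = a ∨ x * a * x⁻¹ = a * z) (by simp) fun x y hx hy a ha => by
    have zz : z * z = 1 := by rw [← pow_two, ← h2, pow_orderOf_eq_one]
    have e : x * z * x⁻¹ = z := (hx z h1).resolve_right fun e => by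
      rw [zz, conj_eq_one_iff] at e; rw [e, orderOf_one] at h2; omega
    rw [show x * y * a * (x * y)⁻¹ = x * (y * a * y⁻¹) * x⁻¹ by group]
    rcases hy a ha with k | k <;> rw [k]
    · exact hx a ha
    · rw [← conj_mul, e]
      rcases hx a ha with k | k <;> rw [k]
      exacts [Or.inr rfl, Or.inl (by rw [mul_assoc, zz, mul_one])]

variable {K : Type} [Field K] [Fintype K] {ι : (Fin 4 → K) → G} {A : Subgroup G}

/-- the data that are used -/
structure Dt (A : Subgroup G) (ι : (Fin 4 → K) → G) : Prop where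
  two : Fintype.card K = 2
  mul : ∀ v w, ι (v + w) = ι v * ι w
  inj : Function.Injective ι
  mem : ∀ x, x ∈ A ↔ ∃ v, ι v = x
  ext : ∀ (f : Dual K (Fin 4 → K)) u, f u = 0 → ∃ j : G, j * j = 1 ∧ H12.TI.Tv ι j u f
  cent : C[A] ≤ A
  ti : ∀ g, ∀ a ∈ A, a ≠ 1 → g * a * g⁻¹ ∈ A → g ∈ N[A]

namespace Dt

variable (h : Dt A ι)
include h

theorem c01 (c : K) : c = 0 ∨ c = 1 := by
  classical
  by_contra k
  push Not at k
  have := Finset.card_le_univ ({0, 1, c} : Finset K)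
  rw [Finset.card_eq_three.2 ⟨0, 1, c, zero_ne_one, k.1.symm, k.2.symm, rfl⟩, h.two] at this
  omega

theorem oo : (1 : K) + 1 = 0 := (h.c01 _).resolve_right (by simp)

theorem vv (v : Fin 4 → K) : v + v = 0 := by rw [← one_smul K v, ← add_smul, h.oo, zero_smul]

theorem one : ι 0 = 1 := by simpa using h.mul 0 0

theorem sq (v : Fin 4 → K) : ι v * ι v = 1 := by rw [← h.mul, h.vv, h.one]

theorem ne {v : Fin 4 → K} (hv : v ≠ 0) : ι v ≠ 1 := fun e => hv (h.inj (e.trans h.one.symm))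

theorem ord {v : Fin 4 → K} (hv : v ≠ 0) : orderOf (ι v) = 2 :=
  orderOf_eq_prime (by rw [pow_two, h.sq]) (h.ne hv)

theorem mm (v : Fin 4 → K) : ι v ∈ A := (h.mem _).2 ⟨v, rfl⟩

theorem ab : ∀ x ∈ A, ∀ y ∈ A, x * y = y * x := fun x hx y hy => by
  obtain ⟨v, rfl⟩ := (h.mem x).1 hx
  obtain ⟨w, rfl⟩ := (h.mem y).1 hy
  rw [← h.mul, ← h.mul, add_comm]

theorem exf {u v : Fin 4 → K} (h0 : v ≠ 0) (h1 : v ≠ u) : ∃ f : Dual K (Fin 4 → K), f u = 0 ∧ f v = 1 := by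
  obtain ⟨f, f1, f2⟩ := Submodule.exists_dual_map_eq_bot_of_notMem (p := Submodule.span K {u}) (x := v) (fun k => by
    obtain ⟨c, rfl⟩ := Submodule.mem_span_singleton.1 k
    rcases h.c01 c with rfl | rfl <;> simp at h0 h1) inferInstance
  exact ⟨f, f2.le ⟨u, Submodule.mem_span_singleton_self u, rfl⟩, (h.c01 _).resolve_left f1⟩

/-- transitivity -/
theorem tr {u v w : Fin 4 → K} (h0 : v ≠ 0) (h1 : v ≠ u) (h2 : w ≠ 0) (h3 : w ≠ u) :
    ∃ j ∈ C{ι u}, j * ι v * j⁻¹ = ι w := by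
  obtain ⟨f, f0, f1, f2⟩ : ∃ f : Dual K (Fin 4 → K), f u = 0 ∧ f v = 1 ∧ f w = 1 := by
    obtain ⟨f, f0, f1⟩ := h.exf h0 h1
    obtain ⟨g, g0, g1⟩ := h.exf h2 h3
    rcases h.c01 (f w) with a | a
    · rcases h.c01 (g v) with b | b
      · exact ⟨f + g, by simp [*], by simp [*], by simp [*]⟩
      · exact ⟨g, g0, b, g1⟩
    · exact ⟨f, f0, f1, a⟩
  obtain ⟨j, -, t⟩ := h.ext f (v + w) (by rw [map_add, f1, f2, h.oo])
  exact ⟨j, mem_C1_iff_conj.2 (by rw [t, f0]; simp), by rw [t, f1, one_smul, ← add_assoc, h.vv, zero_add]⟩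

variable {u : Fin 4 → K} (hu : u ≠ 0)
include hu

theorem nA : C{ι u} ≤ N[A] := fun g hg => h.ti g _ (h.mm u) (h.ne hu) (by rw [mem_C1_iff_conj.1 hg]; exact h.mm u)

theorem of_tv {j : G} {f : Dual K (Fin 4 → K)} (t : H12.TI.Tv ι j u f) : j ∈ Qz A (ι u) (h.mm u) (h.ord hu) :=
  fun a ha => by
    obtain ⟨v, rfl⟩ := (h.mem a).1 ha
    rw [t]
    rcases h.c01 (f v) with e | e <;> simp [e, h.mul]

theorem A_le : A ≤ Qz A (ι u) (h.mm u) (h.ord hu) := fun x hx a ha =>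
  Or.inl (by rw [h.ab x hx a ha, mul_inv_cancel_right])

theorem to_tv {x : G} (hx : x ∈ Qz A (ι u) (h.mm u) (h.ord hu)) :
    ∃ f : Dual K (Fin 4 → K), f u = 0 ∧ H12.TI.Tv ι x u f := by
  have k : ∀ v, ∃ c : K, x * ι v * x⁻¹ = ι (v + c • u) := fun v =>
    (hx _ (h.mm v)).elim (fun e => ⟨0, by simpa using e⟩) fun e => ⟨1, by rw [one_smul, h.mul, e]⟩
  choose g k using k
  have a : ∀ v w, g (v + w) = g v + g w := fun v w => by
    have := k (v + w)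
    rw [h.mul, ← conj_mul, k, k, ← h.mul, h.inj.eq_iff, add_add_add_comm, add_right_inj, ← add_smul] at this
    exact (smul_left_injective K hu this).symm
  have a0 : g 0 = 0 := by simpa using a 0 0
  refine ⟨⟨⟨g, a⟩, fun c v => by rcases h.c01 c with rfl | rfl <;> simp [a0]⟩, ?_, k⟩
  refine (h.c01 (g u)).resolve_right fun e => h.ne hu ?_
  have := k u
  rwa [e, one_smul, h.vv, h.one, conj_eq_one_iff] at this

omit hu in
theorem same {x j : G} {f : Dual K (Fin 4 → K)} (t : H12.TI.Tv ι x u f) (t' : H12.TI.Tv ι j u f) : j⁻¹ * x ∈ A :=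
  h.cent (mem_C'.2 fun a ha => by
    obtain ⟨v, rfl⟩ := (h.mem a).1 ha
    rw [← mul_inv_eq_iff_eq_mul, show j⁻¹ * x * ι v * (j⁻¹ * x)⁻¹ = j⁻¹ * (x * ι v * x⁻¹) * j by group, t, ← t']
    group)

theorem cen {x : G} (hx : x ∈ C[Qz A (ι u) (h.mm u) (h.ord hu)]) : x ∈ zpowers (ι u) := by
  obtain ⟨v, rfl⟩ := (h.mem x).1 (h.cent (C_anti (h.A_le hu) hx))
  by_contra k
  obtain ⟨f, f0, f1⟩ := h.exf (u := u) (v := v) (fun e => k (by rw [e, h.one]; exact one_mem _))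
    (fun e => k (e ▸ mem_zpowers _))
  obtain ⟨j, -, t⟩ := h.ext f u f0
  have := t v
  rw [mem_C.1 hx j (h.of_tv hu t), mul_inv_cancel_right, h.inj.eq_iff, f1] at this
  exact hu (by simpa using this)

theorem lx : LX (ι u) (Qz A (ι u) (h.mm u) (h.ord hu)) := by
  have p : ∀ x ∈ Qz A (ι u) (h.mm u) (h.ord hu), x ^ 2 ∈ zpowers (ι u) := fun x hx => by
    obtain ⟨f, f0, t⟩ := h.to_tv hu hx
    obtain ⟨j, jj, t'⟩ := h.ext f u f0
    obtain ⟨v, e⟩ := (h.mem _).1 (h.same t t')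
    rw [show x = j * ι v by rw [e]; group, show (j * ι v) ^ 2 = j * ι v * j * ι v by rw [pow_two]; group]
    nth_rw 2 [← inv_eq_of_mul_eq_one_right jj]
    rw [t', ← h.mul, add_right_comm, h.vv, zero_add]
    rcases h.c01 (f v) with e | e <;> simp [e, h.one]
  have a1 : ∃ v : Fin 4 → K, v ≠ 0 ∧ v ≠ u := by
    by_cases e : u = Pi.single 0 1
    · exact ⟨Pi.single 1 1, by simp [funext_iff]; exact ⟨1, by simp⟩, e ▸ fun k => by simpa using congrFun k 0⟩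
    · exact ⟨Pi.single 0 1, by simp [funext_iff]; exact ⟨0, by simp⟩, Ne.symm e⟩
  refine ⟨⟨h.ord hu, h.A_le hu (h.mm u), fun x hx => ?_, fun x hx y hy => ?_, p,
    fun x hx k => h.cen hu (mem_C'.2 k)⟩, fun e => ?_, fun g hg => mem_N_of_finite fun x hx a ha => ?_,
    fun x => h.cen hu⟩
  · obtain ⟨f, f0, t⟩ := h.to_tv hu hx
    exact (mul_inv_eq_iff_eq_mul.1 (by rw [t, f0]; simp)).symm
  · rw [show ⁅x, y⁆ = x ^ 2 * (x⁻¹ * y) ^ 2 * (y ^ 2)⁻¹ by rw [commutatorElement_def, pow_two, pow_two, pow_two]; group]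
    exact mul_mem (mul_mem (p x hx) (p _ (mul_mem (inv_mem hx) hy))) (inv_mem (p y hy))
  · obtain ⟨v, v0, v1⟩ := a1
    exact (mem_zp (h.ord hu) (e ▸ h.A_le hu (h.mm v))).elim (h.ne v0) fun k => v1 (h.inj k)
  · rw [show g * x * g⁻¹ * a * (g * x * g⁻¹)⁻¹ = g * (x * (g⁻¹ * a * g) * x⁻¹) * g⁻¹ by group]
    rcases hx _ (conj_mem' (h.nA hu hg) ha) with k | k <;> rw [k]
    · exact Or.inl (by group)
    · exact Or.inr (by rw [← conj_mul, mem_C1_iff_conj.1 hg]; group)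

omit hu in
theorem cardA : Nat.card A = 16 := by
  rw [← Nat.card_congr (Equiv.ofBijective (fun v => (⟨ι v, h.mm v⟩ : A)) ⟨fun v w e => h.inj (congrArg Subtype.val e),
    fun a => ((h.mem a).1 a.2).imp fun v e => Subtype.ext e⟩)]
  simp [h.two]

theorem cardQ : Nat.card (Qz A (ι u) (h.mm u) (h.ord hu)) = 2 ^ 7 := by
  choose j jj t using fun f : LinearMap.ker (Dual.eval K (Fin 4 → K) u) => h.ext f.1 u f.2
  have k : ∀ f, ∀ a ∈ A, H12.TI.Tv ι (j f * a) u f.1 := fun f a ha v => by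
    rw [← t f v, mul_assoc (j f), h.ab a ha _ (h.mm v)]; group
  rw [← Nat.card_congr (Equiv.ofBijective (fun p : _ × A => (⟨j p.1 * p.2, h.of_tv hu (k p.1 p.2 p.2.2)⟩ :
    Qz A (ι u) (h.mm u) (h.ord hu))) ⟨fun p q e => ?_, fun x => ?_⟩), Nat.card_prod, h.cardA]
  · have := LinearMap.finrank_range_add_finrank_ker (Dual.eval K (Fin 4 → K) u)
    obtain ⟨f, -, f1⟩ := h.exf (u := 0) hu hu
    rw [LinearMap.range_eq_top.2 fun c => ⟨c • f, by simp [f1]⟩, Subspace.dual_finrank_eq] at this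
    simp only [finrank_top, finrank_self, finrank_fintype_fun_eq_card, Fintype.card_fin] at this
    rw [Module.natCard_eq_pow_finrank (K := K), show finrank K (LinearMap.ker (Dual.eval K (Fin 4 → K) u)) = 3 by omega,
      Nat.card_eq_fintype_card, h.two]; rfl
  · replace e : j p.1 * p.2 = j q.1 * q.2 := congrArg Subtype.val e
    have e1 : p.1 = q.1 := Subtype.ext (LinearMap.ext fun v => by
      have := k p.1 _ p.2.2 v
      rw [e, k q.1 _ q.2.2 v, h.inj.eq_iff, add_right_inj] at this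
      exact (smul_left_injective K hu this).symm)
    exact Prod.ext e1 (Subtype.ext (mul_left_cancel (e1 ▸ e)))
  · obtain ⟨f, f0, t'⟩ := h.to_tv hu x.2
    exact ⟨(⟨f, f0⟩, ⟨_, h.same t' (t ⟨f, f0⟩)⟩), Subtype.ext (mul_inv_cancel_left _ _)⟩

theorem o2 (N : Subgroup G) (h1 : N ≤ C{ι u}) (h2 : C{ι u} ≤ N[N]) (h3 : IsPGroup 2 N) :
    N ≤ Qz A (ι u) (h.mm u) (h.ord hu) := fun n hn a ha => by
  have l : ⁅A, N⁆ < A := H13.commutator_lt_of_isPGroup (IsPGroup.of_card (n := 4) h.cardA) h3 (h1.trans (h.nA hu))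
    (ne_bot_of_mem (h.mm u) (h.ne hu))
  have m := commutator_mem_commutator (inv_mem ha) hn
  obtain ⟨v, e⟩ := (h.mem _).1 (l.le m)
  have e' : n * a * n⁻¹ = a * ι v := by rw [e, commutatorElement_def]; group
  by_contra k
  rw [e', not_or] at k
  have t : ∀ w, w ≠ 0 → w ≠ u → ι w ∈ ⁅A, N⁆ := fun w w0 w1 => by
    obtain ⟨j, j1, j2⟩ := h.tr (u := u) (v := v) (fun q => k.1 (by rw [q, h.one, mul_one])) (fun q => k.2 (by rw [q])) w0 w1
    exact j2 ▸ conj_mem (norm_comm (h.nA hu) h2 j1) (e ▸ m)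
  refine l.not_ge fun x hx => ?_
  obtain ⟨w, rfl⟩ := (h.mem x).1 hx
  by_cases w0 : w = 0
  · rw [w0, h.one]; exact one_mem _
  by_cases w1 : w = u
  · have := mul_mem (e ▸ m : ι v ∈ ⁅A, N⁆) (t (v + u) (fun q => k.2 (by
      rw [← add_zero v, ← h.vv u, ← add_assoc, q, zero_add])) fun q => k.1 (by rw [add_eq_right.1 q, h.one, mul_one]))
    rwa [← h.mul, ← add_assoc, h.vv, zero_add, ← w1] at this
  · exact t w w0 w1

omit hu in
theorem main [IsSimpleGroup G] :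
    Nonempty (G ≃* Matrix.ProjectiveSpecialLinearGroup (Fin 5) (ZMod 2)) ∨ Cfsg.Spor.IsoM24 G := by
  have n0 : ∀ i : Fin 4, (Pi.single i 1 : Fin 4 → K) ≠ 0 := fun i e => by simpa using congrFun e i
  have n1 : (Pi.single 1 1 : Fin 4 → K) ≠ Pi.single 0 1 := fun e => by simpa using congrFun e 0
  have hu := n0 0
  obtain ⟨s, e⟩ := H16.SY.sit_lx (w := 3) (h.lx hu) (by norm_num) (h.cardQ hu) (h.o2 hu)
  have zD : ι (Pi.single 0 1) ∈ conjugatesOf (ι (Pi.single 0 1)) := IsConj.refl _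
  obtain ⟨g, -, eg⟩ := h.tr (u := 0) hu hu (n0 1) (n0 1)
  have ne : ι (Pi.single 1 1) ≠ ι (Pi.single 0 1) := h.inj.ne n1
  obtain ⟨V, _, _, _, -, ⟨F⟩⟩ := s.exists_fr zD
  obtain ⟨E, R, hv, hl⟩ := s.exists_vd le_rfl zD F ⟨_, isConj_iff.2 ⟨g, eg⟩, e ▸ h.A_le hu (h.mm _), ne⟩
  obtain ⟨B, B', hg⟩ := s.good zD hv hl fun k => by
    rcases k A (h.mm _) (e ▸ h.A_le hu) (h.nA hu) with q | q
    · exact (mem_zp (h.ord hu) (q ▸ h.mm _)).elim (h.ne (n0 1)) ne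
    · have := h.cardA
      rw [q, e, h.cardQ hu] at this
      omega
  obtain ⟨c⟩ := s.good3 zD hv hl hg s5 rfl
  obtain ⟨d⟩ := H6.XS.sl_iso_psl 5
  exact (held_ti (h.ord hu) c (fun i => ne (eg ▸ i.2 g (eg ▸ h.ab _ (h.mm _) _ (h.mm _)))) h.ab (h.mm _) (h.nA hu) h.ti
    (h.mm _) (h.ne (n0 1)) (h.sq _) ne).imp_left fun ⟨k⟩ => ⟨k.trans d⟩

end Dt

end H13.TL
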