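import Mathlib
import Cfsg.Agent.H20.TB19

/-!
# A BN-pair from rank one and rank two identities
-/

set_option autoImplicit false
set_option linter.unusedSectionVars false
set_option linter.unusedVariables false

namespace H13.BN0

open H8 H8.GenSys H20 H20.TB Cfsg Subgroup

section Cox

variable {I W : Type*} [Group W] (D : CS I W)

theorem alt_of_red {i k : I} : ∀ l : List I, (∀ a ∈ l, a = i ∨ a = k) → D.Reduced l →
    l = alt i k l.length ∨ l = alt k i l.length
  | [], _, _ => Or.inl rfl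
  | a :: l, h, hr => by
    have ih := alt_of_red l (fun b hb => h b (by simp [hb])) hr.tail
    have no : ∀ {b : I} {t : List I}, l = b :: t → a = b → False := by
      rintro b t rfl rfl
      have h1 := D.len_le t
      unfold GenSys.Reduced at hr
      rw [D.π_cons, D.π_cons, D.σ_σ_mul] at hr
      simp only [List.length_cons] at hr
      omega
    rcases h a (by simp) with rfl | rfl
    · rcases ih with e | e
      · cases l with
        | nil => exact Or.inl rfl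
        | cons b t => exact (no rfl (List.cons.inj e).1.symm).elim
      · exact Or.inl (congrArg (List.cons a) e)
    · rcases ih with e | e
      · exact Or.inr (congrArg (List.cons a) e)
      · cases l with
        | nil => exact Or.inr rfl
        | cons b t => exact (no rfl (List.cons.inj e).1.symm).elim

theorem alt_prefix (a b : I) {m n : ℕ} (h : m ≤ n) : alt a b m <+: alt a b n := by
  induction h with
  | refl => exact List.prefix_rfl
  | step _ ih => exact ih.trans (alt_prefix_succ a b _)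

theorem rank_two [Finite W] {i k : I} {v : W} (hv : v ∈ D.WJ {i, k}) (h1 : v ≠ 1)
    (hl : D.len v < D.len (D.σ i * v)) :
    ∃ n, 1 ≤ n ∧ n < orderOf (D.σ i * D.σ k) ∧ v = D.π (alt k i n) := by
  obtain ⟨l, hl1, rfl, hr⟩ := D.ex.exists_reduced_of_mem_closure hv
  have h0 : 1 ≤ l.length := by
    cases l with
    | nil => exact absurd rfl h1
    | cons => simp
  have hr' : D.len (D.π l) = l.length := hr
  have e : l = alt k i l.length := by
    refine (alt_of_red D (i := i) (k := k) l (fun a ha => by simpa using hl1 a ha) hr).resolve_left fun e => ?_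
    obtain ⟨n, hn⟩ : ∃ n, l.length = n + 1 := ⟨l.length - 1, by omega⟩
    have h2 := D.len_le (alt k i n)
    rw [hn] at e
    rw [hr', e, alt, D.π_cons, D.σ_σ_mul] at hl
    simp at hl h2
    omega
  refine ⟨l.length, h0, by_contra fun h => ?_, congrArg _ e⟩
  obtain ⟨t, ht⟩ := alt_prefix k i (not_lt.1 h)
  have hp := prod_alt D.σ D.sq i k (orderOf (D.σ i * D.σ k))
  rw [pow_orderOf_eq_one, mul_inv_eq_one] at hp
  change D.π _ = D.π _ at hp
  obtain ⟨m, hm⟩ : ∃ m, orderOf (D.σ i * D.σ k) = m + 1 := ⟨_, (Nat.succ_pred_eq_of_pos (orderOf_pos _)).symm⟩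
  have h3 := congrArg List.length ht
  have h4 : D.π l = D.σ i * D.π (alt k i m ++ t) := by
    rw [e, ← ht, D.π_append, ← hp, hm, alt, D.π_cons, D.π_append, mul_assoc]
  have h5 := D.len_le (alt k i m ++ t)
  rw [hr', h4, D.σ_σ_mul] at hl
  simp only [hm, List.length_append, length_alt] at h3 h5
  omega

end Cox

/-- The Coxeter matrix of type `F₄` (chain `0 - 1 = 2 - 3`). -/
def mF (i j : Fin 4) : ℕ :=
  ([[1, 3, 2, 2], [3, 1, 4, 2], [2, 4, 1, 3], [2, 2, 3, 1]].getD i []).getD j 0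

/-- Rank one and rank two data. -/
structure Dat (I G : Type*) [Group G] (m : I → I → ℕ) where
  s : I → G
  H : Subgroup G
  U : I → Set G
  B : Subgroup G
  cox : ∀ i j, (s i * s j) ^ m i j = 1
  H_le : H ≤ B
  U_le : ∀ i, ∀ c ∈ U i, c ∈ B
  nH : ∀ i, ∀ h ∈ H, s i * h * s i ∈ H
  ne : ∀ i, (U i).Nonempty
  hA : ∀ i, ∀ b ∈ B, ∃ r, (r = 1 ∨ r ∈ U i) ∧ s i * (r * b) * s i ∈ B
  hB : ∀ i, ∀ c ∈ U i, ∃ x ∈ H ⊔ closure (U i), s i * c * s i * x * s i ∈ B
  hC : ∀ i k, i ≠ k → ∀ n, 1 ≤ n → n < m i k → ∀ c ∈ U i,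
    (((alt k i n).map s).prod)⁻¹ * c * ((alt k i n).map s).prod ∈ H ⊔ closure (U i ∪ U k)
  hD : ∀ i, s i ∉ B
  top : B ⊔ closure (Set.range s) = ⊤

namespace Dat

variable {I G : Type*} [Group G] {m : I → I → ℕ} (T : Dat I G m)

theorem M_le (i : I) : T.H ⊔ closure (T.U i) ≤ T.B :=
  sup_le T.H_le ((closure_le _).2 (T.U_le i))

theorem not_conj {i : I} {c : G} (hc : c ∈ T.U i) : T.s i * c * T.s i ∉ T.B := fun h => by
  obtain ⟨x, hx, h1⟩ := T.hB i c hc
  exact T.hD i ((T.B.mul_mem_cancel_left (mul_mem h (T.M_le i hx))).1 h1)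

variable {W : Type*} [Group W] [Finite W] {D : CS I W} (hm : ∀ i j, orderOf (D.σ i * D.σ j) = m i j)
include hm

theorem sq (i : I) : T.s i * T.s i = 1 := by
  have := T.cox i i
  rwa [← hm, D.sq, orderOf_one, pow_one] at this

theorem s_inv (i : I) : (T.s i)⁻¹ = T.s i := inv_eq_of_mul_eq_one_right (T.sq hm i)

theorem ex_φ : ∃ φ : W →* G, ∀ i, φ (D.σ i) = T.s i :=
  D.ex.exists_lift T.s (T.sq hm) fun i j n h => by
    obtain ⟨k, rfl⟩ := orderOf_dvd_of_pow_eq_one h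
    rw [hm, pow_mul, T.cox, one_pow]

variable {φ : W →* G} (hφ : ∀ i, φ (D.σ i) = T.s i)
include hφ

theorem φ_π (l : List I) : φ (D.π l) = (l.map T.s).prod := by
  induction l with
  | nil => simp
  | cons a l ih => simp [ih, hφ]

theorem φ_H (w : W) : ∀ h ∈ T.H, φ w * h * (φ w)⁻¹ ∈ T.H := by
  refine D.indR' (P := fun w => ∀ h ∈ T.H, φ w * h * (φ w)⁻¹ ∈ T.H) (by simp) (fun w i _ ih h hh => ?_) w
  have := ih _ (T.nH i h hh)
  rw [map_mul, hφ, mul_inv_rev, T.s_inv hm]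
  simpa only [mul_assoc] using this

theorem conj_sup {g : G} {S : Set G} (h1 : ∀ h ∈ T.H, g * h * g⁻¹ ∈ T.B) (h2 : ∀ c ∈ S, g * c * g⁻¹ ∈ T.B) :
    ∀ x ∈ T.H ⊔ closure S, g * x * g⁻¹ ∈ T.B :=
  fun x hx => (sup_le h1 ((closure_le _).2 h2) : _ ≤ T.B.comap (MulAut.conj g).toMonoidHom) hx

theorem pos : ∀ (q : ℕ) (d : W), D.len d = q → ∀ i, D.len d < D.len (d * D.σ i) → ∀ c ∈ T.U i,
    φ d * c * (φ d)⁻¹ ∈ T.B := by
  intro q
  induction q using Nat.strong_induction_on with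
  | _ q ih =>
  intro d hd i hi c hc
  by_cases h1 : d = 1
  · simpa [h1] using T.U_le i c hc
  obtain ⟨k, d0, e0, hk⟩ := D.exists_right_descent h1
  have hk' : D.len (d * D.σ k) < D.len d := by rw [e0, D.mul_σ_σ, ← e0]; omega
  have ik : i ≠ k := by rintro rfl; omega
  obtain ⟨v, hv, hM⟩ := D.exists_minR {i, k} d
  have mi : D.σ i ∈ D.WJ {i, k} := D.σ_mem (by simp)
  have mk : D.σ k ∈ D.WJ {i, k} := D.σ_mem (by simp)
  have a1 := hM _ (inv_mem hv)
  have a2 := hM _ (mul_mem (inv_mem hv) mi)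
  have a3 := hM _ mi
  have a4 := hM _ mk
  rw [mul_inv_cancel_right] at a1
  rw [← mul_assoc, mul_inv_cancel_right, D.len_rev v⁻¹, inv_inv] at a2
  rw [D.lenσ] at a3 a4
  rw [D.len_inv] at a1
  have v1 : v ≠ 1 := by
    rintro rfl
    rw [mul_one] at a4
    omega
  have v0 : D.len v ≠ 0 := fun h => v1 (D.len_eq_zero_iff.1 h)
  obtain ⟨n, n1, n2, e⟩ := rank_two D hv v1 (by omega)
  have b := T.hC i k ik n n1 (hm i k ▸ n2) c hc
  rw [← T.φ_π hm hφ, ← e] at b
  have := T.conj_sup hm hφ (g := φ (d * v)) (fun h hh => T.H_le (T.φ_H hm hφ _ h hh)) (S := T.U i ∪ T.U k)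
    (fun x hx => hx.elim (ih _ (by omega) _ rfl i (by omega) x) (ih _ (by omega) _ rfl k (by omega) x)) _ b
  rw [map_mul] at this
  convert this using 1
  group

theorem eq_one {w : W} (h : φ w ∈ T.B) : w = 1 := by
  by_contra h1
  obtain ⟨i, d, rfl, hk⟩ := D.exists_right_descent h1
  obtain ⟨c, hc⟩ := T.ne i
  have := mul_mem (mul_mem (inv_mem h) (T.pos hm hφ _ d rfl i (by omega) c hc)) h
  refine T.not_conj hc ?_
  rw [map_mul, hφ, mul_inv_rev, T.s_inv hm] at this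
  convert this using 1
  group

theorem mem_N {n : G} : n ∈ T.H ⊔ closure (Set.range T.s) ↔ ∃ w, ∃ h ∈ T.H, n = h * φ w := by
  constructor
  · intro hn
    let K : Subgroup G :=
      { carrier := {n | ∃ w, ∃ h ∈ T.H, n = h * φ w}
        one_mem' := ⟨1, 1, one_mem _, by simp⟩
        mul_mem' := by
          rintro _ _ ⟨w, h, hh, rfl⟩ ⟨w', h', hh', rfl⟩
          exact ⟨w * w', _, mul_mem hh (T.φ_H hm hφ w h' hh'), by rw [map_mul]; group⟩
        inv_mem' := by
          rintro _ ⟨w, h, hh, rfl⟩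
          exact ⟨w⁻¹, _, T.φ_H hm hφ w⁻¹ _ (inv_mem hh), by rw [map_inv]; group⟩ }
    refine (sup_le (fun h hh => ⟨1, h, hh, by simp⟩) ((closure_le _).2 ?_) : _ ≤ K) hn
    rintro _ ⟨i, rfl⟩
    exact ⟨D.σ i, 1, one_mem _, by simp [hφ]⟩
  · rintro ⟨w, h, hh, rfl⟩
    refine mul_mem (mem_sup_left hh) (mem_sup_right ?_)
    obtain ⟨l, rfl⟩ := D.gen w
    rw [show (l.map D.σ).prod = D.π l from rfl, T.φ_π hm hφ]
    exact list_prod_mem fun x hx => by
      obtain ⟨i, -, rfl⟩ := List.mem_map.1 hx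
      exact subset_closure ⟨i, rfl⟩

omit hφ

/-- `B ∩ N = H`. -/
theorem inf_eq : T.B ⊓ (T.H ⊔ closure (Set.range T.s)) = T.H := by
  obtain ⟨φ, hφ⟩ := T.ex_φ hm
  refine le_antisymm (fun n hn => ?_) (le_inf T.H_le le_sup_left)
  obtain ⟨w, h, hh, rfl⟩ := (T.mem_N hm hφ).1 hn.2
  rw [T.eq_one hm hφ ((T.B.mul_mem_cancel_left (T.H_le hh)).1 hn.1), map_one, mul_one]
  exact hh

theorem pow_mem (i j : I) (k : ℕ) : (T.s i * T.s j) ^ k ∈ T.B ↔ m i j ∣ k := by
  obtain ⟨φ, hφ⟩ := T.ex_φ hm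
  rw [← hm, orderOf_dvd_iff_pow_eq_one, ← hφ, ← hφ, ← map_mul, ← map_pow]
  exact ⟨T.eq_one hm hφ, fun h => by rw [h, map_one]; exact one_mem _⟩

/-- The BN-pair. -/
noncomputable def bn : BNPair G :=
  mkBN T.B (T.H ⊔ closure (Set.range T.s)) T.s (fun i => T.H ⊔ closure (T.U i))
    (top_le_iff.1 (T.top.ge.trans (sup_le_sup_left le_sup_right _)))
    (fun n hn t ht => by
      obtain ⟨φ, hφ⟩ := T.ex_φ hm
      rw [T.inf_eq hm] at ht
      obtain ⟨w, h, hh, rfl⟩ := (T.mem_N hm hφ).1 hn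
      have := mul_mem (mul_mem hh (T.φ_H hm hφ w t ht)) (inv_mem hh)
      exact T.H_le (by convert this using 1; group))
    (fun i => mem_sup_right (subset_closure ⟨i, rfl⟩))
    (fun i => by rw [T.sq hm]; exact one_mem _)
    (fun i j h => by
      obtain ⟨φ, hφ⟩ := T.ex_φ hm
      rw [← hφ, ← hφ, ← map_inv, ← map_mul] at h
      rw [← hφ, ← hφ, inv_mul_eq_one.1 (T.eq_one hm hφ h)])
    (by rw [T.inf_eq hm, sup_comm])
    (fun i b hb => by
      obtain ⟨r, hr, h⟩ := T.hA i b hb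
      refine ⟨r⁻¹, inv_mem (hr.elim (fun e => e ▸ one_mem _) fun e => mem_sup_right (subset_closure e)), ?_⟩
      rwa [Fx, inv_inv, T.s_inv hm])
    T.M_le
    (fun i x hx h => by
      obtain ⟨r, hr, h1⟩ := T.hA i _ (inv_mem (T.M_le i hx))
      have h2 := inv_mem h1
      simp only [mul_inv_rev, inv_inv, T.s_inv hm] at h2
      rcases hr with rfl | hr
      · exact (h (by simpa [Fx, T.s_inv hm, mul_assoc] using h2)).elim
      obtain ⟨y, hy, h3⟩ := T.hB i r hr
      refine ⟨y, hy, ?_⟩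
      have h4 := mul_mem h2 h3
      rw [T.s_inv hm]
      convert h4 using 1
      calc _ = T.s i * (x * r⁻¹) * (T.s i * T.s i) * r * T.s i * y * T.s i := by rw [T.sq hm]; group
        _ = _ := by group)
    (fun i n hn => by
      obtain ⟨φ, hφ⟩ := T.ex_φ hm
      obtain ⟨w, h, hh, e⟩ := (T.mem_N hm hφ).1 (inv_mem hn)
      have key : ∀ d, D.len d < D.len (d * D.σ i) → ∀ x ∈ T.H ⊔ closure (T.U i),
          h * (φ d * x * (φ d)⁻¹) * h⁻¹ ∈ T.B := fun d hd x hx =>
        mul_mem (mul_mem (T.H_le hh) (T.conj_sup hm hφ (fun h hh => T.H_le (T.φ_H hm hφ _ h hh))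
          (T.pos hm hφ _ d rfl i hd) x hx)) (inv_mem (T.H_le hh))
      have e' : n = (h * φ w)⁻¹ := by rw [← e, inv_inv]
      rcases D.lenR w i with a | a
      · refine Or.inl fun x hx => ?_
        have := key w (by omega) x hx
        rw [Fx, e']
        convert this using 1
        group
      · refine Or.inr fun x hx => ?_
        have := key (w * D.σ i) (by rw [D.mul_σ_σ]; omega) x hx
        rw [Fx, e']
        rw [map_mul, hφ] at this
        convert this using 1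
        group)
    (fun i => by
      obtain ⟨c, hc⟩ := T.ne i
      exact ⟨c, mem_sup_right (subset_closure hc), fun h => T.not_conj hc (by rwa [Fx, T.s_inv hm] at h)⟩)

theorem bn_B : (T.bn hm).B = T.B := rfl
theorem bn_N : (T.bn hm).N = T.H ⊔ closure (Set.range T.s) := rfl
theorem bn_S : (T.bn hm).S = Set.range T.s := rfl

theorem s_inj : Function.Injective T.s := fun i j h => by
  obtain ⟨φ, hφ⟩ := T.ex_φ hm
  have : φ ((D.σ i)⁻¹ * D.σ j) ∈ T.B := by
    rw [map_mul, map_inv, hφ, hφ, h, inv_mul_cancel]; exact one_mem _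
  exact D.inj (inv_mul_eq_one.1 (T.eq_one hm hφ this))

/-- The number of chambers of a panel. -/
theorem relIndex_eq (i : I) (hE : ∀ r ∈ T.U i, ∀ r' ∈ T.U i, r ≠ r' → ∃ h ∈ T.H, ∃ c ∈ T.U i, r * r'⁻¹ = h * c)
    (hf : (T.U i).Finite) :
    (T.B.map (MulAut.conj (T.s i)).toMonoidHom).relIndex T.B = (T.U i).ncard + 1 := by
  have h1 : (1 : G) ∉ T.U i := fun h => T.not_conj h (by rw [mul_one, T.sq hm]; exact one_mem _)
  have hR : ∀ r ∈ insert (1 : G) (T.U i), r ∈ T.B := by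
    rintro r (rfl | h)
    exacts [one_mem _, T.U_le i r h]
  have mem : ∀ b : T.B, b ∈ (T.B.map (MulAut.conj (T.s i)).toMonoidHom).subgroupOf T.B ↔
      T.s i * b * T.s i ∈ T.B := fun b => by
    rw [mem_subgroupOf, mem_map_equiv]
    simp [T.s_inv hm]
  rw [← Set.ncard_insert_of_notMem h1 hf, ← Nat.card_coe_set_eq, relIndex, index]
  refine (Nat.card_congr (Equiv.ofBijective (fun r : ↥(insert (1 : G) (T.U i)) =>
    (((⟨r.1, hR _ r.2⟩ : T.B)⁻¹ : T.B) : T.B ⧸ _)) ⟨?_, ?_⟩)).symm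
  · rintro ⟨r, hr⟩ ⟨r', hr'⟩ e
    rw [QuotientGroup.eq, inv_inv, mem] at e
    simp only [coe_mul, coe_inv] at e
    refine Subtype.ext (by_contra fun ne => ?_)
    rcases hr with rfl | hr <;> rcases hr' with rfl | hr'
    · exact ne rfl
    · exact T.not_conj hr' (by simpa [T.s_inv hm, mul_assoc] using inv_mem e)
    · exact T.not_conj hr (by simpa using e)
    · obtain ⟨h, hh, c, hc, e1⟩ := hE r hr r' hr' ne
      refine T.not_conj hc ((T.B.mul_mem_cancel_left (T.H_le (T.nH i h hh))).1 ?_)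
      rw [e1] at e
      convert e using 1
      calc _ = T.s i * h * (T.s i * T.s i) * c * T.s i := by group
        _ = _ := by rw [T.sq hm]; group
  · intro x
    obtain ⟨b, rfl⟩ := QuotientGroup.mk_surjective x
    obtain ⟨r, hr, h⟩ := T.hA i b b.2
    refine ⟨⟨r, hr⟩, ?_⟩
    rw [QuotientGroup.eq, inv_inv, mem]
    exact h

omit hm

/-- Passing to a quotient by a subgroup of `B`. -/
def map {G' : Type*} [Group G'] (f : G →* G') (hf : Function.Surjective f) (hk : f.ker ≤ T.B) : Dat I G' m where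
  s i := f (T.s i)
  H := T.H.map f
  U i := f '' T.U i
  B := T.B.map f
  cox i j := by rw [← map_mul, ← map_pow, T.cox, map_one]
  H_le := map_mono T.H_le
  U_le := by rintro i _ ⟨c, hc, rfl⟩; exact mem_map_of_mem f (T.U_le i c hc)
  nH := by rintro i _ ⟨h, hh, rfl⟩; exact ⟨_, T.nH i h hh, by simp⟩
  ne i := (T.ne i).image f
  hA := by
    rintro i _ ⟨b, hb, rfl⟩
    obtain ⟨r, hr, h⟩ := T.hA i b hb
    exact ⟨f r, hr.imp (fun e => by simp [e]) fun e => ⟨r, e, rfl⟩, _, h, by simp⟩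
  hB := by
    rintro i _ ⟨c, hc, rfl⟩
    obtain ⟨x, hx, h⟩ := T.hB i c hc
    exact ⟨f x, by rw [← MonoidHom.map_closure, ← Subgroup.map_sup]; exact mem_map_of_mem f hx, _, h, by simp⟩
  hC := by
    rintro i k ik n n1 n2 _ ⟨c, hc, rfl⟩
    rw [← Set.image_union, ← MonoidHom.map_closure, ← Subgroup.map_sup]
    refine ⟨_, T.hC i k ik n n1 n2 c hc, ?_⟩
    simp [map_list_prod, List.map_map, Function.comp_def]
  hD := by
    rintro i ⟨b, hb, e⟩
    have : b⁻¹ * T.s i ∈ f.ker := by simp [MonoidHom.mem_ker, e]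
    exact T.hD i ((T.B.mul_mem_cancel_left (inv_mem hb)).1 (hk this))
  top := by
    rw [show (Set.range fun i => f (T.s i)) = f '' Set.range T.s from Set.range_comp f T.s,
      ← MonoidHom.map_closure, ← Subgroup.map_sup, T.top]
    exact map_top_of_surjective f hf

end Dat

/-! ### Type `F₄` -/

/-- The relabelling from the diagram `Ty.F` (chain `3 - 0 = 1 - 2`) to the chain `0 - 1 = 2 - 3`. -/
def rl : Fin 4 ≃ Fin 4 := ⟨![1, 2, 3, 0], ![3, 0, 1, 2], by decide, by decide⟩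

theorem ex_cs : ∃ (W : Type) (_ : Group W) (_ : Finite W) (D : CS (Fin 4) W),
    ∀ i j, orderOf (D.σ i * D.σ j) = mF i j := by
  obtain ⟨Γ, _, _, M, -, -⟩ := real_F4 (ZMod 2)
  let L := M.lab trivial
  let e : Fin 4 ≃ M.P.S := rl.symm.trans L.e
  let C := bnC M.P
  have hπ : ∀ l : List (Fin 4), (l.map fun i => C.σ (e i)).prod = C.π (l.map e) := fun l => by
    simp [GenSys.π, List.map_map, Function.comp_def]
  let S : GenSys (Fin 4) (BN.W M.P) := ⟨fun i => C.σ (e i), fun i => C.sq _, fun w => by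
    obtain ⟨l, rfl⟩ := C.gen w
    exact ⟨l.map e.symm, by simp [List.map_map, Function.comp_def]⟩⟩
  have hS : ∀ l, S.π l = C.π (l.map e) := hπ
  have hl : ∀ w, S.len w = C.len w := fun w => by
    refine le_antisymm ?_ ?_
    · obtain ⟨l, rfl, h⟩ := C.exists_reduced w
      have := S.len_le (l.map e.symm)
      rw [hS] at this
      simpa [List.map_map, h] using this
    · obtain ⟨l, rfl, h⟩ := S.exists_reduced w
      have := C.len_le (l.map e)
      rw [← hS] at this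
      simpa [h] using this
  refine ⟨BN.W M.P, inferInstance, inferInstance, ⟨S, fun i l h => ?_, C.inj.comp e.injective⟩, fun i j => ?_⟩
  · rw [hl, hl, hS] at h
    obtain ⟨l₁, j, l₂, e1, e2⟩ := C.ex (e i) _ h
    refine ⟨l₁.map e.symm, e.symm j, l₂.map e.symm, ?_, ?_⟩
    · simpa [List.map_map] using congrArg (List.map e.symm) e1
    · rw [hS]
      simpa [List.map_map, S] using e2
  · exact (L.ord _ _).trans (by revert i j; decide)

/-- A perfect group with a BN-pair, modulo the core of `B`. -/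
theorem hom_of_real {G : Type*} [Group G] [Finite G] {P : BNPair G} {T : Ty} (L : Lab T (bnC P))
    (hp : commutator G = ⊤) {q : ℕ → ℕ} (hq : ∀ i < T.rk, L.q i = q i) {X : Type*} [Group X] (h : Real T q X)
    (h1 : T.m0 = 4 → ¬ (L.q 0 = L.q 1 ∧ Odd (L.q 1))) :
    ∃ f : G →* X, Function.Surjective f ∧ f.ker = P.B.normalCore := by
  obtain ⟨Γ, _, _, M, hM, ⟨e⟩⟩ := h
  have := Ty.three_le L.ok
  have e0 : (M.lab L.ok).q 0 = L.q 0 := (M.lab_q L.ok ⟨0, by omega⟩).trans (by rw [hM, hq _ (by omega)])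
  have e1 : (M.lab L.ok).q 1 = L.q 1 := (M.lab_q L.ok ⟨1, by omega⟩).trans (by rw [hM, hq _ (by omega)])
  obtain ⟨f⟩ := L.biso M (fun i => by rw [hq _ i.2, hM]) fun h => by
    rw [L.ab_iff h (h1 h), Lab.ab_iff _ h (by rw [e0, e1]; exact h1 h), e0, e1]
  have h3 := M.eq_L0 L.ok (G := (bnρ P).range.map f.φ.permCongrHom.toMonoidHom)
    (by rintro _ ⟨_, ⟨g, rfl⟩, rfl⟩; exact f.aut (bnρ_aut P g)) (f.ST (bn_ST P))
    (by rw [← Subgroup.map_commutator, MonoidHom.range_eq_map, ← Subgroup.map_commutator, ← commutator_def, hp])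
  obtain ⟨e'⟩ := M.L_iso L.ok
  rw [← MonoidHom.range_comp] at h3
  let E := (MulEquiv.subgroupCongr h3).trans (e'.symm.trans e)
  refine ⟨E.toMonoidHom.comp (MonoidHom.rangeRestrict _), E.surjective.comp (MonoidHom.rangeRestrict_surjective _), ?_⟩
  rw [MonoidHom.ker_comp_of_injective _ _ E.injective, MonoidHom.ker_rangeRestrict,
    MonoidHom.ker_comp_of_injective _ _ f.φ.permCongrHom.injective, normalCore_eq_ker]

namespace Dat

variable {G : Type*} [Group G] (T : Dat (Fin 4) G mF)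

/-- The BN-pair of type `F₄`. -/
noncomputable def P : BNPair G :=
  letI := ex_cs.choose_spec.choose
  haveI := ex_cs.choose_spec.choose_spec.choose
  T.bn ex_cs.choose_spec.choose_spec.choose_spec.choose_spec

theorem P_B : T.P.B = T.B := rfl
theorem P_N : T.P.N = T.H ⊔ closure (Set.range T.s) := rfl
theorem P_S : T.P.S = Set.range T.s := rfl

theorem sqF (i : Fin 4) : T.s i * T.s i = 1 := by
  obtain ⟨W, _, _, D, hm⟩ := ex_cs
  exact T.sq hm i

theorem infF : T.B ⊓ (T.H ⊔ closure (Set.range T.s)) = T.H := by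
  obtain ⟨W, _, _, D, hm⟩ := ex_cs
  exact T.inf_eq hm

theorem powF (i j : Fin 4) (k : ℕ) : (T.s i * T.s j) ^ k ∈ T.B ↔ mF i j ∣ k := by
  obtain ⟨W, _, _, D, hm⟩ := ex_cs
  exact T.pow_mem hm i j k

theorem injF : Function.Injective T.s := by
  obtain ⟨W, _, _, D, hm⟩ := ex_cs
  exact T.s_inj hm

theorem irr : T.P.Irreducible := by
  classical
  rintro J hJ ⟨x, hx⟩ ⟨_, ⟨b, rfl⟩, hb⟩
  obtain ⟨a, rfl⟩ := hJ hx
  obtain ⟨i, hi, j, hj, h⟩ := (show ∀ A : Finset (Fin 4), ∀ a ∈ A, ∀ b ∉ A, ∃ i ∈ A, ∃ j ∉ A, ¬ mF i j ∣ 2 by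
    decide) (Finset.univ.filter fun i => T.s i ∈ J) a (by simpa using hx) b (by simpa using hb)
  refine ⟨T.s i, by simpa using hi, T.s j, ⟨⟨j, rfl⟩, by simpa using hj⟩, fun e => h ((T.powF i j 2).1 ?_)⟩
  rwa [inv_eq_of_mul_eq_one_right (T.sqF i), inv_eq_of_mul_eq_one_right (T.sqF j), mul_assoc (_ * _),
    ← pow_two] at e

/-- Simplicity. -/
theorem simple (hs : Group.IsSolvable T.B) (hp : commutator G = ⊤) (hc : T.B.normalCore = ⊥) :
    IsSimpleGroup G :=
  haveI : Nontrivial G := ⟨T.s 0, 1, fun e => T.hD 0 (e ▸ one_mem _)⟩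
  BN.isSimpleGroup T.irr hs hp hc

/-- The labelling. -/
noncomputable def lab [Finite G] : Lab .F (bnC T.P) :=
  ⟨trivial, Equiv.ofBijective (fun i : Fin 4 => ⟨T.s (rl i), rl i, rfl⟩)
    ⟨fun i j h => rl.injective (T.injF (congrArg Subtype.val h)), by
      rintro ⟨_, i, rfl⟩; exact ⟨rl.symm i, by simp⟩⟩,
    fun i j => bn_order _ _ _ fun k => (T.powF _ _ k).trans (by
      rw [show mF (rl i) (rl j) = Ty.F.cm i j by revert i j; decide])⟩

theorem lab_q [Finite G] (i : Fin 4)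
    (hE : ∀ r ∈ T.U (rl i), ∀ r' ∈ T.U (rl i), r ≠ r' → ∃ h ∈ T.H, ∃ c ∈ T.U (rl i), r * r'⁻¹ = h * c) :
    T.lab.q i = (T.U (rl i)).ncard + 1 := by
  obtain ⟨j, hj⟩ := T.lab.nice.nb (T.lab.e i)
  obtain ⟨W, _, _, D, hm⟩ := ex_cs
  rw [Lab.q, show T.lab.nd i = T.lab.e i from T.lab.nd_val i,
    Bld.card_RG (bn_opp T.P) (Bld.mou T.lab.nice _) ((bnC T.P).order_symm _ _ ▸ hj), bn_panel]
  exact T.relIndex_eq hm _ hE (Set.toFinite _)

/-- Identification with `²E₆(2)` modulo the core of `B`, for a perfect group. -/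
theorem hom [Finite G] (hp : commutator G = ⊤)
    (hE : ∀ i, ∀ r ∈ T.U i, ∀ r' ∈ T.U i, r ≠ r' → ∃ h ∈ T.H, ∃ c ∈ T.U i, r * r'⁻¹ = h * c)
    (h0 : (T.U 0).ncard = 1) (h1 : (T.U 1).ncard = 1) (h2 : (T.U 2).ncard = 3) (h3 : (T.U 3).ncard = 3)
    (K : Type) [Field K] [Fintype K] (hK : Fintype.card K = 4) :
    ∃ f : G →* Lie.twistedE6 K 2, Function.Surjective f ∧ f.ker = T.B.normalCore := by
  have q0 : T.lab.q 0 = 2 := (T.lab_q 0 (hE _)).trans (congrArg (· + 1) h1)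
  have q1 : T.lab.q 1 = 4 := (T.lab_q 1 (hE _)).trans (congrArg (· + 1) h2)
  have q2 : T.lab.q 2 = 4 := (T.lab_q 2 (hE _)).trans (congrArg (· + 1) h3)
  have q3 : T.lab.q 3 = 2 := (T.lab_q 3 (hE _)).trans (congrArg (· + 1) h0)
  refine hom_of_real T.lab hp (fun i hi => ?_) (real_2E6 K Nat.prime_two.isPrimePow hK) fun _ h => ?_
  · change i < 4 at hi
    interval_cases i <;> simp [*]
  · rw [q0, q1] at h; omega

/-- Identification with `²E₆(2)`. -/
theorem iso [Finite G] [IsSimpleGroup G]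
    (hE : ∀ i, ∀ r ∈ T.U i, ∀ r' ∈ T.U i, r ≠ r' → ∃ h ∈ T.H, ∃ c ∈ T.U i, r * r'⁻¹ = h * c)
    (h0 : (T.U 0).ncard = 1) (h1 : (T.U 1).ncard = 1) (h2 : (T.U 2).ncard = 3) (h3 : (T.U 3).ncard = 3)
    (K : Type) [Field K] [Fintype K] (hK : Fintype.card K = 4) : Nonempty (G ≃* Lie.twistedE6 K 2) := by
  have q0 : T.lab.q 0 = 2 := (T.lab_q 0 (hE _)).trans (congrArg (· + 1) h1)
  have q1 : T.lab.q 1 = 4 := (T.lab_q 1 (hE _)).trans (congrArg (· + 1) h2)
  have q2 : T.lab.q 2 = 4 := (T.lab_q 2 (hE _)).trans (congrArg (· + 1) h3)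
  have q3 : T.lab.q 3 = 2 := (T.lab_q 3 (hE _)).trans (congrArg (· + 1) h0)
  refine T.lab.of_real (fun i hi => ?_) (real_2E6 K Nat.prime_two.isPrimePow hK) fun _ h => ?_
  · change i < 4 at hi
    interval_cases i <;> simp [*]
  · rw [q0, q1] at h; omega

end Dat

end H13.BN0
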