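import Mathlib
import Cfsg.Agent.H13.BN0
import Cfsg.Agent.H29.Group

/-!
# The BN-pair of type `F₄` from a list of identities between words
-/

set_option autoImplicit false
set_option maxRecDepth 100000
set_option linter.unusedSectionVars false
set_option linter.unusedVariables false
set_option synthInstance.maxSize 4000
set_option synthInstance.maxHeartbeats 200000

namespace H13.BN0

open H8 H8.GenSys H20 H20.TB Cfsg Subgroup H29

/-- `Dat` without the generation hypothesis. -/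
structure Dat0 (I G : Type*) [Group G] (m : I → I → ℕ) where
  s : I → G
  H : Subgroup G
  U : I → Set G
  B : Subgroup G
  cox : ∀ i j, (s i * s j) ^ m i j = 1
  H_le : H ≤ B
  U_le : ∀ i, ∀ c ∈ U i, c ∈ B
  nH : ∀ i, ∀ h ∈ H, s i * h * s i ∈ H
  ne : ∀ i, (U i).Nonempty
  hA : ∀ i, ∀ b ∈ B, ∃ r, (r = 1 ∨ r ∈ U i) ∧ s i * (r * b) * s i ∈ B
  hB : ∀ i, ∀ c ∈ U i, ∃ x ∈ H ⊔ closure (U i), s i * c * s i * x * s i ∈ B
  hC : ∀ i k, i ≠ k → ∀ n, 1 ≤ n → n < m i k → ∀ c ∈ U i,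
    (((alt k i n).map s).prod)⁻¹ * c * ((alt k i n).map s).prod ∈ H ⊔ closure (U i ∪ U k)
  hD : ∀ i, s i ∉ B

namespace Dat0

variable {I G : Type*} [Group G] {m : I → I → ℕ} (T : Dat0 I G m) {L : Subgroup G}
  (hL : T.B ⊔ closure (Set.range T.s) = L)
include hL

theorem s_mem (i : I) : T.s i ∈ L := hL ▸ mem_sup_right (subset_closure ⟨i, rfl⟩)
theorem B_le : T.B ≤ L := hL ▸ le_sup_left

theorem sub_sup {S : Set G} (hS : ∀ c ∈ S, c ∈ T.B) {x : L} (hx : (x : G) ∈ T.H ⊔ closure S) :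
    x ∈ T.H.subgroupOf L ⊔ closure (Subtype.val ⁻¹' S) := by
  have e : (T.H.subgroupOf L ⊔ closure (Subtype.val ⁻¹' S : Set L)).map L.subtype = T.H ⊔ closure S := by
    rw [Subgroup.map_sup, MonoidHom.map_closure, subgroupOf_map_subtype,
      inf_eq_left.2 (T.H_le.trans (T.B_le hL))]
    congr 2
    exact Set.image_preimage_eq_of_subset fun c hc => ⟨⟨c, T.B_le hL (hS c hc)⟩, rfl⟩
  obtain ⟨y, hy, e1⟩ := e.ge hx
  rwa [← Subtype.ext e1]

/-- Restriction to the subgroup generated by `B` and the `s i`. -/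
def sub : Dat I L m where
  s i := ⟨T.s i, T.s_mem hL i⟩
  H := T.H.subgroupOf L
  U i := Subtype.val ⁻¹' T.U i
  B := T.B.subgroupOf L
  cox i j := Subtype.ext (T.cox i j)
  H_le := fun _ h => T.H_le h
  U_le i c hc := T.U_le i c hc
  nH i h hh := T.nH i h hh
  ne i := by
    obtain ⟨c, hc⟩ := T.ne i
    exact ⟨⟨c, T.B_le hL (T.U_le i c hc)⟩, hc⟩
  hA i b hb := by
    obtain ⟨r, hr, h⟩ := T.hA i b hb
    exact ⟨⟨r, hr.elim (fun e => e ▸ one_mem _) fun e => T.B_le hL (T.U_le i r e)⟩,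
      hr.imp (fun e => Subtype.ext e) id, h⟩
  hB i c hc := by
    obtain ⟨x, hx, h⟩ := T.hB i c hc
    exact ⟨⟨x, T.B_le hL ((sup_le T.H_le ((closure_le _).2 (T.U_le i)) : _ ≤ T.B) hx)⟩,
      T.sub_sup hL (T.U_le i) hx, h⟩
  hC i k ik n n1 n2 c hc := by
    rw [← Set.preimage_union]
    refine T.sub_sup hL (fun c hc => hc.elim (T.U_le i c) (T.U_le k c)) ?_
    have := T.hC i k ik n n1 n2 c hc
    convert this using 1
    simp [Function.comp_def]
  hD i := T.hD i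
  top := by
    refine map_injective L.subtype_injective ?_
    rw [Subgroup.map_sup, MonoidHom.map_closure, subgroupOf_map_subtype, inf_eq_left.2 (T.B_le hL),
      ← MonoidHom.range_eq_map, range_subtype, ← Set.range_comp]
    exact hL

end Dat0

def Ul (i : ℕ) : List ℕ := [[3], [4], [5, 6, 7], [8, 9, 10]].getD i []
def BL : List ℕ := [0, 1, 2, 3, 4, 5, 6, 7, 8, 9, 10]
def TL : List ℕ := 11 :: 12 :: 13 :: 14 :: BL
def Rl (i : ℕ) : List (List ℕ) := [] :: (Ul i).map fun c => [c]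
def Ml (i k : ℕ) : List ℕ := 0 :: 1 :: 2 :: (Ul i ++ Ul k)
def up (v : List ℕ) : List ℕ := v.map (11 + ·)
def mN (i j : ℕ) : ℕ := ([[1, 3, 2, 2], [3, 1, 4, 2], [2, 4, 1, 3], [2, 2, 3, 1]].getD i []).getD j 0

/-- The list of identities contains what is needed (the letters are those of `H29.YB.Br.Has`). -/
def Has2 (I : List (List ℕ × List ℕ)) : Prop :=
  (∀ r ∈ [[11, 11], [12, 12], [13, 13], [14, 14], [11, 12, 11, 12, 11, 12], [12, 13, 12, 13, 12, 13, 12, 13],
    [13, 14, 13, 14, 13, 14], [11, 13, 11, 13], [11, 14, 11, 14], [12, 14, 12, 14]], (r, []) ∈ I) ∧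
  (∀ i < 4, ∀ c ∈ BL, ∀ r ∈ Rl i, ∃ r' ∈ Rl i, ∃ p ∈ I,
    p.1 = (11 + i) :: (r' ++ c :: r ++ [11 + i]) ∧ ∀ a ∈ p.2, a ∈ BL) ∧
  (∀ i < 4, ∀ c ∈ Ul i, ∃ p ∈ I, p.1 = [11 + i, c, 11 + i] ++ (p.1.drop 3).dropLast ++ [11 + i] ∧
    (∀ a ∈ (p.1.drop 3).dropLast, a ∈ Ml i i) ∧ ∀ a ∈ p.2, a ∈ BL) ∧
  (∀ i < 4, ∀ k < 4, i ≠ k → ∀ n < mN i k, 1 ≤ n → ∀ c ∈ Ul i, ∃ p ∈ I,
    p.1 = (up (alt k i n)).reverse ++ c :: up (alt k i n) ∧ ∀ a ∈ p.2, a ∈ Ml i k) ∧
  (∀ i < 4, ∀ c < 3, ∃ p ∈ I, p.1 = [11 + i, c, 11 + i] ∧ ∀ a ∈ p.2, a ∈ [0, 1, 2]) ∧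
  (∀ i < 4, ∀ a ∈ Ul i, ∀ b ∈ Ul i, a ≠ b → ∃ p ∈ I, p.1 = [a, b] ∧ ∃ c ∈ Ul i,
    p.2 = p.2.dropLast ++ [c] ∧ ∀ a ∈ p.2.dropLast, a ∈ [0, 1, 2])
instance (I : List (List ℕ × List ℕ)) : Decidable (Has2 I) := by unfold Has2; infer_instance

theorem gen_ind' {G : Type*} [Group G] {e : ℕ → G} {iv : ℕ → ℕ} (h : IvOK e iv) {L : List ℕ}
    (hL : ∀ c ∈ L, iv c ∈ L) {p : G → Prop} (h1 : p 1) (h2 : ∀ c ∈ L, ∀ b, p b → p (e c * b)) :
    ∀ b ∈ gen e L, p b := fun b hb => by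
  refine Subgroup.closure_induction_left (p := fun b _ => p b) h1 ?_ ?_ hb
  · rintro _ ⟨c, hc, rfl⟩ y _ a; exact h2 c hc y a
  · rintro _ ⟨c, hc, rfl⟩ y _ a; exact h c ▸ h2 _ (hL c hc) y a

section

variable {G : Type*} [Group G] {e : ℕ → G} (hiv : IvOK e (ivOf [0, 2, 1]))
  {I : List (List ℕ × List ℕ)} (hI : ∀ p ∈ I, ev e p.1 = ev e p.2) (H : Has2 I)
  (hD : ∀ i < 4, e (11 + i) ∉ gen e BL)

theorem gen_M (i k : ℕ) : gen e (Ml i k) ≤ gen e [0, 1, 2] ⊔
    closure (e '' {c | c ∈ Ul i} ∪ e '' {c | c ∈ Ul k}) := gen_le.2 fun c hc => by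
  simp only [Ml, List.mem_cons, List.mem_append] at hc
  rcases hc with rfl | rfl | rfl | hc | hc
  exacts [mem_sup_left (mem_gen (by decide)), mem_sup_left (mem_gen (by decide)),
    mem_sup_left (mem_gen (by decide)), mem_sup_right (subset_closure (Or.inl ⟨c, hc, rfl⟩)),
    mem_sup_right (subset_closure (Or.inr ⟨c, hc, rfl⟩))]

theorem alt_val (n : ℕ) : ∀ k i : Fin 4, (alt k i n).map Fin.val = alt k.1 i.1 n := by
  induction n with
  | zero => exact fun _ _ => rfl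
  | succ n ih => exact fun k i => congrArg (List.cons k.1) (ih i k)

include hiv in
theorem inv_e {c : ℕ} (h : 3 ≤ c) : (e c)⁻¹ = e c := by
  rw [← hiv, ivOf, nth_eq, List.getD_eq_default _ _ (by simpa using h)]

include hiv hI H hD

/-- The data. -/
def dat0 : Dat0 (Fin 4) G mF where
  s i := e (11 + i)
  H := gen e [0, 1, 2]
  U i := e '' {c | c ∈ Ul i}
  B := gen e BL
  cox i j := by
    have k : ∀ i j : Fin 4, i ≤ j → (e (11 + i) * e (11 + j)) ^ mF i j = 1 := fun i j h => by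
      have := hI _ (H.1 ((List.replicate (mF i j) [11 + i.1, 11 + j.1]).flatten.take
        (if i = j then 2 else 2 * mF i j)) (by revert i j; decide))
      fin_cases i <;> fin_cases j <;> first | exact absurd h (by decide) |
        simpa [mF, pow_succ, mul_assoc] using this
    rcases le_total i j with h | h
    · exact k i j h
    · rw [show mF i j = mF j i by revert i j; decide, ← inv_eq_one, ← inv_pow, mul_inv_rev,
        inv_e hiv (by omega), inv_e hiv (by omega)]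
      exact k j i h
  H_le := gen_mono (by decide)
  U_le := by rintro i _ ⟨c, hc, rfl⟩; exact mem_gen ((show ∀ i : Fin 4, ∀ c ∈ Ul i, c ∈ BL by decide) i c hc)
  nH i := by
    have : gen e [0, 1, 2] ≤ (gen e [0, 1, 2]).comap (MulAut.conj (e (11 + i))).toMonoidHom :=
      gen_le.2 fun c hc => by
        obtain ⟨p, hp, e1, e2⟩ := H.2.2.2.2.1 i i.2 c (by revert c; decide)
        have := hI p hp ▸ ev_mem_gen (e := e) e2
        rw [e1] at this
        simpa [inv_e hiv (c := 11 + i) (by omega), mul_assoc] using this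
    intro h hh
    simpa [inv_e hiv (c := 11 + i) (by omega)] using this hh
  ne i := ⟨_, (Ul i).headD 0, by revert i; decide, rfl⟩
  hA i := by
    have si := inv_e hiv (c := 11 + i) (by omega)
    have ss : e (11 + i) * e (11 + i) = 1 := by nth_rw 1 [← si]; exact inv_mul_cancel _
    have rB : ∀ r ∈ Rl i, (ev e r)⁻¹ = ev e r := fun r hr => by
      rw [← ev_invW hiv]; exact congrArg _ ((show ∀ i : Fin 4, ∀ r ∈ Rl i,
        invW (ivOf [0, 2, 1]) r = r by decide +kernel) i r hr)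
    have dec : ∀ b ∈ gen e BL, ∃ r ∈ Rl i, e (11 + i) * (ev e r * b) * e (11 + i) ∈ gen e BL :=
      gen_ind' hiv (by decide +kernel) ⟨[], by simp [Rl], by simp [ss]⟩ (by
        rintro c hc b ⟨r, hr, a⟩
        obtain ⟨r', hr', p, hp, e1, e2⟩ := H.2.1 i i.2 c hc r hr
        have := hI p hp ▸ ev_mem_gen (e := e) e2
        rw [e1, ev_cons, ev_append, ev_append, ev_cons, ev_cons, ev_nil] at this
        refine ⟨r', hr', ?_⟩
        convert Subgroup.mul_mem _ this a using 1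
        calc _ = e (11 + i) * (ev e r' * (e c * ev e r)) * (e (11 + i))⁻¹ * e (11 + i) * ((ev e r)⁻¹ * b) *
              e (11 + i) := by group
          _ = _ := by rw [si, rB r hr]; group)
    intro b hb
    obtain ⟨r, hr, h⟩ := dec b hb
    refine ⟨_, ?_, h⟩
    rcases List.mem_cons.1 hr with rfl | hr
    · exact Or.inl rfl
    · obtain ⟨c, hc, rfl⟩ := List.mem_map.1 hr
      exact Or.inr ⟨c, hc, by simp⟩
  hB := by
    rintro i _ ⟨c, hc, rfl⟩
    obtain ⟨p, hp, f1, f2, f3⟩ := H.2.2.1 i i.2 c hc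
    have f4 := hI p hp ▸ ev_mem_gen (e := e) f3
    have f5 := gen_M i i (ev_mem_gen (e := e) f2)
    rw [f1] at f4
    generalize (p.1.drop 3).dropLast = w at f4 f5
    rw [Set.union_self] at f5
    exact ⟨_, f5, by simpa [mul_assoc] using f4⟩
  hC := by
    rintro i k ik n n1 n2 _ ⟨c, hc, rfl⟩
    obtain ⟨p, hp, e1, e2⟩ := H.2.2.2.1 i i.2 k k.2 (fun h => ik (Fin.ext h)) n n2 n1 c hc
    have := gen_M i k (hI p hp ▸ ev_mem_gen (e := e) e2)
    have a : ∀ l : List ℕ, ev e (up l).reverse = (ev e (up l))⁻¹ := fun l => by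
      induction l with
      | nil => simp [up]
      | cons a l ih =>
        rw [show up (a :: l) = (11 + a) :: up l from rfl, List.reverse_cons, ev_append, ih, ev_cons, ev_cons,
          ev_nil, mul_one, mul_inv_rev, inv_e hiv (c := 11 + a) (by omega)]
    rw [e1, ev_append, ev_cons, a, ← mul_assoc, ← alt_val, ev, up, List.map_map, List.map_map] at this
    exact this
  hD i := hD i i.2

theorem dat0_top : (dat0 hiv hI H hD).B ⊔ closure (Set.range (dat0 hiv hI H hD).s) = gen e TL := by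
  refine le_antisymm (sup_le (gen_mono (by decide)) ((closure_le _).2 ?_)) (gen_le.2 fun c hc => ?_)
  · rintro _ ⟨i, rfl⟩
    exact mem_gen (by revert i; decide)
  · rcases (show ∀ c ∈ TL, c ∈ BL ∨ ∃ i : Fin 4, c = 11 + i by decide) c hc with h | ⟨i, rfl⟩
    exacts [mem_sup_left (mem_gen h), mem_sup_right (subset_closure ⟨i, rfl⟩)]

/-- The data in the group generated by all letters. -/
def dat : Dat (Fin 4) (gen e TL) mF := (dat0 hiv hI H hD).sub (dat0_top hiv hI H hD)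

theorem dat_B : (dat hiv hI H hD).B = (gen e BL).subgroupOf (gen e TL) := rfl

theorem dat_E {G' : Type*} [Group G'] (f : gen e TL →* G') (hf : Function.Surjective f)
    (hk : f.ker ≤ (dat hiv hI H hD).B) :
    (∀ i, ∀ r ∈ ((dat hiv hI H hD).map f hf hk).U i, ∀ r' ∈ ((dat hiv hI H hD).map f hf hk).U i, r ≠ r' →
      ∃ h ∈ ((dat hiv hI H hD).map f hf hk).H, ∃ c ∈ ((dat hiv hI H hD).map f hf hk).U i, r * r'⁻¹ = h * c) ∧
    ∀ i : Fin 4, (((dat hiv hI H hD).map f hf hk).U i).ncard = (Ul i).length := by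
  let T := (dat hiv hI H hD).map f hf hk
  let e' : ℕ → G' := fun c => if h : c ∈ TL then f ⟨e c, mem_gen h⟩ else 1
  have hU : ∀ i : Fin 4, T.U i = e' '' {c | c ∈ Ul i} := fun i => by
    have m : ∀ c ∈ Ul i, c ∈ TL := by revert i; decide
    ext x
    constructor
    · rintro ⟨⟨_, h⟩, ⟨c, hc, rfl⟩, rfl⟩
      exact ⟨c, hc, dif_pos (m c hc)⟩
    · rintro ⟨c, hc, rfl⟩
      exact ⟨⟨e c, mem_gen (m c hc)⟩, ⟨c, hc, rfl⟩, by simp only [e', dif_pos (m c hc)]⟩
  have hE : ∀ i : Fin 4, ∀ a ∈ Ul i, ∀ b ∈ Ul i, a ≠ b → ∃ h ∈ T.H, ∃ c ∈ T.U i, e' a * (e' b)⁻¹ = h * c := by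
    intro i a ha b hb ab
    have m := (show ∀ i : Fin 4, ∀ c ∈ Ul i, c ∈ TL ∧ 3 ≤ c by decide) i
    obtain ⟨p, hp, e1, c, hc, e2, e3⟩ := H.2.2.2.2.2 i i.2 a ha b hb ab
    have h1 := hI p hp
    have h2 := ev_mem_gen (e := e) e3
    rw [e1, e2] at h1
    generalize p.2.dropLast = w at h1 h2
    refine ⟨f ⟨_, gen_mono (l' := TL) (by decide) h2⟩, mem_map_of_mem f h2, e' c, hU i ▸ ⟨c, hc, rfl⟩, ?_⟩
    simp only [e', dif_pos (m a ha).1, dif_pos (m b hb).1, dif_pos (m c hc).1]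
    rw [← map_inv, ← map_mul, ← map_mul]
    refine congrArg f (Subtype.ext ?_)
    simpa [inv_e hiv (m b hb).2] using h1
  have inj : ∀ i : Fin 4, Set.InjOn e' {c | c ∈ Ul i} := fun i a ha b hb h => by_contra fun ab => by
    obtain ⟨x, hx, c, hc, e1⟩ := hE i a ha b hb ab
    rw [h, mul_inv_cancel, eq_comm, mul_eq_one_iff_inv_eq] at e1
    exact T.not_conj hc (e1 ▸ T.H_le (T.nH i _ (inv_mem hx)))
  have cd : ∀ i : Fin 4, (T.U i).ncard = (Ul i).length := fun i => by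
    rw [hU, (inj i).ncard_image, ← List.coe_toFinset, Set.ncard_coe_finset,
      List.toFinset_card_of_nodup (by revert i; decide)]
  refine ⟨fun i r hr r' hr' ne => ?_, cd⟩
  rw [hU] at hr hr'
  obtain ⟨a, ha, rfl⟩ := hr
  obtain ⟨b, hb, rfl⟩ := hr'
  exact hE i a ha b hb fun h => ne (h ▸ rfl)

/-- A simple quotient of the group generated by the letters by a subgroup of `B` is `²E₆(2)`. -/
theorem iso_w {G' : Type*} [Group G'] [Finite G'] [IsSimpleGroup G'] (f : gen e TL →* G')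
    (hf : Function.Surjective f) (hk : ∀ x, f x = 1 → (x : G) ∈ gen e BL)
    (K : Type) [Field K] [Fintype K] (hK : Fintype.card K = 4) : Nonempty (G' ≃* Lie.twistedE6 K 2) :=
  have h := dat_E hiv hI H hD f hf hk
  Dat.iso _ h.1 (h.2 0) (h.2 1) (h.2 2) (h.2 3) K hK

/-- If the group generated by the letters is finite and perfect, it maps onto `²E₆(2)`, the kernel being the
core of `B`. -/
theorem hom_w [Finite (gen e TL)] (hp : commutator (gen e TL) = ⊤)
    (K : Type) [Field K] [Fintype K] (hK : Fintype.card K = 4) :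
    ∃ f : gen e TL →* Lie.twistedE6 K 2, Function.Surjective f ∧
      f.ker = ((gen e BL).subgroupOf (gen e TL)).normalCore := by
  have h := dat_E hiv hI H hD (MonoidHom.id _) Function.surjective_id (by simp)
  obtain ⟨f, hf, hk⟩ := Dat.hom _ hp h.1 (h.2 0) (h.2 1) (h.2 2) (h.2 3) K hK
  exact ⟨f, hf, hk.trans (congrArg normalCore (Subgroup.map_id _))⟩

end

end H13.BN0
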