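import Mathlib
import Cfsg.Prelude.Def_CaseTheorems
import Cfsg.Agent.H24.Base5
import Cfsg.Agent.H26.S01
import Cfsg.Agent.H26.SAB
import Cfsg.Agent.H2.Quaternion

/-!
# Solvable groups of odd order whose Sylow `p`-subgroups have cyclic derived subgroup
-/

set_option autoImplicit false

namespace H13

open Cfsg Subgroup H24

universe u

variable {G : Type u} [Group G] [Finite G] {p : ℕ} {D E M S : Subgroup G}

theorem le_Phi_of_cyc_of_lt (hp : p.Prime) (hD : IsPi {p} D) (hc : Cyc D) (h : E < D) :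
    E ≤ Phi D := by
  obtain ⟨d, rfl⟩ := cyc_iff.1 hc
  intro x hx
  obtain ⟨k, rfl⟩ := h.le hx
  change d ^ k ∈ E at hx
  change d ^ k ∈ _
  by_cases hk : (p : ℤ) ∣ k
  · obtain ⟨j, rfl⟩ := hk
    rw [mul_comm, zpow_mul, zpow_natCast]
    exact hD.pow_mem_Phi hp (zpow_mem (mem_zpowers d) j)
  · have : Fact p.Prime := ⟨hp⟩
    obtain ⟨i, hi⟩ := H2.IsPGroup.mem_zpowers_zpow (hD.isPGroup hp) ⟨d, mem_zpowers d⟩ hk
    have hi : (d ^ k) ^ i = d := congrArg Subtype.val hi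
    exact (h.not_ge (zpowers_le.2 (hi ▸ zpow_mem hx i))).elim

theorem comm_le_Phi_of_cyc (hp : p.Prime) (hD : IsPi {p} D) (hc : Cyc D) (hS : IsPi {p} S)
    (hn : S ≤ N[D]) : ⁅D, S⁆ ≤ Phi D := by
  by_cases h1 : D = ⊥
  · rw [h1, commutator_bot_left]; exact bot_le
  · exact le_Phi_of_cyc_of_lt hp hD hc
      (nil_comm_properl ((hD.sup hS hn).nil hp) le_sup_left h1 le_sup_right hn)

theorem le_pcore_of_quadratic_mod_Phi (hp : p.Prime) (hM : Sol M) (hodd : Odd ♯M)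
    (hO : O[{p}ᶜ, M] = ⊥) (hSM : S ≤ M) (hq : ⁅⁅O[{p}, M], S⁆, S⁆ ≤ Phi O[{p}, M]) :
    S ≤ O[{p}, M] := by
  set P := O[{p}, M] with hP
  have hPp : IsPi {p} P := pcore_pi _ _
  have hPM : P ⊴ M := pcore_nml _ _
  have hK : Phi P ⊴ M := hPM.Phi
  have hKp : IsPi {p} (Phi P) := hPp.of_le (Phi_le P)
  have hPb := hPM.quo (Phi P)
  have h1 := H26.odd_p_stable' hp (odd_quo hodd (Phi P)) (hPp.quo (Phi P)) hPb.le
    (A := quo S (Phi P)) (le_inf (quo_mono _ hSM) ((quo_mono _ hSM).trans hPb.norm)) (by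
      rw [← quo_comm (hPM.le.trans hK.norm) (hSM.trans hK.norm),
        ← quo_comm ((comm_le_of_le hPM.le hSM).trans hK.norm) (hSM.trans hK.norm)]
      exact quo_eq_bot_of_le hq)
  have h2 : IsPi {p} (quo M (Phi P) ⊓ C[quo P (Phi P)]) := by
    intro q hq hd
    obtain ⟨X, hX, hXq⟩ := exists_card_prime hq
      (H := coq (Phi P) (quo M (Phi P) ⊓ C[quo P (Phi P)])) (by
        rw [card_coq]; exact Dvd.dvd.mul_left hd _)
    by_contra hqp
    have hXM : X ≤ M := hX.trans (coq_le_of_le_quo hK inf_le_left)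
    have hXp : IsPi {p}ᶜ X := (isPi_of_card_prime hq hXq).compl_of_ne hqp
    have h3 : X ≤ C[P] := H26.coprime_cent_Phi (hPp.coprime hXp) (by
      rw [commC, ← quo_cents (hXM.trans hK.norm) (hPM.le.trans hK.norm)]
      exact ((quo_le_iff (hXM.trans hK.norm)).2 hX).trans inf_le_right)
    have h4 := (hPp.of_le ((le_inf hXM h3).trans (cent_sub_pcore hp hM hO))).eq_bot hXp
    rw [h4, card_bot] at hXq
    exact hq.one_lt.ne hXq
  rw [inf_eq_left.2 hPb.norm, coreMod_of_pi h2 hPb.infC, ← quo_pcore hKp hK] at h1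
  exact le_of_quo_le (hSM.trans hK.norm) (Phi_nml P) h1

theorem plen1_of_cyc_der1 (hp : p.Prime) (hM : Sol M) (hodd : Odd ♯M) (hS : Syl p M S)
    (hc : Cyc ⁅S, S⁆) : PLen1 p M := by
  have key : ∀ {G : Type u} [Group G] [Finite G] {M S : Subgroup G}, Sol M → Odd ♯M → Syl p M S →
      Cyc ⁅S, S⁆ → O[{p}ᶜ, M] = ⊥ → PLen1 p M := by
    intro G _ _ M S hM hodd hS hc hO
    have hPS : O[{p}, M] ≤ S := pcore_le_Hall hS
    have hn : S ≤ N[O[{p}, M]] := hS.le.trans (pcore_nml _ _).norm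
    have h1 : ⁅O[{p}, M], S⁆ ≤ O[{p}, M] := comm_le_left hn
    have h2 := le_pcore_of_quadratic_mod_Phi hp hM hodd hO hS.le
      ((comm_le_Phi_of_cyc hp ((pcore_pi _ _).of_le h1) (hc.of_le (comm_mono_left hPS)) hS.pi
        (norm_comm_right _ _)).trans (Phi_mono hp (pcore_pi _ _) h1))
    exact plen1_of_syl_nml hS (le_antisymm hPS h2 ▸ (pcore_nml _ _).norm)
  have hK : O[{p}ᶜ, M] ⊴ M := pcore_nml _ _
  rw [← H26.p'quo_plength1 hp hK (pcore_pi _ _)]
  refine key (hM.quo _) (odd_quo hodd _) (hS.quo hK.norm) ?_ (pcore_quo_pcore _ _)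
  rw [← quo_comm (hS.le.trans hK.norm) (hS.le.trans hK.norm)]
  exact hc.quo _

theorem normal_pPrimeCore_sup_sylow_of_cyclic_derived [Group.IsSolvable G]
    (hX : Odd (Nat.card G)) (p : ℕ) [hp : Fact p.Prime] (S : Sylow p G)
    (hS : IsCyclic (commutator (S : Subgroup G))) : (pPrimeCore p G ⊔ (S : Subgroup G)).Normal := by
  have h1 := syl_top_of_sylow hp.out S
  have h2 := plen1_of_cyc_der1 hp.out sol_top (by rwa [card_top]) h1 (by
    rw [der1_eq_map]; exact Cyc.map hS _)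
  rw [← nml_top_iff, ← pcore_compl_singleton_top hp.out]
  exact h2.sup_nml h1

end H13
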