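import Mathlib
import Cfsg.Agent.H13.K3L0
import Cfsg.Agent.H1.Frob

/-!
# The configuration `2^3 · GL(3,2)`: no fixed-point-free submodule of `End(V)`
-/

set_option autoImplicit false
set_option linter.unusedSectionVars false
set_option linter.unusedVariables false

namespace H13.K3

open Cfsg H24 Subgroup Matrix

universe u

variable {G : Type u} [Group G]

theorem exists_mat (f : W → W) (hf : ∀ a b, f (a + b) = f a + f b) :
    ∃ A : En, ∀ a, A.mulVec a = f a :=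
  ⟨LinearMap.toMatrix' ((AddMonoidHom.mk' f hf).toZModLinearMap 2), fun a => by
    rw [LinearMap.toMatrix'_mulVec]; rfl⟩

theorem mat_ext {A B : En} (h : ∀ a, A.mulVec a = B.mulVec a) : A = B :=
  Matrix.toLin'.injective (LinearMap.ext fun a => by simpa using h a)

set_option synthInstance.maxSize 4096 in
set_option synthInstance.maxHeartbeats 200000 in
theorem pe (A : En) (h0 : A.trace = 0)
    (h : ∀ g : En, g ^ 7 = 1 → g ≠ 1 → (A * g).trace = 0) : A = 0 := by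
  have h1 := h !![0, 0, 1; 1, 0, 0; 0, 1, 1] (by decide +kernel) (by decide +kernel)
  have h2 := h !![0, 0, 1; 1, 0, 0; 1, 1, 0] (by decide +kernel) (by decide +kernel)
  have h3 := h !![0, 0, 1; 1, 0, 1; 0, 1, 0] (by decide +kernel) (by decide +kernel)
  have h4 := h !![0, 0, 1; 1, 1, 0; 0, 1, 0] (by decide +kernel) (by decide +kernel)
  have h5 := h !![0, 1, 0; 0, 0, 1; 1, 0, 1] (by decide +kernel) (by decide +kernel)
  have h6 := h !![0, 1, 0; 0, 0, 1; 1, 1, 0] (by decide +kernel) (by decide +kernel)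
  have h7 := h !![0, 1, 0; 1, 0, 1; 1, 0, 0] (by decide +kernel) (by decide +kernel)
  have h8 := h !![1, 0, 1; 1, 0, 0; 0, 1, 0] (by decide +kernel) (by decide +kernel)
  simp [Matrix.trace_fin_three, Matrix.mul_apply, Fin.sum_univ_three] at h0 h1 h2 h3 h4 h5 h6 h7 h8
  have key : ∀ a b c d e f g i j : ZMod 2, (a + e + j = 0 ∧ b + f + (g + j) = 0 ∧
      b + c + f + g = 0 ∧ b + f + (g + i) = 0 ∧ b + (e + f) + g = 0 ∧ c + d + (i + j) = 0 ∧
      c + (d + f) + i = 0 ∧ b + c + d + i = 0 ∧ a + b + f + g = 0) →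
      a = 0 ∧ b = 0 ∧ c = 0 ∧ d = 0 ∧ e = 0 ∧ f = 0 ∧ g = 0 ∧ i = 0 ∧ j = 0 := by
    decide +kernel
  obtain ⟨a, b, c, d, e, f, g, i, j⟩ := key _ _ _ _ _ _ _ _ _ ⟨h0, h1, h2, h3, h4, h5, h6, h7, h8⟩
  rw [Matrix.eta_fin_three A, a, b, c, d, e, f, g, i, j]
  decide +kernel

variable [Finite G] {V : Subgroup G} {ι : W → G} {ψ : ↥N[V] →* En}

theorem Co.zero (h : Co V ι ψ) : ι 0 = 1 := by
  have := h.add 0 0
  rw [add_zero] at this
  exact (mul_eq_left.1 this.symm)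

theorem Co.ker (h : Co V ι ψ) {m : ↥N[V]} (hm : ψ m = 1) : (m : G) ∈ C[V] := by
  rw [mem_centralizer_iff]
  intro v hv
  obtain ⟨a, rfl⟩ := (h.mem v).1 hv
  have := h.act m a
  rw [hm, one_mulVec] at this
  calc ι a * m = (m : G) * ι a * (m : G)⁻¹ * m := by rw [← this]
    _ = m * ι a := by group

theorem Co.lift (h : Co V ι ψ) (hQ : IsPi {2} C[V]) {q : ℕ} (hq : q.Prime) {r : ℕ}
    (hr : 2 ∣ r) (hr1 : r ≡ 1 [MOD q]) {A : En} (hA : A ^ q = 1) (h1 : A ≠ 1) :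
    ∃ m : ↥N[V], ψ m = A ∧ orderOf (m : G) = q := by
  have := Fact.mk hq
  obtain ⟨m, hm⟩ := h.sur A (A ^ (q - 1)) (by
    rw [← pow_succ', Nat.sub_add_cancel hq.one_le, hA])
  have h2 : ((m ^ q : ↥N[V]) : G) ∈ C[V] := h.ker (by rw [map_pow, hm, hA])
  have hp : IsPGroup 2 ↥C[V] := hQ.isPGroup Nat.prime_two
  obtain ⟨n, hn⟩ := hp ⟨_, h2⟩
  have hn' : ((m : G) ^ q) ^ 2 ^ n = 1 := by simpa using congrArg Subtype.val hn
  have hA' : A ^ r ^ n = A := by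
    have : r ^ n ≡ 1 [MOD q] := by simpa using hr1.pow n
    have e1 : r ^ n % q = 1 := by rw [this, Nat.mod_eq_of_lt hq.one_lt]
    rw [← Nat.div_add_mod (r ^ n) q, pow_add, pow_mul, hA, one_pow, one_mul, e1, pow_one]
  refine ⟨m ^ r ^ n, by rw [map_pow, hm, hA'], orderOf_eq_prime ?_ ?_⟩
  · obtain ⟨s, rfl⟩ := hr
    rw [SubgroupClass.coe_pow, ← pow_mul, mul_comm, pow_mul, mul_pow, pow_mul, hn', one_pow]
  · intro e
    have e' : m ^ r ^ n = 1 := Subtype.ext e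
    apply h1
    rw [← hA', ← hm, ← map_pow, e', map_one]

theorem NV_le (V : Subgroup G) : N[V] ≤ N[C[V]] := by
  exact norm_C le_rfl

theorem en (h : Co V ι ψ) (hQ : IsPi {2} C[V])
    (om : ∀ u ∈ C[V], u ∈ C[C[V]] → u * u = 1 → u ∈ V)
    (f7 : ∀ g : G, orderOf g = 7 → C[V] ⊓ C{g} = ⊥) (b : W → G) (hb : ∀ a, b a ∈ Bq C[V])
    (add : ∀ a a', (b a * b a')⁻¹ * b (a + a') ∈ Zq C[V])
    (eqv : ∀ (m : ↥N[V]) a, ((m : G) * b a * (m : G)⁻¹)⁻¹ * b ((ψ m).mulVec a) ∈ Zq C[V]) :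
    ∀ a, b a ∈ Zq C[V] := by
  -- commutators with elements of `B`
  have cz : ∀ q ∈ C[V], ∀ c ∈ Bq C[V], ∀ z ∈ Zq C[V],
      q * (c * z) * q⁻¹ * (c * z)⁻¹ = q * c * q⁻¹ * c⁻¹ := by
    intro q hq c hc z hz
    have h1 := (mem_Zq.1 hz).2 q⁻¹ (inv_mem hq)
    calc q * (c * z) * q⁻¹ * (c * z)⁻¹ = q * c * (z * q⁻¹) * z⁻¹ * c⁻¹ := by group
      _ = _ := by rw [← h1]; group
  have cm : ∀ q ∈ C[V], ∀ c ∈ Bq C[V], ∀ d ∈ Bq C[V],
      q * (c * d) * q⁻¹ * (c * d)⁻¹ = (q * c * q⁻¹ * c⁻¹) * (q * d * q⁻¹ * d⁻¹) := by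
    intro q hq c hc d hd
    have h1 := (mem_Zq.1 (hd.2.2 q hq)).2 c hc.1
    calc q * (c * d) * q⁻¹ * (c * d)⁻¹
        = (q * c * q⁻¹ * c⁻¹) * (c * (q * d * q⁻¹ * d⁻¹)) * c⁻¹ := by group
      _ = _ := by rw [h1]; group
  have cV : ∀ q ∈ C[V], ∀ c ∈ Bq C[V], q * c * q⁻¹ * c⁻¹ ∈ V := by
    intro q hq c hc
    have h1 := hc.2.2 q hq
    refine om _ h1.1 h1.2 ?_
    rw [← cm q hq c hc c hc, (mem_Zq.1 hc.2.1).2 q hq]
    group
  have ex : ∀ q : ↥C[V], ∃ A : En, ∀ a,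
      ι (A.mulVec a) = (q : G) * b a * (q : G)⁻¹ * (b a)⁻¹ := by
    intro q
    choose f hf using fun a => (h.mem _).1 (cV q q.2 (b a) (hb a))
    obtain ⟨A, hA⟩ := exists_mat f (fun a a' => h.inj (by
      rw [h.add, hf, hf, hf, ← cm q q.2 _ (hb a) _ (hb a'),
        ← cz q q.2 _ (mul_mem (hb a) (hb a')) _ (add a a')]
      simp only [mul_inv_cancel_left]))
    exact ⟨A, fun a => by rw [hA, hf]⟩
  choose Φ hΦ using ex
  have Φmul : ∀ q q' : ↥C[V], Φ (q * q') = Φ q + Φ q' := by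
    intro q q'
    refine mat_ext fun a => h.inj ?_
    rw [add_mulVec, add_comm, h.add, hΦ, hΦ, hΦ]
    have h1 := (mem_Zq.1 ((hb a).2.2 q' q'.2)).2 q q.2
    push_cast
    calc (q : G) * q' * b a * ((q : G) * q')⁻¹ * (b a)⁻¹
        = ((q : G) * ((q' : G) * b a * (q' : G)⁻¹ * (b a)⁻¹)) * b a * (q : G)⁻¹ * (b a)⁻¹ := by
          group
      _ = _ := by rw [h1]; group
  have Φone : Φ 1 = 0 := by
    have := Φmul 1 1
    rw [mul_one] at this
    exact (add_eq_left.1 this.symm)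
  have Φconj : ∀ (m : ↥N[V]) (q q' : ↥C[V]), (q' : G) = m * q * (m : G)⁻¹ →
      Φ q' * ψ m = ψ m * Φ q := by
    intro m q q' e
    refine mat_ext fun a => h.inj ?_
    rw [← mulVec_mulVec, ← mulVec_mulVec, hΦ, h.act, hΦ]
    have h1 := cz q' q'.2 _ (conj_Bq (NV_le V m.2) (hb a)) _ (eqv m a)
    rw [mul_inv_cancel_left] at h1
    rw [h1, e]
    group
  have key : ∀ (q : ↥C[V]) (g : En), g ^ 7 = 1 → g ≠ 1 →
      ∃ A : En, Φ q * g = A * g + g * A := by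
    intro q g hg g1
    obtain ⟨m, hm, ho⟩ := h.lift hQ (q := 7) (by norm_num) (r := 8) (by norm_num) (by decide) hg g1
    obtain ⟨u, hu, e⟩ := H1.exists_conj_eq_mul (NV_le V m.2) (f7 m ho) q.2
    have hu' : (m : G) * u⁻¹ * (m : G)⁻¹ ∈ C[V] :=
      (mem_normalizer_iff.1 (NV_le V m.2) _).1 (inv_mem hu)
    have e1 : q = ⟨u, hu⟩ * ⟨_, hu'⟩ := Subtype.ext (by
      push_cast
      calc (q : G) = (q * m) * (m : G)⁻¹ := by group
        _ = _ := by rw [← e]; group)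
    have e2 := Φconj m (⟨u, hu⟩ : ↥C[V])⁻¹ ⟨_, hu'⟩ rfl
    have e3 : Φ (⟨u, hu⟩ : ↥C[V])⁻¹ = Φ ⟨u, hu⟩ := by
      have := Φmul ⟨u, hu⟩ (⟨u, hu⟩ : ↥C[V])⁻¹
      rw [mul_inv_cancel, Φone] at this
      rw [← neg_eq_of_add_eq_zero_right this.symm]
      ext i j
      exact ZMod.neg_eq_self_mod_two _
    refine ⟨Φ ⟨u, hu⟩, ?_⟩
    rw [e1, Φmul, add_mul, ← hm, e2, e3]
  have two : ∀ x : ZMod 2, x + x = 0 := by decide
  have Φ0 : ∀ q, Φ q = 0 := by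
    intro q
    refine pe _ ?_ fun g hg g1 => ?_
    · obtain ⟨A, hA⟩ := key q !![0, 0, 1; 1, 0, 0; 0, 1, 1] (by decide +kernel) (by decide +kernel)
      set g : En := !![0, 0, 1; 1, 0, 0; 0, 1, 1]
      have hg : g * g ^ 6 = 1 := by decide +kernel
      have hg' : g ^ 6 * g = 1 := by decide +kernel
      have : Φ q = A + g * A * g ^ 6 := by
        calc Φ q = Φ q * g * g ^ 6 := by rw [mul_assoc, hg, mul_one]
          _ = _ := by rw [hA, add_mul, mul_assoc A, hg, mul_one]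
      rw [this, trace_add, trace_mul_cycle, hg', one_mul, two]
    · obtain ⟨A, hA⟩ := key q g hg g1
      rw [hA, trace_add, trace_mul_comm g, two]
  intro a
  refine mem_Zq.2 ⟨(hb a).1, fun q hq => ?_⟩
  have := hΦ ⟨q, hq⟩ a
  rw [Φ0, zero_mulVec, h.zero] at this
  calc q * b a = (q * b a * q⁻¹ * (b a)⁻¹) * (b a * q) := by group
    _ = b a * q := by rw [← this, one_mul]

end H13.K3
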