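import Mathlib
import Cfsg.Agent.H13.K3En
import Cfsg.Agent.H29.K3L1
import Cfsg.Agent.H8.K3Co
import Cfsg.Agent.H10.K3Px
import Cfsg.Agent.H20.K3Px
import Cfsg.Agent.H22.K3Pi

/-!
# A `2`-local section `L₃(2)` in the thin case: the `2`-core is abelian
-/

set_option autoImplicit false
set_option linter.unusedSectionVars false
set_option linter.unusedVariables false

namespace H13.K3

open Cfsg H24 H26 Subgroup H18.K3

universe u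

variable {G : Type u} [Group G] [Finite G] {p a b : ℕ} {Q V X : Subgroup G} {x y : G}

theorem wl (h : KT G 7 a b) (hX : IsPi {2} X) (hx : orderOf x = 7)
    (hy : orderOf y = 3) (hn : y ∈ N[zpowers x]) (xW : x ∈ N[X]) (yW : y ∈ N[X]) :
    ♯X = ♯(X ⊓ C{y} : Subgroup G) ^ 3 := by
  have p7 : Nat.Prime 7 := h.prime
  have o7 : IsPi {2}ᶜ (zpowers x) :=
    (piElt_of_orderOf_prime p7 hx).isPi.compl_of_ne (by decide)
  have o3 : IsPi {2}ᶜ (zpowers y) :=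
    (piElt_of_orderOf_prime Nat.prime_three hy).isPi.compl_of_ne (by decide)
  have hs : Semireg (zpowers x) (zpowers y) := fun g hg g1 => by
    rw [eq_bot_iff]
    intro u hu
    by_contra u1
    have h2 : g ∈ zpowers u := by
      rw [← h.cent_p (H29.K3L.ord_of_mem p7 hx hu.1 u1)]; exact mem_C1_comm.1 hu.2
    have h3 := H29.K3L.ord_of_mem p7 (H29.K3L.ord_of_mem p7 hx hu.1 u1) h2 g1
    rw [H29.K3L.ord_of_mem Nat.prime_three hy hg g1] at h3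
    omega
  have e := H1.regular_Wielandt_fixpoint (zpowers_le.2 hn) hs (zpowers_le.2 xW) (zpowers_le.2 yW)
    (hX.coprime (o7.sup o3 (zpowers_le.2 hn))) (hX.sol Nat.prime_two)
  have b1 : X ⊓ C[zpowers x] = ⊥ := by
    rw [C_zpowers, h.cent_p hx]; exact hX.inf_eq_bot o7
  have b2 : X ⊓ C[zpowers x ⊔ zpowers y] = ⊥ :=
    eq_bot_iff.2 ((inf_le_inf_left _ (C_anti le_sup_left)).trans b1.le)
  rw [b1, b2, card_bot, card_zpowers', hy, one_pow, one_mul, mul_one, C_zpowers] at e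
  exact e

theorem exists_B (hQ : IsPi {2} Q) (hna : ¬ Abl Q) : ∃ b ∈ Bq Q, b ∉ Zq Q := by
  have hn : Q ≤ N[Zq Q] := (norm_self Q).trans (norm_Zq Q)
  have h1 : quo Q (Zq Q) ≠ ⊥ := fun e => hna (abl_iff.2 fun q hq => ((quo_eq_bot hn).1 e hq).2)
  have h2 := hQ.quo (Zq Q)
  have h3 := (h2.nil Nat.prime_two).center_ne_bot h1
  have h4 : IsPi {2} Z[quo Q (Zq Q)] := h2.of_le inf_le_left
  have h5 : 2 ∣ ♯Z[quo Q (Zq Q)] := by
    obtain ⟨r, hr, hd⟩ := Nat.exists_prime_and_dvd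
      (n := ♯Z[quo Q (Zq Q)]) (fun e => h3 (card_eq_one.1 e))
    have : r = 2 := h4 r hr hd
    exact this ▸ hd
  obtain ⟨k, hk, ok⟩ := exists_orderOf_eq Nat.prime_two h5
  obtain ⟨c, hc, hcn, rfl⟩ := mem_quo.1 hk.1
  refine ⟨c, ⟨hc, ?_, fun q hq => ?_⟩, fun hz => ?_⟩
  · rw [← cs_eq_one (mul_mem hcn hcn), cs, ap_mul _ hcn hcn, ← sq, ← ok]
    exact pow_orderOf_eq_one _
  · have e := mem_centralizer_iff.1 hk.2 _ (cs_mem_quo hq (hn hq))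
    have hq' := hn hq
    rw [← cs_eq_one (mul_mem (mul_mem (mul_mem hq' hcn) (inv_mem hq')) (inv_mem hcn)), cs,
      ap_mul _ (mul_mem (mul_mem hq' hcn) (inv_mem hq')) (inv_mem hcn),
      ap_mul _ (mul_mem hq' hcn) (inv_mem hq'), ap_mul _ hq' hcn, ap_inv _ hq', ap_inv _ hcn]
    simp only [cs] at e
    rw [e]; group
  · rw [cs_of_mem hz, orderOf_one] at ok
    omega

theorem abl (h : KT G 7 a b)
    (rk : ∀ x : G, orderOf x = 3 → ∀ a ∈ C{x}, ∀ b ∈ C{x}, a ≠ 1 → a * a = 1 → b ≠ 1 → b * b = 1 →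
      a * b = b * a → a = b) (hV : IsElementaryAbelian 2 V) (cV : ♯V = 8) (h2 : IsPi {2} C[V])
    (cN : ♯N[V] = ♯C[V] * 168) (om : ∀ u ∈ C[V], u ∈ C[C[V]] → u * u = 1 → u ∈ V)
    (hx : x ∈ N[V]) (hy : y ∈ N[V]) (ox : orderOf x = 7) (oy : orderOf y = 3)
    (hn : y ∈ N[zpowers x]) : Abl C[V] := by
  by_contra hna
  have p7 : Nat.Prime 7 := h.prime
  have o3 : IsPi {2}ᶜ (zpowers y) :=
    (piElt_of_orderOf_prime Nat.prime_three oy).isPi.compl_of_ne (by decide)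
  have yC : y ∉ C[V] := fun hc => by
    have : y ∈ C[V] ⊓ zpowers y := ⟨hc, mem_zpowers y⟩
    rw [h2.inf_eq_bot o3, mem_bot] at this
    rw [this, orderOf_one] at oy
    omega
  obtain ⟨ι, ψ, co, hψ⟩ := H8.K3L.co hV cV cN hy oy yC
  have h1 : C[V] ≠ ⊥ := fun e => hna (by rw [e]; infer_instance)
  have hx' := NV_le V hx
  have hy' := NV_le V hy
  obtain ⟨e, eZ, eB, eN, e4⟩ := H22.K3L.pi rk h2 oy hy' h1 (fun X hX hN hb => by
    have := wl h (h2.of_le hX) ox oy hn (hN hx') (hN hy')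
    rw [hb, card_bot, one_pow] at this
    exact card_eq_one.1 this)
  have nZ : N[V] ≤ N[Zq C[V]] := (NV_le V).trans (norm_Zq _)
  have qZ : C[V] ≤ N[Zq C[V]] := (norm_self _).trans (norm_Zq _)
  have bZ : Bq C[V] ≤ N[Zq C[V]] := (Bq_le _).trans qZ
  let θ : ↥N[V] →* QN (Zq C[V]) := (coset (Zq C[V])).comp (inclusion nZ)
  have hθ : ∀ m : ↥N[V], θ m = cs (Zq C[V]) m := fun m =>
    (ap_of_mem (coset (Zq C[V])) (nZ m.2)).symm
  have hc : ∀ (m : ↥N[V]), ∀ c ∈ Bq C[V], θ m * cs (Zq C[V]) c * (θ m)⁻¹ =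
      cs (Zq C[V]) ((m : G) * c * (m : G)⁻¹) := by
    intro m c hc
    rw [hθ, cs, cs, cs, ap_mul _ (mul_mem (nZ m.2) (bZ hc)) (inv_mem (nZ m.2)),
      ap_mul _ (nZ m.2) (bZ hc), ap_inv _ (nZ m.2)]
  have ex : ∀ k : QN (Zq C[V]), ∃ a : W, ∀ c ∈ Bq C[V], cs (Zq C[V]) c = k → ι a = c ^ e := by
    intro k
    by_cases hk : ∃ c ∈ Bq C[V], cs (Zq C[V]) c = k
    · obtain ⟨c, hc, rfl⟩ := hk
      obtain ⟨a, ha⟩ := (co.mem _).1 (om _ (eB c hc).1.1 (eB c hc).1.2 (eB c hc).2)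
      refine ⟨a, fun d hd e1 => ?_⟩
      have h3 := (cs_eq_cs (bZ hd) (bZ hc)).1 e1
      have h4 : Commute d (d⁻¹ * c) := (mem_Zq.1 h3).2 d hd.1
      rw [ha, ← mul_inv_cancel_left d c, h4.mul_pow, eZ _ h3, mul_one]
    · exact ⟨0, fun c hc e1 => (hk ⟨c, hc, e1⟩).elim⟩
  choose π hπ using ex
  have nX : ∀ m, ∀ k ∈ quo (Bq C[V]) (Zq C[V]), θ m * k * (θ m)⁻¹ ∈ quo (Bq C[V]) (Zq C[V]) := by
    intro m k hk
    obtain ⟨c, hc1, -, rfl⟩ := mem_quo.1 hk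
    rw [hc m c hc1]
    have := conj_Bq (NV_le V m.2) hc1
    exact cs_mem_quo this (bZ this)
  have ker : ∀ m, ψ m = 1 → ∀ k ∈ quo (Bq C[V]) (Zq C[V]), θ m * k * (θ m)⁻¹ = k := by
    intro m hm k hk
    obtain ⟨c, hc1, -, rfl⟩ := mem_quo.1 hk
    have h3 := conj_Bq (NV_le V m.2) hc1
    rw [hc m c hc1, eq_comm, cs_eq_cs (bZ hc1) (bZ h3)]
    have h4 := hc1.2.2 m (co.ker hm)
    have h5 := (mem_Zq.1 h4).2 c⁻¹ (inv_mem hc1.1)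
    have : c⁻¹ * ((m : G) * c * (m : G)⁻¹) = (m : G) * c * (m : G)⁻¹ * c⁻¹ := by
      calc c⁻¹ * ((m : G) * c * (m : G)⁻¹) = c⁻¹ * ((m : G) * c * (m : G)⁻¹ * c⁻¹) * c := by group
        _ = _ := by rw [h5]; group
    rw [this]; exact h4
  have two : ∀ k ∈ quo (Bq C[V]) (Zq C[V]), k * k = 1 := by
    intro k hk
    obtain ⟨c, hc1, -, rfl⟩ := mem_quo.1 hk
    rw [cs, ← ap_mul _ (bZ hc1) (bZ hc1)]
    exact cs_of_mem hc1.2.1
  have hπ' : ∀ m, ∀ k ∈ quo (Bq C[V]) (Zq C[V]),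
      π (θ m * k * (θ m)⁻¹) = (ψ m).mulVec (π k) := by
    intro m k hk
    obtain ⟨c, hc1, -, rfl⟩ := mem_quo.1 hk
    apply co.inj
    rw [co.act, hπ _ c hc1 rfl, hπ _ _ (conj_Bq (NV_le V m.2) hc1) (hc m c hc1).symm, conj_pow]
  have nz : ∀ k ∈ quo (Bq C[V]) (Zq C[V]), k ∈ C{θ ⟨y, hy⟩} → k ≠ 1 → π k ≠ 0 := by
    intro k hk hky k1 h0
    obtain ⟨c, hc1, -, rfl⟩ := mem_quo.1 hk
    have h3 := hπ _ c hc1 rfl
    rw [h0, co.zero] at h3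
    refine eN c hc1 ?_ (fun hz => k1 (cs_of_mem hz)) h3.symm
    have h4 := hc ⟨y, hy⟩ c hc1
    rw [mem_C1_iff_conj.1 (mem_C1_comm.1 hky)] at h4
    have h5 := conj_Bq hy' hc1
    have h6 := (cs_eq_cs (bZ hc1) (bZ h5)).1 h4
    have h7 := (mem_Zq.1 h6).2 c hc1.1
    have : y * c * y⁻¹ * c⁻¹ = c⁻¹ * (y * c * y⁻¹) := by
      calc y * c * y⁻¹ * c⁻¹ = c * (c⁻¹ * (y * c * y⁻¹)) * c⁻¹ := by group
        _ = _ := by rw [h7]; group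
    rw [this]; exact h6
  have pZ : IsPi {2} (Zq C[V]) := h2.of_le inf_le_left
  have pB : IsPi {2} (Bq C[V]) := h2.of_le (Bq_le _)
  have nml : Zq C[V] ⊴ Bq C[V] := ⟨Zq_le_Bq _, bZ⟩
  have c1 := H1.card_inf_C_quo nml (zpowers_le.2 (nZ hy)) (pZ.coprime o3)
    (Or.inl (pZ.sol Nat.prime_two))
  rw [quo_zpowers (nZ hy), C_zpowers, C_zpowers] at c1
  have c2 := nml.card_quo
  have c3 := wl h pZ ox oy hn (nZ hx) (nZ hy)
  have c4 := wl h pB ox oy hn (norm_Bq _ hx') (norm_Bq _ hy')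
  have c5 := card_pos (Zq C[V] ⊓ C{y})
  have c6 : ♯(quo (Bq C[V]) (Zq C[V]) ⊓ C{θ ⟨y, hy⟩} : Subgroup _) ≤ 4 := by
    rw [hθ]
    rw [c1, mul_comm] at e4
    exact Nat.le_of_mul_le_mul_right e4 c5
  have c7 : ♯(quo (Bq C[V]) (Zq C[V])) =
      ♯(quo (Bq C[V]) (Zq C[V]) ⊓ C{θ ⟨y, hy⟩} : Subgroup _) ^ 3 := by
    rw [hθ]
    rw [c4, c1, c3, mul_pow] at c2
    exact Nat.eq_of_mul_eq_mul_left (pow_pos c5 3) c2
  obtain ⟨b0, hb0, hb1⟩ := exists_B h2 hna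
  have X1 : quo (Bq C[V]) (Zq C[V]) ≠ ⊥ := fun e1 => hb1 ((quo_eq_bot bZ).1 e1 hb0)
  obtain ⟨k, hk, k1, fix⟩ :=
    H10.K3L.px1 θ ψ _ co.sur nX ker two π hπ' (y := ⟨y, hy⟩) hψ nz c6 c7 X1
  obtain ⟨β, β1, β2, β3, β4⟩ :=
    H20.K3L.px2 θ ψ _ co.sur nX ker two π hπ' (y := ⟨y, hy⟩) hψ nz hk k1 fix
  choose c hc1 hc2 hc3 using fun a => mem_quo.1 (β1 a)
  have := en co h2 om (fun g hg => by
      rw [h.cent_p hg]
      exact h2.inf_eq_bot ((piElt_of_orderOf_prime p7 hg).isPi.compl_of_ne (by decide)))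
    c hc1 (fun a a' => by
      rw [← cs_eq_cs (mul_mem (hc2 a) (hc2 a')) (hc2 _), hc3, β2, ← hc3, ← hc3]
      exact ap_mul _ (hc2 a) (hc2 a'))
    (fun m a => by
      rw [← cs_eq_cs (bZ (conj_Bq (NV_le V m.2) (hc1 a))) (hc2 _), hc3, β3, ← hc m _ (hc1 a), hc3])
    e0
  exact β4 (by rw [← hc3]; exact cs_of_mem this)

theorem l32 {G : Type u} [Group G] [Finite G] {p a b : ℕ} (h : H18.K3.KT G p a b)
    (rk : ∀ x : G, orderOf x = 3 → ∀ a ∈ C{x}, ∀ b ∈ C{x}, a ≠ 1 → a * a = 1 → b ≠ 1 → b * b = 1 →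
      a * b = b * a → a = b) {Q L : Subgroup G} (hn : Q ⊴ L) (hQ : IsPi {2} Q) (h1 : Q ≠ ⊥)
    (cL : ♯L = ♯Q * 168) (hO : O[{2}, L] ≤ Q) :
    ∃ V : Subgroup G, IsElementaryAbelian 2 V ∧ ♯V = 8 ∧ IsPi {2} C[V] ∧ Abl C[V] ∧
      ♯N[V] = ♯C[V] * 168 ∧ ∀ u ∈ C[V], u * u = 1 → u ∈ V := by
  obtain ⟨rfl, V, hV, cV, h2, cN, om, x, hx, y, hy, ox, oy, hxy⟩ := H29.K3L.one h rk hn hQ h1 cL hO
  have hA := abl h rk hV cV h2 cN om hx hy ox oy hxy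
  exact ⟨V, hV, cV, h2, hA, cN, fun u hu h3 => om u hu (hA.le_C hu) h3⟩

end H13.K3
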