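import Mathlib
import Cfsg.Agent.H9.CG
import Cfsg.Agent.H29.Ext
import Cfsg.Agent.H7.SL
import Cfsg.Agent.H13.L4T0
import Cfsg.Agent.H13.L4T1
import Cfsg.Agent.H13.L4T2

/-! A presentation of `L₄(3)` on seven involutions. -/

set_option autoImplicit false
set_option maxRecDepth 100000
set_option Elab.async false

namespace H13.L4

open H29 H9.MX Matrix

theorem exists_emb (G : Type*) [Group G] [Finite G] :
    ∃ (n : ℕ) (f : G →* Equiv.Perm (Fin n)), Function.Injective f :=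
  ⟨_, (Finite.equivFin G).permCongrHom.toMonoidHom.comp (MulAction.toPermHom G G),
    (Finite.equivFin G).permCongrHom.injective.comp MulAction.toPerm_injective⟩

/-- identification of a group with a simple model of the full order. -/
theorem iso_of_bd {G : Type*} [Group G] [Finite G] [Nontrivial G] {X : Type} [Group X]
    [IsSimpleGroup X] {R : List (List ℕ)}
    {L : List ℕ} {n : ℕ} (hU : UBd (ivOf []) R L n) {σ : ℕ → X} {e : ℕ → G}
    (i1 : IvOK σ (ivOf [])) (i2 : IvOK e (ivOf [])) (r1 : ∀ r ∈ R, ev σ r = 1)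
    (r2 : ∀ r ∈ R, ev e r = 1) (top : gen e L = ⊤) (hK : gen σ L = ⊤)
    (hn : n ≤ Nat.card X) : Nonempty (G ≃* X) := by
  obtain ⟨k, ρ, hρ⟩ := exists_emb G
  have hn' : n ≤ Nat.card (gen σ L) := by rwa [hK, Subgroup.card_top]
  have t := ((tr_of_bd hU (fun _ h => h) i1 (ivOK_map ρ i2) r1
    (fun r hr => by rw [← map_ev, r2 r hr, map_one]) hn').trans
    (Tr.of_injective ρ hρ fun _ _ => rfl))
  obtain ⟨f, h1, -⟩ := exists_hom_of_tr t i1 i2 (fun _ h => h) hK
  rw [top, MonoidHom.range_eq_top] at h1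
  refine ⟨(MulEquiv.ofBijective f ⟨(MonoidHom.ker_eq_bot_iff f).1
      ((IsSimpleGroup.eq_bot_or_eq_top_of_normal f.ker inferInstance).resolve_right fun h5 => ?_),
      h1⟩).symm⟩
  obtain ⟨a, ha⟩ := exists_ne (1 : G)
  obtain ⟨b, hb⟩ := h1 a
  exact ha (hb.symm.trans (show b ∈ f.ker from h5.ge trivial))

theorem ub : UBd (ivOf []) L4T0.R0 [0, 1, 2, 3, 4, 5, 6] 6065280 := fun _ _ e h1 h2 =>
  L4T0.bd h1 h2 (L4T1.bd h1 (rels_sub h2 (by decide +kernel))
    (L4T2.bd h1 (rels_sub h2 (by decide +kernel)) (bd_nil e)))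

/-- the parameters of `4 × 4` matrices over `𝔽₃` -/
def P : Par := ⟨4, 12, 3, 43, 7, 2, 72, 0, 0,
  (nat_lit 0xfff000000000fff000000000fff000000000fff),
  (nat_lit 0xffffffffffff),
  (nat_lit 0x1f01f01f01f01f01f01f01f01f01f01f01f01f01f01f01f),
  (nat_lit 0x3003003003003003003003003003003003003003003003),
  (nat_lit 0x1000000000000001000000000000001000000000000001)⟩
theorem P_ok : P.OK := Par.ok_of (by decide +kernel)
/-- the letters -/
noncomputable def l : List MM := [⟨(nat_lit 0x2001000000000002002002000000000002000000), 0⟩,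
 ⟨(nat_lit 0x1002000000002002002001000000001001000000), 0⟩,
 ⟨(nat_lit 0x2002000000000001002002000000000001000000), 0⟩,
 ⟨(nat_lit 0x2001000000002002001001000000002001000000), 0⟩,
 ⟨(nat_lit 0x1000000000000001000000000000002000000000000002), 0⟩,
 ⟨(nat_lit 0x2001001001001001000002002002000002000001001000), 0⟩,
 ⟨(nat_lit 0x1002001002002002000001002002000002000002001000), 0⟩]
/-- the transvections -/
noncomputable def lt : List MM := [⟨(nat_lit 0x1000000000000001000000000000001000000000001001), 0⟩,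
 ⟨(nat_lit 0x1000000000000001000000000000001000000000002001), 0⟩,
 ⟨(nat_lit 0x1000000000000001000000000000001000000001000001), 0⟩,
 ⟨(nat_lit 0x1000000000000001000000000000001000000002000001), 0⟩,
 ⟨(nat_lit 0x1000000000000001000000000000001000001000000001), 0⟩,
 ⟨(nat_lit 0x1000000000000001000000000000001000002000000001), 0⟩,
 ⟨(nat_lit 0x1000000000000001000000000000001001000000000001), 0⟩,
 ⟨(nat_lit 0x1000000000000001000000000000001002000000000001), 0⟩,
 ⟨(nat_lit 0x1000000000000001000000000001001000000000000001), 0⟩,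
 ⟨(nat_lit 0x1000000000000001000000000002001000000000000001), 0⟩,
 ⟨(nat_lit 0x1000000000000001000000001000001000000000000001), 0⟩,
 ⟨(nat_lit 0x1000000000000001000000002000001000000000000001), 0⟩,
 ⟨(nat_lit 0x1000000000000001000001000000001000000000000001), 0⟩,
 ⟨(nat_lit 0x1000000000000001000002000000001000000000000001), 0⟩,
 ⟨(nat_lit 0x1000000000000001001000000000001000000000000001), 0⟩,
 ⟨(nat_lit 0x1000000000000001002000000000001000000000000001), 0⟩,
 ⟨(nat_lit 0x1000000000001001000000000000001000000000000001), 0⟩,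
 ⟨(nat_lit 0x1000000000002001000000000000001000000000000001), 0⟩,
 ⟨(nat_lit 0x1000000001000001000000000000001000000000000001), 0⟩,
 ⟨(nat_lit 0x1000000002000001000000000000001000000000000001), 0⟩,
 ⟨(nat_lit 0x1000001000000001000000000000001000000000000001), 0⟩,
 ⟨(nat_lit 0x1000002000000001000000000000001000000000000001), 0⟩,
 ⟨(nat_lit 0x1001000000000001000000000000001000000000000001), 0⟩,
 ⟨(nat_lit 0x1002000000000001000000000000001000000000000001), 0⟩]
/-- the transvections as words -/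
def wl : List (List ℕ) := [[0, 1, 2, 1, 2, 3, 2, 4, 1],
 [1, 2, 1, 3, 2, 1, 4, 2, 0],
 [6, 1, 6, 1, 5, 3, 2, 5, 2, 1],
 [1, 5, 3, 5, 1, 6, 1, 0, 6, 0],
 [2, 1, 3, 5, 3, 5, 1, 6, 1, 0, 6, 3, 2, 0],
 [5, 3, 6, 3, 5, 1, 6, 3, 5, 3, 6, 1, 2, 0],
 [3, 5, 1, 0, 4, 5, 3, 2],
 [0, 2, 3, 5, 1, 5, 3, 4],
 [3, 5, 6, 1, 6, 1, 6, 3, 1, 5, 3],
 [3, 5, 3, 6, 1, 6, 1, 6, 1, 5, 3],
 [2, 6, 3, 5, 3, 6, 2, 1, 6, 3, 5, 3, 6, 1],
 [1, 6, 3, 5, 3, 6, 1, 2, 6, 3, 5, 3, 6, 2],
 [3, 5, 6, 3, 5, 1, 3, 4, 5, 3, 6, 0, 5, 3],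
 [5, 6, 4, 3, 6, 1, 5, 6, 3, 5, 3, 6, 2, 1],
 [1, 5, 6, 3, 5, 1, 3, 4, 5, 3, 6, 0, 5, 1],
 [5, 3, 5, 1, 6, 1, 4, 2, 3, 5, 3, 6, 2, 1],
 [1, 3, 6, 2, 6],
 [6, 2, 6, 1, 3],
 [1, 3, 6, 1, 6, 1, 0, 5, 3, 5, 3, 0],
 [0, 3, 5, 3, 5, 0, 1, 6, 1, 6, 3, 1],
 [4, 6, 1, 6, 1, 4, 5, 3, 5, 1],
 [6, 1, 6, 1, 0, 5, 3, 5, 0, 1],
 [0, 3, 5, 1, 5, 3, 4, 2],
 [2, 3, 5, 1, 0, 4, 5, 3]]
/-- the interpretation -/
def I : Interp P (ZMod 3) (Fin 4) :=
  ⟨0, Equiv.refl _, P_ok, by decide, by decide⟩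

theorem card : Nat.card (Matrix.ProjectiveSpecialLinearGroup (Fin 4) (ZMod 3)) = 6065280 := by
  have := H7.card_psl (F := ZMod 3) (q := 3) (ZMod.card 3) 4 (by norm_num)
  rw [Fin.prod_univ_four] at this
  change 2 * (2 * _) = 24261120 at this
  omega

theorem det (c : ℕ) : (I.mat (P.lets l c)).det = 1 := by
  by_cases hc : c < 7
  · rw [Matrix.det_succ_row_zero]
    simp only [Matrix.det_fin_three]
    revert c; decide +kernel
  · rw [P.lets_default (show l.length ≤ c from not_lt.1 hc), I.mat_one, Matrix.det_one]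

theorem tv : ∀ (i j : Fin 4) (c : ZMod 3), i ≠ j → ∃ k < 25, (∀ x ∈ nth [] wl k,
    x ∈ [0, 1, 2, 3, 4, 5, 6]) ∧ I.mat (P.lets lt k) = 1 + single i j c := by
  decide +kernel

theorem iso {G : Type*} [Group G] [Finite G] [Nontrivial G] {e : ℕ → G} (i2 : IvOK e (ivOf []))
    (r2 : ∀ r ∈ L4T0.R0, ev e r = 1) (top : gen e [0, 1, 2, 3, 4, 5, 6] = ⊤) :
    Nonempty (G ≃* Matrix.ProjectiveSpecialLinearGroup (Fin 4) (ZMod 3)) := by
  obtain ⟨σ, he⟩ := exists_SL I (l := l) (by decide +kernel) det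
  have hw := he.words (wl := wl) (l' := lt) (by decide +kernel)
  have h1 : gen σ [0, 1, 2, 3, 4, 5, 6] = ⊤ :=
    H7.sl_eq_top_of_transvection_mem _ fun i j hij c => by
      obtain ⟨k, -, w1, w2⟩ := tv i j c hij
      have : wE σ wl k = SpecialLinearGroup.transvection hij c :=
        Subtype.ext ((hw.eq k).trans w2)
      rw [← this]
      exact ev_mem_gen w1
  have := H7.psl_simple (ι := Fin 4) (F := ZMod 3) (by simp)
  refine iso_of_bd ub (ivOK_map (QuotientGroup.mk' _) (he.ivOK (by decide +kernel))) i2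
    (he.rels_quot (by decide +kernel)) r2 top ?_ card.ge
  rw [← map_gen, h1, ← MonoidHom.range_eq_map, MonoidHom.range_eq_top]
  exact QuotientGroup.mk'_surjective _

end H13.L4
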