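import Mathlib
import Cfsg.Agent.H5.MCB

/-! # A standard subgroup `M₁₂`: the action of its normalizer -/

set_option autoImplicit false
set_option linter.unusedSectionVars false
set_option linter.unusedVariables false

namespace H13.MS

open H9 Cfsg H24 Subgroup H5.MC

structure Sd (G : Type*) [Group G] where
  l : Spor.M12 →* G
  inj : Function.Injective l
  κ : N[l.range] →* PG
  am : ∀ g, κ g ∈ AM
  spec : ∀ (g : N[l.range]) (x y : Spor.M12), g.1 * l x * g.1⁻¹ = l y ↔ κ g * x * (κ g)⁻¹ = y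
  ti : ∀ g d, d ∈ C[l.range] → orderOf d = 2 → g * d * g⁻¹ ∈ C[l.range] → g ∈ N[l.range]
  nc : ∀ g, ¬ l.range ≤ C[H24.cj g l.range]
  ev : ∃ t ∈ C[l.range], orderOf t = 2

variable {G : Type*} [Group G] [Finite G]

theorem M12_nab : ¬ Commute (emb j1) (emb i0) := fun h =>
  absurd (emb_inj (by rw [map_mul, map_mul]; exact h.eq : emb (j1 * i0) = emb (i0 * j1))) (by decide +kernel)

theorem exists_Sd (l : Spor.M12 →* G) (hl : Function.Injective l) (hL : IsStandardSubgroup l.range) :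
    ∃ S : Sd G, S.l = l := by
  obtain ⟨κ, h1, h2⟩ := kap l hl
  refine ⟨⟨l, hl, κ, h1, h2, fun g d hd od hg => ?_, fun g h => ?_, ?_⟩, rfl⟩
  · rw [hL.2.2.2]
    by_contra hn
    have h3 := hL.2.1.2 g hn
    have h4 : g * d * g⁻¹ ∈ C[l.range] ⊓ H24.cj g C[l.range] := mem_inf.2 ⟨hg, conj_mem_cj g hd⟩
    have h5 := orderOf_dvd_card' h4
    rw [orderOf_conj, od] at h5
    exact h3.not_two_dvd_nat h5
  · by_cases e : H24.cj g l.range = l.range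
    · rw [e] at h
      refine M12_nab ?_
      have := comm_of_cent h ⟨⟨_, emb_12.2 (show j1.inn by decide)⟩, rfl⟩
        ⟨⟨_, emb_12.2 (show i0.inn by decide)⟩, rfl⟩
      rw [← map_mul, ← map_mul] at this
      exact congrArg Subtype.val (hl this)
    · exact hL.2.2.1 g e (comm_eq_bot.2 h)
  · exact exists_orderOf_eq Nat.prime_two (even_iff_two_dvd.1 hL.2.1.1)

theorem AM_conj {g x : PG} (hg : g ∈ AM) (hx : x ∈ AM) : g * x * g⁻¹ ∈ Spor.M12 ↔ x ∈ Spor.M12 := by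
  rw [mul_mem12 (mul_mem hg hx) (inv_mem hg), mul_mem12 hg hx, inv_mem_iff]; tauto

theorem c0_out : emb c0 ∉ Spor.M12 := fun h => absurd (emb_12.1 h) (by decide)

theorem exists_inv {x : G} (h : PiElt {2} x) (h1 : x ≠ 1) : ∃ y ∈ zpowers x, orderOf y = 2 :=
  exists_orderOf_eq Nat.prime_two (by rw [card_zpowers']; exact h.dvd_orderOf h1)

theorem two_of_sq {X : Type*} [Group X] {x : X} (h : x * x = 1) (h1 : x ≠ 1) : orderOf x = 2 :=
  orderOf_eq_prime (by rw [sq, h]) h1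

theorem sq_of_two {X : Type*} [Group X] {x : X} (h : orderOf x = 2) : x * x = 1 := by
  rw [← sq, ← h, pow_orderOf_eq_one]

theorem ne_of_two {X : Type*} [Group X] {x : X} (h : orderOf x = 2) : x ≠ 1 := fun e => by
  simp [e] at h

namespace Sd

variable (S : Sd G)

abbrev L : Subgroup G := S.l.range
abbrev K : Subgroup G := C[S.L]
abbrev N : Subgroup G := N[S.L]
noncomputable abbrev f (g : G) : PG := ap S.κ g
open Classical in
noncomputable def e (x : PG) : G := if h : x ∈ Spor.M12 then S.l ⟨x, h⟩ else 1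
noncomputable abbrev p (s : Ph) : G := S.e (emb s)

variable {S} {g h d : G} {x y : PG}

theorem e_eq (hx : x ∈ Spor.M12) : S.e x = S.l ⟨x, hx⟩ := dif_pos hx
theorem e_L (x : PG) : S.e x ∈ S.L := by
  unfold e; split_ifs
  · exact ⟨_, rfl⟩
  · exact one_mem _
theorem mem_L : g ∈ S.L ↔ ∃ x ∈ Spor.M12, S.e x = g :=
  ⟨fun ⟨x, h⟩ => ⟨x, x.2, (e_eq x.2).trans h⟩, fun ⟨x, _, h⟩ => h ▸ e_L x⟩
theorem e_one : S.e 1 = 1 := by rw [e_eq (one_mem _)]; exact S.l.map_one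
theorem e_mul (hx : x ∈ Spor.M12) (hy : y ∈ Spor.M12) : S.e (x * y) = S.e x * S.e y := by
  rw [e_eq hx, e_eq hy, e_eq (mul_mem hx hy), ← map_mul]; rfl
theorem e_inv (hx : x ∈ Spor.M12) : S.e x⁻¹ = (S.e x)⁻¹ := by
  rw [e_eq hx, e_eq (inv_mem hx), ← map_inv]; rfl
theorem e_pow (hx : x ∈ Spor.M12) (n : ℕ) : S.e (x ^ n) = S.e x ^ n := by
  rw [e_eq hx, e_eq (pow_mem hx n), ← map_pow]; rfl
theorem e_conj (hx : x ∈ Spor.M12) (hy : y ∈ Spor.M12) : S.e (x * y * x⁻¹) = S.e x * S.e y * (S.e x)⁻¹ := by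
  rw [e_mul (mul_mem hx hy) (inv_mem hx), e_mul hx hy, e_inv hx]
theorem e_inj (hx : x ∈ Spor.M12) (hy : y ∈ Spor.M12) (h : S.e x = S.e y) : x = y := by
  rw [e_eq hx, e_eq hy] at h; exact congrArg Subtype.val (S.inj h)
theorem L_le : S.L ≤ S.N := norm_self _
theorem K_le : S.K ≤ S.N := C_le_N _
theorem e_N (x : PG) : S.e x ∈ S.N := L_le (e_L x)
theorem K_nml : S.K ⊴ S.N := C_nml_N _
theorem L_nml : S.L ⊴ S.N := nml_N _
theorem f_AM (g : G) : S.f g ∈ AM := by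
  by_cases h : g ∈ S.N
  · rw [f, ap_of_mem _ h]; exact S.am _
  · rw [f, ap, dif_neg h]; exact one_mem _
theorem conj_e (hg : g ∈ S.N) (hx : x ∈ Spor.M12) : g * S.e x * g⁻¹ = S.e (S.f g * x * (S.f g)⁻¹) := by
  have h := (AM_conj (f_AM (S := S) g) (M12_le hx)).2 hx
  rw [e_eq hx, e_eq h]
  exact (S.spec ⟨g, hg⟩ _ _).2 (by simp only [f, ap_of_mem _ hg])
theorem comm_e (hg : g ∈ S.N) (hx : x ∈ Spor.M12) : Commute g (S.e x) ↔ Commute (S.f g) x := by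
  rw [commute_iff_eq, commute_iff_eq, ← mul_inv_eq_iff_eq_mul, ← mul_inv_eq_iff_eq_mul, conj_e hg hx]
  exact ⟨e_inj ((AM_conj (f_AM _) (M12_le hx)).2 hx) hx, fun h => by rw [h]⟩
theorem f_eq_one (hg : g ∈ S.N) : S.f g = 1 ↔ g ∈ S.K := by
  refine ⟨fun h => mem_C'.2 fun a ha => ?_, fun h => cent12 (f_AM _) fun x hx => (comm_e hg hx).1 ?_⟩
  · obtain ⟨x, hx, rfl⟩ := mem_L.1 ha
    exact (comm_e hg hx).2 (h ▸ Commute.one_left _)
  · exact mem_C'.1 h _ (e_L x)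
theorem f_K (hg : g ∈ S.K) : S.f g = 1 := (f_eq_one (K_le hg)).2 hg
theorem ker : pre S.κ ⊥ = S.K := by
  ext g
  rw [mem_pre_bot]
  exact ⟨fun h => (f_eq_one h.1).1 h.2, fun h => ⟨K_le h, f_K h⟩⟩
theorem f_e (hx : x ∈ Spor.M12) : S.f (S.e x) = x := by
  refine (inv_mul_eq_one.1 (cent12 (mul_mem (inv_mem (M12_le hx)) (f_AM _)) fun y hy => ?_)).symm
  have h := conj_e (S := S) (e_N x) hy
  rw [← e_conj hx hy] at h
  have h' := e_inj (mul_mem (mul_mem hx hy) (inv_mem hx)) ((AM_conj (f_AM _) (M12_le hy)).2 hy) h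
  rw [commute_iff_eq]
  calc _ = x⁻¹ * (S.f (S.e x) * y * (S.f (S.e x))⁻¹) * S.f (S.e x) := by group
    _ = _ := by rw [← h']; group
theorem f_mul (hg : g ∈ S.N) (hh : h ∈ S.N) : S.f (g * h) = S.f g * S.f h := ap_mul _ hg hh
theorem f_inv (hg : g ∈ S.N) : S.f g⁻¹ = (S.f g)⁻¹ := ap_inv _ hg
theorem f_conj (hg : g ∈ S.N) (hh : h ∈ S.N) : S.f (g * h * g⁻¹) = S.f g * S.f h * (S.f g)⁻¹ :=
  ap_conj _ hg hh
theorem f_comm (hg : g ∈ S.N) (hh : h ∈ S.N) (c : Commute g h) : Commute (S.f g) (S.f h) := by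
  rw [commute_iff_eq, ← f_mul hg hh, ← f_mul hh hg, c.eq]
theorem mem_K_of (hg : g ∈ S.N) (hh : h ∈ S.N) (e : S.f g = S.f h) : g⁻¹ * h ∈ S.K := by
  rw [← f_eq_one (mul_mem (inv_mem hg) hh), f_mul (inv_mem hg) hh, f_inv hg, e, inv_mul_cancel]
theorem eq_one (h1 : g ∈ S.L) (h2 : g ∈ S.K) : g = 1 := by
  obtain ⟨x, hx, rfl⟩ := mem_L.1 h1
  rw [← f_e (S := S) hx, f_K h2, e_one]
theorem K_e (hg : g ∈ S.K) (x : PG) : Commute g (S.e x) := mem_C'.1 hg _ (e_L x)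
theorem p_mul {s u : Ph} (hs : s.inn) (hu : u.inn) : S.p (s * u) = S.p s * S.p u := by
  rw [p, map_mul, e_mul (emb_12.2 hs) (emb_12.2 hu)]
theorem f_p {s : Ph} (hs : s.inn) : S.f (S.p s) = emb s := f_e (emb_12.2 hs)
theorem p_one : S.p 1 = 1 := by rw [p, map_one, e_one]
theorem z_eq : S.p z1 = S.l zM := e_eq _
theorem p_two {s : Ph} (hs : s.inn) (h1 : s ≠ 1) (h2 : s * s = 1) : orderOf (S.p s) = 2 :=
  two_of_sq (by rw [← p_mul hs hs, h2, p_one]) fun h => h1 (emb_inj (by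
    rw [← f_p (S := S) hs, h, map_one]; exact ap_one _))
theorem z_two : orderOf (S.p z1) = 2 := p_two (by decide) (by decide) (by decide +kernel)
theorem z_K : S.p z1 ∉ S.K := fun h => ne_of_two z_two (eq_one (e_L _) h)

theorem cent_le (hd : d ∈ S.K) (o : orderOf d = 2) : C{d} ≤ S.N := fun g hg =>
  S.ti g d hd o (by rwa [mem_C1_iff_conj.1 hg])

theorem two_mem (h1 : d ∈ S.K) (h2 : d ∈ H24.cj g S.K) (h3 : PiElt {2} d) (h4 : d ≠ 1) : g ∈ S.N := by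
  obtain ⟨y, hy, o⟩ := exists_inv h3 h4
  obtain ⟨k, hk, rfl⟩ := mem_cj'.1 (zpowers_le.2 h2 hy)
  exact S.ti g k hk (by rwa [orderOf_conj] at o) (zpowers_le.2 h1 hy)

variable (S) in
theorem exists_conj (g : G) : ∃ S' : Sd G, S'.L = H24.cj g S.L := by
  let l' := (MulAut.conj g).toMonoidHom.comp S.l
  have hl : Function.Injective l' := (conj_injective' g).comp S.inj
  have e : l'.range = H24.cj g S.L := MonoidHom.range_comp _ _
  obtain ⟨κ, h1, h2⟩ := kap l' hl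
  refine ⟨⟨l', hl, κ, h1, h2, fun a d hd od ha => ?_, fun a h => ?_, ?_⟩, e⟩
  · rw [e, ← cj_C, mem_cj] at hd ha
    rw [e, ← cj_N, mem_cj]
    refine S.ti _ _ hd (by rwa [← orderOf_conj g, ← mul_assoc, ← mul_assoc, mul_inv_cancel, one_mul,
      mul_inv_cancel_right]) ?_
    convert ha using 1; group
  · rw [e, ← cj_mul, cj_le_iff, cj_C, ← cj_mul] at h
    exact S.nc _ h
  · obtain ⟨t, ht, o⟩ := S.ev
    exact ⟨g * t * g⁻¹, by rw [e, ← cj_C]; exact conj_mem_cj g ht, by rwa [orderOf_conj]⟩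

theorem card_le {T : Subgroup G} (hT : IsPi {2} T) (h : T ≤ S.N) : ♯T ≤ ♯(S.K ⊓ T) * 128 := by
  rw [← card_img_mul S.κ h, ker]
  refine Nat.mul_le_mul_left _ ?_
  obtain ⟨a, -, ha⟩ := syl ((hT.img S.κ).isPGroup Nat.prime_two) fun y hy => by
    obtain ⟨x, -, -, rfl⟩ := mem_img.1 hy
    exact f_AM x
  rw [← card_cj a, ← card_Ph, Nat.card_congr (MonoidHom.ofInjective emb_inj).toEquiv]
  exact H24.card_le ha

theorem inn_mul : ∀ s u : Ph, (s * u).inn ↔ (s.inn ↔ u.inn) := fun s u => by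
  rw [← emb_12, ← emb_12, ← emb_12, map_mul, mul_mem12 (emb_AM s) (emb_AM u)]

/-- a Sylow subgroup mapping into the model -/
theorem exists_S0 {M : Subgroup G} (h1 : S.L ≤ M) (h2 : M ≤ S.N) : ∃ S0, Syl 2 M S0 ∧
    (∀ s ∈ S0, ∃ u : Ph, S.f s = emb u) ∧ ∀ u : Ph, u.inn → S.p u ∈ S0 := by
  obtain ⟨T, hT⟩ := Sylow_exists Nat.prime_two M
  obtain ⟨a, ha, h3⟩ := syl ((hT.pi.img S.κ).isPGroup Nat.prime_two) fun y hy => by
    obtain ⟨x, -, -, rfl⟩ := mem_img.1 hy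
    exact f_AM x
  have h4 := hT.cj_mem (h1 (e_L a))
  have h5 : ∀ s ∈ H24.cj (S.e a) T, ∃ u : Ph, S.f s = emb u := fun s hs => by
    have := ap_mem_img S.κ hs (h2 (h4.le hs))
    rw [img_cj _ (e_N a), show ap S.κ (S.e a) = a from f_e ha] at this
    obtain ⟨u, hu⟩ := h3 this
    exact ⟨u, hu.symm⟩
  refine ⟨_, h4, h5, fun u hu => ?_⟩
  let P : Subgroup G := (emb.range.subgroupOf Spor.M12).map S.l
  have mP : ∀ {g}, g ∈ P ↔ ∃ u : Ph, u.inn ∧ S.p u = g := ⟨by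
    rintro ⟨x, ⟨u, hu⟩, rfl⟩
    have : emb u ∈ Spor.M12 := hu ▸ x.2
    exact ⟨u, emb_12.1 this, by rw [p, e_eq this]; congr 1; exact Subtype.ext hu⟩, by
    rintro ⟨u, hu, rfl⟩
    exact ⟨⟨_, emb_12.2 hu⟩, ⟨u, rfl⟩, (e_eq _).symm⟩⟩
  have hP : IsPi {2} P := (isPi_subgroupOf (isPi_of_card (n := 7) Nat.prime_two (by
    rw [← Nat.card_congr (MonoidHom.ofInjective emb_inj).toEquiv, card_Ph]; rfl)) _).map _
  refine h4.le_of_norm' hP ((map_le_range _ _).trans h1) (le_N_iff.2 fun s hs x hx => ?_) (mP.2 ⟨u, hu, rfl⟩)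
  obtain ⟨v, hv, rfl⟩ := mP.1 hx
  obtain ⟨w, hw⟩ := h5 s hs
  rw [conj_e (h2 (h4.le hs)) (emb_12.2 hv), hw, ← map_inv, ← map_mul, ← map_mul]
  refine mP.2 ⟨_, emb_12.1 ?_, rfl⟩
  rw [map_mul, map_mul, map_inv]
  exact (AM_conj (emb_AM _) (emb_AM _)).2 (emb_12.2 hv)

end Sd

end H13.MS
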