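import Mathlib
import Cfsg.Agent.H19.Z0
import Cfsg.Agent.H19.MG3
import Cfsg.Agent.S1175
import Cfsg.Agent.S1225
import Cfsg.Agent.S0223

set_option autoImplicit false
set_option linter.all false

namespace H10.Mon.MG

open Subgroup
open scoped H24

namespace Z9

theorem syl_cent {Γ : Type*} [Group Γ] [Finite Γ] {t : Γ} (t2 : t * t = 1)
    (h : ∀ P : Subgroup Γ, IsPGroup 2 P → ∃ n, ∀ p ∈ P, n * p * n⁻¹ * t = t * (n * p * n⁻¹)) :
    ∃ S : Sylow 2 Γ, t ∈ S ∧ ∀ s ∈ S, Commute s t := by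
  obtain ⟨P⟩ : Nonempty (Sylow 2 Γ) := inferInstance
  obtain ⟨n, hn⟩ := h P P.2
  have k : ∀ s ∈ (n • P : Sylow 2 Γ), Commute s t := fun s hs => by
    obtain ⟨p, hp, rfl⟩ : s ∈ (P : Subgroup Γ).map (MulAut.conj n).toMonoidHom := hs
    exact hn p hp
  refine ⟨n • P, ?_, k⟩
  have := (n • P).3 (((n • P).2.to_sup_of_normal_left' (pg_zp t2) (zpowers_le.2 (H24.mem_N_of_finite fun s hs => by
    rwa [← (k s hs).eq, mul_inv_cancel_right])))) le_sup_left
  exact this.le (mem_sup_right (mem_zpowers t))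

theorem inv_of {Γ : Type*} [Group Γ] [Finite Γ] {N : Subgroup Γ} [N.Normal] {t : Γ} (h2 : t * t = 1)
    (h3 : ∀ n ∈ N, t * n * t⁻¹ = n → n = 1) : ∀ n ∈ N, t * n * t⁻¹ = n⁻¹ := fun n hn => by
  have := MonoidHom.FixedPointFree.coe_eq_inv_of_involutive (φ := (MulAut.conjNormal t : MulAut N))
    (fun m hm => Subtype.ext (h3 m m.2 (congrArg Subtype.val hm))) fun m => by
      rw [← MulAut.mul_apply, ← map_mul, h2, map_one, MulAut.one_apply]
  exact congrArg Subtype.val (congrFun this ⟨n, hn⟩)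

variable {G : Type*} [Group G] [Finite G] {x y : G} {q : ZMod 2 → C → G} {γ : G} {eO eD s0 : G0}

/-- one of `y y'`, `y y' x` is conjugate to `y` -/
theorem prod_cls (T : Two x y q γ) (L : LF eO eD s0) {g : G} (gx : g * x = x * g)
    (c : g * y * g⁻¹ * y = y * (g * y * g⁻¹)) (n1 : y * (g * y * g⁻¹) ≠ 1) (n2 : y * (g * y * g⁻¹) * x ≠ 1) :
    IsConj y (y * (g * y * g⁻¹)) ∨ IsConj y (y * (g * y * g⁻¹) * x) := by
  have cx : g * y * g⁻¹ * x = x * (g * y * g⁻¹) :=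
    ((((show Commute g x from gx).mul_left (show Commute x y from T.one.xy).symm)).mul_left
      (show Commute g x from gx).inv_left).eq
  have a : IsConj x (g * y * g⁻¹ * x) := T.one.A_yx.trans (cj_of (a := g) (cj_mul gx))
  have b : IsConj y (g * y * g⁻¹) := cj_of rfl
  have s : g * y * g⁻¹ * (g * y * g⁻¹) = 1 := sq_of_cj b T.s.yy
  generalize g * y * g⁻¹ = u at *
  have s1 : y * u * (y * u) = 1 := by rw [mul_assoc, ← mul_assoc u, c, mul_assoc y, s, mul_one, T.s.yy]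
  have cu : Commute (y * u) x := (show Commute x y from T.one.xy).symm.mul_left cx
  have s2 : y * u * x * (y * u * x) = 1 := by
    rw [mul_assoc (y * u), ← mul_assoc x, ← cu.eq, mul_assoc (y * u), T.xx, mul_one, s1]
  by_contra k
  rw [not_or] at k
  have a1 := (T.classes L s1 n1).resolve_right k.1
  have a2 := (T.classes L s2 n2).resolve_right k.2
  have cy : y * u * x * y = y * (y * u * x) := by rw [mul_assoc, T.one.xy, ← mul_assoc, mul_assoc y u, c]; group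
  have e : y * u * x * y = u * x := by rw [cy, mul_assoc y u, ← mul_assoc, T.s.yy, one_mul]
  obtain ⟨h, kh, sh, e', P⟩ := T.exists_h L
  rcases T.cls L P cy s2 with ⟨t, d, e1⟩ | p | p
  · have e2 : u = q (t + 1 + bb d c0.1) (d + c0.1) := by
      rw [← T.one.mul_x, ← T.s.mul_y, ← e1, e, mul_assoc, T.xx, mul_one]
    generalize t + 1 + bb d c0.1 = t', d + c0.1 = d' at e2
    subst e2
    rw [T.s.y_mul] at k n1
    refine k.1 (T.qB _ ?_ (T.bb_of s) fun i => T.nAB (T.qA _ i) b)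
    rintro rfl
    rcases T.s.q0 t' with i | i
    · rw [i, isConj_one_left] at b; exact T.s.y_ne b
    · exact n1 (by rw [← T.s.y_mul, i, T.s.yy])
  · rcases p.t2 T.s.yy (T.h_ab P) with i | i
    exacts [T.nAB (e ▸ a) i.2, T.nAB a2 i.1]
  · exact T.nAB a2 p.1

theorem cent_le (T : Two x y q γ) (L : LF eO eD s0) {H : Subgroup G} (cy : ∀ g, g * y = y * g → g ∈ H)
    (U : ∀ g, g * y * g⁻¹ ∈ H → g ∈ H)
    (sim : ∀ N : Subgroup G, N ≤ H ⊓ C{x} → (∀ g ∈ H ⊓ C{x}, ∀ n ∈ N, g * n * g⁻¹ ∈ N) → x ∈ N →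
      ¬ N ≤ zpowers x → H ⊓ C{x} ≤ N) : C{x} ≤ H := by
  have xH : x ∈ H := cy x T.one.xy
  have yH : y ∈ H := cy y rfl
  let x0 : C{x} := ⟨x, H24.self_mem_C1 x⟩
  let y0 : C{x} := ⟨y, H24.mem_C1.2 T.one.xy.symm⟩
  haveI : (zpowers x0).Normal := ⟨fun n hn g => by
    obtain ⟨k, rfl⟩ := mem_zpowers_iff.1 hn
    rwa [((show Commute g x0 from Subtype.ext (H24.mem_C1.1 g.2)).zpow_right k).eq, mul_inv_cancel_right]⟩
  let π := QuotientGroup.mk' (zpowers x0)
  have sur : Function.Surjective π := QuotientGroup.mk'_surjective _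
  have px : π x0 = 1 := (QuotientGroup.eq_one_iff _).2 (mem_zpowers _)
  have hk : ∀ a b : C{x}, π a = π b → (b : G) = a ∨ (b : G) = a * x := fun a b e =>
    (mem_zpowers_invol (t := x0) (Subtype.ext T.xx) (QuotientGroup.eq.1 e)).imp
      (fun e => congrArg Subtype.val (inv_mul_eq_one.1 e).symm)
      fun e => congrArg Subtype.val (inv_mul_eq_iff_eq_mul.1 e)
  have n1 : ∀ a : C{x}, IsConj y (a : G) → π a ≠ 1 := fun a i e => by
    rcases hk _ _ (px.trans e.symm) with e | e <;> rw [e] at i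
    · exact T.nc i.symm
    · rw [show (x0 : G) * x = 1 from T.xx, isConj_one_left] at i; exact T.s.y_ne i
  have s1 : ∀ a : C{x}, (a : G) * a = 1 → π a * π a = 1 := fun a e => by
    rw [← map_mul, show a * a = 1 from Subtype.ext e, map_one]
  let B := (H.subgroupOf C{x}).map π
  have mB : ∀ a, π a ∈ B ↔ (a : G) ∈ H := fun a => ⟨fun ⟨b, hb, e⟩ => by
    rcases hk _ _ e with e | e <;> rw [e]
    exacts [hb, mul_mem hb xH], fun m => ⟨a, m, rfl⟩⟩
  have V : ∀ t c : C{x}, IsConj y (t : G) → (t : G) ∈ H → π c * π t * (π c)⁻¹ ∈ B → (c : G) ∈ H := fun t c i m k => by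
    obtain ⟨g, e⟩ := isConj_iff.1 i
    rw [← map_inv, ← map_mul, ← map_mul, mB] at k
    exact (H.mul_mem_cancel_right (U g (e ▸ m))).1 (U _ (by
      convert k using 1
      simp only [coe_mul, coe_inv, ← e]; group))
  haveI : Nontrivial (C{x} ⧸ zpowers x0) := ⟨_, _, n1 y0 (IsConj.refl _)⟩
  haveI : IsSimpleGroup (C{x} ⧸ zpowers x0) := ⟨fun N hN => by
    have mN : ∀ a : C{x}, (a : G) ∈ (N.comap π).map C{x}.subtype ↔ π a ∈ N := fun a =>
      mem_map_iff_mem (subtype_injective _)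
    have lN : (N.comap π).map C{x}.subtype ≤ C{x} := map_subtype_le _
    have nN : C{x} ≤ N[(N.comap π).map C{x}.subtype] := (H24.nml_map_subtype _).norm
    generalize (N.comap π).map C{x}.subtype = M at mN lN nN
    by_cases k : M ⊓ H ≤ zpowers x
    · have f : ∀ t : C{x}, IsConj y (t : G) → (t : G) ∈ H → ∀ n ∈ N, π t * n * (π t)⁻¹ = n → n = 1 := fun t i m n hn e => by
        obtain ⟨n, rfl⟩ := sur n
        have := k ⟨(mN n).2 hn, V t n i m (by
          rw [← mul_inv_eq_iff_eq_mul.1 e, mul_inv_cancel_right]; exact (mB t).2 m)⟩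
        rcases mem_zpowers_invol T.xx this with e | e
        · rw [show n = 1 from Subtype.ext e, map_one]
        · rw [show n = x0 from Subtype.ext e, px]
      have cz : ∀ s, q s Om ∈ C{x} := fun s => H24.mem_C1.2 (T.one.cm_x.2 (by
        rw [pl, bb_fst Om_fst, bb_fst c0_fst, add_zero]))
      have iz : ∀ s, IsConj y (q s Om) := fun s => T.qB s Om_ne_zero (bb_fst Om_fst _) not_isS_Om
      refine Or.inl ((eq_bot_iff_forall _).2 fun n hn => f ⟨_, cz (0 + 1)⟩ (iz _) (cy _ (T.s.cm _ _)) n hn ?_)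
      rw [show (⟨_, cz (0 + 1)⟩ : C{x}) = y0 * ⟨_, cz 0⟩ from Subtype.ext (T.s.y_mul _ _).symm, map_mul, mul_inv_rev,
        mul_assoc (π y0), mul_assoc (π y0), ← mul_assoc _ _ (π y0)⁻¹, inv_of (s1 _ (sq_of_cj (iz 0) T.s.yy))
        (f _ (iz 0) (cy _ (T.s.cm _ _))) n hn, ← mul_assoc, inv_of (s1 _ T.s.yy) (f _ (IsConj.refl _) yH) _
        (inv_mem hn), inv_inv]
    · have le := (sim (M ⊓ H) (fun a m => mem_inf.2 ⟨m.2, lN m.1⟩) (fun g m n m' => mem_inf.2 ⟨H24.conj_mem (nN m.2) m'.1,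
        mul_mem (mul_mem m.1 m'.2) (inv_mem m.1)⟩) (mem_inf.2 ⟨(mN x0).2 (by rw [px]; exact one_mem _), xH⟩) k).trans inf_le_left
      refine Or.inr (eq_top_iff.2 fun g _ => ?_)
      obtain ⟨g, rfl⟩ := sur g
      obtain ⟨P, hP⟩ := H24.Sylow_exists Nat.prime_two M
      obtain ⟨n, nx, hn⟩ := T.one.syl (hP.pi.isPGroup Nat.prime_two) fun p m => H24.mem_C1.1 (lN (hP.le m))
      obtain ⟨l, lM, hl⟩ := H24.Sylow_Jsub Nat.prime_two (hP.cj_mem_N (nN (H24.mem_C1.2 nx)))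
        (H24.isPi_of_isPGroup Nat.prime_two (pg_zp (sq_of_cj (cj_of (a := (g : G)) rfl) T.s.yy)))
        (zpowers_le.2 (H24.conj_mem (nN g.2) (le ⟨yH, y0.2⟩)))
      obtain ⟨p, pP, e⟩ := H24.mem_cj'.1 (hl (H24.conj_mem_cj l (mem_zpowers _)))
      have := U (l * g) (by
        rw [show l * g * y * (l * g)⁻¹ = l * (g * y * (g : G)⁻¹) * l⁻¹ by group, e]; exact cy _ (hn p pP))
      exact (mN g).1 ((M.mul_mem_cancel_left lM).1 (le ⟨this, mul_mem (lN lM) g.2⟩))⟩
  have o2 : ∀ a : C{x}, IsConj y (a : G) → orderOf (π a) = 2 := fun a i =>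
    orderOf_eq_prime (by rw [pow_two, s1 a (sq_of_cj i T.s.yy)]) (n1 a i)
  by_contra hn
  have se := H6.ZD.s1175 (M := B) (fun e => hn fun a m => (mB ⟨a, m⟩).1 (e ▸ mem_top _)) (o2 y0 (IsConj.refl _))
    ((mB y0).2 yH) (syl_cent (s1 _ T.s.yy) fun P hP => by
      obtain ⟨n, nx, hn⟩ := T.one.syl (P := (P.comap π).map C{x}.subtype) ((hP.comap_of_ker_isPGroup π (by
        rw [QuotientGroup.ker_mk']; exact pg_zp (Subtype.ext T.xx))).map _) fun p m => H24.mem_C1.1 (map_subtype_le _ m)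
      refine ⟨π ⟨n, H24.mem_C1.2 nx⟩, fun p m => ?_⟩
      obtain ⟨p, rfl⟩ := sur p
      simp only [← map_inv, ← map_mul]
      exact congrArg π (Subtype.ext (hn p ⟨p, m, rfl⟩)))
    (fun g m => by
      obtain ⟨g, rfl⟩ := sur g
      exact (mB g).2 (V y0 g (IsConj.refl _) yH m))
    fun g c ne a m => by
      obtain ⟨g, rfl⟩ := sur g
      obtain ⟨a, rfl⟩ := sur a
      simp only [← map_inv, ← map_mul] at c ne m
      have c1 : (g : G) * y * (g : G)⁻¹ * y = y * (g * y * (g : G)⁻¹) := by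
        have := hk y0 (g * y0 * g⁻¹ * y0 * (g * y0 * g⁻¹)⁻¹) (by
          rw [map_mul, map_mul _ _ y0, ← c.eq, map_inv, mul_inv_cancel_right])
        exact mul_inv_eq_iff_eq_mul.1 (T.one.eq_y (cj_of rfl) (by
          rcases this with e | e
          exacts [.inr (.inl e), .inr (.inr (.inr e))]))
      have ne' : ∀ b : C{x}, π b = 1 → y0 * (g * y0 * g⁻¹) * b ≠ 1 := fun b hb e => ne (by
        have := congrArg π e
        rw [map_mul, hb, mul_one, map_mul, map_one, mul_eq_one_iff_inv_eq] at this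
        rw [← this, inv_eq_of_mul_eq_one_right (s1 _ T.s.yy)])
      have uH : y * (g * y * (g : G)⁻¹) ∈ H := mul_mem yH (cy _ c1)
      have m' := H24.mem_C1_iff_conj.1 m
      rcases prod_cls T L (H24.mem_C1.1 g.2) c1 (fun e => ne' 1 (map_one π) (Subtype.ext (by simpa using e)))
        (fun e => ne' x0 px (Subtype.ext e)) with i | i
      · exact (mB a).2 (V (y0 * (g * y0 * g⁻¹)) a i uH (by rw [m']; exact (mB _).2 uH))
      · exact (mB a).2 (V (y0 * (g * y0 * g⁻¹) * x0) a i (mul_mem uH xH) (by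
          rw [map_mul _ _ x0, px, mul_one, m']; exact (mB _).2 uH))
  obtain ⟨e, e', he⟩ := bb_tri
  obtain ⟨b1, b2, b3⟩ := T.bbQ 0 (he e (by simp))
  obtain ⟨g, hg⟩ := isConj_iff.1 (H6.isConj_of_isStronglyEmbedded se (o2 y0 (IsConj.refl _))
    (o2 ⟨_, H24.mem_C1.2 b1⟩ b2))
  obtain ⟨g, rfl⟩ := sur g
  simp only [← map_inv, ← map_mul] at hg
  have a : IsConj x (g * y * (g : G)⁻¹ * x) := T.one.A_yx.trans (cj_of (a := (g : G)) (cj_mul (H24.mem_C1.1 g.2)))
  rcases hk _ _ hg with e1 | e1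
  · exact T.nAB a ((show q 0 e = g * y * (g : G)⁻¹ from e1) ▸ b3)
  · exact T.nAB a ((show q 0 e = g * y * (g : G)⁻¹ * x from e1) ▸ b2)

end Z9

open Z9

/-- A simple group that contains the Monster together with the centraliser of `z`. -/
theorem onto_of_cent {G : Type*} [Group G] [Finite G] [IsSimpleGroup G] (f : MM tau →* G)
    (hf : Function.Injective f) (h : ∀ g, g * f (zM tau) = f (zM tau) * g → g ∈ f.range) :
    Function.Surjective f := by
  obtain ⟨γ, T0⟩ := twoM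
  obtain ⟨eO, eD, s0, L⟩ := exists_LF
  have r : ∀ {m k}, Rel qM m k → Rel (fun t c => f (qM t c)) (f m) k := fun e t c => by
    rw [← map_inv, ← map_mul, ← map_mul, e]
  have S : Sit (f (zM tau)) fun t c => f (qM t c) := ⟨fun _ _ _ _ => by rw [← map_mul, sitM.mul],
    fun e => sitM.inj (hf e), congrArg f sitM.one, fun g e => by
      obtain ⟨m, rfl⟩ := h g e
      exact (sitM.up m (hf (by rwa [map_mul, map_mul]))).imp fun k => r,
    fun k => let ⟨m, e⟩ := sitM.down k; ⟨_, r e⟩, fun g e => by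
      obtain ⟨m, rfl⟩ := h g (by rw [← sitM.one]; exact e 1 0)
      exact (sitM.cent m fun t c => hf (by rw [map_mul, map_mul, e])).imp (fun e => by rw [e, map_one]) (congrArg f)⟩
  have mH : ∀ m : MM tau, f m ∈ C{f (tM tau)} ↔ m.1 ∈ HH tau := fun m => by
    rw [← mem_subgroupOf, ← cent_tM, H24.mem_C1, H24.mem_C1, ← map_mul, ← map_mul, hf.eq_iff]
  have T : Two (f (tM tau)) (f (zM tau)) (fun t c => f (qM t c)) (f γ) := ⟨S, congrArg f T0.hx, fun i => by
      obtain ⟨e⟩ := H9.centralizer_equiv_of_conj i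
      have h1 := card_dvd_of_le (show ((HH tau).subgroupOf (MM tau)).map f ≤ C{f (tM tau)} by
        rintro _ ⟨m, k, rfl⟩; exact (mH m).2 k)
      rw [card_map_of_injective hf, Nat.card_congr (subgroupOfEquivOfLe HH_le).toEquiv, Y.card_HH,
        Nat.card_congr e.toEquiv, S.card] at h1
      norm_num at h1,
    by rw [← map_inv, ← map_mul, ← map_mul, T0.gx], by rw [← map_inv, ← map_mul, ← map_mul, T0.gy],
    by rw [← map_inv, ← map_mul, ← map_mul, T0.gO]⟩
  have cl : ∀ u ∈ f.range, u * u = 1 → u ≠ 1 → ∃ n ∈ f.range, n * f (tM tau) * n⁻¹ = u ∨ n * f (zM tau) * n⁻¹ = u := by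
    rintro _ ⟨m, rfl⟩ e ne
    rcases T0.classes L (t := m) (hf (by rw [map_mul, e, map_one])) (fun k => ne (by rw [k, map_one])) with i | i <;>
      obtain ⟨n, rfl⟩ := isConj_iff.1 i
    exacts [⟨_, ⟨n, rfl⟩, .inl (by simp)⟩, ⟨_, ⟨n, rfl⟩, .inr (by simp)⟩]
  have U : ∀ g, g * f (zM tau) * g⁻¹ ∈ f.range → g ∈ f.range := fun g m => by
    obtain ⟨n, hn, e | e⟩ := cl _ m (sq_of_cj (cj_of rfl) S.yy) (by rw [Ne, conj_eq_one_iff]; exact S.y_ne)
    · exact (T.nAB (cj_of e) (cj_of rfl)).elim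
    · exact (f.range.mul_mem_cancel_left (inv_mem hn)).1 (h _ (mul_inv_eq_iff_eq_mul.1 (by
        rw [mul_inv_rev, inv_inv, mul_assoc n⁻¹, mul_assoc n⁻¹, ← mul_assoc _ g⁻¹, ← e]; group)))
  have cx := cent_le T L h U fun N h1 h2 h3 h4 => by
    have := normal_HH tri_tau (fun g m e => T0.nc (cj_of (a := (⟨g, m⟩ : MM tau)) (Subtype.ext e)).symm)
      (N := (N.comap f).map (MM tau).subtype) (by rintro _ ⟨m, k, rfl⟩; exact (mH m).1 (h1 k).2)
      (by
        rintro g m _ ⟨n, k, rfl⟩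
        exact ⟨⟨g, HH_le m⟩ * n * ⟨g, HH_le m⟩⁻¹, by
          simpa using h2 (f ⟨g, HH_le m⟩) ⟨⟨_, rfl⟩, (mH _).2 m⟩ _ k, rfl⟩) ⟨tM tau, h3, rfl⟩
      fun k => h4 fun n m => by
        obtain ⟨n, rfl⟩ := (h1 m).1
        rcases mem_zpowers_invol (tv_mul_self _ _) (k ⟨n, m, rfl⟩) with e | e
        · rw [show n = 1 from Subtype.ext e, map_one]; exact one_mem _
        · rw [show n = tM tau from Subtype.ext e]; exact mem_zpowers _
    rintro _ ⟨⟨m, rfl⟩, k⟩
    exact (mem_map_iff_mem (subtype_injective _)).1 (this ((mH m).1 k))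
  by_contra hn
  refine T.nc (H6.isConj_of_isStronglyEmbedded (H6.ZD.s1175 (M := f.range) (fun e => hn (MonoidHom.range_eq_top.1 e))
    S.ord ⟨_, rfl⟩ (syl_cent S.yy fun P hP => S.syl hP) U fun g c ne a m => ?_)
    (orderOf_eq_prime (by rw [pow_two, T.xx]) T.x_ne) S.ord)
  obtain ⟨n, hn, e⟩ := cl _ (mul_mem ⟨_, rfl⟩ (h _ c.symm.eq)) (by
      rw [mul_assoc, ← mul_assoc (g * _ * _), ← c.eq, mul_assoc _ (g * _ * _), sq_of_cj (cj_of rfl) S.yy, mul_one, S.yy])
    fun e => ne (by rw [← inv_eq_of_mul_eq_one_right e, S.y_inv])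
  have k : ∀ t, n * t * n⁻¹ = f (zM tau) * (g * f (zM tau) * g⁻¹) → n⁻¹ * a * n * t = t * (n⁻¹ * a * n) := fun t e => by
    rw [← e, H24.mem_C1] at m
    calc _ = n⁻¹ * (a * (n * t * n⁻¹)) * n := by group
      _ = _ := by rw [m]; group
  refine (f.range.mul_mem_cancel_left (inv_mem hn)).1 ((f.range.mul_mem_cancel_right hn).1 ?_)
  exact e.elim (fun e => cx (H24.mem_C1.2 (k _ e))) fun e => h _ (k _ e)

end H10.Mon.MG
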