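import Mathlib
import Cfsg.Prelude.Def_CaseTheorems
import Cfsg.Agent.H24.Base5
import Cfsg.Agent.H26.S01
import Cfsg.Agent.H25.MFT

/-!
# Maximal local subgroups whose Fitting subgroup is not a `p`-group (Bender)
-/

set_option autoImplicit false

namespace H13

open Cfsg Subgroup H24

universe u

variable {G : Type u} [Group G] [Finite G] {p q r : ℕ} {H L M R T Y : Subgroup G}

theorem pcore_center_Fitting_ne_bot (hp : p ∈ primesOf F[H]) : O[{p}, Z[F[H]]] ≠ ⊥ := by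
  rw [(Fitting_nil H).pcore_center]
  exact ((Fitting_nil H).of_le (pcore_le _ _)).center_ne_bot
    ((Fitting_nil H).pcore_ne_bot hp.1 rfl hp.2)

theorem pcore_center_Fitting_nml (p : ℕ) (H : Subgroup G) : O[{p}, Z[F[H]]] ⊴ H :=
  (Fitting_nml H).center.pcore _

theorem exists_ne_mem_primesOf (h : 2 ≤ (♯H).primeFactors.card) (p : ℕ) :
    ∃ r ∈ primesOf H, r ≠ p := by
  obtain ⟨r, hr, hrp⟩ := Finset.exists_mem_ne h p
  exact ⟨r, ⟨Nat.prime_of_mem_primeFactors hr, Nat.dvd_of_mem_primeFactors hr⟩, hrp⟩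

/-- the basic lemma: a `p'`-subgroup of a solvable group `L` normalised by `N_L(T)` and normalising
the `p`-subgroup `T` lies in `O_{p'}(L)` -/
theorem le_pcore_compl_of_norm (hp : p.Prime) (hL : Sol L) (hT : IsPi {p} T) (hTL : T ≤ L)
    (hY : IsPi {p}ᶜ Y) (hYL : Y ≤ L) (hYT : Y ≤ N[T]) (hN : L ⊓ N[T] ≤ N[Y]) :
    Y ≤ O[{p}ᶜ, L] :=
  (pcore_max' hY (le_inf hYL hYT) hN).trans (H26.p'core_norm_pgroup hp hT hTL hL)

theorem le_pcore_compl_of_forall {π : Set ℕ} (hYR : Y ≤ R) (h : ∀ p ∈ π, Y ≤ O[{p}ᶜ, R]) :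
    Y ≤ O[πᶜ, R] := by
  refine (le_inf hYR (le_iInf fun p : π => h p p.2)).trans (pcore_max ?_
    (nml_inf_of_norm (norm_iInf fun p : π => (pcore_nml _ _).norm)))
  intro p hp hd hπ
  exact ((pcore_pi {p}ᶜ R).of_le (inf_le_right.trans (iInf_le _ (⟨p, hπ⟩ : π)))).not_dvd' hp rfl hd

omit [Finite G] in
theorem isPi_primesNotDvd : IsPi (primesNotDvd ♯H) Y ↔ IsPi (primesOf H)ᶜ Y :=
  ⟨fun h p hp hd hπ => (h p hp hd).2 hπ.2, fun h p hp hd => ⟨hp, fun h' => h p hp hd ⟨hp, h'⟩⟩⟩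

theorem pcore_primesNotDvd : O[primesNotDvd ♯H, R] = O[(primesOf H)ᶜ, R] :=
  pcore_congr fun _ hp _ => ⟨fun h hπ => h.2 hπ.2, fun h => ⟨hp, fun h' => h ⟨hp, h'⟩⟩⟩

theorem maximal_local_unique_invariant_sylow
    (hHmax : ∀ L : Subgroup G, IsLocalSubgroup L → H ≤ L → L = H)
    (hF2 : 2 ≤ (♯F[H]).primeFactors.card) (hM : M ≤ F[H]) (hCM : F[H] ⊓ C[M] ≤ M)
    (hR : Sol R) (hMR : M ≤ N[R]) (hXR : H ⊓ C[F[H]] ≤ N[R]) (hq : q.Prime) (hqF : ¬ q ∣ ♯F[H]) :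
    ∃! Q : Subgroup G, Q ∈ maxInvSubgroups R M {q} ∧
      (∀ Q' : Subgroup G, Q' ∈ maxInvSubgroups R M {q} →
        Q' ≤ O[primesNotDvd ♯F[H], R] ∧ ¬ q ∣ Q'.relIndex O[primesNotDvd ♯F[H], R]) := by
  rw [pcore_primesNotDvd]
  set π := primesOf F[H] with hπ
  have hFπ : IsPi π F[H] := isPi_primesOf _
  have hMH : M ≤ H := hM.trans (Fitting_le H)
  have hN : ∀ p ∈ π, N[O[{p}, Z[F[H]]]] = H := fun p hp =>
    hHmax _ ⟨p, _, hp.1, (pcore_pi _ _).isPGroup hp.1, pcore_center_Fitting_ne_bot hp, rfl⟩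
      (pcore_center_Fitting_nml p H).norm
  have hZM : ∀ p, O[{p}, Z[F[H]]] ≤ M := fun p =>
    (pcore_le _ _).trans ((inf_le_inf_left _ (C_anti hM)).trans hCM)
  have hXF : H ⊓ C[F[H]] ⊓ R ≤ F[H] := by
    have h1 : F[H ⊓ C[F[H]] ⊓ R] ≤ F[H] :=
      (nml_inf_of_norm hXR).Fitting_le.trans (Fitting_nml H).infC.Fitting_le
    exact (le_Fitting_of_cent (hR.of_le inf_le_right) le_rfl
      ((inf_le_left.trans inf_le_right).trans (C_anti h1))).trans h1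
  have hY : ∀ Y ≤ R, IsPi πᶜ Y → M ≤ N[Y] → Y ≤ H → Y = ⊥ := fun Y hYR hY hMY hYH => by
    have hYF := hYH.trans (Fitting_nml H).norm
    have h1 : Y ≤ C[M] := comm_eq_bot.1 (eq_bot_of_le (hY.inf_eq_bot' hFπ)
      (le_inf (comm_le_left hMY) ((comm_mono_right hM).trans (comm_le_right hYF))))
    have h2 : M ≤ F[H] ⊓ C[Y] := le_inf hM (cents_symm h1)
    have h3 := H26.coprime_nil_faithful_cent_stab hYF (hFπ.coprime hY) (Fitting_nil H)
      (((inf_le_inf_left _ (C_anti h2)).trans hCM).trans h2)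
    exact (hFπ.of_le ((le_inf (le_inf hYH h3) hYR).trans hXF)).eq_bot hY
  have hK : ∀ Q ≤ R, IsPi πᶜ Q → M ≤ N[Q] → Q ≤ O[πᶜ, R] := fun Q hQR hQ hMQ => by
    refine le_pcore_compl_of_forall hQR fun p hp => ?_
    obtain ⟨r, hr, hrp⟩ := exists_ne_mem_primesOf hF2 p
    have hZr : IsPi {r} O[{r}, Z[F[H]]] := pcore_pi _ _
    have h1 : Q ⊓ C[O[{r}, Z[F[H]]]] = ⊥ :=
      hY _ (inf_le_left.trans hQR) (hQ.inf_left _)
        (norm_inf hMQ (norm_C (hMH.trans (pcore_center_Fitting_nml r H).norm)))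
        (inf_le_right.trans ((C_le_N _).trans (hN r hr).le))
    have h2 := (H26.coprime_cent_prod' ((hZM r).trans hMQ) (hQ.coprime' (hZr.of_mem hr))
      (Or.inr (hZr.sol hr.1))).sup_eq
    rw [h1, sup_bot_eq] at h2
    have hL : Sol (R ⊔ M) := hR.sup ((Fitting_nil H).of_le hM).sol hMR
    have h3 : O[{r}, Z[F[H]]] ≤ O[{p}ᶜ, R ⊔ M] :=
      le_pcore_compl_of_norm hp.1 hL (pcore_pi {p} Z[F[H]]) ((hZM p).trans le_sup_right)
        (hZr.compl_of_ne hrp) ((hZM r).trans le_sup_right) (((hZM r).trans hMH).trans (hN p hp).ge)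
        (inf_le_right.trans ((hN p hp).le.trans (pcore_center_Fitting_nml r H).norm))
    rw [← pcore_inf_nml _ (nml_sup_left hMR)]
    refine le_inf (h2.ge.trans ((comm_mono_right h3).trans (comm_le_right ?_))) hQR
    exact (hQR.trans le_sup_left).trans (pcore_nml _ _).norm
  have hMK : M ≤ N[O[πᶜ, R]] := norm_pcore _ hMR
  have hcop : (♯O[πᶜ, R]).Coprime ♯M := (pcore_pi _ _).coprime' (hFπ.of_le hM)
  have hKs : Sol O[πᶜ, R] := hR.of_le (pcore_le _ _)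
  have hCK : O[πᶜ, R] ⊓ C[M] = ⊥ := by
    obtain ⟨r, hr, -⟩ := exists_ne_mem_primesOf hF2 0
    exact hY _ (inf_le_left.trans (pcore_le _ _)) ((pcore_pi _ _).inf_left _)
      (norm_inf hMK (norm_C (norm_self M)))
      (inf_le_right.trans ((C_anti (hZM r)).trans ((C_le_N _).trans (hN r hr).le)))
  have hqπ : q ∈ πᶜ := fun h => hqF h.2
  obtain ⟨P, hP, hMP⟩ := H26.sol_coprime_Sylow_exists hq hMK hcop (Or.inr hKs)
  have huniq : ∀ Q' ∈ maxInvSubgroups R M {q}, Q' = P := by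
    rintro Q' ⟨⟨h1, h2, h3⟩, h4⟩
    obtain ⟨P', hP', hMP', hQP'⟩ := H26.sol_coprime_Sylow_subset hq hMK hcop (Or.inr hKs)
      (hK Q' h1 (IsPi.of_mem h2 hqπ) h3) h2 h3
    obtain ⟨c, hc, e⟩ := H26.sol_coprime_Sylow_trans hq hMK hcop (Or.inr hKs) hP hMP hP' hMP'
    rw [hCK, mem_bot] at hc
    rw [hc, cj_one] at e
    rw [← e, h4 P' ⟨hP'.le.trans (pcore_le _ _), hP'.pi, hMP'⟩ hQP']
  refine ⟨P, ⟨⟨⟨hP.le.trans (pcore_le _ _), hP.pi, hMP⟩, ?_⟩, fun Q' hQ' => ?_⟩,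
    fun Q' hQ' => huniq Q' hQ'.1⟩
  · rintro Q ⟨h1, h2, h3⟩ h4
    exact hP.eq_of_le h2 h4 (hK Q h1 (IsPi.of_mem h2 hqπ) h3)
  · rw [huniq Q' hQ']
    exact ⟨hP.le, hP.not_dvd hq⟩

/-- a `p`-subgroup normalising the solvable group `L` and centralising `O_q(L)` for all `q ≠ p`
centralises `O_{p'}(L)` -/
theorem cent_pcore_compl_of_forall (hL : Sol L) (hT : IsPi {p} T) (hTL : T ≤ N[L])
    (h : ∀ q, q.Prime → q ≠ p → T ≤ C[O[{q}, L]]) : T ≤ C[O[{p}ᶜ, L]] := by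
  refine (le_inf le_rfl ?_).trans (H26.coprime_cent_Fitting (norm_pcore _ hTL)
    ((pcore_pi _ _).coprime' hT) (hL.of_le (pcore_le _ _)))
  refine cents_symm (Fitting_le_of_pcore_le fun q hq hd => ?_)
  have hqp : q ≠ p := ((pcore_pi {p}ᶜ L).of_le (Fitting_le _)).mem hq hd
  exact ((pcore_nml _ L).pcore_le _).trans (cents_symm (h q hq hqp))

theorem minsimple_overgroup_of_center_uniqueness [H25.FT G] (hH : IsCoatom H)
    (hF2 : 2 ≤ (♯F[H]).primeFactors.card) (hZM : Z[F[H]] ≤ M)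
    (hinv : ∀ Y ∈ invSubgroups ⊤ M (primesNotDvd ♯F[H]), Y = ⊥) (hL : IsCoatom L) (hML : M ≤ L) :
    L = H := by
  set π := primesOf F[H] with hπ
  have hHs := H25.mmax_sol hH
  have hLs := H25.mmax_sol hL
  have hN : ∀ p ∈ π, N[O[{p}, Z[F[H]]]] = H := fun p hp =>
    H25.mmax_normal hH (pcore_center_Fitting_nml p H) (pcore_center_Fitting_ne_bot hp)
  have hZL : ∀ p, O[{p}, Z[F[H]]] ≤ L := fun p => ((pcore_le _ _).trans hZM).trans hML
  have ha : ∀ p ∈ π, ∀ r, r ≠ p → O[{r}, Z[F[H]]] ≤ O[{p}ᶜ, L] := fun p hp r hrp =>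
    le_pcore_compl_of_norm hp.1 hLs (pcore_pi {p} Z[F[H]]) (hZL p)
      ((pcore_pi _ _).compl_of_ne hrp) (hZL r) ((pcore_center_Fitting_nml r H).le.trans (hN p hp).ge)
      (inf_le_right.trans ((hN p hp).le.trans (pcore_center_Fitting_nml r H).norm))
  have hb : ∀ q, q ∉ π → O[{q}, L] = ⊥ := fun q hq =>
    hinv _ ⟨le_top, isPi_primesNotDvd.2 ((pcore_pi _ _).of_mem hq),
      hML.trans (pcore_nml _ _).norm⟩
  have hc0 : ∀ p q, q ≠ p → O[{p}, Z[F[H]]] ≤ C[O[{q}, L]] := fun p q hqp => by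
    by_cases hq : q ∈ π
    · exact (ha q hq p hqp.symm).trans (pcore_compl_cent_pcore _ _)
    · rw [hb q hq, C_bot]; exact le_top
  have hc : ∀ p ∈ π, O[{p}ᶜ, L] ≤ H := fun p hp =>
    (cents_symm (cent_pcore_compl_of_forall hLs (pcore_pi _ _) ((hZL p).trans (norm_self L))
      fun q _ hqp => hc0 p q hqp)).trans ((C_le_N _).trans (hN p hp).le)
  have hd : ∀ p ∈ π, O[{p}, L] ≠ ⊥ := fun p hp h => by
    refine pcore_center_Fitting_ne_bot hp (eq_bot_of_le h (le_pcore_of_le_Fitting (pcore_pi _ _)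
      (le_Fitting_of_cent hLs (hZL p) (cents_symm (Fitting_le_of_pcore_le fun q _ _ => ?_)))))
    by_cases hqp : q = p
    · rw [hqp, h]; exact bot_le
    · exact cents_symm (hc0 p q hqp)
  have hNL : ∀ p ∈ π, N[O[{p}, L]] = L := fun p hp => H25.mmax_normal hL (pcore_nml _ _) (hd p hp)
  have he : ∀ p ∈ π, O[{p}, L] ≤ H := fun p _ => by
    obtain ⟨r, hr, hrp⟩ := exists_ne_mem_primesOf hF2 p
    exact (cents_symm (hc0 r p hrp.symm)).trans ((C_le_N _).trans (hN r hr).le)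
  have hf : ∀ p ∈ π, O[{p}ᶜ, L] ≤ O[{p}ᶜ, H] := fun p hp =>
    le_pcore_compl_of_norm hp.1 hHs (pcore_pi {p} L) (he p hp) (pcore_pi _ _) (hc p hp)
      ((pcore_le _ _).trans (hNL p hp).ge)
      (inf_le_right.trans ((hNL p hp).le.trans (pcore_nml _ _).norm))
  obtain ⟨p, hp, -⟩ := exists_ne_mem_primesOf hF2 0
  obtain ⟨r, hr, hrp⟩ := exists_ne_mem_primesOf hF2 p
  have hne : O[{p}ᶜ, L] ≠ ⊥ := ne_bot_of_le (pcore_center_Fitting_ne_bot hr) (ha p hp r hrp)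
  have hg : O[{p}ᶜ, H] ≤ L := by
    refine (cents_symm (cent_pcore_compl_of_forall hHs (pcore_pi _ _)
      ((he p hp).trans (norm_self H)) fun q hq hqp => ?_)).trans ((C_le_N _).trans (hNL p hp).le)
    by_cases hqπ : q ∈ π
    · exact ((pcore_le_of_mem L (show p ∈ ({q}ᶜ : Set ℕ) from hqp.symm)).trans (hf q hqπ)).trans
        (pcore_compl_cent_pcore _ _)
    · have : O[{q}, H] = ⊥ := by
        by_contra h
        exact hqπ ⟨hq, (pcore_ne_bot_iff_dvd_Fitting hq).1 h⟩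
      rw [this, C_bot]; exact le_top
  have hh : O[{p}, H] ≤ L :=
    ((pcore_cent_pcore_compl _ _).trans (C_anti (hf p hp))).trans
      ((C_le_N _).trans (H25.mmax_normal hL (pcore_nml _ _) hne).le)
  have hNH : N[O[{p}, H]] = H :=
    H25.mmax_normal hH (pcore_nml _ _) ((pcore_ne_bot_iff_dvd_Fitting hp.1).2 hp.2)
  have hi : O[{p}ᶜ, H] ≤ O[{p}ᶜ, L] :=
    le_pcore_compl_of_norm hp.1 hLs (pcore_pi {p} H) hh (pcore_pi _ _) hg
      ((pcore_le _ _).trans hNH.ge) (inf_le_right.trans (hNH.le.trans (pcore_nml _ _).norm))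
  have he := le_antisymm (hf p hp) hi
  rw [← H25.mmax_normal hL (pcore_nml _ _) hne, he]
  exact H25.mmax_normal hH (pcore_nml _ _) (he ▸ hne)

end H13
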