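import Mathlib
import Cfsg.Agent.H28.ND0
import Cfsg.Agent.H28.NDA
import Cfsg.Agent.H28.NDMB

/-! S1739: lifting lemmas shared by the blocks NDMC and NDMF -/

set_option autoImplicit false
set_option linter.unusedSectionVars false

namespace H28.ND.NDk

open Subgroup Equiv Equiv.Perm Cfsg H24 H23 H25.LB H5.Ly H20.So
open scoped commutatorElement

variable {G : Type*} [Group G] [Finite G] {n : ℕ} {L H D : Subgroup G} {ι : SS →* G}

theorem up_inj (hn : 8 ≤ n) : Function.Injective (up hn) := viaEmbeddingHom_injective _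

theorem sign_up (hn : 8 ≤ n) (σ : Perm (Fin 8)) : sign (up hn σ) = sign σ := by
  classical
  show sign (viaEmbedding σ (Fin.castLEEmb hn)) = _
  unfold viaEmbedding
  convert sign_extendDomain σ _

theorem up_fix (hn : 8 ≤ n) (σ : Perm (Fin 8)) {i : Fin n} (hi : 8 ≤ i.val) : up hn σ i = i := by
  refine viaEmbedding_apply_of_notMem σ (Fin.castLEEmb hn) i ?_
  rintro ⟨j, rfl⟩
  have := j.2
  simp at hi
  omega

theorem up8 (hn : 8 ≤ 8) (σ : Perm (Fin 8)) : up hn σ = σ := by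
  ext i
  exact congrArg Fin.val (viaEmbedding_apply σ (Fin.castLEEmb hn) i)

theorem ph_eq (hn : 8 ≤ n) {u v : SS} (h : up hn (ph u) = up hn (ph v)) : u = v ∨ u = v * zS := by
  have : up hn (ph (v⁻¹ * u)) = 1 := by rw [map_mul, map_mul, h, map_inv, map_inv, inv_mul_cancel]
  rcases (up_ph_one hn).1 this with e | e
  · exact Or.inl (inv_mul_eq_one.1 e).symm
  · exact Or.inr (inv_mul_eq_iff_eq_mul.1 e)

theorem φ_opp (A : Act n L) {o : G} (ho : o ∈ opp 2 L) : A.φ o = 1 :=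
  (A.φ_one (norm_self _ (opp_le 2 L ho))).2 (opp_le_cz' L ho)

theorem L_opp (L : Subgroup G) : L ≤ N[opp 2 L] :=
  (norm_self L).trans (normalizer_le_normalizer_opp 2 L)

theorem ker {a : G} (hn : 8 ≤ n) (p : Pc n H a L) (A : Act n L) {x : G} (hx : x ∈ L)
    (h : A.φ x = 1) : x ∈ opp 2 L ∨ x * a ∈ opp 2 L :=
  (pr_eq_one (by rw [← A.φ_π hx, h])).imp (A.π_one hx).1 (a_mul_t hn p A hx)

theorem two_opp {R : Subgroup G} (hR : IsPGroup 2 R) {o : G} (h1 : o ∈ R) (h2 : o ∈ opp 2 L) :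
    o = 1 := by
  obtain ⟨k, hk⟩ := te_of_pg hR h1
  exact eq_one_of_two_odd hk (odd_orderOf_of_mem (odd_opp L) h2)

/-- a 2-subgroup of `L` with image inside the image of `S₀ ∋ z` is conjugate into `ι S₀` -/
theorem back {hn : 8 ≤ n} {A : Act n L} (s : St hn L ι A) (p : Pc n H (ι zS) L) {S₀ : Subgroup SS}
    (hz : zS ∈ S₀) (hD : IsPGroup 2 D) (hL : D ≤ L)
    (h : ∀ d ∈ D, ∃ u ∈ S₀, A.φ d = up hn (ph u)) : ∃ o ∈ opp 2 L, cj o D ≤ S₀.map ι := by
  have hT : S₀.map ι ≤ L := by rintro _ ⟨u, -, rfl⟩; exact s.mem u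
  have hn' : S₀.map ι ≤ N[opp 2 L] := hT.trans (L_opp L)
  have hp : IsPGroup 2 (S₀.map ι) := (pg_range ι).to_le (map_le_range _ _)
  have mx : Mx (S₀.map ι) (opp 2 L ⊔ S₀.map ι) := by
    refine ⟨hp, le_sup_right, fun R hR h1 h2 x hx => ?_⟩
    obtain ⟨o, ho, e, he, rfl⟩ := (mem_sup_of_norm hn').1 (h1 hx)
    rw [two_opp hR ((mul_mem_cancel_right (h2 he)).1 hx) ho, one_mul]
    exact he
  have hle : D ≤ opp 2 L ⊔ S₀.map ι := by
    intro d hd
    obtain ⟨u, hu, e⟩ := h d hd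
    have h1 : d * (ι u)⁻¹ ∈ L := mul_mem (hL hd) (inv_mem (s.mem u))
    have h2 : A.φ (d * (ι u)⁻¹) = 1 := by
      rw [A.φ_mul (norm_self _ (hL hd)) (norm_self _ (inv_mem (s.mem u))),
        A.φ_inv (norm_self _ (s.mem u)), s.ph, e, mul_inv_cancel]
    have h3 : (ι u)⁻¹ ∈ opp 2 L ⊔ S₀.map ι := mem_sup_right (inv_mem ⟨u, hu, rfl⟩)
    rcases ker hn p A h1 h2 with h4 | h4
    · exact (mul_mem_cancel_right h3).1 (mem_sup_left h4)
    · have h5 : ι zS ∈ opp 2 L ⊔ S₀.map ι := mem_sup_right ⟨_, hz, rfl⟩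
      exact (mul_mem_cancel_right h3).1 ((mul_mem_cancel_right h5).1 (mem_sup_left h4))
  obtain ⟨g, hg, hc⟩ := mx.conj hD hle
  rw [sup_comm] at hg
  obtain ⟨e, he, o, ho, rfl⟩ := (mem_sup_of_norm' hn').1 hg
  refine ⟨o, ho, ?_⟩
  rw [cj_mul, cj_le_iff, cj_of_mem (inv_mem he)] at hc
  exact hc

theorem E_sq : ∀ e ∈ E₀, e * e = 1 := by decide +kernel
theorem E_comm : ∀ e ∈ E₀, ∀ e' ∈ E₀, e * e' = e' * e := by decide +kernel
theorem z_E : zS ∈ E₀ := by decide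
theorem z_E1 : zS ∈ E₁ := by decide

theorem EE_C (ι : SS →* G) : EE ι ≤ C[EE ι] := by
  rintro _ ⟨e, he, rfl⟩
  rw [mem_C]
  rintro _ ⟨e', he', rfl⟩
  rw [← map_mul, ← map_mul, E_comm e he e' he']

theorem pg_map (ι : SS →* G) (S₀ : Subgroup SS) : IsPGroup 2 (S₀.map ι) :=
  (pg_range ι).to_le (map_le_range _ _)

end H28.ND.NDk
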