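import Mathlib
import Cfsg.Agent.H29.Ext

/-!
# Power-conjugate presentations of `2`-groups: normal forms and collection
-/

set_option autoImplicit false

namespace H13.Pc

open H29 Subgroup

/-- one level of a presentation: the code of the square of the generator and the codes of the
conjugates of the later generators. -/
structure Lv where
  sq : ℕ
  cj : List ℕ

variable {G : Type*} [Group G]

/-- the element with code `a`. -/
def nf : List G → ℕ → G
  | [], _ => 1
  | g :: x, a => (if a % 2 = 0 then 1 else g) * nf x (a / 2)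

/-- the subgroup generated by a list. -/
def cl (x : List G) : Subgroup G := closure {g | g ∈ x}

/-- the product of the members of `l` selected by the bits of a number. -/
noncomputable def cjF (m : ℕ → ℕ → ℕ) (l : List ℕ) : ℕ → ℕ → ℕ :=
  List.rec (motive := fun _ => ℕ → ℕ → ℕ) (fun _ acc => acc) (fun c _ ih a acc =>
    Bool.rec (lit (Nat.div a 2) fun a' => Bool.rec (lit (m acc c) (ih a')) (ih a' acc)
      (Nat.beq (Nat.mod a 2) 0)) acc (Nat.beq a 0)) l

/-- collection. -/
noncomputable def mul (D : List Lv) : ℕ → ℕ → ℕ :=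
  List.rec (motive := fun _ => ℕ → ℕ → ℕ) (fun _ _ => 0) (fun d _ ih a b =>
    Bool.rec (Bool.rec (lit (Nat.div a 2) fun a' => lit (Nat.div b 2) fun b' =>
      Bool.rec (lit (cjF ih d.cj a' 0) fun c =>
          Bool.rec (lit (ih d.sq c) fun s => Nat.mul 2 (ih s b')) (Nat.add 1 (Nat.mul 2 (ih c b')))
            (Nat.beq (Nat.mod a 2) 0))
        (Nat.add (Nat.mod a 2) (Nat.mul 2 (ih a' b'))) (Nat.beq (Nat.mod b 2) 0)) b (Nat.beq a 0))
      a (Nat.beq b 0)) D

/-- the relations hold. -/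
def PC : List G → List Lv → Prop
  | [], [] => True
  | g :: x, d :: D => g * g = nf x d.sq ∧ List.Forall₂ (fun h c => h * g = g * nf x c) x d.cj ∧ PC x D
  | _, _ => False

theorem brec {α : Type} (u v : α) (a b : ℕ) :
    (Bool.rec u v (Nat.beq a b) : α) = if a = b then v else u := by
  by_cases h : a = b
  · rw [if_pos h, H29.beq_true.2 h]
  · rw [if_neg h, show Nat.beq a b = false by rw [← Bool.not_eq_true, H29.beq_true]; exact h]

@[simp] theorem nf_zero : ∀ x : List G, nf x 0 = 1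
  | [] => rfl
  | _ :: x => by simp [nf, nf_zero x]

theorem nf_two (g : G) (x : List G) (a : ℕ) : nf (g :: x) (2 * a) = nf x a := by simp [nf]

theorem nf_odd (g : G) (x : List G) (a : ℕ) : nf (g :: x) (1 + 2 * a) = g * nf x a := by
  rw [nf, if_neg (by omega), show (1 + 2 * a) / 2 = a by omega]

theorem nf_cjF {x : List G} {m : ℕ → ℕ → ℕ} (hm : ∀ a b, nf x (m a b) = nf x a * nf x b) {g : G}
    {y : List G} {l : List ℕ} (h : List.Forall₂ (fun h c => h * g = g * nf x c) y l) :
    ∀ a acc, nf x (cjF m l a acc) = nf x acc * (g⁻¹ * nf y a * g) := by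
  induction h with
  | nil => intro a acc; simp [nf, show cjF m [] a acc = acc from rfl]
  | @cons h c y l h1 _ ih =>
    intro a acc
    have e : cjF m (c :: l) a acc = if a = 0 then acc else
        if a % 2 = 0 then cjF m l (a / 2) acc else cjF m l (a / 2) (m acc c) := by
      rw [← brec, ← brec]; rfl
    have h2 : nf x c = g⁻¹ * h * g := by rw [mul_assoc, h1, inv_mul_cancel_left]
    rw [e]
    split_ifs with h3 h4
    · simp [h3]
    · rw [ih, nf, if_pos h4, one_mul]
    · rw [ih, nf, if_neg h4, hm, h2]; group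

theorem nf_mul : ∀ {x : List G} {D : List Lv}, PC x D → ∀ a b, nf x (mul D a b) = nf x a * nf x b
  | [], [], _, _, _ => by simp [nf]
  | [], _ :: _, h, _, _ => h.elim
  | _ :: _, [], h, _, _ => h.elim
  | g :: x, d :: D, ⟨h1, h2, h3⟩, a, b => by
    have ih := nf_mul h3
    have e : mul (d :: D) a b = if b = 0 then a else if a = 0 then b else
        if b % 2 = 0 then a % 2 + 2 * mul D (a / 2) (b / 2) else
          if a % 2 = 0 then 1 + 2 * mul D (cjF (mul D) d.cj (a / 2) 0) (b / 2) else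
            2 * mul D (mul D d.sq (cjF (mul D) d.cj (a / 2) 0)) (b / 2) := by
      rw [← brec, ← brec, ← brec, ← brec]; rfl
    rw [e]
    split_ifs with h4 h5 h6 h7
    · simp [h4]
    · simp [h5]
    · rcases Nat.mod_two_eq_zero_or_one a with h | h
      · rw [h, zero_add, nf_two, ih, nf, nf, if_pos h, if_pos h6, one_mul, one_mul]
      · rw [h, nf_odd, ih, nf, nf, if_neg (by omega), if_pos h6, one_mul, mul_assoc]
    · rw [nf_odd, ih, nf_cjF ih h2, nf, nf, if_pos h7, if_neg h6, nf_zero]; group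
    · rw [nf_two, ih, ih, nf_cjF ih h2, ← h1, nf, nf, if_neg h7, if_neg h6, nf_zero]; group

theorem PC.length : ∀ {x : List G} {D : List Lv}, PC x D → x.length = D.length
  | [], [], _ => rfl
  | [], _ :: _, h => h.elim
  | _ :: _, [], h => h.elim
  | _ :: _, _ :: _, h => congrArg Nat.succ h.2.2.length

theorem PC.drop : ∀ {x : List G} {D : List Lv}, PC x D → ∀ k, PC (x.drop k) (D.drop k)
  | _, _, h, 0 => h
  | [], [], _, _ + 1 => trivial
  | [], _ :: _, h, _ + 1 => h.elim
  | _ :: _, [], h, _ + 1 => h.elim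
  | _ :: _, _ :: _, h, k + 1 => h.2.2.drop k

theorem map_nf {H : Type*} [Group H] (f : G →* H) : ∀ (x : List G) (a : ℕ),
    f (nf x a) = nf (x.map f) a
  | [], _ => map_one f
  | g :: x, a => by
    rw [nf, map_mul, map_nf f x, List.map_cons, nf]
    split_ifs <;> simp

theorem PC.of_map {H : Type*} [Group H] {f : G →* H} (hf : Function.Injective f) :
    ∀ {x : List G} {D : List Lv}, PC (x.map f) D → PC x D
  | [], [], _ => trivial
  | [], _ :: _, h => h.elim
  | _ :: _, [], h => h.elim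
  | g :: x, d :: D, ⟨h1, h2, h3⟩ => by
    refine ⟨hf (by rw [map_mul, h1, map_nf]), ?_, PC.of_map hf h3⟩
    rw [List.forall₂_map_left_iff] at h2
    exact h2.imp fun h c e => hf (by rw [map_mul, map_mul, e, map_nf])

theorem mem_cl {x : List G} {g : G} (h : g ∈ x) : g ∈ cl x := subset_closure h

theorem cl_le {x : List G} {H : Subgroup G} : cl x ≤ H ↔ ∀ g ∈ x, g ∈ H := closure_le H

theorem cl_nil : cl ([] : List G) = ⊥ := le_bot_iff.1 (cl_le.2 (by simp))

theorem cl_drop (x : List G) {j k : ℕ} (h : j ≤ k) : cl (x.drop k) ≤ cl (x.drop j) :=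
  cl_le.2 fun g hg => mem_cl (by
    rw [show k = j + (k - j) by omega, ← List.drop_drop] at hg
    exact List.mem_of_mem_drop hg)

theorem nf_mem : ∀ (x : List G) (a : ℕ), nf x a ∈ cl x
  | [], _ => one_mem _
  | g :: x, a => by
    refine mul_mem ?_ (cl_drop (g :: x) (Nat.zero_le 1) (nf_mem x _))
    split_ifs
    · exact one_mem _
    · exact mem_cl (by simp)

theorem nf_shift : ∀ (k : ℕ) (x : List G) (a : ℕ), nf x (2 ^ k * a) = nf (x.drop k) a
  | 0, _, _ => by simp
  | _ + 1, [], _ => by simp [nf]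
  | k + 1, g :: x, a => by rw [pow_succ', mul_assoc, nf_two, nf_shift k x]; rfl

theorem nf_split : ∀ (k : ℕ) (x : List G) (a : ℕ),
    nf x a = nf x (a % 2 ^ k) * nf (x.drop k) (a / 2 ^ k)
  | 0, _, _ => by simp [Nat.mod_one]
  | _ + 1, [], _ => by simp [nf]
  | k + 1, g :: x, a => by
    rw [nf, nf, nf_split k x, pow_succ', Nat.mod_mul_right_div_self, Nat.div_div_eq_div_mul,
      Nat.mod_mul_right_mod, mul_assoc]
    rfl

theorem exists_pow {x : List G} {g : G} {k : ℕ} (h : g ∈ x.drop k) :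
    ∃ i, k ≤ i ∧ i < x.length ∧ g = nf x (2 ^ i) := by
  obtain ⟨j, hj, rfl⟩ := List.getElem_of_mem h
  rw [List.length_drop] at hj
  refine ⟨k + j, by omega, by omega, ?_⟩
  rw [← mul_one (2 ^ (k + j)), nf_shift, List.getElem_drop, List.drop_eq_getElem_cons (by omega),
    show 1 = 1 + 2 * 0 from rfl, nf_odd, nf_zero, mul_one]

theorem pow_mem_drop (x : List G) {k i : ℕ} (h : k ≤ i) (a : ℕ) : nf x (2 ^ i * a) ∈ cl (x.drop k) := by
  rw [nf_shift]; exact cl_drop x h (nf_mem _ _)

theorem PC.exists_nf [Finite G] {x : List G} {D : List Lv} (h : PC x D) {g : G} (hg : g ∈ cl x) :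
    ∃ a, g = nf x a := by
  induction hg using closure_induction with
  | mem g hg => obtain ⟨i, -, -, e⟩ := exists_pow (k := 0) hg; exact ⟨_, e⟩
  | one => exact ⟨0, (nf_zero x).symm⟩
  | mul g k _ _ h1 h2 =>
    obtain ⟨a, rfl⟩ := h1
    obtain ⟨b, rfl⟩ := h2
    exact ⟨_, (nf_mul h a b).symm⟩
  | inv g _ h1 =>
    obtain ⟨a, rfl⟩ := h1
    have key : ∀ n, ∃ b, nf x a ^ n = nf x b := fun n => by
      induction n with
      | zero => exact ⟨0, by simp⟩
      | succ n ih => obtain ⟨b, hb⟩ := ih; exact ⟨_, by rw [pow_succ, hb, ← nf_mul h]⟩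
    obtain ⟨b, hb⟩ := key (orderOf (nf x a) - 1)
    refine ⟨b, hb ▸ inv_eq_of_mul_eq_one_left ?_⟩
    rw [← pow_succ, Nat.sub_add_cancel (orderOf_pos _), pow_orderOf_eq_one]

/-- the normal forms are distinct. -/
def Ind : List G → Prop
  | [] => True
  | g :: x => g ∉ cl x ∧ Ind x

theorem eqv_of_mod {x : List G} {k u v : ℕ} (h : u % 2 ^ k = v % 2 ^ k) :
    (nf x u)⁻¹ * nf x v ∈ cl (x.drop k) := by
  rw [nf_split k x u, nf_split k x v, h, mul_inv_rev, mul_assoc, inv_mul_cancel_left]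
  exact mul_mem (inv_mem (nf_mem _ _)) (nf_mem _ _)

theorem Ind.mod : ∀ {x : List G} {k u v : ℕ}, Ind x → k ≤ x.length →
    (nf x u)⁻¹ * nf x v ∈ cl (x.drop k) → u % 2 ^ k = v % 2 ^ k
  | _, 0, _, _, _, _, _ => by simp [Nat.mod_one]
  | [], _ + 1, _, _, _, h, _ => absurd h (by simp)
  | g :: x, k + 1, u, v, ⟨h1, h2⟩, hk, h => by
    have hu := nf_mem x (u / 2)
    have hv := nf_mem x (v / 2)
    have h3 : (nf (g :: x) u)⁻¹ * nf (g :: x) v ∈ cl x := cl_drop x (Nat.zero_le k) h
    rw [List.drop_succ_cons] at h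
    have h4 : u % 2 = v % 2 := by
      by_contra h4
      apply h1
      rw [nf, nf, mul_inv_rev, mul_assoc, mul_mem_cancel_left (inv_mem hu), ← mul_assoc,
        mul_mem_cancel_right hv] at h3
      split_ifs at h3 with h5 h6 h6
      · omega
      · simpa using h3
      · simpa using h3
      · omega
    rw [nf, nf, h4, mul_inv_rev, mul_assoc, inv_mul_cancel_left] at h
    rw [pow_succ', Nat.mod_mul, Nat.mod_mul, h4, Ind.mod h2 (by simpa using hk) h]

theorem Ind.mod' {x : List G} {j k u v : ℕ} (hI : Ind (x.drop j)) (hjk : j ≤ k) (hk : k ≤ x.length)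
    (h0 : u % 2 ^ j = v % 2 ^ j) (h : (nf x u)⁻¹ * nf x v ∈ cl (x.drop k)) :
    u % 2 ^ k = v % 2 ^ k := by
  obtain ⟨m, rfl⟩ := Nat.exists_eq_add_of_le hjk
  rw [nf_split j x u, nf_split j x v, h0, mul_inv_rev, mul_assoc, inv_mul_cancel_left,
    ← List.drop_drop] at h
  rw [pow_add, Nat.mod_mul, Nat.mod_mul, h0, hI.mod (by simp; omega) h]

theorem ind_step [Finite G] : ∀ (m : ℕ) {y : List G} {D : List Lv}, PC y D → m ≤ y.length →
    (∀ r, 0 < r → r < 2 ^ m → nf y r ∉ cl (y.drop m)) → Ind (y.drop m) → Ind y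
  | 0, _, _, _, _, _, h => h
  | _ + 1, [], _, _, _, _, _ => trivial
  | _ + 1, _ :: _, [], h, _, _, _ => h.elim
  | m + 1, g :: y, d :: D, hP, hm, h, hI => by
    refine ⟨fun hg => ?_, ind_step m hP.2.2 (by simpa using hm) (fun r h1 h2 => ?_) hI⟩
    · obtain ⟨b, hb⟩ := hP.2.2.exists_nf (inv_mem hg)
      have h1 : nf (g :: y) (1 + 2 * b) = 1 := by rw [nf_odd, ← hb, mul_inv_cancel]
      rw [nf_split (m + 1)] at h1
      refine h ((1 + 2 * b) % 2 ^ (m + 1)) ?_ (Nat.mod_lt _ (by positivity)) ?_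
      · rw [pow_succ', Nat.mod_mul]; omega
      · rw [eq_inv_of_mul_eq_one_left h1]
        exact inv_mem (nf_mem _ _)
    · have := h (2 * r) (by omega) (by rw [pow_succ]; omega)
      rwa [nf_two] at this

theorem card_cl [Finite G] {x : List G} {D : List Lv} (h : PC x D) (hI : Ind x) :
    Nat.card (cl x) = 2 ^ x.length := by
  rw [← Nat.card_eq_fintype_card.trans (Fintype.card_fin (2 ^ x.length))]
  refine (Nat.card_congr (Equiv.ofBijective (fun a : Fin (2 ^ x.length) =>
    (⟨nf x a, nf_mem x a⟩ : cl x)) ⟨fun a b e => Fin.ext ?_, fun g => ?_⟩)).symm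
  · have := hI.mod le_rfl (u := a) (v := b) (by
      rw [show nf x a = nf x b from congrArg Subtype.val e, inv_mul_cancel]; exact one_mem _)
    rwa [Nat.mod_eq_of_lt a.2, Nat.mod_eq_of_lt b.2] at this
  · obtain ⟨a, ha⟩ := h.exists_nf g.2
    refine ⟨⟨a % 2 ^ x.length, Nat.mod_lt _ (by positivity)⟩, Subtype.ext ?_⟩
    rw [ha, nf_split x.length x a, List.drop_length, nf, mul_one]

/-! ### The relations as words -/

/-- the word with code `a`. -/
noncomputable def wd (L : List ℕ) : ℕ → List ℕ :=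
  List.rec (motive := fun _ => ℕ → List ℕ) (fun _ => []) (fun c _ ih a =>
    lit (Nat.div a 2) fun a' => Bool.rec (c :: ih a') (ih a') (Nat.beq (Nat.mod a 2) 0)) L

theorem ev_wd (e : ℕ → G) : ∀ (L : List ℕ) (a : ℕ), ev e (wd L a) = nf (L.map e) a
  | [], _ => rfl
  | c :: L, a => by
    have h : wd (c :: L) a = if a % 2 = 0 then wd L (a / 2) else c :: wd L (a / 2) := by
      rw [← brec]; rfl
    rw [h, List.map_cons, nf]
    split_ifs <;> simp [ev_wd e L]

/-- the relations as pairs of words. -/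
noncomputable def prs : List ℕ → List Lv → List (List ℕ × List ℕ)
  | c :: L, d :: D => ([c, c], wd L d.sq) ::
      (List.zipWith (fun h k => ([h, c], c :: wd L k)) L d.cj ++ prs L D)
  | _, _ => []

/-- the lengths fit. -/
def lenOK : List ℕ → List Lv → Bool
  | [], [] => true
  | _ :: L, d :: D => Nat.beq L.length d.cj.length && lenOK L D
  | _, _ => false

theorem pc_of_prs {e : ℕ → G} : ∀ {L : List ℕ} {D : List Lv}, lenOK L D = true →
    (∀ p ∈ prs L D, ev e p.1 = ev e p.2) → PC (L.map e) D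
  | [], [], _, _ => trivial
  | [], _ :: _, h, _ => absurd h (by simp [lenOK])
  | _ :: _, [], h, _ => absurd h (by simp [lenOK])
  | c :: L, d :: D, h, hp => by
    rw [lenOK, Bool.and_eq_true, H29.beq_true] at h
    rw [prs, List.forall_mem_cons, List.forall_mem_append] at hp
    refine ⟨by simpa [ev_wd] using hp.1, ?_, pc_of_prs h.2 hp.2.2⟩
    rw [List.forall₂_map_left_iff, List.forall₂_iff_zip]
    refine ⟨h.1, fun {a b} hab => ?_⟩
    have := hp.2.1 ([a, c], c :: wd L b) (by
      rw [← List.map_uncurry_zip_eq_zipWith]; exact List.mem_map.2 ⟨_, hab, rfl⟩)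
    simpa [ev_wd] using this

/-- the relations as relators. -/
noncomputable def rels (iv : ℕ → ℕ) (L : List ℕ) (D : List Lv) : List (List ℕ) :=
  (prs L D).map fun p => p.1 ++ invW iv p.2

theorem pc_of_rels {e : ℕ → G} {iv : ℕ → ℕ} (hiv : IvOK e iv) {L : List ℕ} {D : List Lv}
    (h : lenOK L D = true) (hR : ∀ r ∈ rels iv L D, ev e r = 1) : PC (L.map e) D :=
  pc_of_prs h fun p hp => by
    have := hR _ (List.mem_map.2 ⟨p, hp, rfl⟩)
    rwa [ev_append, ev_invW hiv, mul_inv_eq_one] at this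

end H13.Pc
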