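import Mathlib
import Cfsg.Agent.H13.PC1
import Cfsg.Agent.H0.SchC
import Cfsg.Agent.H2.Frattini

/-!
# A certificate for the Schreier property: an explicit Sylow `2`-subgroup
-/

set_option autoImplicit false

namespace H13.Pc

open H29 Subgroup H0.Sch

variable {G : Type*} [Group G]

/-- commutation modulo `C`. -/
def Cm (C : Subgroup G) (g s : G) : Prop := (g * s)⁻¹ * (s * g) ∈ C

theorem cm_iff {C : Subgroup G} [C.Normal] {g s : G} :
    Cm C g s ↔ g ∈ (centralizer {QuotientGroup.mk' C s}).comap (QuotientGroup.mk' C) := by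
  rw [mem_comap, mem_centralizer_singleton_iff, ← map_mul, ← map_mul]
  exact QuotientGroup.eq.symm

theorem Cm.symm {C : Subgroup G} {g s : G} (h : Cm C g s) : Cm C s g := by
  have := inv_mem h
  rwa [mul_inv_rev, inv_inv] at this

theorem cm_of_mem {C : Subgroup G} [hC : C.Normal] {g : G} (h : g ∈ C) (s : G) : Cm C g s := by
  have := mul_mem (hC.conj_mem' _ (inv_mem h) s) h
  rwa [show s⁻¹ * g⁻¹ * s * g = (g * s)⁻¹ * (s * g) by group] at this

/-- the test of commutation modulo the generators from `k` on. -/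
noncomputable def cmm (D : List Lv) (k u v : ℕ) : Bool :=
  lit (mul D u v) fun p => lit (mul D v u) fun q =>
    Nat.beq (Nat.mod p (Nat.pow 2 k)) (Nat.mod q (Nat.pow 2 k))

/-- commutation modulo level `j`, but not modulo level `k`. -/
noncomputable def sep (D : List Lv) (j k u v : ℕ) : Bool :=
  lit (mul D u v) fun p => lit (mul D v u) fun q =>
    and2 (Nat.beq (Nat.mod p (Nat.pow 2 j)) (Nat.mod q (Nat.pow 2 j)))
      (Bool.not (Nat.beq (Nat.mod p (Nat.pow 2 k)) (Nat.mod q (Nat.pow 2 k))))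

/-- some number below `n` passes a test. -/
noncomputable def anyN (n : ℕ) (f : ℕ → Bool) : Bool :=
  Nat.rec (motive := fun _ => Bool) false (fun m ih => Bool.rec ih true (f m)) n

theorem anyN_true {f : ℕ → Bool} : ∀ {n : ℕ}, anyN n f = true → ∃ a < n, f a = true
  | 0, h => absurd h (by simp [anyN])
  | n + 1, h => by
    rw [show anyN (n + 1) f = Bool.rec (anyN n f) true (f n) from rfl] at h
    cases h1 : f n with
    | true => exact ⟨n, by omega, h1⟩
    | false =>
      rw [h1] at h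
      obtain ⟨a, h2, h3⟩ := anyN_true h
      exact ⟨a, by omega, h3⟩

/-- the series is normal. -/
noncomputable def chkN (D : List Lv) : Bool :=
  allN D.length fun j => allN j fun i => cmm D (Nat.succ j) (Nat.pow 2 i) (Nat.pow 2 j)

/-- level `k` is the centraliser in level `a` of level `b` modulo level `c`. -/
noncomputable def chkCm (D : List Lv) (j a k b c : ℕ) : Bool :=
  and2 (and2 (and2 (Nat.ble a k) (Nat.ble k D.length)) (and2 (Nat.ble j c) (Nat.ble c D.length)))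
    (and2 (allN (Nat.sub c k) fun t => allN (Nat.sub D.length b) fun u =>
        cmm D c (Nat.pow 2 (Nat.add k t)) (Nat.pow 2 (Nat.add b u)))
      (allN (Nat.pred (Nat.pow 2 (Nat.sub k a))) fun r => anyN (Nat.sub D.length b) fun u =>
        sep D j c (Nat.mul (Nat.pow 2 a) (Nat.succ r)) (Nat.pow 2 (Nat.add b u))))

/-- the upper central series, read from the top. -/
noncomputable def chkU (D : List Lv) (t : ℕ) (l : List ℕ) : ℕ → ℕ → Bool :=
  List.rec (motive := fun _ => ℕ → ℕ → Bool)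
    (fun a k => and2 (Nat.beq k t) (chkCm D k a k 0 D.length))
    (fun c _ ih a k => and2 (chkCm D k a k 0 c) (ih k c)) l

/-- further characteristic levels. -/
noncomputable def chkR (D : List Lv) (l : List (ℕ × ℕ × ℕ × ℕ)) : List ℕ → Bool :=
  List.rec (motive := fun _ => List ℕ → Bool) (fun _ => true) (fun r _ ih C =>
    and2 (and2 (and2 (memL r.1 C) (memL r.2.2.1 C)) (memL r.2.2.2 C))
      (and2 (chkCm D 0 r.1 r.2.1 r.2.2.1 r.2.2.2) (ih (r.2.1 :: C)))) l

/-- a product of squares. -/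
noncomputable def sqp (D : List Lv) (l : List ℕ) : ℕ :=
  List.rec (motive := fun _ => ℕ) 0 (fun u _ ih => lit (mul D u u) fun p => lit ih (mul D p)) l

/-- a bound for the index of the step from level `a + m` to level `a` modulo the squares. -/
noncomputable def wt (D : List Lv) (fr : List (List ℕ)) (a m : ℕ) : ℕ :=
  Nat.rec (motive := fun _ => ℕ) 1 (fun t ih => Nat.mul
    (Bool.rec 2 1 (Nat.beq (sqp D (nth [] fr (Nat.add a t))) (Nat.pow 2 (Nat.add a t)))) ih) m

/-- the chain of characteristic levels. -/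
noncomputable def chkB (D : List Lv) (fr : List (List ℕ)) (C l : List ℕ) : ℕ → Bool :=
  List.rec (motive := fun _ => ℕ → Bool) (fun a => Nat.beq a D.length) (fun k _ ih a =>
    and2 (and2 (memL k C) (and2 (Nat.ble a k) (Nat.ble k D.length)))
      (and2 (Nat.ble (wt D fr a (Nat.sub k a)) 4) (ih k))) l

/-- The whole certificate: `k :: ks` are the levels of the upper central series (the last one is
`t`), `R` describes more characteristic levels, `fr` writes generators as products of squares and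
`bs` is the chain. -/
noncomputable def chkAll (D : List Lv) (t k : ℕ) (ks : List ℕ) (R : List (ℕ × ℕ × ℕ × ℕ))
    (fr : List (List ℕ)) (bs : List ℕ) : Bool :=
  and2 (and2 (chkN D) (chkU D t ks 0 k)) (and2 (chkR D R (0 :: D.length :: k :: ks))
    (chkB D fr (R.map (fun r => r.2.1) ++ 0 :: D.length :: k :: ks) bs 0))

/-- characteristic subgroups. -/
def Ch (Y : Subgroup G) : Prop := ∀ φ : MulAut G, ∀ y ∈ Y, φ y ∈ Y

/-- the subgroup generated by the squares. -/
def Sq (G : Type*) [Group G] : Subgroup G := closure (Set.range fun g : G => g * g)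

theorem ch_sq : Ch (Sq G) := fun φ _ hy =>
  (closure_le ((Sq G).comap φ.toMonoidHom)).2 (by
    rintro _ ⟨g, rfl⟩
    exact subset_closure ⟨φ g, (map_mul φ g g).symm⟩) hy

theorem Ch.normal {Y : Subgroup G} (h : Ch Y) : Y.Normal := ⟨fun y hy g => h (MulAut.conj g) y hy⟩

theorem Ch.inv {Y : Subgroup G} (h : Ch Y) (E : Subgroup (MulAut G)) : Inv E Y :=
  fun d _ => h d

theorem relIndex_le_two {H : Subgroup G} [H.Normal] {g : G} (h : g * g ∈ H) :
    H.relIndex (zpowers g ⊔ H) ≤ 2 := by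
  rw [relIndex_sup_right]
  conv_lhs => rw [← QuotientGroup.ker_mk' H]
  rw [relIndex_ker, MonoidHom.map_zpowers, Nat.card_zpowers]
  refine orderOf_le_of_pow_eq_one (by norm_num) ?_
  rw [sq, ← map_mul]
  exact (QuotientGroup.eq_one_iff _).2 h

variable [Finite G] {x : List G} {D : List Lv}

omit [Finite G] in
theorem cm_of (hP : PC x D) {k u v : ℕ} (h : cmm D k u v = true) :
    Cm (cl (x.drop k)) (nf x u) (nf x v) := by
  rw [Cm, ← nf_mul hP, ← nf_mul hP]
  exact eqv_of_mod (H29.beq_true.1 h)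

omit [Finite G] in
theorem not_cm (hP : PC x D) {j k u v : ℕ} (hI : Ind (x.drop j)) (hjk : j ≤ k) (hk : k ≤ x.length)
    (h : sep D j k u v = true) : ¬ Cm (cl (x.drop k)) (nf x u) (nf x v) := by
  rw [Cm, ← nf_mul hP, ← nf_mul hP]
  obtain ⟨h1, h2⟩ := and2_true.1 h
  intro h3
  have h4 := H29.beq_true.2 (hI.mod' hjk hk (H29.beq_true.1 h1) h3)
  exact absurd h2 (by rw [show Nat.beq (Nat.mod (mul D u v) (Nat.pow 2 k))
    (Nat.mod (mul D v u) (Nat.pow 2 k)) = true from h4]; simp)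

theorem normal_of (hP : PC x D) (ht : cl x = ⊤) (h : chkN D = true) (k : ℕ) :
    (cl (x.drop k)).Normal := by
  rw [← normalizer_eq_top_iff, eq_top_iff, ← ht, cl_le]
  intro g hg
  obtain ⟨i, -, -, rfl⟩ := exists_pow (k := 0) hg
  rw [← inv_mem_iff]
  refine mem_normalizer_fintype fun y hy => ?_
  refine (cl_le (H := (cl (x.drop k)).comap (MulAut.conj (nf x (2 ^ i))⁻¹).toMonoidHom)).2
    (fun y hy => ?_) hy
  obtain ⟨j, h1, h2, e⟩ := exists_pow hy
  have hy' := mem_cl hy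
  change (nf x (2 ^ i))⁻¹ * y * (nf x (2 ^ i))⁻¹⁻¹ ∈ cl (x.drop k)
  by_cases hij : i < j
  · have h3 := mul_mem hy' (cl_drop x (show k ≤ j + 1 by omega)
      (cm_of hP (allN_true.1 (allN_true.1 h j (hP.length ▸ h2)) i hij)))
    rw [e] at h3 ⊢
    convert h3 using 1
    change _ = nf x (2 ^ j) * ((nf x (2 ^ i) * nf x (2 ^ j))⁻¹ * (nf x (2 ^ j) * nf x (2 ^ i)))
    group
  · have h3 := pow_mem_drop x (show k ≤ i by omega) 1
    rw [mul_one] at h3
    exact mul_mem (mul_mem (inv_mem h3) hy') (inv_mem (inv_mem h3))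

theorem chkCm_spec (hP : PC x D) (hN : ∀ k, (cl (x.drop k)).Normal) {j a k b c : ℕ}
    (hI : Ind (x.drop j)) (h : chkCm D j a k b c = true) :
    (∀ g, g ∈ cl (x.drop k) ↔ g ∈ cl (x.drop a) ∧ ∀ s ∈ cl (x.drop b), Cm (cl (x.drop c)) g s) ∧
      j ≤ c ∧ (Ind (x.drop k) → Ind (x.drop a)) := by
  simp only [chkCm, and2_true, ble_true, allN_true, ← hP.length] at h
  obtain ⟨⟨⟨h1, h2⟩, h3, h4⟩, h5, h6⟩ := h
  have := hN c
  have k1 : ∀ g ∈ cl (x.drop k), ∀ s ∈ cl (x.drop b), Cm (cl (x.drop c)) g s := by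
    intro g hg s hs
    refine cm_iff.2 (cl_le.2 (fun g hg => cm_iff.1 (Cm.symm ?_)) hg)
    refine cm_iff.2 (cl_le.2 (fun s hs => cm_iff.1 (Cm.symm ?_)) hs)
    obtain ⟨i, i1, i2, rfl⟩ := exists_pow hg
    obtain ⟨l, l1, l2, rfl⟩ := exists_pow hs
    by_cases hi : i < c
    · have := cm_of hP (h5 (i - k) (show i - k < c - k by omega) (l - b)
        (show l - b < x.length - b by omega))
      rwa [show Nat.add k (i - k) = i from Nat.add_sub_cancel' i1,
        show Nat.add b (l - b) = l from Nat.add_sub_cancel' l1] at this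
    · exact cm_of_mem (by simpa using pow_mem_drop x (not_lt.1 hi) 1) _
  have k2 : ∀ r, 0 < r → r < 2 ^ (k - a) →
      ∃ s ∈ cl (x.drop b), ¬ Cm (cl (x.drop c)) (nf (x.drop a) r) s := by
    intro r r1 r2
    obtain ⟨u, -, hu⟩ := anyN_true (h6 (r - 1) (show r - 1 < 2 ^ (k - a) - 1 by omega))
    have := not_cm hP hI h3 h4 hu
    rw [show Nat.mul (Nat.pow 2 a) (r - 1).succ = 2 ^ a * r from
      congrArg (2 ^ a * ·) (show r - 1 + 1 = r by omega), nf_shift] at this
    exact ⟨_, by simpa using pow_mem_drop x (Nat.le_add_right b u) 1, this⟩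
  have e : (x.drop a).drop (k - a) = x.drop k := by rw [List.drop_drop, Nat.add_sub_cancel' h1]
  refine ⟨fun g => ⟨fun hg => ⟨cl_drop x h1 hg, k1 g hg⟩, fun ⟨g1, g2⟩ => ?_⟩, h3, fun hk => ?_⟩
  · obtain ⟨u, rfl⟩ := (hP.drop a).exists_nf g1
    have m1 := nf_mem (x.drop k) (u / 2 ^ (k - a))
    rw [nf_split (k - a), e] at g2 ⊢
    rcases Nat.eq_zero_or_pos (u % 2 ^ (k - a)) with h0 | h0
    · rwa [h0, nf_zero, one_mul]
    · obtain ⟨s, s1, s2⟩ := k2 _ h0 (Nat.mod_lt _ (by positivity))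
      exact absurd (cm_iff.2 ((mul_mem_cancel_right (cm_iff.1 (k1 _ m1 s s1))).1
        (cm_iff.1 (g2 s s1)))) s2
  · refine ind_step (k - a) (hP.drop a) (by simp; omega) (fun r r1 r2 hr => ?_) (e ▸ hk)
    obtain ⟨s, s1, s2⟩ := k2 r r1 r2
    exact s2 (k1 _ (e ▸ hr) s s1)

omit [Finite G] in
theorem ch_of {A K B C : Subgroup G} (hA : Ch A) (hB : Ch B) (hC : Ch C)
    (h : ∀ g, g ∈ K ↔ g ∈ A ∧ ∀ s ∈ B, Cm C g s) : Ch K := fun φ y hy => by
  obtain ⟨h1, h2⟩ := (h y).1 hy
  refine (h _).2 ⟨hA φ y h1, fun s hs => ?_⟩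
  have := hC φ _ (h2 _ (hB φ⁻¹ s hs))
  simpa [Cm] using this

omit [Finite G] in
theorem ch_len (hP : PC x D) : Ch (cl (x.drop D.length)) := by
  rw [← hP.length, List.drop_length, cl_nil]
  intro φ y hy
  rw [mem_bot.1 hy, map_one]; exact one_mem _

theorem chkU_spec (hP : PC x D) (ht : cl x = ⊤) (hN : ∀ k, (cl (x.drop k)).Normal) {t : ℕ}
    (hz : Ind (x.drop t)) : ∀ (l : List ℕ) (a k : ℕ), chkU D t l a k = true →
    Ind (x.drop a) ∧ ((∀ g, (∀ s, Cm (cl (x.drop k)) g s) → g ∈ cl (x.drop a)) →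
      ∀ m ∈ k :: l, Ch (cl (x.drop m))) := by
  have hT : Ch (⊤ : Subgroup G) := fun _ _ _ => trivial
  have key : ∀ a k c, Ind (x.drop k) → chkCm D k a k 0 c = true → Ind (x.drop a) ∧
      ((∀ g, (∀ s, Cm (cl (x.drop k)) g s) → g ∈ cl (x.drop a)) →
        (∀ g, (∀ s, Cm (cl (x.drop c)) g s) → g ∈ cl (x.drop k)) ∧
          (Ch (cl (x.drop c)) → Ch (cl (x.drop k)))) := by
    intro a k c hI h
    obtain ⟨h1, h2, h3⟩ := chkCm_spec hP hN hI h
    refine ⟨h3 hI, fun h4 => ?_⟩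
    have h5 : ∀ g, (∀ s, Cm (cl (x.drop c)) g s) → g ∈ cl (x.drop k) := fun g hg =>
      (h1 g).2 ⟨h4 g fun s => cl_drop x h2 (hg s), fun s _ => hg s⟩
    exact ⟨h5, fun hc => ch_of hT hT hc fun g => ⟨fun hg => ⟨trivial, fun s _ =>
      ((h1 g).1 hg).2 s (ht.ge trivial)⟩, fun hg => h5 g fun s => hg.2 s trivial⟩⟩
  intro l
  induction l with
  | nil =>
    intro a k h
    obtain ⟨h1, h2⟩ := and2_true.1 h
    obtain ⟨h3, h4⟩ := key a k _ (H29.beq_true.1 h1 ▸ hz) h2
    exact ⟨h3, fun h5 => by simpa using (h4 h5).2 (ch_len hP)⟩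
  | cons c l ih =>
    intro a k h
    obtain ⟨h1, h2⟩ := and2_true.1 h
    obtain ⟨i1, i2⟩ := ih k c h2
    obtain ⟨h3, h4⟩ := key a k c i1 h1
    refine ⟨h3, fun h5 => ?_⟩
    have h6 := i2 (h4 h5).1
    exact List.forall_mem_cons.2 ⟨(h4 h5).2 (h6 c (by simp)), h6⟩

theorem chkR_spec (hP : PC x D) (hN : ∀ k, (cl (x.drop k)).Normal) (hI : Ind x) :
    ∀ (l : List (ℕ × ℕ × ℕ × ℕ)) (C : List ℕ), chkR D l C = true → (∀ m ∈ C, Ch (cl (x.drop m))) →
      ∀ m ∈ l.map (fun r => r.2.1) ++ C, Ch (cl (x.drop m))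
  | [], _, _, h => h
  | r :: l, C, h, hC => by
    obtain ⟨h1, h2⟩ := and2_true.1 h
    simp only [and2_true, memL_true] at h1
    obtain ⟨h3, h4⟩ := and2_true.1 h2
    have := chkR_spec hP hN hI l _ h4 (List.forall_mem_cons.2
      ⟨ch_of (hC _ h1.1.1) (hC _ h1.1.2) (hC _ h1.2) (chkCm_spec hP hN (j := 0) hI h3).1, hC⟩)
    exact fun m hm => this m (by simpa [or_left_comm] using hm)

omit [Finite G] in
theorem sqp_mem (hP : PC x D) : ∀ l, nf x (sqp D l) ∈ Sq G
  | [] => by rw [show sqp D [] = 0 from rfl, nf_zero]; exact one_mem _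
  | u :: l => by
    rw [show sqp D (u :: l) = mul D (mul D u u) (sqp D l) from rfl, nf_mul hP, nf_mul hP]
    exact mul_mem (subset_closure ⟨_, rfl⟩) (sqp_mem hP l)

omit [Finite G] in
theorem wt_spec (hP : PC x D) (hN : ∀ k, (cl (x.drop k)).Normal) (fr : List (List ℕ)) (a : ℕ) :
    ∀ m, a + m ≤ x.length →
      (cl (x.drop (a + m)) ⊔ Sq G).relIndex (cl (x.drop a) ⊔ Sq G) ≤ wt D fr a m
  | 0, _ => by simp [wt]
  | m + 1, hm => by
    have := (ch_sq (G := G)).normal
    have := hN (a + (m + 1))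
    rw [← relIndex_mul_relIndex _ _ _ (sup_le_sup_right (cl_drop x (show a + m ≤ _ by omega)) _)
      (sup_le_sup_right (cl_drop x (Nat.le_add_right a m)) _)]
    refine Nat.mul_le_mul ?_ (wt_spec hP hN fr a m (by omega))
    have e : nf x (2 ^ (a + m)) = x[a + m] := by
      rw [← mul_one (2 ^ (a + m)), nf_shift, List.drop_eq_getElem_cons (by omega),
        show 1 = 1 + 2 * 0 from rfl, nf_odd, nf_zero, mul_one]
    have h1 : cl (x.drop (a + m)) ⊔ Sq G ≤ zpowers x[a + m] ⊔ (cl (x.drop (a + (m + 1))) ⊔ Sq G) := by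
      refine sup_le (cl_le.2 fun g hg => ?_) (le_sup_right.trans le_sup_right)
      rw [List.drop_eq_getElem_cons (by omega), List.mem_cons] at hg
      rcases hg with rfl | hg
      · exact mem_sup_left (mem_zpowers _)
      · exact mem_sup_right (mem_sup_left (mem_cl hg))
    rw [brec]
    split_ifs with h2
    · refine (relIndex_eq_one.2 (h1.trans (sup_le ?_ le_rfl))).le
      rw [zpowers_le, ← e]
      exact mem_sup_right (show nf x (Nat.pow 2 (Nat.add a m)) ∈ _ from h2 ▸ sqp_mem hP _)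
    · have h3 : cl (x.drop (a + m)) ⊔ Sq G =
          zpowers x[a + m] ⊔ (cl (x.drop (a + (m + 1))) ⊔ Sq G) := by
        refine le_antisymm h1 (sup_le ?_ (sup_le_sup_right (cl_drop x (by omega)) _))
        rw [zpowers_le, ← e]
        exact mem_sup_left (by simpa using pow_mem_drop x (le_refl (a + m)) 1)
      rw [h3]
      exact relIndex_le_two (mem_sup_right (subset_closure ⟨_, rfl⟩))

theorem chkB_spec (hP : PC x D) (hN : ∀ k, (cl (x.drop k)).Normal) {fr : List (List ℕ)}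
    {C : List ℕ} (hC : ∀ m ∈ C, Ch (cl (x.drop m))) {E : Subgroup (MulAut G)} (hE : Perf E) :
    ∀ (l : List ℕ) (a : ℕ), chkB D fr C l a = true → Ch (cl (x.drop a)) →
      Tr E ⊤ (cl (x.drop a) ⊔ Sq G) → Tr E ⊤ (Sq G)
  | [], a, h, _, h1 => by
    rwa [H29.beq_true.1 h, ← hP.length, List.drop_length, cl_nil, bot_sup_eq] at h1
  | k :: l, a, h, ha, h1 => by
    obtain ⟨h2, h3⟩ := and2_true.1 h
    simp only [and2_true, memL_true, ble_true] at h2
    obtain ⟨h4, h5⟩ := and2_true.1 h3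
    have hk := hC k h2.1
    have := (ch_sq (G := G)).normal
    have := hN k
    have := hN a
    have h6 := wt_spec hP hN fr a (k - a) (by rw [hP.length]; omega)
    rw [Nat.add_sub_cancel' h2.2.1] at h6
    have i1 := (hk.inv E).sup (ch_sq.inv E)
    refine chkB_spec hP hN hC hE l k h5 hk (h1.trans hE (tr_of_relIndex_le_five hE
      ((ha.inv E).sup (ch_sq.inv E)) i1 index_ne_zero_of_finite
      (h6.trans ((ble_true.1 h4).trans (by norm_num)))) le_top
      (sup_le_sup_right (cl_drop x h2.2.1) _) i1 le_normalizer_of_normal le_normalizer_of_normal)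

theorem aut_of_chk (hP : PC x D) (ht : cl x = ⊤) {t k : ℕ} {ks : List ℕ} {R : List (ℕ × ℕ × ℕ × ℕ)}
    {fr : List (List ℕ)} {bs : List ℕ} (hc : chkAll D t k ks R fr bs = true)
    (hz : ∀ r, 0 < r → r < 2 ^ (D.length - t) → nf (x.drop t) r ≠ 1) :
    Nat.card G = 2 ^ D.length ∧ ∀ E : Subgroup (MulAut G), Perf E → E = ⊥ := by
  simp only [chkAll, and2_true] at hc
  obtain ⟨⟨h1, h2⟩, h3, h4⟩ := hc
  have hN := normal_of hP ht h1
  have e : (x.drop t).drop (D.length - t) = [] := by simp [hP.length]; omega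
  obtain ⟨hI, h5⟩ := chkU_spec hP ht hN (ind_step (D.length - t) (hP.drop t) (by simp [hP.length])
    (fun r r1 r2 => by rw [e, cl_nil, mem_bot]; exact hz r r1 r2) (e ▸ trivial)) ks 0 k h2
  have h0 : Ch (cl (x.drop 0)) := fun _ _ _ => ht.ge trivial
  have hC := chkR_spec hP hN hI R _ h3 (List.forall_mem_cons.2 ⟨h0, List.forall_mem_cons.2
    ⟨ch_len hP, h5 fun g _ => ht.ge trivial⟩⟩)
  have hc : Nat.card G = 2 ^ D.length := by
    rw [← hP.length, ← card_cl hP hI, ht, card_top]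
  refine ⟨hc, fun E hE => eq_bot_of_tr_top ?_⟩
  have hp : IsPGroup 2 (⊤ : Subgroup G) := (IsPGroup.of_card hc).to_subgroup _
  refine tr_frattini hE inv_top hp ((chkB_spec hP hN hC hE bs 0 h4 h0
    fun _ _ _ _ => mem_sup_left (ht.ge trivial)).mono le_rfl ((closure_le _).2 ?_))
  rintro _ ⟨g, rfl⟩
  exact ⟨_, H2.IsPGroup.pow_mem_frattini hp ⟨g, trivial⟩, sq g⟩

/-- the certificate in an overgroup. -/
theorem tr_of_chk (hP : PC x D) {t k : ℕ} {ks : List ℕ} {R : List (ℕ × ℕ × ℕ × ℕ)}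
    {fr : List (List ℕ)} {bs : List ℕ} (hc : chkAll D t k ks R fr bs = true)
    (hz : ∀ r, 0 < r → r < 2 ^ (D.length - t) → nf (x.drop t) r ≠ 1) :
    Nat.card (cl x) = 2 ^ D.length ∧
      ∀ E : Subgroup (MulAut G), Perf E → Inv E (cl x) → Tr E (cl x) ⊥ := by
  let y : List (cl x) := x.attach.map fun g => ⟨g.1, mem_cl g.2⟩
  have e : y.map (cl x).subtype = x := by simp [y, Function.comp_def]
  have ht : cl y = ⊤ := by
    rw [eq_top_iff, ← map_le_map_iff_of_injective (cl x).subtype_injective, ← MonoidHom.range_eq_map,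
      range_subtype, cl_le]
    intro g hg
    exact ⟨⟨g, mem_cl hg⟩, mem_cl (List.mem_map.2 ⟨⟨g, hg⟩, by simp, rfl⟩), rfl⟩
  obtain ⟨h1, h2⟩ := aut_of_chk (PC.of_map (cl x).subtype_injective (e.symm ▸ hP)) ht hc
    fun r r1 r2 h => hz r r1 r2 (by rw [← e, ← List.map_drop, ← map_nf, h, map_one])
  refine ⟨h1, fun E hE hI => ?_⟩
  have := tr_of_induced hE hI (MonoidHom.id _) Function.surjective_id
    (by rw [MonoidHom.ker_id, Subgroup.map_bot]; exact inv_bot) fun F hF _ => h2 F hF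
  rwa [MonoidHom.ker_id, Subgroup.map_bot] at this

/-- The Schreier property from a presentation of a Sylow `2`-subgroup. -/
theorem outS_of_chk [IsSimpleGroup G] (hna : ¬ IsMulCommutative G) (hP : PC x D) {t k : ℕ}
    {ks : List ℕ} {R : List (ℕ × ℕ × ℕ × ℕ)} {fr : List (List ℕ)} {bs : List ℕ}
    (hc : chkAll D t k ks R fr bs = true)
    (hz : ∀ r, 0 < r → r < 2 ^ (D.length - t) → nf (x.drop t) r ≠ 1)
    (h2 : ¬ 2 ^ (D.length + 1) ∣ Nat.card G) : OutS G := by
  obtain ⟨h3, h4⟩ := tr_of_chk hP hc hz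
  refine outS_of_sylow hna ((IsPGroup.of_card h3).toSylow fun h5 => h2 ?_) h4
  rw [← (cl x).card_mul_index, h3, pow_succ]
  exact Nat.mul_dvd_mul_left _ h5

end H13.Pc
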