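import Mathlib
import Cfsg.Agent.H13.DihMC

/-!
# A natural module inside an abelian group of odd order
-/

set_option autoImplicit false
set_option linter.unusedSectionVars false

namespace H13.QN

open Subgroup H24

variable {Λ : Type*} [CommGroup Λ]

/-- two root groups acting on an abelian group of odd order -/
structure PS (σ σ' : MulAut Λ) (A A' : Subgroup Λ) (X Y : Subgroup (MulAut Λ)) : Prop where
  h2 : ∀ l : Λ, l * l = 1 → l = 1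
  hσ : ∀ l, σ' l = (σ l)⁻¹
  hA : ∀ l ∈ A, σ l = l
  hA' : ∀ l ∈ A', σ' l = l
  iX : ∀ x ∈ X, σ * x = x⁻¹ * σ ∧ Odd (orderOf x)
  iY : ∀ y ∈ Y, σ' * y = y⁻¹ * σ' ∧ Odd (orderOf y)
  cX : ∀ x ∈ X, ∀ l, l ∈ A ∨ l ∈ A' → σ' (x l / l) = x l / l
  cY : ∀ y ∈ Y, ∀ l, l ∈ A ∨ l ∈ A' → σ (y l / l) = y l / l
  bX : ∀ x ∈ X, x = 1 ∨ ∃ y ∈ Y, ∀ l ∈ A, y (x (y l)) ∈ A'
  bY : ∀ y ∈ Y, y = 1 ∨ ∃ x ∈ X, ∀ l ∈ A', x (y (x l)) ∈ A

variable [Finite Λ]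

/-- automorphisms mapping `A` into itself -/
def Stb (A : Subgroup Λ) : Subgroup (MulAut Λ) where
  carrier := {x | ∀ l ∈ A, x l ∈ A}
  one_mem' := fun _ h => h
  mul_mem' := fun ha hb l hl => ha _ (hb l hl)
  inv_mem' := fun {x} hx l hl => by
    obtain ⟨n, hn⟩ := mem_powers_iff_mem_zpowers.2 (inv_mem (mem_zpowers x))
    rw [← hn]
    clear hn
    induction n with
    | zero => exact hl
    | succ n ih => simp only [pow_succ'] at ih ⊢; exact hx _ ih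

/-- automorphisms fixing `A` elementwise -/
def Fx (A : Subgroup Λ) : Subgroup (MulAut Λ) where
  carrier := {x | ∀ l ∈ A, x l = l}
  one_mem' := fun _ _ => rfl
  mul_mem' := fun ha hb l hl => by rw [MulAut.mul_apply, hb l hl, ha l hl]
  inv_mem' := fun {x} hx l hl => by rw [MulAut.inv_apply, MulEquiv.symm_apply_eq, hx l hl]

/-- the fixed points of an automorphism -/
def fx (x : MulAut Λ) : Subgroup Λ := x.toMonoidHom.eqLocus (MonoidHom.id Λ)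

variable {σ σ' x y u : MulAut Λ} {A A' W : Subgroup Λ} {X Y : Subgroup (MulAut Λ)} {l n : Λ} {p q : ℕ}

theorem mem_fx : l ∈ fx x ↔ x l = l := Iff.rfl

theorem stb_sup (h1 : ∀ l ∈ A, x l ∈ W) (h2 : ∀ l ∈ A', x l ∈ W) (hl : l ∈ A ⊔ A') : x l ∈ W := by
  obtain ⟨a, ha, b, hb, rfl⟩ := mem_sup.1 hl
  rw [map_mul]
  exact mul_mem (h1 a ha) (h2 b hb)

theorem fix_of (h : σ * x = x⁻¹ * σ) (ho : Odd (orderOf x)) (h1 : σ l = l) (h2 : σ (x l / l) = x l / l) :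
    x l = l := by
  rw [map_div, h1, div_left_inj, ← MulAut.mul_apply, h, MulAut.mul_apply, h1] at h2
  have h3 : x * x ∈ Fx (zpowers l) := fun m hm => (zpowers_le (H := fx (x * x))).2 (by
    rw [mem_fx, MulAut.mul_apply, ← h2, MulAut.apply_inv_self]) hm
  exact (zpowers_le (H := Fx (zpowers l))).2 h3 (Dih.mem_zpowers_sq ho) l (mem_zpowers l)

namespace PS

variable (h : PS σ σ' A A' X Y)
include h

theorem symm : PS σ' σ A' A Y X :=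
  ⟨h.h2, fun l => by rw [h.hσ, inv_inv], h.hA', h.hA, h.iY, h.iX, fun y hy l e => h.cY y hy l e.symm,
    fun x hx l e => h.cX x hx l e.symm, h.bY, h.bX⟩
theorem eq_one (h1 : σ l = l) (h2 : σ' l = l) : l = 1 := h.h2 l (by
  rw [h.hσ, h1] at h2
  nth_rw 1 [← h2]
  exact inv_mul_cancel l)
theorem inf : A ⊓ A' = ⊥ := eq_bot_iff.2 fun l hl => h.eq_one (h.hA l hl.1) (h.hA' l hl.2)
theorem fixX (hx : x ∈ X) (hl : l ∈ A') : x l = l := by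
  refine fix_of (σ := σ') (MulEquiv.ext fun m => ?_) (h.iX x hx).2 (h.hA' l hl) (h.cX x hx l (.inr hl))
  rw [MulAut.mul_apply, MulAut.mul_apply, h.hσ, h.hσ, map_inv, ← MulAut.mul_apply, (h.iX x hx).1,
    MulAut.mul_apply]
theorem invX (hx : x ∈ X) (hl : l ∈ A) : x⁻¹ l = l / (x l / l) := by
  have h1 := h.cX x hx l (.inl hl)
  rw [h.hσ, inv_eq_iff_eq_inv, map_div, h.hA l hl, ← MulAut.mul_apply, (h.iX x hx).1, MulAut.mul_apply,
    h.hA l hl, div_eq_iff_eq_mul'] at h1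
  rw [h1, ← div_eq_mul_inv]
theorem key (hx : x ∈ X) (hy : y ∈ Y) (hl : l ∈ A) (hn : y (x (y l)) ∈ A') : x l / l = y (x (y l)) := by
  have h1 := h.symm.invX hy hn
  have h2 := h.cY y hy _ (.inr hn)
  have h3 := h.cX x hx l (.inl hl)
  have h4 := h.hA' _ hn
  rw [MulAut.inv_apply_self, h.symm.fixX hy hl] at h1
  rw [h.symm.fixX hy hl] at h2 h4 ⊢
  generalize y (y (x l)) / y (x l) = m at h1 h2
  generalize y (x l) = n at *
  have h5 : l * m = n / (x l / l) := by rw [h1, div_div, div_div_cancel, mul_comm]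
  have h6 := h.eq_one (l := l * m) (by rw [map_mul, h.hA l hl, h2]) (by rw [h5, map_div, h4, h3])
  rw [h5, div_eq_one] at h6
  exact h6.symm
theorem mov (hx : x ∈ X) (hl : l ∈ A) : x l / l ∈ A' ∧ (x ≠ 1 → l ≠ 1 → x l ≠ l) := by
  rcases h.bX x hx with rfl | ⟨y, hy, e⟩
  · exact ⟨by simp, fun e => absurd rfl e⟩
  have := h.key hx hy hl (e l hl)
  refine ⟨this ▸ e l hl, fun _ h1 h2 => h1 ?_⟩
  rw [h2, div_self', eq_comm] at this
  simpa using this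
theorem ne_one (hy : y ∈ Y) (hA : A ≠ ⊥) (e : ∀ l ∈ A, y (x (y l)) ∈ A') : x ≠ 1 := by
  rintro rfl
  refine hA (eq_bot_iff.2 fun l hl => h.inf.le (mem_inf.2 ⟨hl, ?_⟩))
  simpa only [MulAut.one_apply, h.symm.fixX hy hl] using e l hl
theorem stbX : X ≤ Stb (A ⊔ A') := fun x hx _ => stb_sup (fun l hl => by
  rw [← mul_div_cancel l (x l)]
  exact mul_mem_sup hl (h.mov hx hl).1) fun l hl => by rw [h.fixX hx hl]; exact mem_sup_right hl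
theorem stbY : Y ≤ Stb (A ⊔ A') := sup_comm A' A ▸ h.symm.stbX
theorem surj (hq : ♯A' ≤ ♯X) (hl : l ∈ A) (h1 : l ≠ 1) (hn : n ∈ A') : ∃ x ∈ X, x l = l * n := by
  let f : X → A' := fun x => ⟨x.1 l / l, (h.mov x.2 hl).1⟩
  have hf : Function.Injective f := fun x y e => by
    have e' : x.1 l = y.1 l := div_left_injective (congrArg Subtype.val e)
    by_contra n
    refine (h.mov (mul_mem (inv_mem y.2) x.2) hl).2 (fun e => n (Subtype.ext (inv_mul_eq_one.1 e).symm)) h1 ?_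
    rw [MulAut.mul_apply, e', MulAut.inv_apply_self]
  obtain ⟨x, hx⟩ := ((Nat.bijective_iff_injective_and_card f).2 ⟨hf, le_antisymm
    (Nat.card_le_card_of_injective f hf) hq⟩).2 ⟨n, hn⟩
  exact ⟨x, x.2, div_eq_iff_eq_mul'.1 (congrArg Subtype.val hx)⟩
theorem le_of (hq : ♯A' ≤ ♯X) (hW : X ≤ Stb W) (hl : l ∈ A) (h1 : l ≠ 1) (hn : n ∈ A') (h2 : l * n ∈ W) :
    A' ≤ W := fun m hm => by
  obtain ⟨x, hx, e⟩ := h.surj hq hl h1 hm
  have := div_mem (hW hx _ h2) h2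
  rwa [map_mul, e, h.fixX hx hn, mul_div_mul_right_eq_div, mul_div_cancel_left] at this
theorem irr (hq : ♯A' ≤ ♯X) (hq' : ♯A ≤ ♯Y) (hA : A ≠ ⊥) (hA' : A' ≠ ⊥) (hX : X ≤ Stb W) (hY : Y ≤ Stb W)
    (hl : l ∈ A ⊔ A') (h1 : l ≠ 1) (h2 : l ∈ W) : A ⊔ A' ≤ W := by
  obtain ⟨a, ha, b, hb, rfl⟩ := mem_sup.1 hl
  by_cases e : a = 1
  · have h3 := h.symm.le_of hq' hY hb (fun e' => h1 (by rw [e, e', one_mul])) ha (mul_comm a b ▸ h2)
    obtain ⟨c, hc, c1⟩ := (A.bot_or_exists_ne_one).resolve_left hA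
    exact sup_le h3 (h.le_of hq hX hc c1 (one_mem _) (by simpa using h3 hc))
  · have h3 := h.le_of hq hX ha e hb h2
    obtain ⟨c, hc, c1⟩ := (A'.bot_or_exists_ne_one).resolve_left hA'
    exact sup_le (h.symm.le_of hq' hY hc c1 (one_mem _) (by simpa using h3 hc)) h3
theorem orb (hq : ♯A' ≤ ♯X) (hl : l ∈ A ⊔ A') : l ∈ A' ∨ ∃ x ∈ X, x l ∈ A := by
  obtain ⟨a, ha, b, hb, rfl⟩ := mem_sup.1 hl
  by_cases e : a = 1
  · exact .inl (by simpa [e] using hb)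
  obtain ⟨x, hx, e'⟩ := h.surj hq ha e hb
  exact .inr ⟨x⁻¹, inv_mem hx, by rwa [← e', MulAut.inv_apply_self]⟩
theorem card : ♯(A ⊔ A') = ♯A * ♯A' := card_sup_of_inf (norm_of_cent (le_C_iff.2 fun _ _ _ _ => mul_comm _ _)) h.inf
theorem mem_of_fix (hx : x ∈ X) (h1 : x ≠ 1) (hl : l ∈ A ⊔ A') (e : x l = l) : l ∈ A' := by
  obtain ⟨a, ha, b, hb, rfl⟩ := mem_sup.1 hl
  rw [map_mul, h.fixX hx hb, mul_left_inj] at e
  obtain rfl : a = 1 := by_contra fun n => (h.mov hx ha).2 h1 n e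
  simpa using hb
theorem stb' (hX : X ≠ ⊥) (hu : u ∈ Stb (A ⊔ A')) (hc : u ∈ C[X]) : u ∈ Stb A' := fun l hl => by
  obtain ⟨x, hx, x1⟩ := (X.bot_or_exists_ne_one).resolve_left hX
  refine h.mem_of_fix hx x1 (hu l (mem_sup_right hl)) ?_
  rw [← MulAut.mul_apply, mem_C.1 hc x hx, MulAut.mul_apply, h.fixX hx hl]
theorem comm_fx (hX : X ≠ ⊥) (hY : Y ≠ ⊥) (hu : u ∈ Stb (A ⊔ A')) (hc : u ∈ C[X]) (hc' : u ∈ C[Y]) :
    u * (σ * u⁻¹ * σ⁻¹) ∈ Fx (A ⊔ A') := by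
  have h1 := inv_mem (h.stb' hX hu hc)
  have h2 := inv_mem (h.symm.stb' hY (sup_comm A A' ▸ hu) hc')
  have h3 : ∀ l ∈ A', σ l = l⁻¹ := fun l hl => by rw [← inv_eq_iff_eq_inv, ← h.hσ, h.hA' l hl]
  refine fun l hl => sup_le (a := A) (b := A') (c := fx (u * (σ * u⁻¹ * σ⁻¹))) (fun l hl => ?_)
    (fun l hl => ?_) hl <;>
    rw [mem_fx, MulAut.mul_apply, MulAut.mul_apply, MulAut.mul_apply]
  · rw [show σ⁻¹ l = l by rw [MulAut.inv_apply, MulEquiv.symm_apply_eq, h.hA l hl], h.hA _ (h2 l hl),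
      MulAut.apply_inv_self]
  · rw [show σ⁻¹ l = l⁻¹ by rw [MulAut.inv_apply, MulEquiv.symm_apply_eq, h3 _ (inv_mem hl), inv_inv],
      h3 _ (h1 _ (inv_mem hl)), map_inv u⁻¹, inv_inv, MulAut.apply_inv_self]
theorem stb_or (hq : ♯A' ≤ ♯X) (hq' : ♯A ≤ ♯Y) (hA : A ≠ ⊥) (hA' : A' ≠ ⊥) (hc : u ∈ C[X]) (hc' : u ∈ C[Y])
    {O : Set Λ} (h1 : ∀ l ∈ A ⊔ A', l ≠ 1 → l ∈ O ∧ u l ∈ O) (h2 : O.ncard + 2 < 2 * (♯A * ♯A')) :
    u ∈ Stb (A ⊔ A') := by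
  by_contra h3
  have key : ∀ Z : Subgroup (MulAut Λ), Z ≤ Stb (A ⊔ A') → u ∈ C[Z] → Z ≤ Stb ((A ⊔ A').comap u.toMonoidHom) :=
    fun Z hZ hu x hx l hl => by
      have := hZ hx _ hl
      rwa [MulEquiv.coe_toMonoidHom, ← MulAut.mul_apply, mem_C.1 hu x hx, MulAut.mul_apply] at this
  have h4 : Disjoint (((A ⊔ A' : Subgroup Λ) : Set Λ) \ {1}) (u '' (((A ⊔ A' : Subgroup Λ) : Set Λ) \ {1})) := by
    rw [Set.disjoint_left]
    rintro _ ⟨a1, -⟩ ⟨l, ⟨b1, b2⟩, rfl⟩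
    exact h3 fun m hm => h.irr hq hq' hA hA' (key X h.stbX hc) (key Y h.stbY hc') b1 b2 a1 hm
  have h5 := Set.ncard_le_ncard (s := ((A ⊔ A' : Subgroup Λ) : Set Λ) \ {1} ∪
    u '' (((A ⊔ A' : Subgroup Λ) : Set Λ) \ {1})) (t := O) (by
      rintro _ (⟨a, b⟩ | ⟨l, ⟨a, b⟩, rfl⟩)
      exacts [(h1 _ a b).1, (h1 _ a b).2])
  rw [Set.ncard_union_eq h4, Set.ncard_image_of_injective _ u.injective,
    Set.ncard_sdiff_singleton_of_mem (one_mem (A ⊔ A')), ← Nat.card_coe_set_eq] at h5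
  have h6 : Nat.card ((A ⊔ A' : Subgroup Λ) : Set Λ) = ♯A * ♯A' := h.card
  omega
theorem fx_of_p (hq : ♯A' ≤ ♯X) (hq' : ♯A ≤ ♯Y) (hA : A ≠ ⊥) (hA' : A' ≠ ⊥) (hc : u ∈ C[X]) (hc' : u ∈ C[Y])
    (hu : u ∈ Stb (A ⊔ A')) (hp : p.Prime) (h1 : p ∣ ♯A) {k : ℕ} (h2 : u ^ p ^ k = 1) : u ∈ Fx (A ⊔ A') := by
  have := Fact.mk hp
  let S : SubMulAction (zpowers u) Λ :=
    { carrier := (A ⊔ A' : Subgroup Λ), smul_mem' := fun c _ hl => zpowers_le.2 hu c.2 _ hl }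
  have h3 : IsPGroup p (zpowers u) := by
    obtain ⟨i, -, e⟩ := (Nat.dvd_prime_pow hp).1 (orderOf_dvd_of_pow_eq_one h2)
    exact IsPGroup.of_card ((Nat.card_zpowers u).trans e)
  obtain ⟨⟨l, hl⟩, h4, h5⟩ := h3.exists_fixed_point_of_prime_dvd_card_of_fixed_point S
    (show p ∣ ♯(A ⊔ A') from h.card ▸ h1.mul_right _) (a := ⟨1, one_mem (A ⊔ A')⟩)
    fun c => Subtype.ext (map_one c.1)
  have key : ∀ Z : Subgroup (MulAut Λ), u ∈ C[Z] → Z ≤ Stb (fx u) := fun Z hu x hx l hl => by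
    rw [mem_fx, ← MulAut.mul_apply, ← mem_C.1 hu x hx, MulAut.mul_apply, mem_fx.1 hl]
  exact h.irr hq hq' hA hA' (key X hc) (key Y hc') hl (fun e => h5 (Subtype.ext e.symm))
    (congrArg Subtype.val (h4 ⟨u, mem_zpowers u⟩))

end PS

end H13.QN
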