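import Mathlib
import Cfsg.Agent.H13.QN1
import Cfsg.Agent.H13.DihBII
import Cfsg.Agent.H13.DihQ

/-!
# Linear characters of a group of odd order acted on by a four-group
-/

set_option autoImplicit false
set_option linter.unusedSectionVars false

namespace H13.QN

open Subgroup H24 H13.Dih

variable {G : Type*} [Group G] {B W Y : Subgroup G} {g b t s v x : G} {l m : B →* ℂˣ}

/-- the action of `N(B)` on the linear characters of `B` -/
noncomputable def ac (B : Subgroup G) : N[B] →* MulAut (B →* ℂˣ) where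
  toFun g := (B.normalizerMonoidHom g).monoidHomCongrLeft
  map_one' := by rw [map_one]; rfl
  map_mul' g h := by rw [map_mul]; rfl

theorem ap_hmul (l m : B →* ℂˣ) (b : G) : ap (l * m) b = ap l b * ap m b := by
  unfold ap; split_ifs <;> simp
theorem ap_hinv (l : B →* ℂˣ) (b : G) : ap l⁻¹ b = (ap l b)⁻¹ := by
  unfold ap; split_ifs <;> simp
theorem ap_hone (b : G) : ap (1 : B →* ℂˣ) b = 1 := by
  unfold ap; split_ifs <;> simp
theorem hom_ext (h : ∀ b ∈ B, ap l b = ap m b) : l = m :=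
  MonoidHom.ext fun b => by simpa using h b b.2

theorem ap_ac (hg : g ∈ N[B]) (hb : b ∈ B) : ap (ap (ac B) g l) b = ap l (g⁻¹ * b * g) := by
  rw [ap_of_mem _ hg, ap_of_mem _ hb, ap_of_mem _ (conj_mem' hg hb)]
  exact congrArg l (Subtype.ext (by simp))

/-- the characters trivial on `W` -/
def An (B W : Subgroup G) : Subgroup (B →* ℂˣ) where
  carrier := {l | ∀ b ∈ W, ap l b = 1}
  one_mem' := fun b _ => ap_hone b
  mul_mem' := fun h1 h2 b hb => by rw [ap_hmul, h1 b hb, h2 b hb, mul_one]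
  inv_mem' := fun h1 b hb => by rw [ap_hinv, h1 b hb, inv_one]

theorem mem_An (h : W ≤ B) : l ∈ An B W ↔ W ≤ pre l ⊥ :=
  ⟨fun e b hb => mem_pre_bot.2 ⟨h hb, e b hb⟩, fun e _ hb => (mem_pre_bot.1 (e hb)).2⟩

theorem der_le (l : B →* ℂˣ) : ⁅B, B⁆ ≤ pre l ⊥ :=
  (comm_le_ker le_rfl le_rfl).2 (le_C_iff.2 fun _ _ _ _ => mul_comm _ _)

theorem ac_cent (hg : g ∈ C[B]) : ap (ac B) g = 1 := MulEquiv.ext fun l => hom_ext fun b hb => by
  rw [ap_ac (C_le_N B hg) hb, mul_assoc, mem_C.1 hg b hb, inv_mul_cancel_left, MulAut.one_apply]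

theorem ac_comm (hg : g ∈ N[B]) (hx : x ∈ N[B]) (h : g * x * g⁻¹ * x⁻¹ ∈ C[B]) :
    ap (ac B) g * ap (ac B) x = ap (ac B) x * ap (ac B) g := by
  have := ac_cent h
  rwa [ap_mul _ (mul_mem (mul_mem hg hx) (inv_mem hg)) (inv_mem hx), ap_conj _ hg hx, ap_inv _ hx,
    mul_inv_eq_one, mul_inv_eq_iff_eq_mul] at this

theorem ac_fix [Finite G] (hg : g ∈ N[B]) : ap (ac B) g l = l ↔ ⁅B, zpowers g⁆ ≤ pre l ⊥ := by
  constructor
  · intro h
    have h1 : zpowers g ≤ pre (ac B) (Fx (zpowers l)) := zpowers_le.2 (mem_pre.2 ⟨hg, fun _ e =>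
      (zpowers_le (H := fx _)).2 h e⟩)
    refine commutator_le.2 fun b hb x hx => ?_
    obtain ⟨h2, h3⟩ := mem_pre.1 (inv_mem (h1 hx))
    have h4 := conj_mem (inv_mem_iff.1 h2) (inv_mem hb)
    have h5 := ap_ac (l := l) h2 (inv_mem hb)
    rw [h3 l (mem_zpowers l), inv_inv] at h5
    rw [commutatorElement_def, mul_assoc, mul_assoc, ← mul_assoc x]
    exact mem_pre_bot.2 ⟨mul_mem hb h4, by rw [ap_mul _ hb h4, ← h5, ap_inv _ hb, mul_inv_cancel]⟩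
  · refine fun h => hom_ext fun b hb => ?_
    have h1 := (mem_pre_bot.1 (h (commutator_mem_commutator (inv_mem hb) (inv_mem (mem_zpowers g))))).2
    rw [commutatorElement_def, inv_inv, inv_inv, mul_assoc, mul_assoc, ← mul_assoc g⁻¹,
      ap_mul _ (inv_mem hb) (conj_mem' hg hb), ap_inv _ hb, inv_mul_eq_one] at h1
    rw [ap_ac hg hb, h1]

theorem An_cj (hg : g ∈ N[B]) (h : W ≤ B) (hl : l ∈ An B W) : ap (ac B) g l ∈ An B (cj g W) := fun b hb => by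
  rw [ap_ac hg (cj_le_of_mem_N h hg hb)]
  exact hl _ (mem_cj.1 hb)

/-- the common kernel -/
def Kr (A : Subgroup (B →* ℂˣ)) : Subgroup G := B ⊓ ⨅ l ∈ A, pre l ⊥

theorem mem_Kr {A : Subgroup (B →* ℂˣ)} : b ∈ Kr A ↔ b ∈ B ∧ ∀ l ∈ A, ap l b = 1 := by
  simp only [Kr, mem_inf, mem_iInf, mem_pre_bot]
  exact ⟨fun e => ⟨e.1, fun l hl => (e.2 l hl).2⟩, fun e => ⟨e.1, fun l hl => ⟨e.1, e.2 l hl⟩⟩⟩

theorem le_Kr {A : Subgroup (B →* ℂˣ)} (h : W ≤ B) (h1 : ∀ l ∈ A, W ≤ pre l ⊥) : W ≤ Kr A :=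
  le_inf h (le_iInf₂ h1)

variable [Finite G]

theorem norm_Kr {A : Subgroup (B →* ℂˣ)} (hg : g ∈ N[B]) (h : ap (ac B) g ∈ Stb A) : g ∈ N[Kr A] :=
  mem_N_of_finite fun b hb => mem_Kr.2 ⟨conj_mem hg (mem_Kr.1 hb).1, fun l hl => by
    have := (mem_Kr.1 hb).2 _ (inv_mem h l hl)
    rwa [← ap_inv _ hg, ap_ac (inv_mem hg) (mem_Kr.1 hb).1, inv_inv] at this⟩

theorem card_An (h1 : ⁅B, B⁆ ≤ W) : ♯(An B W) = W.relIndex B := by
  have hn : (W.subgroupOf B).Normal := Normal.of_commutator_le _ (by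
    rw [← map_le_map_iff_of_injective B.subtype_injective, map_subtype_commutator, subgroupOf_map_subtype]
    exact le_inf h1 (der1_le B))
  let _ : CommGroup (B ⧸ W.subgroupOf B) :=
    { (inferInstance : Group (B ⧸ W.subgroupOf B)) with
      mul_comm := (Normal.quotient_commutative_iff_commutator_le.2 (by
        rw [← map_le_map_iff_of_injective B.subtype_injective, map_subtype_commutator,
          subgroupOf_map_subtype]
        exact le_inf h1 (der1_le B))).is_comm.comm }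
  have h2 : An B (W ⊓ B) = (MonoidHom.domRestrictHom (W.subgroupOf B) ℂˣ).ker := by
    ext l
    rw [MonoidHom.mem_ker, MonoidHom.domRestrictHom_apply, MonoidHom.domRestrict_eq_one_iff]
    exact ⟨fun e b hb => by simpa using e b (mem_inf.2 ⟨hb, b.2⟩), fun e b hb => by
      rw [ap_of_mem _ (mem_inf.1 hb).2]; exact e _ (mem_inf.1 hb).1⟩
  have h3 : An B W = An B (W ⊓ B) := by
    ext l
    refine ⟨fun e b hb => e b (mem_inf.1 hb).1, fun e b hb => ?_⟩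
    by_cases h : b ∈ B
    exacts [e b (mem_inf.2 ⟨hb, h⟩), dif_neg h]
  rw [h3, h2, Nat.card_congr (MonoidHom.domRestrictHomKerEquiv ℂˣ _).toEquiv,
    CommGroup.card_monoidHom_of_hasEnoughRootsOfUnity]
  rfl

theorem sq_one (hB : Odd ♯B) (h : l * l = 1) : l = 1 := hom_ext fun b hb => by
  rw [ap_hone]
  refine (mem_pre_bot.1 ((zpowers_le (H := pre l ⊥)).2 (mem_pre_bot.2 ⟨mul_mem hb hb, ?_⟩)
    (mem_zpowers_sq (odd_orderOf hB hb)))).2
  rw [ap_mul _ hb hb, ← ap_hmul, h, ap_hone]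

theorem ac_inv (hB : Odd ♯B) (hv : v * v = 1) (hN : v ∈ N[B]) (h : B ⊓ C{v} ≤ pre l ⊥) :
    ap (ac B) v l = l⁻¹ := hom_ext fun b hb => by
  obtain ⟨c, hc, z, hz, e, rfl⟩ := decomp hB hv hN hb
  have h1 := (mem_pre_bot.1 (h hc)).2
  have h2 : v⁻¹ * (c * z) * v = c * z⁻¹ := by
    rw [← e, inv_eq_of_mul_eq_one_right hv, ← mul_assoc, ← mem_C1.1 (mem_inf.1 hc).2]
    simp only [mul_assoc]
  rw [ap_ac hN hb, h2, ap_hinv, ap_mul _ (mem_inf.1 hc).1 hz, ap_mul _ (mem_inf.1 hc).1 (inv_mem hz), h1,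
    ap_inv _ hz, one_mul, one_mul]

theorem comm_inf_C (hB : Odd ♯B) (hv : v * v = 1) (hN : v ∈ N[B]) : ⁅B, zpowers v⁆ ⊓ C{v} ≤ ⁅B, B⁆ := by
  intro x hx
  obtain ⟨h1, h2⟩ := mem_inf.1 hx
  have n1 : B ≤ N[⁅B, B⁆] := norm_comm_left B B
  have n2 : v ∈ N[⁅B, B⁆] := zpowers_le.1 (norm_comm (zpowers_le.2 hN) (zpowers_le.2 hN))
  have xB := comm_le_left (zpowers_le.2 hN) h1
  have h3 := cs_mem_quo h1 (n1 xB)
  rw [quo_comm n1 (zpowers_le.2 n2), quo_zpowers n2] at h3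
  exact (cs_eq_one (n1 xB)).1 ((Abl.inv_comm (abl_quo_der1 B) (cs_sq n2 hv) (cs_mem_N hN n2)).eq_one h3
    (odd_orderOf (odd_quo hB _) (cs_mem_quo xB (n1 xB)))
    (quo_cent1 (zpowers_le.2 h2) n2 (cs_mem_quo (mem_zpowers x) (n1 xB))))

theorem idx_W (hB : Odd ♯B) (hv : orderOf v = 2) (hN : v ∈ N[B]) (h1 : Y ≤ B ⊓ C{v})
    (h2 : ⁅B, B⁆ ⊓ C{v} ≤ Y) : (⁅B, zpowers v⁆ ⊔ Y).relIndex B = Y.relIndex (B ⊓ C{v}) := by
  have h3 := comm_le_left (zpowers_le.2 hN)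
  rw [((cent_prod hB hv hN).mono_left le_sup_left (sup_le h3 (h1.trans inf_le_left))).relIndex_eq,
    ← inf_relIndex_right, ← (isProd_sup ((h1.trans inf_le_left).trans (norm_comm_left _ _))).modr h1,
    sup_eq_right.2]
  exact fun x hx => h2 (mem_inf.2 ⟨comm_inf_C hB (sq_of hv) hN (mem_inf.2 ⟨hx.1, hx.2.2⟩), hx.2.2⟩)

theorem C_le_comm (hB : Odd ♯B) (hf : Four t s) (hN : s ∈ N[B]) :
    B ⊓ C{t * s} ≤ ⁅B, zpowers s⁆ ⊔ (B ⊓ C{t}) := by
  rw [← (cent_prod (odd_of_le hB inf_le_left) hf.hs (zpowers_le.1 (norm_inf (zpowers_le.2 hN)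
    (norm_C1 (zpowers_le.2 hf.mul'.t_mem_C))))).sup_eq]
  exact sup_le_sup (comm_mono_left inf_le_left) fun x hx =>
    mem_inf.2 ⟨hx.1.1, hf.C_of_ts' hx.2 hx.1.2⟩

end H13.QN
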