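import Mathlib
import Cfsg.Agent.H13.WPD
import Cfsg.Agent.H22.QD
import Cfsg.Agent.S0949
import Cfsg.Agent.S0215

/-! Subgroups containing `E0`: the possible fusion patterns. -/

set_option autoImplicit false
set_option linter.unusedSectionVars false
set_option linter.style.haveILetI false

namespace H13.W

open H24 H26 Cfsg Subgroup H13.Dih
open H22 (WR WA Bj hh sw HasOdd)
open scoped commutatorElement

universe u

/-- the induction hypothesis -/
def IH (m : ℕ) : Prop :=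
  ∀ (L : Type u) [Group L] [Finite L] [IsSimpleGroup L], Nat.card L < m →
    ∀ P : Sylow 2 L, IsWreathed (P : Subgroup L) → Kp L

section General

variable {G : Type u} [Group G] [Finite G]

theorem odd_map_subtype {L : Subgroup G} {N : Subgroup L} (h : Odd ♯N) : Odd ♯(N.map L.subtype) := by
  rwa [card_map_of_injective L.subtype_injective]

theorem core_map (L : Subgroup G) : (oddCore L).map L.subtype = 𝒪[L] :=
  (pcore_compl_singleton Nat.prime_two L).symm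

/-- Glauberman's `Z*`-theorem in ambient form -/
theorem zstar {L S : Subgroup G} (hS : Syl 2 L S) {v : G} (hv : orderOf v = 2) (hvS : v ∈ S)
    (h : ∀ g ∈ L, g * v * g⁻¹ ∈ S → g * v * g⁻¹ = v) {x : G} (hx : x ∈ L) :
    ∃ o ∈ 𝒪[L], o * x ∈ C{v} := by
  obtain ⟨P, rfl⟩ := hS.exists_sylow Nat.prime_two
  obtain ⟨v, hvP, rfl⟩ := hvS
  obtain ⟨N, hN, h1, h2⟩ := Cfsg.Agent.S0215.result P v (by simpa using hv) hvP fun g hg =>
    Subtype.ext (h g g.2 ⟨_, hg, rfl⟩)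
  have h3 : N.map L.subtype ≤ 𝒪[L] := le_O (odd_map_subtype h1) (nml_map_subtype N)
  have h4 := h3 ⟨_, N.inv_mem (h2 ⟨x, hx⟩), rfl⟩
  obtain ⟨o, ho, e⟩ := conj_of_coset (odd_pcore L) (sq_of hv) (sq_of (two_conj hv x))
    (by convert h4 using 1; simp; group)
  exact ⟨o, ho, mem_C1_iff_conj.2 (by rw [mul_inv_rev, ← mul_assoc, mul_assoc o, mul_assoc o, e])⟩

theorem kp_quot (hI : IH.{u} (Nat.card G + 1)) (P : Sylow 2 G) (hP : IsWreathed (P : Subgroup G))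
    (h2 : ∀ K : Subgroup G, K.index ≠ 2) {v : G} (hv : orderOf v = 2) {E : Subgroup G}
    (hE : IsPi {2} E) (hEv : E ≤ C{v}) : ⁅𝒪[C{v}], E⁆ ≤ oddCore G := by
  obtain ⟨L, hL, hi, hs, -⟩ := H22.qd_simple_quotient (Or.inr hP) h2
  let π := QuotientGroup.mk' (oddCore G)
  have hO : Odd ♯(oddCore G) := by
    rw [show oddCore G = 𝒪[⊤] from (pcore_compl_singleton_top Nat.prime_two).symm]
    exact odd_pcore _
  have hL2 : ∀ x : G, PiElt {2} x → π x ∈ L := fun x hx =>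
    le_of_idx_compl (nml_top L) (piNat_odd.2 (by rwa [relIndex_top_right])) (hx.map π).isPi le_top
      (mem_zpowers _)
  obtain ⟨e⟩ := H22.sylow_equiv_mapSurjective P (oddCore G) (H2.pPrimeCore_coprime 2 G)
  set P' := P.mapSurjective (QuotientGroup.mk'_surjective (oddCore G))
  have hP' : (P' : Subgroup _) ≤ L := by
    rintro _ ⟨x, hx, rfl⟩
    exact hL2 x ((isPi_of_isPGroup Nat.prime_two P.isPGroup').piElt hx)
  have hK : Kp L := hI L (Nat.lt_succ_of_le ((Nat.card_le_card_of_injective _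
      Subtype.val_injective).trans (Nat.card_le_card_of_surjective _
      (QuotientGroup.mk'_surjective _)))) (P'.subtype hP')
    (H22.isWreathed_of_equiv (e.trans (subgroupOfEquivOfLe hP').symm) hP)
  have hv' : orderOf (π v) = 2 := two_of (by rw [← map_mul, sq_of hv, map_one]) fun h =>
    not_mem_of_odd hO hv ((QuotientGroup.eq_one_iff v).1 h)
  let v' : L := ⟨π v, hL2 v (pi_two hv)⟩
  have hW : Odd ♯𝒪[C{v}] := odd_pcore _
  have hN : E ≤ N[𝒪[C{v}]] := hEv.trans (pcore_nml _ _).norm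
  have hA : (𝒪[C{v}].map π).subgroupOf L ≤ 𝒪[C{v'}] := by
    refine le_O (isPi_odd.1 (isPi_subgroupOf ((isPi_odd.2 hW).map π) L)) ⟨?_, ?_⟩
    · rintro y ⟨y0, hy0, e⟩
      refine mem_C1.2 (Subtype.ext ?_)
      have := congrArg π (mem_C1.1 (pcore_le _ _ hy0))
      rw [map_mul, map_mul, e] at this
      exact this
    · refine le_N_iff.2 fun g hg y ⟨y0, hy0, e⟩ => ?_
      obtain ⟨g1, e1⟩ := QuotientGroup.mk'_surjective (oddCore G) g
      have h3 : π (g1 * v * g1⁻¹ * v⁻¹) = 1 := by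
        have : (g : G ⧸ oddCore G) * π v * (g : G ⧸ oddCore G)⁻¹ = π v :=
          congrArg Subtype.val (mem_C1_iff_conj.1 hg)
        simp only [map_mul, map_inv]
        rw [show π g1 = g from e1, this, mul_inv_cancel]
      obtain ⟨o, ho, e2⟩ := conj_of_coset hO (sq_of hv) (sq_of (two_conj hv g1))
        ((QuotientGroup.eq_one_iff _).1 h3)
      have h4 : o * g1 ∈ C{v} := mem_C1_iff_conj.2 (by
        rw [mul_inv_rev, ← mul_assoc, mul_assoc o, mul_assoc o, e2])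
      refine ⟨_, conj_mem ((pcore_nml _ _).norm h4) hy0, ?_⟩
      have h5 : π o = 1 := (QuotientGroup.eq_one_iff _).2 ho
      simp only [map_mul, map_inv, h5, one_mul]
      rw [show π g1 = g from e1, e]; rfl
  rw [← commGid2 hW hE hN, commutator_le]
  intro y hy x hx
  have hy1 : π y ∈ L := by
    have : (⁅𝒪[C{v}], E⁆).map π ≤ L := by
      rw [map_commutator]
      refine (comm_mono_right ?_).trans (comm_le_right (norm_of_normal _ L))
      rintro _ ⟨z, hz, rfl⟩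
      exact hL2 z (hE.piElt hz)
    exact this ⟨y, hy, rfl⟩
  have h6 := hK v' (by simpa [v'] using hv') ⟨π x, hL2 x (hE.piElt hx)⟩
    (mem_C1.2 (Subtype.ext (by
      have := congrArg π (mem_C1.1 (hEv hx)); rw [map_mul, map_mul] at this; exact this)))
    (by
      have := (hE.piElt hx).map π
      simpa [PiElt] using this)
    (hA (x := ⟨π y, hy1⟩) ⟨y, comm_le_left hN hy, rfl⟩)
  have h7 : π y * π x = π x * π y := congrArg Subtype.val (mem_C1.1 h6)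
  rw [← QuotientGroup.eq_one_iff]
  show π ⁅y, x⁆ = 1
  rw [map_commutatorElement, commutatorElement_eq_one_iff_mul_comm, h7]

end General

namespace WC

variable {G : Type u} [Group G] [Finite G] (c : WC G) {L X : Subgroup G}

theorem isWreathed : IsWreathed c.S := by
  refine ⟨c.n, c.hn, c.card_S, ⟨c.ρ, c.E0_le_S c.ρ_mem_E0⟩, ⟨c.E.r (0, 1), c.E.r_mem _⟩,
    ⟨c.σ, c.σ_mem_S⟩, ?_, Subtype.ext (c.E.r_comm_r _ _), ?_, by simpa using c.hσ,
    Subtype.ext (c.σ_r _)⟩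
  · rw [← orderOf_coe]
    show orderOf (c.E.r (1, 0)) = _
    rw [c.E.orderOf_r]
    simp [Prod.addOrderOf]
  · rw [eq_bot_iff]
    rintro x ⟨⟨i, hi⟩, ⟨j, hj⟩⟩
    have h1 : c.ρ ^ i = x := congrArg Subtype.val hi
    have h2 : c.E.r (0, 1) ^ j = x := congrArg Subtype.val hj
    rw [ρ, c.E.r_zpow] at h1
    rw [c.E.r_zpow] at h2
    have h3 := congrArg Prod.fst (c.E.r_inj.1 (h1.trans h2.symm))
    refine mem_bot.2 (Subtype.ext ?_)
    rw [← h1, coe_one, c.E.r_eq_one]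
    ext
    · simpa using h3
    · simp

/-- Brauer's theorem: if `E0` is a Sylow 2-subgroup of `L` then `O(L) E0` is normal in `L` -/
theorem nml_of_syl (h : Syl 2 L c.E0) : 𝒪[L] ⊔ c.E0 ⊴ L := by
  have hK := pcore_nml ({2} : Set ℕ)ᶜ L
  have hE : c.E0 ≤ N[𝒪[L]] := h.le.trans hK.norm
  obtain ⟨P, hP⟩ := Syl.exists_sylow Nat.prime_two (h.quo hK.norm)
  have e1 : (P : Subgroup (quo L 𝒪[L])) ≃* quo c.E0 𝒪[L] :=
    (equivMapOfInjective _ _ (subtype_injective _)).trans (MulEquiv.subgroupCongr hP)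
  have e2 := quoEquiv hE ((pcore_pi _ L).inf_eq_bot' c.E0_pi)
  have e3 : Multiplicative (⊤ : AddSubgroup (WA c.n)) ≃* Multiplicative (WA c.n) :=
    AddEquiv.toMultiplicative AddSubgroup.topEquiv
  obtain ⟨h1, -⟩ := Cfsg.Agent.S0949.result P c.n c.hn
    (e1.trans (e2.symm.trans (c.isR.equiv.symm.trans e3))) fun N hN ho => by
      have := le_O (odd_map_subtype ho) (nml_map_subtype N)
      rwa [pcore_quo_pcore, le_bot_iff, map_eq_bot_iff_of_injective _ (subtype_injective _)] at this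
  have h2 := nml_map_subtype (P : Subgroup (quo L 𝒪[L]))
  rw [hP] at h2
  have := nml_coq_of hK h2
  rwa [coq_quo' hE] at this

theorem exists_data : ∃ V', ∃ D : H22.WR.Data c.P c.E0 V', D.E.r (hh D.n, hh D.n) = c.t := by
  obtain ⟨V', hV⟩ := H22.WR.exists_V c.E (j := 1) 0
  exact ⟨V', ⟨c.n, c.hn, c.E, 0, c.isR, hV, by simp⟩, rfl⟩

/-- the possibilities for a subgroup containing `S` -/
theorem tri (hS : c.S ≤ L) : (∀ x ∈ L, ∃ o ∈ 𝒪[L], o * x ∈ c.H) ∨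
    ((∃ w' ∈ L, w' * c.w⁻¹ ∈ C[c.E0]) ∧
      (𝒪[L] ⊔ c.E0 ⊴ L ∨ ∀ K : Subgroup L, K.index ≠ 2)) := by
  obtain ⟨V', D0, hD⟩ := c.exists_data
  let D := D0.subgroupOf hS
  by_cases hU : HasOdd (c.E0.subgroupOf L)
  · right
    constructor
    · obtain ⟨g, hg, ho, hn⟩ := hU
      have hg' : (g : G) ∈ N[c.E0] := mem_N_of_finite fun x hx =>
        conj_mem hg (x := ⟨x, hS (c.E0_le_S hx)⟩) hx
      have hn' : (g : G) ∉ C[c.E0] := fun h => hn (mem_C.2 fun x hx => Subtype.ext (mem_C.1 h x hx))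
      rcases c.like_w_of_odd hg' (by simpa using Nat.coprime_two_right.1 ho) hn' with h | h
      · exact ⟨g, g.2, h⟩
      · exact ⟨_, inv_mem g.2, h⟩
    by_cases hV : HasOdd (V'.subgroupOf L)
    · right
      intro K hK
      haveI := normal_of_index_eq_two hK
      have h1 := D.le_commutator hU hV
      have h2 : commutator L ≤ K := der1_le_of_relIndex_prime (nml_top K)
        (by rw [relIndex_top_right, hK]; exact Nat.prime_two)
      have := H22.odd_index_of_sylow_le (h1.trans h2)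
      rw [hK] at this
      exact absurd this (by decide)
    · left
      obtain ⟨K, hK, hi, hE, -⟩ := D.ab_case hU hV
      have hn := nml_map_subtype K
      have hi' : (K.map L.subtype).relIndex L = 2 := by
        rw [relIndex, subgroupOf_map_subtype', hi]
      have hE' : c.E0 ≤ K.map L.subtype := (le_map_subtype_iff (c.E0_le_S.trans hS)).2 hE
      have hs : Syl 2 (K.map L.subtype) c.E0 := by
        refine syl_of_max Nat.prime_two c.E0_pi hE' fun R hR h1 h2 => ?_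
        rcases c.two_cases hR h1 with e | ⟨g, -, e⟩
        · exact e.le
        · exfalso
          have h3 : Syl 2 L R := (c.S_syl_of hS).of_card (h2.trans hn.le) (by rw [e, card_cj])
          have := (h3.idx_of_ge h2).not_dvd' Nat.prime_two rfl
          exact this (hi' ▸ dvd_rfl)
      have hi2 : PiNat {2} ((K.map L.subtype).relIndex L) := by
        rw [hi']; exact piNat_self Nat.prime_two
      have h4 : 𝒪[K.map L.subtype] = 𝒪[L] := by
        rw [← pcore_inf_nml _ hn, inf_eq_left]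
        exact le_of_idx_compl' hn hi2 (pcore_pi _ _) (pcore_le _ _)
      have h5 := c.nml_of_syl hs
      rw [h4] at h5
      refine ⟨sup_le (pcore_le _ _) (c.E0_le_S.trans hS), ?_⟩
      exact ((c.S_syl_of hS).isProd_of_idx hn.le hi2).sup_eq.ge.trans
        (sup_le (norm_sup (hS.trans (pcore_nml _ _).norm) c.S_le_NE0) h5.norm)
  · left
    intro x hx
    refine zstar (c.S_syl_of hS) c.ht c.t_mem_S (fun g hg h => ?_) hx
    have h1 := D.center_conj_eq hU D.z_mem (g := ⟨g, hg⟩) (by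
      show g * D0.E.r _ * g⁻¹ ∈ c.S
      exact hD ▸ h)
    have h2 : g * D0.E.r _ * g⁻¹ = D0.E.r _ := congrArg Subtype.val h1
    exact hD ▸ h2

theorem comm_le_of_nml (h : 𝒪[L] ⊔ c.E0 ⊴ L) (hX : Odd ♯X) (hXL : X ≤ L) (hN : c.E0 ≤ N[X]) :
    ⁅X, c.E0⁆ ≤ 𝒪[L] :=
  le_of_odd_sup (odd_pcore L) c.E0_pi ((le_sup_right.trans h.le).trans (pcore_nml _ _).norm)
    (odd_of_le hX (comm_le_left hN))
    ((comm_mono_right le_sup_right).trans (comm_le_right (hXL.trans h.norm)))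

/-- `L = O(L) C_L(v)` implies that `O(C(v)) ∩ L ≤ O(L)` -/
theorem le_core_of_isol {v : G} (h : ∀ x ∈ L, ∃ o ∈ 𝒪[L], o * x ∈ C{v}) (hX : Odd ♯X)
    (hXL : X ≤ L) (hN : L ⊓ C{v} ≤ N[X]) : X ≤ 𝒪[L] := by
  have hK := pcore_nml ({2} : Set ℕ)ᶜ L
  refine le_sup_right.trans (le_O (odd_sup (odd_pcore L) hX (hXL.trans hK.norm))
    ⟨sup_le hK.le hXL, fun x hx => ?_⟩)
  obtain ⟨o, ho, e⟩ := h x hx
  have h1 : o * x ∈ N[𝒪[L] ⊔ X] :=
    norm_sup (inf_le_left.trans hK.norm) hN (mem_inf.2 ⟨mul_mem (hK.le ho) hx, e⟩)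
  simpa using mul_mem (inv_mem (norm_of_le le_sup_left ho)) h1

theorem comm_isol {v : G} (h : ∀ x ∈ L, ∃ o ∈ 𝒪[L], o * x ∈ C{v}) (hv : v ∈ L) :
    ⁅L, zpowers v⁆ ≤ 𝒪[L] := by
  have hK := pcore_nml ({2} : Set ℕ)ᶜ L
  have hv' := zpowers_le.2 (hK.norm hv)
  refine ((le_centQ hv').1 fun x hx => ?_).2
  obtain ⟨o, ho, e⟩ := h x hx
  have h1 : o ∈ centQ (zpowers v) 𝒪[L] :=
    (le_centQ hv').2 ⟨norm_self _, comm_le_left hv'⟩ ho
  have h2 : o * x ∈ centQ (zpowers v) 𝒪[L] :=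
    (le_centQ hv').2 ⟨inf_le_left.trans hK.norm, comm_le_of_cent
      (A := zpowers v) (X := L ⊓ C{v}) (by rw [C_zpowers]; exact inf_le_right)⟩
      (mem_inf.2 ⟨mul_mem (hK.le ho) hx, e⟩)
  simpa using mul_mem (inv_mem h1) h2

end WC

namespace Mod

variable {G : Type u} [Group G] [Finite G] {c : WC G} (M : Mod c) {L X : Subgroup G}
include M

theorem rf_S (hI : IH.{u} (Nat.card G)) (hL : L ≠ ⊤) (hS : c.S ≤ L) {v : G} (hv : v ∈ c.V)
    (h1 : v ≠ 1) : ⁅𝒪[C{v}] ⊓ L, c.E0⁆ ≤ 𝒪[L] := by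
  have hE : c.E0 ≤ L := c.E0_le_S.trans hS
  have hK := pcore_nml ({2} : Set ℕ)ᶜ L
  have hY : Odd ♯(𝒪[C{v}] ⊓ L) := odd_of_le (odd_pcore _) inf_le_left
  have hN : c.E0 ≤ N[𝒪[C{v}] ⊓ L] :=
    norm_inf ((c.E0_le_C hv).trans (pcore_nml _ _).norm) (norm_of_le hE)
  rcases c.tri hS with h | ⟨-, h | h⟩
  · have hO : c.O ⊓ L ≤ 𝒪[L] := WC.le_core_of_isol h (odd_of_le c.odd_O inf_le_left) inf_le_right
      (norm_inf (inf_le_right.trans c.H_le_NO) (norm_of_le inf_le_left))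
    by_cases hvt : v = c.t
    · subst hvt
      exact (comm_le_left hN).trans hO
    have hp := cent_prod hY c.ht (hN c.t_mem_E0)
    rw [← hp.sup_eq]
    have h2 : ⁅𝒪[C{v}] ⊓ L, zpowers c.t⁆ ≤ 𝒪[L] :=
      (comm_mono_left inf_le_right).trans (WC.comm_isol h (hS c.t_mem_S))
    refine comm_sup_le (hE.trans hK.norm) (norm_of_le h2)
      ((inf_le_left.trans inf_le_right).trans hK.norm)
      ((comm_mono_left h2).trans (comm_le_left (hE.trans hK.norm))) ?_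
    have h3 : 𝒪[C{v}] ⊓ L ⊓ C{c.t} ≤ c.D := fun y hy => by
      have hyv : y ∈ C{v} := pcore_le _ _ hy.1.1
      rcases c.mem_V.1 hv with e | e | e | e
      · exact absurd e h1
      · exact absurd e hvt
      · exact ⟨hy.2, e ▸ hyv⟩
      · exact ⟨hy.2, c.four.C_of_ts hy.2 (e ▸ hyv)⟩
    refine le_trans (le_inf (M.comm_odd_D (odd_of_le hY inf_le_left) h3 c.t_mem_V
      (ne_one_of c.ht)) (comm_le_of_le (inf_le_left.trans inf_le_right) hE)) hO
  · exact c.comm_le_of_nml h hY inf_le_right hN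
  · have hv2 := c.four.V_two hv h1
    have hvL : v ∈ L := hE (c.V_le_E0 hv)
    have h2 := kp_quot (G := L) (fun Y _ _ _ hY => hI Y (by
        have := card_lt (lt_top_iff_ne_top.2 hL)
        rw [card_top] at this
        omega)) (c.P.subtype hS)
      (H22.isWreathed_of_equiv (subgroupOfEquivOfLe hS).symm c.isWreathed) h
      (v := ⟨v, hvL⟩) (by simpa using hv2) (isPi_subgroupOf c.E0_pi L)
      (fun x hx => mem_C1.2 (Subtype.ext (mem_C1.1 (c.E0_le_C hv hx))))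
    have h3 : (𝒪[C{v}] ⊓ L).subgroupOf L ≤ 𝒪[C{(⟨v, hvL⟩ : L)}] := by
      refine le_O (isPi_odd.1 (isPi_subgroupOf (isPi_odd.2 hY) L)) ⟨fun y hy => ?_, ?_⟩
      · exact mem_C1.2 (Subtype.ext (mem_C1.1 (pcore_le _ _ hy.1)))
      · refine le_N_iff.2 fun g hg y hy => mem_subgroupOf.2 (mem_inf.2 ⟨?_, (g * y * g⁻¹).2⟩)
        exact conj_mem ((pcore_nml _ _).norm (mem_C1.2 (congrArg Subtype.val (mem_C1.1 hg)))) hy.1
    have h4 := map_mono (f := L.subtype) ((comm_mono_left h3).trans h2)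
    rwa [map_commutator, map_subgroupOf' inf_le_right, map_subgroupOf' hE, core_map] at h4

theorem rf_O (hI : IH.{u} (Nat.card G)) (hL : L ≠ ⊤) (hE : c.E0 ≤ L) {v : G} (hv : v ∈ c.V)
    (h1 : v ≠ 1) : ⁅𝒪[C{v}] ⊓ L, c.E0⁆ ≤ 𝒪[L] := by
  obtain ⟨R, hR, h2⟩ := Sylow_superset Nat.prime_two c.E0_pi hE
  rcases c.two_cases hR.pi h2 with e | ⟨g, hg, e⟩
  · exact c.comm_le_of_nml (c.nml_of_syl (e ▸ hR)) (odd_of_le (odd_pcore _) inf_le_left)
      inf_le_right (norm_inf ((c.E0_le_C hv).trans (pcore_nml _ _).norm) (norm_of_le hE))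
  · obtain ⟨h3, h4⟩ := c.conj_V (c.NE0_le_NV (inv_mem hg)) hv h1
    have := cj_mono g (M.rf_S hI (L := cj g⁻¹ L) (by simpa using hL)
      (cj_le_iff.1 (e ▸ hR.le)) h3 h4)
    rw [cj_comm, cj_inf, ← pcore_cj, ← pcore_cj, cj_C1, cj_cj_inv, cj_of_mem_N hg] at this
    simpa [mul_assoc] using this

/-- `E0`-invariant subgroups of odd order without roots -/
theorem rf (hI : IH.{u} (Nat.card G)) (hL : L ≠ ⊤) (hE : c.E0 ≤ L) (hX : Odd ♯X) (hXL : X ≤ L)
    (hN : c.E0 ≤ N[X]) (h : ∀ v ∈ c.V, v ≠ 1 → ⁅X ⊓ C{v}, c.E0⁆ ≤ 𝒪[C{v}]) :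
    ⁅X, c.E0⁆ ≤ 𝒪[L] := by
  have hK := (pcore_nml ({2} : Set ℕ)ᶜ L).norm
  have key : ∀ v ∈ c.V, v ≠ 1 → X ⊓ C{v} ≤ centQ c.E0 𝒪[L] := fun v hv h1 => by
    refine (le_centQ (hE.trans hK)).2 ⟨(inf_le_left.trans hXL).trans hK, ?_⟩
    rw [← commGid2 (odd_of_le hX inf_le_left) c.E0_pi
      (norm_inf hN (norm_of_le (c.E0_le_C hv)))]
    exact (comm_mono_left (le_inf (h v hv h1)
      (comm_le_of_le (inf_le_left.trans hXL) hE))).trans (M.rf_O hI hL hE hv h1)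
  exact ((le_centQ (hE.trans hK)).1 (c.four.gen hX (c.V_le_E0.trans hN)
    (key _ c.t_mem_V (ne_one_of c.ht)) (key _ c.u_mem_V (ne_one_of c.hu))
    (key _ c.tu_mem_V (ne_one_of c.htu)))).2

end Mod

/-- The global facts (character theory and induction) used by the local analysis. -/
structure Hyp {G : Type u} [Group G] {c : WC G} (M : Mod c) : Prop where
  simple : IsSimpleGroup G
  ih : IH.{u} (Nat.card G)
  index : (c.H.index : ℤ) = c.k ^ 2 * M.d.N.q ^ 2 * M.F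
  zero : ∀ X : Subgroup G, c.S ≤ X → ∀ w' ∈ X, w' * c.w⁻¹ ∈ C[c.E0] → c.H ≤ (X ⊓ c.H) ⊔ c.O →
    𝒪[X] = ⊥
  twist : (∀ y ∈ c.H ⊓ C{c.u}, ap M.κ (c.w * y * c.w⁻¹) * (ap M.κ y)⁻¹ ∈ M.d.L0) → M.d.L0 = ⊤
  root : M.d.N.ε = 1 → ∀ A₀ A₁ : Subgroup G, IsPi {M.d.N.p} A₁ → A₀ ≤ A₁ → c.H ≤ N[A₀] →
    c.H ≤ N[A₁] → ⁅A₁, A₁⁆ ≤ A₀ → A₁ ⊓ c.H ≤ A₀ ⊓ c.O → A₀ ⊓ C{c.u} ≤ 𝒪[C{c.u}] →
    ¬ A₁ ⊓ C{c.u} ≤ 𝒪[C{c.u}] → A₀ = ⊥
  orb : M.d.N.ε = 1 → ∀ A H₁ : Subgroup G, Odd ♯A → Abl A → A ≠ ⊥ → c.H ≤ N[A] → A ⊓ c.H = ⊥ →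
    A ⊓ C{c.u} ≤ 𝒪[C{c.u}] → H₁ ≤ c.H →
    ∃ A' < A, ∃ J ≤ H₁, Odd ♯J ∧ ⁅A, J⁆ ≤ A' ∧ ♯H₁ ≤ ♯J * (M.d.N.q ^ 2 - 1)

namespace Hyp

variable {G : Type u} [Group G] [Finite G] {c : WC G} {M : Mod c} (h : Hyp M)
variable {L N X W : Subgroup G}
include h

theorem N_ne_top (h1 : X ≠ ⊥) (h2 : Odd ♯X) : N[X] ≠ ⊤ := fun e => by
  haveI := h.simple
  rcases (normalizer_eq_top_iff.1 e).eq_bot_or_eq_top with e | e
  · exact h1 e
  · exact not_mem_of_odd h2 c.ht (e ▸ mem_top _)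

/-- subgroups containing `S`, covering `H / O`, with nontrivial odd core -/
theorem qtype (hS : c.S ≤ N) (hc : c.H ≤ (N ⊓ c.H) ⊔ c.O) (hO : 𝒪[N] ≠ ⊥) :
    ∀ x ∈ N, ∃ o ∈ 𝒪[N], o * x ∈ c.H := by
  rcases c.tri hS with h1 | ⟨⟨w', h1, h2⟩, -⟩
  · exact h1
  · exact absurd (h.zero N hS w' h1 h2 hc) hO

theorem eq_bot_of_norm (hW : Odd ♯W) (hS : c.S ≤ N[W]) (hc : c.H ≤ (N[W] ⊓ c.H) ⊔ c.O) {w' : G}
    (h1 : w' ∈ N[W]) (h2 : w' * c.w⁻¹ ∈ C[c.E0]) : W = ⊥ :=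
  eq_bot_of_le (h.zero _ hS w' h1 h2 hc) (le_O hW (nml_N W))

theorem eq_bot_of_HH (hW : Odd ♯W) (h1 : c.H ≤ N[W]) (h2 : C{c.u} ≤ N[W]) : W = ⊥ := by
  refine h.eq_bot_of_norm hW (c.S_le_H.trans h1) ((le_inf h1 le_rfl).trans le_sup_left)
    (mul_mem (h1 c.σ_mem_H) (h2 ?_)) c.σσw
  rw [← c.w_t, ← c.cj_H]
  exact conj_mem_cj _ c.σ_mem_H

/-- counting involutions: a prime dividing `k` divides the number of involutions centralising a
`p`-subgroup -/
theorem dvd_invol {p : ℕ} (hp : p.Prime) (hk : p ∣ c.k) {P : Subgroup G} (hP : IsPi {p} P) :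
    p ∣ {a : G | orderOf a = 2 ∧ a ∈ C[P]}.ncard := by
  haveI := Fact.mk hp
  have h1 : p ∣ c.H.index := by
    have : (p : ℤ) ∣ c.H.index := by
      rw [h.index, mul_assoc, sq]
      exact ((Int.natCast_dvd_natCast.2 hk).mul_right _).mul_right _
    exact_mod_cast this
  have h2 := (hP.isPGroup hp).card_modEq_card_fixedPoints (G ⧸ c.H)
  have h3 : p ∣ Nat.card (MulAction.fixedPoints P (G ⧸ c.H)) :=
    (Nat.modEq_zero_iff_dvd.1 ((Nat.modEq_zero_iff_dvd.2 h1).symm.trans h2).symm)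
  let f : G ⧸ c.H → G := fun x => x.out * c.t * x.out⁻¹
  have hf : ∀ g : G, f (g : G ⧸ c.H) = g * c.t * g⁻¹ := fun g => by
    obtain ⟨y, e⟩ := QuotientGroup.mk_out_eq_mul c.H g
    simp only [f, e]
    calc g * y * c.t * (g * y)⁻¹ = g * (y * c.t * (y : G)⁻¹) * g⁻¹ := by group
      _ = _ := by rw [mem_C1_iff_conj.1 y.2]
  have key : ∀ a b : G, a * c.t * a⁻¹ = b * c.t * b⁻¹ ↔ (a : G ⧸ c.H) = b := fun a b => by
    rw [QuotientGroup.eq, WC.H, mem_C1_iff_conj]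
    constructor
    · intro e
      calc a⁻¹ * b * c.t * (a⁻¹ * b)⁻¹ = a⁻¹ * (b * c.t * b⁻¹) * a := by group
        _ = c.t := by rw [← e]; group
    · intro e
      calc a * c.t * a⁻¹ = a * (a⁻¹ * b * c.t * (a⁻¹ * b)⁻¹) * a⁻¹ := by rw [e]
        _ = _ := by group
  have hinj : Function.Injective f := fun x y e => by
    obtain ⟨a, rfl⟩ := QuotientGroup.mk_surjective x
    obtain ⟨b, rfl⟩ := QuotientGroup.mk_surjective y
    rwa [hf, hf, key] at e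
  have h4 : f '' MulAction.fixedPoints P (G ⧸ c.H) = {a : G | orderOf a = 2 ∧ a ∈ C[P]} := by
    have k2 : ∀ g : G, (g : G ⧸ c.H) ∈ MulAction.fixedPoints P (G ⧸ c.H) ↔
        g * c.t * g⁻¹ ∈ C[P] := fun g => by
      rw [mem_C_iff_le_C1]
      refine forall_congr' (fun x => ?_) |>.trans ⟨fun H x hx => H ⟨x, hx⟩, fun H x => H x.2⟩
      rw [mem_C1_iff_conj]
      show (((x : G) * g : G) : G ⧸ c.H) = g ↔ _
      rw [← key]
      simp only [mul_inv_rev, mul_assoc]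
    ext a
    constructor
    · rintro ⟨x, hx, rfl⟩
      obtain ⟨g, rfl⟩ := QuotientGroup.mk_surjective x
      rw [hf]
      exact ⟨two_conj c.ht g, (k2 g).1 hx⟩
    · rintro ⟨h5, h6⟩
      obtain ⟨g, e⟩ := c.invol_G h5
      have e' : g⁻¹ * c.t * g⁻¹⁻¹ = a := by rw [← e]; group
      exact ⟨(g⁻¹ : G), (k2 _).2 (e' ▸ h6), by rw [hf, e']⟩
  rwa [← h4, Set.ncard_image_of_injective _ hinj, ← Nat.card_coe_set_eq]

end Hyp

end H13.W
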