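import Mathlib
import Cfsg.Agent.H13.WBasic
import Cfsg.Agent.H12.Replace

/-! General lemmas for the local analysis: maximal intersections, stability, replacement, and
a computation with two quadratic elements satisfying the braid relation. -/

set_option autoImplicit false
set_option linter.unusedSectionVars false
set_option linter.style.haveILetI false

namespace H13.W

open H24 H26 Cfsg Subgroup H13.Dih
open scoped commutatorElement

universe u

variable {G : Type u} [Group G] [Finite G] {p : ℕ} {A E K P Q R V X Y : Subgroup G}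

/-- maximal `E`-invariant `p`-subgroups -/
structure MaxInv (p : ℕ) (E X : Subgroup G) : Prop where
  pi : IsPi {p} X
  norm : E ≤ N[X]
  max : ∀ Y, IsPi {p} Y → E ≤ N[Y] → X ≤ Y → Y = X

theorem exists_maxInv (h1 : IsPi {p} X) (h2 : E ≤ N[X]) : ∃ Y, X ≤ Y ∧ MaxInv p E Y := by
  obtain ⟨Y, h3, h4, h5⟩ := exists_max (P := fun Y => IsPi {p} Y ∧ E ≤ N[Y]) ⟨h1, h2⟩
  exact ⟨Y, h3, h4.1, h4.2, fun Z h6 h7 h8 => h5 Z ⟨h6, h7⟩ h8⟩

theorem norm_cj_of {g : G} (hg : g ∈ N[E]) (h : E ≤ N[X]) : E ≤ N[cj g X] := by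
  have := norm_cj h g
  rwa [cj_of_mem_N hg] at this

theorem MaxInv.cj (h : MaxInv p E X) {g : G} (hg : g ∈ N[E]) : MaxInv p E (cj g X) :=
  ⟨h.pi.cj g, norm_cj_of hg h.norm, fun Y h1 h2 h3 => by
    rw [← h.max (H24.cj g⁻¹ Y) (h1.cj _) (norm_cj_of (inv_mem hg) h2) (cj_le_iff.1 h3), cj_cj_inv]⟩

theorem maxInv_of_norm (hp : p.Prime) (h1 : IsPi {p} X) (h2 : E ≤ N[X])
    (h : ∀ Y, IsPi {p} Y → E ≤ N[Y] → X ≤ Y → Y ≤ N[X] → Y ≤ X) : MaxInv p E X :=
  ⟨h1, h2, fun _ h3 h4 h5 => ((h3.nil hp).eq_of_norm_le h5 (h _ (h3.inf_left _)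
    (norm_inf h4 (norm_N h2)) (le_inf h5 (norm_self _)) inf_le_right)).symm⟩

/-- the maximal intersection argument -/
theorem maxInt (hp : p.Prime) {Γ : Subgroup G} (hΓ : Γ ≤ N[E])
    (H : ∀ D X₁ X₂ : Subgroup G, D ≠ ⊥ → IsPi {p} D → E ≤ N[D] → IsPi {p} X₁ → IsPi {p} X₂ →
      E ≤ N[X₁] → E ≤ N[X₂] → X₁ ≤ N[D] → X₂ ≤ N[D] →
      ∃ g ∈ Γ, ∃ R, IsPi {p} R ∧ E ≤ N[R] ∧ cj g X₁ ≤ R ∧ X₂ ≤ R)
    (hP : MaxInv p E P) (hQ : MaxInv p E Q) (h : P ⊓ Q ≠ ⊥) : ∃ g ∈ Γ, cj g P = Q := by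
  induction' hn : Nat.card G - ♯(P ⊓ Q) using Nat.strong_induction_on with n ih generalizing P Q
  by_cases hPQ : P = Q
  · exact ⟨1, one_mem _, by rw [cj_one, hPQ]⟩
  have h1 : P ⊓ Q < P := lt_of_le_of_ne inf_le_left fun e =>
    hPQ (hP.max Q hQ.pi hQ.norm (inf_eq_left.1 e)).symm
  have h2 : P ⊓ Q < Q := lt_of_le_of_ne inf_le_right fun e =>
    hPQ (hQ.max P hP.pi hP.norm (inf_eq_right.1 e))
  have h3 := (hP.pi.nil hp).proper_norm h1
  have h4 := (hQ.pi.nil hp).proper_norm h2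
  have hE := norm_inf hP.norm hQ.norm
  obtain ⟨g, hg, R, r1, r2, r3, r4⟩ := H _ _ _ h (hP.pi.inf_left _) hE (hP.pi.inf_left _)
    (hQ.pi.inf_left _) (norm_inf hP.norm (norm_N hE)) (norm_inf hQ.norm (norm_N hE))
    inf_le_right inf_le_right
  obtain ⟨R', r5, hR⟩ := exists_maxInv r1 r2
  have hle : ∀ Z : Subgroup G, ♯Z ≤ Nat.card G := fun Z => by
    rw [← card_top (G := G)]; exact card_le le_top
  have k1 : ♯(P ⊓ Q) < ♯(cj g P ⊓ R') :=
    (card_lt h3).trans_le ((card_cj g _).ge.trans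
      (card_le (le_inf (cj_mono _ inf_le_left) (r3.trans r5))))
  have k2 : ♯(P ⊓ Q) < ♯(R' ⊓ Q) :=
    (card_lt h4).trans_le (card_le (le_inf (r4.trans r5) inf_le_left))
  have ne : ∀ Z : Subgroup G, ♯(P ⊓ Q) < ♯Z → Z ≠ ⊥ := fun Z hZ e => by
    rw [e, card_bot] at hZ
    have := card_pos (P ⊓ Q)
    omega
  obtain ⟨g1, hg1, e1⟩ := ih _ (by have := hle (cj g P ⊓ R'); omega) (hP.cj (hΓ hg)) hR
    (ne _ k1) rfl
  obtain ⟨g2, hg2, e2⟩ := ih _ (by have := hle (R' ⊓ Q); omega) hR hQ (ne _ k2) rfl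
  exact ⟨g2 * g1 * g, mul_mem (mul_mem hg2 hg1) hg, by rw [cj_mul, cj_mul, e1, e2]⟩

theorem cd_of_syl {S : Subgroup G} (hS : Syl 2 ⊤ S) {a : G}
    (H : ∀ g ∈ S, g ∉ zpowers a → g * g = 1 ∧ g * a * g⁻¹ = a⁻¹ ∧
      ∀ h ∈ S, h ∉ zpowers a → g * h ∈ zpowers a) : CD G := by
  intro P hP
  obtain ⟨g, -, hg⟩ := Sylow_Jsub Nat.prime_two hS (isPi_of_isPGroup Nat.prime_two hP) le_top
  obtain ⟨b, hb, hb'⟩ := ((cyc_zpowers (g⁻¹ * a * g)).of_le
    (inf_le_right : P ⊓ zpowers (g⁻¹ * a * g) ≤ _)).exists_gen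
  have hS' : ∀ y ∈ P, g * y * g⁻¹ ∈ S := fun y hy => hg (conj_mem_cj g hy)
  have key : ∀ y, y ∈ zpowers (g⁻¹ * a * g) ↔ g * y * g⁻¹ ∈ zpowers a := fun y => by
    have := cj_zpowers g⁻¹ a
    rw [inv_inv] at this
    rw [← this, mem_cj, inv_inv]
  have key2 : ∀ y ∈ P, y ∉ zpowers b → g * y * g⁻¹ ∉ zpowers a := fun y hy h1 h2 =>
    h1 (hb' ▸ ⟨hy, (key y).2 h2⟩)
  refine ⟨b, hb.1, fun y hy hyb => ?_⟩
  obtain ⟨h1, h2, h3⟩ := H _ (hS' y hy) (key2 y hy hyb)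
  refine ⟨?_, ?_, fun z hz hzb => ?_⟩
  · rw [← conj_eq_one_iff' (g := g), ← h1]; group
  · have := (inv_zpowers h2) _ ((key b).1 hb.2)
    calc y * b * y⁻¹ = g⁻¹ * (g * y * g⁻¹ * (g * b * g⁻¹) * (g * y * g⁻¹)⁻¹) * g := by group
      _ = b⁻¹ := by rw [this]; group
  · rw [hb']
    refine ⟨mul_mem hy hz, (key _).2 ?_⟩
    have := h3 _ (hS' z hz) (key2 z hz hzb)
    convert this using 1; group

/-- `p`-stability -/
theorem stab [Fact p.Prime] (hV : IsElementaryAbelian p V) (hK : K ≤ N[V])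
    (hq : ¬ H12.QuadInvolved p (H12.conjAct' hK).range) {a : G} (ha : a ∈ K)
    (h : ⁅⁅V, zpowers a⁆, zpowers a⁆ = ⊥) :
    ∃ D, D ⊴ K ∧ a ∈ D ∧ ∀ x ∈ D, PiElt {p}ᶜ x → x ∈ C[V] := by
  set α := H12.conjAct' hK
  haveI := hV.1
  have h1 := H12.mem_pCore_of_isQuad (H12.IsElementaryAbelian.pow_eq_one hV) hq
    (α := α.range.subtype) (subtype_injective _) (a := α.rangeRestrict ⟨a, ha⟩)
    (H12.isQuad_conjAct' hK (a := ⟨a, ha⟩) h)
  refine ⟨((pCore p α.range).comap α.rangeRestrict).map K.subtype, nml_map_subtype _,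
    ⟨⟨a, ha⟩, h1, rfl⟩, ?_⟩
  rintro _ ⟨x, hx, rfl⟩ h2
  have h3 : PiElt {p} (α.rangeRestrict x) := by
    rw [← pcore_singleton_top Fact.out] at hx
    exact (pcore_pi _ _).piElt hx
  have h4 : PiElt {p}ᶜ (α.rangeRestrict x) := PiElt.map (by simpa [PiElt] using h2) _
  have h5 : x ∈ α.ker := congrArg Subtype.val (h3.eq_one h4)
  rwa [H12.ker_conjAct'] at h5

theorem stab_odd [Fact p.Prime] (h2 : p ≠ 2) (hV : IsElementaryAbelian p V) (hK : K ≤ N[V])
    (ho : Odd ♯K) {a : G} (ha : a ∈ K) (h : ⁅⁅V, zpowers a⁆, zpowers a⁆ = ⊥) :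
    ∃ D, D ⊴ K ∧ a ∈ D ∧ ∀ x ∈ D, PiElt {p}ᶜ x → x ∈ C[V] :=
  stab hV hK (H12.not_quadInvolved_of_odd h2 (ho.of_dvd_nat (card_dvd_of_surjective _
    (MonoidHom.rangeRestrict_surjective _)))) ha h

/-- Thompson factorisation with replacement -/
theorem thompson_alt [Fact p.Prime] (hV : IsElementaryAbelian p V) (hVX : V ⊴ X) (hY : Y ≤ X)
    (hC : X ⊓ C[V] ≤ Y) : thompsonSubgroupOf p Y = thompsonSubgroupOf p X ∨
      ∃ A, H12.MaxEA p X A ∧ ⁅⁅V, A⁆, A⁆ = ⊥ ∧ ¬ A ≤ C[V] := by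
  by_cases h : thompsonSubgroupOf p X ≤ Y
  · exact Or.inl (H12.J_eq_of_le h hY)
  right
  rw [H12.J_le_iff] at h
  push Not at h
  obtain ⟨A, hA, h⟩ := h
  obtain ⟨h1, h2, h3⟩ := hA.replace hVX.le hV (hA.le.trans hVX.norm)
  exact ⟨_, h1, h2, fun h4 => h3 (fun h5 => h ((le_inf hA.le (comm_eq_bot'.1 h5)).trans hC))
    (comm_eq_bot'.2 h4)⟩

theorem offender (hA : H12.MaxEA p X A) (hV : IsElementaryAbelian p V) (hVX : V ≤ X) :
    C[A].relIndex V ≤ C[V].relIndex A := by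
  have h1 := (hA.bestOffender hVX hV).1 (A ⊓ C[V]) inf_le_left
  rw [inf_of_le_left (cents_symm inf_le_right)] at h1
  have h2 := card_inf_mul_relIndex C[A] V
  have h3 := card_inf_mul_relIndex C[V] A
  rw [inf_comm] at h2 h3
  have h4 := card_pos (A ⊓ C[V])
  have h5 := card_pos (V ⊓ C[A])
  rw [← h2, ← h3] at h1
  have : ♯(A ⊓ C[V]) * ♯(V ⊓ C[A]) * C[A].relIndex V ≤
      ♯(A ⊓ C[V]) * ♯(V ⊓ C[A]) * C[V].relIndex A := by nlinarith
  exact Nat.le_of_mul_le_mul_left this (by positivity)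

section Ring

variable {R : Type*} [Ring R] {a b : R}

theorem braid_sq (ha : a * a = 0) (hb : b * b = 0)
    (h : (1 + a) * (1 + b) * (1 + a) = (1 + b) * (1 + a) * (1 + b)) :
    a + a * b * a = b + b * a * b := by
  have e1 : (1 + a) * (1 + b) * (1 + a) = 1 + a + b + a * b + b * a + (a + a * b * a) + a * a := by
    noncomm_ring
  have e2 : (1 + b) * (1 + a) * (1 + b) = 1 + a + b + a * b + b * a + (b + b * a * b) + b * b := by
    noncomm_ring
  rw [e1, e2, ha, hb] at h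
  simpa using h

theorem braid_n (ha : a * a = 0) (hb : b * b = 0)
    (h : (1 + a) * (1 + b) * (1 + a) = (1 + b) * (1 + a) * (1 + b)) :
    (1 + a) * (1 + b) * (1 + a) * ((1 + a) * (1 + b) * (1 + a)) =
      1 + 2 * (a * b + b * a) + 6 * (a + a * b * a) := by
  have hc := braid_sq ha hb h
  have k1 : a * b * a * b = -(a * b) := by
    have := congrArg (· * b) hc
    simp only [add_mul, mul_assoc, hb, mul_zero, add_zero] at this
    rw [eq_neg_iff_add_eq_zero, add_comm]; simpa only [mul_assoc] using this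
  have k2 : b * a * b * a = -(b * a) := by
    have := congrArg (· * a) hc
    simp only [add_mul, mul_assoc, ha, mul_zero, add_zero] at this
    rw [eq_neg_iff_add_eq_zero, add_comm]; simpa only [mul_assoc] using this.symm
  have k3 : b * a * b = a + a * b * a - b := by rw [hc]; abel
  have k4 : a * b * a * b * a = -(a * b * a) := by rw [k1, neg_mul]
  have e1 : (1 + a) * (1 + b) * (1 + a) * ((1 + a) * (1 + b) * (1 + a)) =
      (1 + a) * (1 + b) * (1 + 2 * a + a * a) * (1 + b) * (1 + a) := by noncomm_ring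
  rw [e1, ha, add_zero]
  have e2 : (1 + b) * (1 + 2 * a) * (1 + b) =
      1 + 2 * a + 2 * b + 2 * (a * b) + 2 * (b * a) + 2 * (b * a * b) + b * b := by noncomm_ring
  have e3 : (1 + a) * (1 + b) * (1 + 2 * a) * (1 + b) * (1 + a) =
      (1 + a) * ((1 + b) * (1 + 2 * a) * (1 + b)) * (1 + a) := by noncomm_ring
  rw [e3, e2, hb, add_zero, k3]
  have e4 : (1 + a) * (1 + 2 * a + 2 * b + 2 * (a * b) + 2 * (b * a) + 2 * (a + a * b * a - b)) *
      (1 + a) = 1 + 2 * (a * b + b * a) + 6 * (a + a * b * a) + (9 * (a * a) + 4 * (a * (a * a)) +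
        2 * ((a * a) * b) + 2 * (b * (a * a)) + 2 * (a * b * (a * a)) + 4 * ((a * a) * b * a) +
        2 * (a * b * (a * a)) + 2 * ((a * a) * b * (a * a))) := by noncomm_ring
  rw [e4, ha]; simp

variable (h2 : ∀ r : R, r + r = 0 → r = 0)
include h2

theorem braid_one (ha : a * a = 0) (hb : b * b = 0)
    (h : (1 + a) * (1 + b) * (1 + a) = (1 + b) * (1 + a) * (1 + b))
    (h1 : (1 + a) * (1 + b) * (1 + a) * ((1 + a) * (1 + b) * (1 + a)) = 1) : a = b := by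
  have hc := braid_sq ha hb h
  rw [braid_n ha hb h, add_assoc, add_eq_left] at h1
  have k1 : a * b * a = 0 := h2 _ (by
    have := congrArg (a * ·) h1
    simp only [mul_zero] at this
    rw [← this]
    have e : a * (2 * (a * b + b * a) + 6 * (a + a * b * a)) =
        a * b * a + a * b * a + (2 * ((a * a) * b) + 6 * (a * a) + 6 * ((a * a) * b * a)) := by
      noncomm_ring
    rw [e, ha]; simp)
  have k2 : b * a * b = 0 := h2 _ (by
    have := congrArg (b * ·) h1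
    simp only [mul_zero] at this
    rw [← this, hc]
    have e : b * (2 * (a * b + b * a) + 6 * (b + b * a * b)) =
        b * a * b + b * a * b + (2 * ((b * b) * a) + 6 * (b * b) + 6 * ((b * b) * a * b)) := by
      noncomm_ring
    rw [e, hb]; simp)
  rwa [k1, k2, add_zero, add_zero] at hc

theorem braid_neg (ha : a * a = 0) (hb : b * b = 0)
    (h : (1 + a) * (1 + b) * (1 + a) = (1 + b) * (1 + a) * (1 + b))
    (h1 : (1 + a) * (1 + b) * (1 + a) * ((1 + a) * (1 + b) * (1 + a)) = -1) :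
    (1 + a) * (1 + b) * (1 + a) = a + b := by
  have hc := braid_sq ha hb h
  rw [braid_n ha hb h] at h1
  set c := a + a * b * a with hcd
  have k1 : 1 + (a * b + b * a) + 3 * c = 0 := h2 _ (by
    rw [← sub_eq_zero] at h1
    rw [← h1]; noncomm_ring)
  have k2 : a * c = 0 := by
    rw [hcd, mul_add, ← mul_assoc, ← mul_assoc, ha]; simp
  have k3 : c = 0 := by
    have := congrArg (a * ·) k1
    simp only [mul_zero] at this
    rw [← this]
    have e : a * (1 + (a * b + b * a) + 3 * c) = a + a * b * a + ((a * a) * b + 3 * (a * c)) := by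
      noncomm_ring
    rw [e, ha, k2]; simp [hcd]
  have e1 : (1 + a) * (1 + b) * (1 + a) = a + b + (1 + (a * b + b * a) + 3 * c) - 2 * c + a * a := by
    rw [hcd]; noncomm_ring
  rw [e1, k1, k3, ha]; simp

end Ring

end H13.W
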