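import Mathlib
import Cfsg.Agent.H13.QN2
import Cfsg.Agent.H2.QCL
import Cfsg.Agent.H2.QSch

/-!
# The rooted case: basic facts
-/

set_option autoImplicit false
set_option linter.unusedSectionVars false

namespace H13.QN

open Subgroup H24 H13.Dih H2.QD Cfsg
open scoped MatrixGroups

universe u

variable {G : Type u} [Group G]

theorem exists_desc {G' : Type*} [Group G'] {A K D : Subgroup G} (f : D →* G') (hA : A ≤ D) (hN : A ≤ N[K])
    (hk : ∀ x ∈ A, x ∈ K → ap f x = 1) : ∃ f' : quo A K →* G', ∀ x ∈ A, ap f' (cs K x) = ap f x := by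
  let φ : A →* quo A K := ((coset K).comp (inclusion hN)).codRestrict _ fun x => by
    have := cs_mem_quo (K := K) x.2 (hN x.2)
    rwa [cs, ap_of_mem _ (hN x.2)] at this
  have e : ∀ x : A, (φ x : QN K) = cs K x := fun x => (ap_of_mem (coset K) (hN x.2)).symm
  have hφ : Function.Surjective φ := fun y => by
    obtain ⟨x, hx, -, e'⟩ := mem_quo.1 y.2
    exact ⟨⟨x, hx⟩, Subtype.ext ((e _).trans e')⟩
  refine ⟨φ.liftOfSurjective hφ ⟨f.comp (inclusion hA), fun x hx => ?_⟩, fun x hx => ?_⟩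
  · have := hk x x.2 ((cs_eq_one (hN x.2)).1 ((e x).symm.trans (congrArg Subtype.val hx)))
    rwa [ap_of_mem _ (hA x.2)] at this
  · rw [← e ⟨x, hx⟩, ap_coe, MonoidHom.liftOfRightInverse_comp_apply, ap_of_mem _ (hA hx)]
    rfl

/-- the groups `X_ab` -/
def XX (β : G → Subgroup G) (v w : G) : Subgroup G := ⁅β v ⊓ C{w}, zpowers v⁆

/-- the rooted situation -/
structure RS {c : QC G} (M : Mod c) (p : ℕ) (β : G → Subgroup G) : Prop where
  mc : H2.QD.MC M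
  cjβ : ∀ g v, β (g * v * g⁻¹) = cj g (β v)
  min : MinB c p (β c.t)
  nf : ¬ c.Free (β c.t)

variable [Finite G] {c : QC G} {M : Mod c} {p : ℕ} {β : G → Subgroup G} {B X Y Z L : Subgroup G}
  {g v w x y : G}

theorem exists_RS (h : H2.QD.MC M) (hB : MinB c p B) (hr : ¬ c.Free B) : ∃ β, RS M p β := by
  let β : G → Subgroup G := fun v => ⨆ g, ⨆ _ : g * c.t * g⁻¹ = v, cj g B
  have e : β c.t = B := le_antisymm (iSup₂_le fun g hg => (cj_of_mem_N (hB.norm (mem_C1_iff_conj.2 hg))).le)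
    (le_iSup₂_of_le 1 (by simp) (cj_one B).ge)
  have key : ∀ g v, cj g (β v) ≤ β (g * v * g⁻¹) := fun g v => by
    rw [cj_le_iff]
    refine iSup₂_le fun k hk => ?_
    rw [← cj_le_iff, ← cj_mul]
    exact le_iSup₂_of_le (g * k) (by rw [← hk]; group) le_rfl
  refine ⟨β, h, fun g v => le_antisymm ?_ (key g v), e ▸ hB, e ▸ hr⟩
  have := key g⁻¹ (g * v * g⁻¹)
  rwa [cj_le_iff, inv_inv, show g⁻¹ * (g * v * g⁻¹) * g = v by group] at this

theorem four_CT (h : Four v w) : C{v} ⊓ C{v * w} = C{v} ⊓ C{w} :=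
  le_antisymm (fun _ hx => ⟨hx.1, h.C_of_ts hx.1 hx.2⟩) fun _ hx => ⟨hx.1, Four.C_mul hx.1 hx.2⟩

namespace RS

variable (R : RS M p β)
include R

theorem hq : 5 ≤ M.N.q := R.mc.q5
theorem cj' (g : G) : RS (M.cj g) p β :=
  ⟨R.mc.cj g, R.cjβ, by rw [c.cj_t, R.cjβ]; exact R.min.cj g, fun e => R.nf (by
    have := e.cj g⁻¹
    rw [c.cj_t, R.cjβ, cj_inv_cj] at this
    simpa [QC.Free, QC.cj_t, QC.cj_s, mul_assoc] using this)⟩
theorem tr (hf : Four v w) : ∃ (c' : QC G) (M' : Mod c'), RS M' p β ∧ c'.t = v ∧ c'.s = w := by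
  obtain ⟨g, h1, h2⟩ := c.exists_four hf
  exact ⟨_, _, R.cj' g, (c.cj_t g).trans h1, h2⟩
theorem XX_cj (g v w : G) : XX β (g * v * g⁻¹) (g * w * g⁻¹) = cj g (XX β v w) := by
  rw [XX, XX, cj_comm, cj_inf, cj_C1, cj_zpowers, R.cjβ]
theorem norm (v : G) : C{v} ≤ N[β v] := fun g hg =>
  mem_N_iff_cj.2 (by rw [← R.cjβ, mem_C1_iff_conj.1 hg])
theorem pi (hf : Four v w) : IsPi {p} (β v) := by
  obtain ⟨c, M, R, rfl, rfl⟩ := R.tr hf
  exact R.min.pi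
theorem odd (hf : Four v w) : Odd ♯(β v) := odd_of_pi R.min.ne2 (R.pi hf)
theorem normC (v w : G) : C{v} ⊓ C{w} ≤ N[β v ⊓ C{w}] :=
  norm_inf (inf_le_left.trans (R.norm v)) (norm_C1 inf_le_right)
theorem normX (v w : G) : C{v} ⊓ C{w} ≤ N[XX β v w] := norm_comm_zp (R.normC v w) inf_le_left
theorem vN (hf : Four v w) : v ∈ N[β v ⊓ C{w}] := R.normC v w (mem_inf.2 ⟨self_mem_C1 v, hf.t_mem_C⟩)
theorem XX_le (hf : Four v w) : XX β v w ≤ β v ⊓ C{w} := comm_le_left (zpowers_le.2 (R.vN hf))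
theorem XX_le₁ (hf : Four v w) : XX β v w ≤ β v := (R.XX_le hf).trans inf_le_left
theorem XX_le₂ (hf : Four v w) : XX β v w ≤ C{w} := (R.XX_le hf).trans inf_le_right
theorem oddC (hf : Four v w) : Odd ♯(β v ⊓ C{w}) := odd_of_le (R.odd hf) inf_le_left
theorem oddX (hf : Four v w) : Odd ♯(XX β v w) := odd_of_le (R.odd hf) (R.XX_le₁ hf)
theorem XX_idem (hf : Four v w) : ⁅XX β v w, zpowers v⁆ = XX β v w := comm_idem (R.oddC hf) hf.ht (R.vN hf)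
theorem prodX (hf : Four v w) : IsProd (XX β v w) (β v ⊓ C{w} ⊓ C{v}) (β v ⊓ C{w}) :=
  cent_prod (R.oddC hf) hf.ht (R.vN hf)
theorem nfX (hf : Four v w) : ¬ XX β v w ≤ UU w := by
  obtain ⟨c, M, R, rfl, rfl⟩ := R.tr hf
  exact R.nf
theorem CB (hf : Four v w) : β v ⊓ C{v} ≤ UU v := by
  obtain ⟨c, M, R, rfl, rfl⟩ := R.tr hf
  exact R.min.str.2.1.le.trans R.min.str.2.2.2.2.1
theorem nCT (hv : C{v} ⊓ C{c.t} = c.CT) : c.CT ≤ N[β v ⊓ C{c.t}] := hv ▸ R.normC v c.t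
theorem root : M.Root (img M.κ (XX β c.s c.t)) ∧ M.e ∈ N[img M.κ (XX β c.s c.t)] :=
  (M.inv_cases R.hq (R.oddC c.four.symm) inf_le_right (R.nCT (inf_comm _ _))).resolve_left (R.nfX c.four.symm)
omit R in
theorem root_ne {X : Subgroup M.Γ} (hq : 5 ≤ M.N.q) (h : M.Root X) : X ≠ ⊥ := fun e => by
  have := h.2.2
  rw [e, card_bot] at this
  omega
theorem p_eq : p = M.N.p := (((R.pi c.four.symm).of_le (R.XX_le₁ c.four.symm)).img M.κ).mem_of_ne_bot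
  R.root.1.2.1 (root_ne R.hq R.root.1)
theorem XX_i : XX β (c.t * c.s) c.t = cj c.i (XX β c.s c.t) := by rw [← R.XX_cj, c.i_s, c.i_t]
theorem img_i : img M.κ (XX β (c.t * c.s) c.t) = cj M.σ (img M.κ (XX β c.s c.t)) := by
  rw [R.XX_i, img_cj _ c.i_mem_H]; rfl
theorem root' : M.Root (img M.κ (XX β (c.t * c.s) c.t)) := R.img_i ▸ R.root.1.cj _
theorem ne' : img M.κ (XX β (c.t * c.s) c.t) ≠ img M.κ (XX β c.s c.t) :=
  R.img_i ▸ (M.root_e R.root.1 R.root.2).2.2.2.1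
theorem ε_eq : M.N.ε = 1 := (M.root_e R.root.1 R.root.2).1
theorem q_ne : M.N.q ≠ 9 := fun e => by
  have h1 := M.four_dvd_n
  have h2 := M.N.hn
  rw [e, R.ε_eq] at h2
  omega
theorem CT_U : β c.s ⊓ C{c.t} ⊓ C{c.s} ≤ c.U := (inf_assoc _ _ _).le.trans
  (M.p0_inv R.hq (R.p_eq ▸ R.pi c.four.symm) (inf_le_right.trans (R.norm c.s)))
theorem CT_U' (hf : Four v w) : β w ⊓ C{v} ⊓ C{w} ≤ UU v := by
  obtain ⟨c, M, R, rfl, rfl⟩ := R.tr hf
  exact R.CT_U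
theorem imgC : img M.κ (β c.s ⊓ C{c.t}) = img M.κ (XX β c.s c.t) := by
  rw [← (R.prodX c.four.symm).sup_eq, img_sup M.κ (show _ ≤ c.H from R.XX_le₂ c.four.symm)
    (R.CT_U.trans c.U_le_H), eq_bot_of_le M.img_U (img_mono _ R.CT_U), sup_bot_eq]
theorem G0 (hf : Four v w) : β w ⊓ β (v * w) ⊓ C{v} ≤ UU v := by
  obtain ⟨c, M, R, rfl, rfl⟩ := R.tr hf
  refine M.le_U inf_le_right (odd_of_le (R.odd c.four.symm) (inf_le_left.trans inf_le_left))
    (eq_bot_of_le (R.root.1.inf R.root' R.ne'.symm) (le_inf ?_ ?_))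
  · exact R.imgC ▸ img_mono _ (inf_le_inf_right _ inf_le_left)
  · rw [R.img_i, ← R.imgC, Mod.σ, ← img_cj _ c.i_mem_H, cj_inf, ← R.cjβ, cj_C1, c.i_s, c.i_t]
    exact img_mono _ (inf_le_inf_right _ inf_le_right)
theorem D0 (hf : Four v w) (h1 : β v ⊓ C{v} ≤ L) (h2 : β v ⊓ UU w ≤ L) (h3 : β v ⊓ UU (v * w) ≤ L) :
    ⁅XX β v w, XX β w v⁆ ≤ L := by
  have a : ⁅XX β v w, XX β w v⁆ ≤ β v ⊓ β w := le_inf
    ((comm_mono_left (R.XX_le₁ hf)).trans (comm_le_left ((R.XX_le₂ hf.symm).trans (R.norm v))))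
    ((comm_mono_right (R.XX_le₁ hf.symm)).trans (comm_le_right ((R.XX_le₂ hf).trans (R.norm w))))
  refine a.trans (hf.gen (odd_of_le (R.odd hf) inf_le_left) (norm_inf (hf.V_le_C.trans (R.norm v))
    (hf.V_le_C'.trans (R.norm w))) ((inf_le_inf_right _ inf_le_left).trans h1)
    (le_trans (fun x hx => mem_inf.2 ⟨hx.1.1, R.CB hf.symm (mem_inf.2 ⟨hx.1.2, hx.2⟩)⟩) h2)
    (le_trans (fun x hx => mem_inf.2 ⟨hx.1.1, R.G0 hf.mul.symm (mem_inf.2 ⟨mem_inf.2 ⟨hx.1.1, ?_⟩, hx.2⟩)⟩) h3))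
  rw [hf.ts_t]
  exact hx.1.2
theorem cov : M.L ≤ img M.κ (XX β c.s c.t ⊔ XX β (c.t * c.s) c.t) := by
  rw [img_sup M.κ (show _ ≤ c.H from R.XX_le₂ c.four.symm) (show _ ≤ c.H from R.XX_le₂ c.four.mul.symm),
    R.root.1.sup R.root' R.ne'.symm]
theorem G3 (hf : Four v w) : v ∈ XX β w v ⊔ XX β (v * w) v := by
  obtain ⟨c, M, R, rfl, rfl⟩ := R.tr hf
  exact M.t_mem_of_cov R.cov
theorem κ_eq_one (hx : x ∈ c.H) (h : x ∈ C[β c.t]) : ap M.κ x = 1 := by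
  by_contra e
  exact R.min.ne (mem_C_iff_le_C1.1 (M.t_mem_of_cov (M.cov_of_norm R.hq M.big_H.cov
    (inf_le_left.trans (norm_C R.min.norm)) (ne_bot_of_mem (ap_mem_img _ h hx) e))))
theorem P_cent : O[{p}, c.U] ≤ C[β c.t] := fun x hx => by
  obtain ⟨a1, a2, a3, a4, a5, a6, a7, a8⟩ := R.min.str
  have n : c.H ≤ N[O[{p}, c.U]] := (c.U_nml.pcore _).norm
  have xH := (pcore_le {p} c.U).trans c.U_le_H
  have hn := xH.trans R.min.norm
  refine a8 x (xH hx) ((comm_mono_right (zpowers_le.2 hx)).trans (le_sup_right.trans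
    ((a7 (⁅β c.t, β c.t⁆ ⊔ ⁅β c.t, O[{p}, c.U]⁆) le_sup_left (sup_le (der1_le _) (comm_le_left hn))
      (norm_sup (norm_comm R.min.norm R.min.norm) (norm_comm R.min.norm n))).resolve_right fun e => ?_).le))
  have h1 := nil_comm_properl ((R.min.pi.sup (pcore_pi _ _) hn).nil R.min.prime) le_sup_left
    (fun e => R.min.ne (e ▸ bot_le)) le_sup_right hn
  rw [← a3] at e
  exact h1.ne (Phi_nongen' (comm_le_left hn) e.ge)

end RS

end H13.QN
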