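import Mathlib
import Cfsg.Agent.H13.QN3

/-!
# The rooted case: a normal subgroup of `H` acting on `B / B'` as `SL₂(q)`
-/

set_option autoImplicit false
set_option linter.unusedSectionVars false

namespace H13.QN

open Subgroup H24 H13.Dih H2.QD Cfsg
open scoped MatrixGroups

universe u

variable {G : Type u} [Group G] [Finite G] {c : QC G} {M : Mod c} {p : ℕ} {β : G → Subgroup G}
  {B X Y Z L J : Subgroup G} {g v w x y n : G}

omit [Finite G] in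
theorem perf_cent (hJ : ⁅J, J⁆ = J) (h : ⁅X, J⁆ ≤ C[J]) : J ≤ C[X] := by
  rw [← comm_eq_bot, ← hJ]
  exact three_subgroup (A := J) (B := X) (K := J) (by rw [commC J X]; exact comm_eq_bot.2 h) (comm_eq_bot.2 h)

/-- the subgroup `J` -/
structure JJ (M : Mod c) (p : ℕ) (β : G → Subgroup G) (J : Subgroup G) : Prop where
  nml : J ⊴ c.H
  le : J ≤ M.Lt
  inf : J ⊓ c.U ≤ O[{p}, c.U]
  comm : ⁅J, c.U⁆ ≤ O[{p}, c.U]
  X1 : XX β c.s c.t ≤ J
  X2 : XX β (c.t * c.s) c.t ≤ J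

namespace RS

variable (R : RS M p β)
include R

theorem tr' (hf : Four v w) :
    ∃ (c' : QC G) (M' : Mod c'), RS M' p β ∧ M'.N.q = M.N.q ∧ c'.t = v ∧ c'.s = w := by
  obtain ⟨g, h1, h2⟩ := c.exists_four hf
  exact ⟨_, _, R.cj' g, rfl, (c.cj_t g).trans h1, h2⟩
theorem XH : XX β c.s c.t ≤ c.H := R.XX_le₂ c.four.symm
theorem XH' : XX β (c.t * c.s) c.t ≤ c.H := R.XX_le₂ c.four.mul.symm
theorem piX (hf : Four v w) : IsPi {p} (XX β v w) := (R.pi hf).of_le (R.XX_le₁ hf)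
theorem X_ne : img M.κ (XX β c.s c.t) ≠ ⊥ := root_ne R.hq R.root.1

theorem exists_J : ∃ J, JJ M p β J := by
  have hp := R.min.prime
  have nP : O[{p}, c.U] ⊴ c.H := c.U_nml.pcore _
  have PU := pcore_le {p} c.U
  have hF : IsPi {p}ᶜ F[quo c.U O[{p}, c.U]] := (isPi_compl_iff hp).2 fun e =>
    (pcore_ne_bot_iff_dvd_Fitting hp).2 e (pcore_quo_pcore _ _)
  set P := O[{p}, c.U]
  have hN := nP.norm
  have hPo := odd_of_le c.odd_U PU
  have sH : c.s ∈ c.H := c.four.s_mem_C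
  have hUo := odd_quo c.odd_U P
  have nU : quo c.H P ≤ N[quo c.U P] := quo_norm _ c.U_nml.norm
  have nF := norm_Fitting nU
  have hX := (R.piX c.four.symm).quo P
  have hn := (quo_mono _ R.XH).trans nF
  have h0 : quo (XX β c.s c.t) P ≤ C[F[quo c.U P]] := by
    refine bcore (Fitting_nil _) (odd_of_le hUo (Fitting_le _)) (two_cs hPo c.four.hs (hN sH))
      (nF (cs_mem_quo sH (hN sH))) (cs_mem_N (zpowers_le.1 (norm_comm_right _ _)) (hN sH)) hn (hF.coprime' hX) ?_ ?_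
    · rw [← quo_zpowers (hN sH), ← quo_comm (R.XH.trans hN) (zpowers_le.2 (hN sH)), R.XX_idem c.four.symm]
    rw [← comm_eq_bot, eq_bot_iff, ← hF.inf_eq_bot' hX]
    refine le_inf ((comm_mono_left inf_le_left).trans (comm_le_left hn))
      (comm_le_right ((inf_le_inf_right _ (Fitting_le _)).trans ?_))
    rw [← quo_C1 hPo c.four.hs (hN sH) PU]
    exact quo_norm _ (le_trans (le_inf inf_le_right (inf_le_left.trans c.U_le_H)) (R.normX _ _))
  have nC : c.H ≤ N[coq P C[F[quo c.U P]]] := norm_coq hN (norm_C nF)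
  obtain ⟨h1, h2⟩ := M.cov_res R.hq (M.cov_of_norm R.hq M.big_H.cov (inf_le_left.trans nC)
    (ne_bot_of_le R.X_ne (img_mono _ ((quo_le_iff (R.XH.trans hN)).1 h0))))
  have nJ : res (coq P C[F[quo c.U P]] ⊓ c.H) ⊴ c.H :=
    ⟨(res_le _).trans inf_le_right, norm_res (norm_inf nC (norm_self _))⟩
  have JN := nJ.le.trans hN
  have JC := (quo_le_iff JN).2 ((res_le _).trans inf_le_left)
  have pJ := congrArg (quo · P) (res_perfect (coq P C[F[quo c.U P]] ⊓ c.H))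
  set J := res (coq P C[F[quo c.U P]] ⊓ c.H)
  simp only [quo_comm JN JN] at pJ
  have cF := cent_sub_Fitting (sol_of_odd hUo)
  have JU : quo J P ≤ C[quo c.U P] := perf_cent pJ ((le_inf (comm_le_left ((quo_mono _ nJ.le).trans nU))
    ((comm_mono_right JC).trans (comm_le_right (norm_C (Fitting_nml _).norm)))).trans
    (cF.trans (cents_symm JC)))
  have dec : ∀ x ∈ M.Lt, ∃ o ∈ c.U, ∃ j ∈ J, x = o * j := fun x hx => by
    rw [← M.b2_sup h1, inf_eq_left.2 h2] at hx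
    exact (mem_sup_of_norm (nJ.le.trans c.U_nml.norm)).1 hx
  obtain ⟨f, hf⟩ := exists_desc M.lam h2 JN fun x hx hx' => by
    rw [ap_of_mem M.lam (h2 hx)]
    exact (M.lam_ker _).2 (PU hx')
  have k : pre f ⊥ ≤ quo c.U P := fun z hz => by
    obtain ⟨h, e⟩ := mem_pre_bot.1 hz
    obtain ⟨x, hx, xN, rfl⟩ := mem_quo.1 h
    rw [hf x hx, ap_of_mem M.lam (h2 hx), M.lam_ker] at e
    exact cs_mem_quo e xN
  have h3 := (sch M.h2 f (fun z => by
    obtain ⟨z, rfl⟩ := M.lam_surj z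
    obtain ⟨o, ho, j, hj, e⟩ := dec z z.2
    refine ⟨⟨_, cs_mem_quo hj (JN hj)⟩, ?_⟩
    rw [← ap_of_mem f, hf j hj, show z = ⟨o, M.U_le_Lt ho⟩ * ⟨j, h2 hj⟩ from Subtype.ext e, map_mul,
      (M.lam_ker ⟨o, M.U_le_Lt ho⟩).2 ho, one_mul]
    exact ap_of_mem M.lam (h2 hj))
    pJ (k.trans (cents_symm JU)) (odd_of_le hUo k)).resolve_right fun e => R.q_ne (M.hq.trans e.1)
  have h4 : XX β c.s c.t ≤ J ⊔ P := (quo_le_quo_iff (R.XH.trans hN) JN).1 fun z hz => by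
    obtain ⟨x, hx, xN, rfl⟩ := mem_quo.1 hz
    obtain ⟨o, ho, j, hj, rfl⟩ := dec x (M.mem_Lt.2 ⟨R.XH hx, R.root.1.1 (ap_mem_img _ hx (R.XH hx))⟩)
    have oN := hN (c.U_le_H ho)
    have a1 := cs_mem_quo ho oN
    have a2 := cs_mem_quo hj (JN hj)
    rw [← constt_eq_self (hX.piElt hz)]
    rw [cs_mul oN (JN hj)] at hz ⊢
    rw [constt_mul _ (mem_C.1 (JU a2) _ a1), constt_eq_one (hF.piElt (cF (mem_inf.2 ⟨a1,
      (mul_mem_cancel_right (JC a2)).1 (h0 hz)⟩))), one_mul]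
    exact constt_mem _ a2
  have nJ' := nJ.sup nP
  refine ⟨J ⊔ P, nJ', sup_le h2 (PU.trans M.U_le_Lt), ?_, ?_, h4, ?_⟩
  · rw [← group_modr (nP.le.trans nJ.norm) PU]
    refine sup_le (fun x hx => (cs_eq_one (JN hx.1)).1 (mem_bot.1 (h3.le (mem_pre_bot.2
      ⟨cs_mem_quo hx.1 (JN hx.1), ?_⟩)))) le_rfl
    rw [hf x hx.1, ap_of_mem M.lam (h2 hx.1)]
    exact (M.lam_ker _).2 hx.2
  · rwa [← quo_cents (nJ'.le.trans hN) (c.U_le_H.trans hN), quo_sup_right JN]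
  · rw [R.XX_i]
    exact cj_le_of_mem_N h4 (nJ'.norm c.i_mem_H)

theorem swap (hJ : JJ M p β J) (hn : n ∈ J) (h : ap M.κ n * M.σ ∈ M.Th) :
    ∃ o ∈ C[β c.t], o ∈ c.H ∧ o * n * c.s * (o * n)⁻¹ = c.t * c.s := by
  have sH : c.s ∈ c.H := c.four.s_mem_C
  have nH := hJ.nml.le hn
  have h1 : M.Th ⊔ zpowers M.σ ≤ C{M.e} := M.L0_inf_C ▸ inf_le_right
  obtain ⟨o, ⟨o1, o2⟩, h2⟩ := M.lift_C (X := J ⊔ zpowers c.s) (Four.V_le.2 ⟨mem_sup_left (M.t_mem_of_cov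
    (R.cov.trans (img_mono _ (sup_le hJ.X1 hJ.X2)))), mem_sup_right (mem_zpowers _)⟩)
    (mem_inf.2 ⟨mem_sup_left hn, nH⟩)
    ((mul_mem_cancel_right (h1 (mem_sup_right (mem_zpowers _)))).1 (h1 (mem_sup_left h)))
  have oH := c.U_le_H o1
  obtain ⟨j, hj, a, ha, e⟩ := (mem_sup_of_norm (zpowers_le.2 (hJ.nml.norm sH))).1 o2
  refine ⟨o, R.P_cent (hJ.inf (mem_inf.2 ⟨?_, o1⟩)), oH, ?_⟩
  · rcases (mem_zpowers_of_sq (sq_of c.four.hs)).1 ha with rfl | rfl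
    · rwa [e, mul_one]
    have := M.κ_U o1
    rw [e, ap_mul _ (hJ.nml.le hj) sH, mul_eq_one_iff_inv_eq] at this
    exact absurd (Set.mem_of_eq_of_mem this.symm (inv_mem (M.mem_Lt.1 (hJ.le hj)).2)) M.e_not
  rcases c.conj_T h2 Four.s_mem (ne_one_of c.four.hs) with e | e | e
  · refine absurd ?_ c.four.ne
    have := mem_C1_iff_conj.1 (mul_mem oH nH)
    rwa [← this, mul_left_inj, mul_right_inj] at e
  · have := ap_mem_img M.κ (A := c.CT) (mem_inf.2 ⟨mul_mem oH nH, mem_C1_iff_conj.2 e⟩) (mul_mem oH nH)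
    rw [M.img_CT, ap_mul _ oH nH, M.κ_U o1, one_mul] at this
    exact absurd ((mul_mem_cancel_left this).1 (sup_le_sup_right M.Dh_le_Rh _ h)) M.σ_not
  · exact e

end RS

end H13.QN
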