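import Mathlib
import Cfsg.Agent.H13.QN4
import Cfsg.Agent.H2.QRoot

/-!
# The rooted case: `B / B'` is a natural module
-/

set_option autoImplicit false
set_option linter.unusedSectionVars false

namespace H13.QN

open Subgroup H24 H13.Dih H2.QD Cfsg

universe u

variable {G : Type u} [Group G]

/-- the common kernel of the characters in `AA` -/
def WW (β : G → Subgroup G) (v w : G) : Subgroup G := ⁅β v, zpowers w⁆ ⊔ (β v ⊓ UU w)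
/-- the characters fixed by `w` and trivial on `O(C(w))` -/
def AA (β : G → Subgroup G) (v w : G) : Subgroup (β v →* ℂˣ) := An (β v) (WW β v w)
/-- a root group acting on the characters -/
noncomputable def XA (β : G → Subgroup G) (v w : G) : Subgroup (MulAut (β v →* ℂˣ)) :=
  img (ac (β v)) (XX β w v)

theorem ap_hdiv {B : Subgroup G} (l m : B →* ℂˣ) (b : G) : ap (l / m) b = ap l b / ap m b := by
  unfold ap; split_ifs <;> simp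

variable [Finite G] {c : QC G} {M : Mod c} {p : ℕ} {β : G → Subgroup G} {g v w x y : G}
  {l : β v →* ℂˣ}

namespace RS

variable (R : RS M p β)
include R

theorem der_eq (hf : Four v w) : β v ⊓ C{v} = ⁅β v, β v⁆ := by
  obtain ⟨c, M, R, rfl, rfl⟩ := R.tr hf
  exact R.min.str.2.1
theorem wN (hf : Four v w) : w ∈ N[β v] := R.norm v hf.s_mem_C
theorem XN (hf : Four v w) : XX β w v ≤ N[β v] := (R.XX_le₂ hf.symm).trans (R.norm v)
theorem WW_le (hf : Four v w) : WW β v w ≤ β v :=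
  sup_le (comm_le_left (zpowers_le.2 (R.wN hf))) inf_le_left
theorem le_WW (hf : Four v w) : β v ⊓ C{v} ≤ WW β v w := by
  rw [← (cent_prod (odd_of_le (R.odd hf) inf_le_left) hf.hs (zpowers_le.1 (norm_inf
    (zpowers_le.2 (R.wN hf)) (norm_C1 (zpowers_le.2 hf.s_mem_C))))).sup_eq]
  exact sup_le_sup (comm_mono_left inf_le_left) fun x hx =>
    mem_inf.2 ⟨hx.1.1, R.CT_U' hf.symm (mem_inf.2 ⟨mem_inf.2 ⟨hx.1.1, hx.2⟩, hx.1.2⟩)⟩
theorem le_WW' (hf : Four v w) : β v ⊓ C{v * w} ≤ WW β v w :=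
  (C_le_comm (R.odd hf) hf (R.wN hf)).trans (sup_le le_sup_left (R.le_WW hf))
theorem AA_cj (hf : Four v w) (hg : g ∈ C{v}) (hl : l ∈ AA β v w) :
    ap (ac (β v)) g l ∈ AA β v (g * w * g⁻¹) := by
  have := An_cj (R.norm v hg) (R.WW_le hf) hl
  rwa [WW, cj_sup, cj_comm, cj_inf, cj_zpowers, UU_cj, cj_of_mem_N (R.norm v hg)] at this
theorem card_AA (hf : Four v w) : ♯(AA β v w) = M.N.q := by
  rw [AA, card_An (R.der_eq hf ▸ R.le_WW hf), WW, idx_W (R.odd hf) hf.hs (R.wN hf)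
    (inf_le_inf_left _ (pcore_le _ _)) fun x hx => by
      rw [← R.der_eq hf] at hx
      exact mem_inf.2 ⟨hx.1.1, R.CT_U' hf.symm (mem_inf.2 ⟨mem_inf.2 ⟨hx.1.1, hx.2⟩, hx.1.2⟩)⟩]
  obtain ⟨c, M, R, e, rfl, rfl⟩ := R.tr' hf.symm
  rw [← e, ← R.root.1.2.2, ← R.imgC, card_img M.κ (show β c.s ⊓ C{c.t} ≤ c.H from inf_le_right),
    ← inf_relIndex_right, ← inf_relIndex_right (pre M.κ ⊥)]
  congr 1
  exact le_antisymm (fun x hx => mem_inf.2 ⟨mem_pre_bot.2 ⟨hx.2.2, M.κ_U hx.1.2⟩, hx.2⟩) fun x hx =>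
    mem_inf.2 ⟨mem_inf.2 ⟨hx.2.1, M.mem_U hx.2.2 (mem_pre_bot.1 hx.1).2 (odd_orderOf (R.odd hf) hx.2.1)⟩, hx.2⟩
theorem AA_ne (hf : Four v w) : AA β v w ≠ ⊥ := fun e => by
  have := R.card_AA hf
  have := R.hq
  rw [e, card_bot] at *
  omega
theorem ker_U (hf : Four v w) (hl : l ∈ AA β v w ⊔ AA β v (v * w)) : β v ⊓ UU w ≤ pre l ⊥ := by
  refine (mem_An inf_le_left).1 (sup_le (c := An (β v) (β v ⊓ UU w)) (fun l hl => ?_) (fun l hl => ?_) hl)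
  · exact fun b hb => hl b (mem_sup_right hb)
  · exact fun b hb => hl b (R.le_WW' hf.mul (mem_inf.2 ⟨hb.1, hf.t_ts.symm ▸ pcore_le _ _ hb.2⟩))
theorem ker_X (hf : Four v w) (hl : l ∈ AA β v w ⊔ AA β v (v * w)) : ⁅XX β v w, XX β w v⁆ ≤ pre l ⊥ :=
  R.D0 hf (R.der_eq hf ▸ der_le l) (R.ker_U hf hl) (R.ker_U hf.mul (by rwa [hf.t_ts, sup_comm]))
theorem hσ (hf : Four v w) (l : β v →* ℂˣ) : ap (ac (β v)) (v * w) l = (ap (ac (β v)) w l)⁻¹ := by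
  have := R.norm v (self_mem_C1 v)
  rw [ap_mul _ this (R.wN hf), MulAut.mul_apply,
    ac_inv (R.odd hf) (sq_of hf.ht) this (R.der_eq hf ▸ der_le _)]
theorem hA (hf : Four v w) (hl : l ∈ AA β v w) : ap (ac (β v)) w l = l :=
  (ac_fix (R.wN hf)).2 (le_sup_left.trans ((mem_An (R.WW_le hf)).1 hl))
theorem XU (hf : Four v w) : XX β w v ⊓ UU v ≤ C[β v] := by
  obtain ⟨c, M, R, rfl, rfl⟩ := R.tr hf
  obtain ⟨J, hJ⟩ := R.exists_J
  exact ((inf_le_inf_right _ hJ.X1).trans hJ.inf).trans R.P_cent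
theorem UX (hf : Four v w) (hx : x ∈ UU v) : ap (ac (β v)) x ∈ C[XA β v w] := by
  obtain ⟨c, M, R, rfl, rfl⟩ := R.tr hf
  obtain ⟨J, hJ⟩ := R.exists_J
  refine mem_C.2 fun z hz => ?_
  obtain ⟨y, hy, yN, rfl⟩ := mem_img.1 hz
  exact ac_comm yN (R.norm _ (c.U_le_H hx)) (R.P_cent (hJ.comm (commutator_mem_commutator (hJ.X1 hy) hx)))
theorem iX (hf : Four v w) : ∀ x ∈ XA β v w, ap (ac (β v)) w * x = x⁻¹ * ap (ac (β v)) w ∧ Odd (orderOf x) := by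
  intro z hz
  obtain ⟨x, hx, xN, rfl⟩ := mem_img.1 hz
  refine ⟨?_, (odd_orderOf (R.oddX hf.symm) hx).of_dvd_nat (orderOf_ap_dvd _ xN)⟩
  have h1 : w * x * w⁻¹ * x ∈ XX β w v := mul_mem (conj_mem (zpowers_le.1 (norm_comm_right _ _)) hx) hx
  have h2 : w * x * w⁻¹ * x ∈ UU v := by
    obtain ⟨c, M, R, rfl, rfl⟩ := R.tr hf
    have sH : c.s ∈ c.H := hf.s_mem_C
    refine M.mem_U (R.XH h1) ?_ (odd_orderOf (R.oddX hf.symm) h1)
    rw [ap_mul _ (conj_mem (norm_self _ sH) (R.XH hx)) (R.XH hx), ap_conj _ sH (R.XH hx), mul_eq_one_iff_eq_inv]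
    exact (M.root_e R.root.1 R.root.2).2.1 _ (ap_mem_img _ hx (R.XH hx))
  have := ac_cent (R.XU hf (mem_inf.2 ⟨h1, h2⟩))
  rwa [ap_mul _ (mul_mem (mul_mem (R.wN hf) xN) (inv_mem (R.wN hf))) xN, ap_conj _ (R.wN hf) xN,
    mul_eq_one_iff_eq_inv, mul_inv_eq_iff_eq_mul] at this
theorem cX (hf : Four v w) : ∀ x ∈ XA β v w, ∀ l, l ∈ AA β v w ∨ l ∈ AA β v (v * w) →
    ap (ac (β v)) (v * w) (x l / l) = x l / l := by
  intro z hz l hl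
  obtain ⟨x, hx, xN, rfl⟩ := mem_img.1 hz
  refine (R.hσ hf _).trans ((congrArg _ (ac_inv (R.odd hf) (sq_of hf.hs) (R.wN hf) ?_)).trans
    (hom_ext fun b _ => by rw [ap_hinv, ap_hinv, inv_inv]))
  rw [← (R.prodX hf).sup_eq]
  refine sup_le (fun a ha => ?_) ((inf_le_inf_right _ inf_le_left).trans (R.der_eq hf ▸ der_le _))
  have aB := R.XX_le₁ hf ha
  have := (mem_pre_bot.1 (R.ker_X hf (hl.elim mem_sup_left mem_sup_right)
    (commutator_mem_commutator (inv_mem ha) (inv_mem hx)))).2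
  rw [commutatorElement_def, inv_inv, inv_inv, mul_assoc, mul_assoc, ← mul_assoc x⁻¹,
    ap_mul _ (inv_mem aB) (conj_mem' xN aB), ap_inv _ aB, inv_mul_eq_one] at this
  exact mem_pre_bot.2 ⟨aB, by rw [ap_hdiv, ap_ac xN aB, ← this, div_self']⟩
theorem br (hf : Four v w) (hx : x ∈ XX β w v) (h : x ∉ UU v) : ∃ y ∈ XA β v (v * w), ∀ l ∈ AA β v w,
    y (ap (ac (β v)) x (y l)) ∈ AA β v (v * w) := by
  obtain ⟨c, M, R, rfl, rfl⟩ := R.tr hf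
  obtain ⟨J, hJ⟩ := R.exists_J
  obtain ⟨z, hz, e1, e2⟩ := (M.root_e R.root.1 R.root.2).2.2.2.2.2.2 _ (ap_mem_img _ hx (R.XH hx))
    fun e => h (M.mem_U (R.XH hx) e (odd_orderOf (R.oddX hf.symm) hx))
  rw [← R.img_i] at hz
  obtain ⟨y, hy, yH, rfl⟩ := mem_img.1 hz
  rw [e1, ← ap_mul _ yH (R.XH hx), ← ap_mul _ (mul_mem yH (R.XH hx)) yH] at e2
  obtain ⟨o, o1, o2, e⟩ := R.swap hJ (mul_mem (mul_mem (hJ.X2 hy) (hJ.X1 hx)) (hJ.X2 hy)) e2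
  have yN := R.XN hf.mul hy
  have xN := R.XN hf hx
  refine ⟨_, ap_mem_img _ hy yN, fun l hl => ?_⟩
  have := R.AA_cj hf (mul_mem o2 (mul_mem (mul_mem yH (R.XH hx)) yH)) hl
  rwa [e, ap_mul _ (C_le_N _ o1) (mul_mem (mul_mem yN xN) yN), ac_cent o1, one_mul,
    ap_mul _ (mul_mem yN xN) yN, ap_mul _ yN xN] at this
theorem bX (hf : Four v w) : ∀ x ∈ XA β v w, x = 1 ∨ ∃ y ∈ XA β v (v * w), ∀ l ∈ AA β v w,
    y (x (y l)) ∈ AA β v (v * w) := by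
  intro z hz
  obtain ⟨x, hx, xN, rfl⟩ := mem_img.1 hz
  by_cases h : x ∈ UU v
  exacts [.inl (ac_cent (R.XU hf (mem_inf.2 ⟨hx, h⟩))), .inr (R.br hf hx h)]
theorem ps (hf : Four v w) : PS (ap (ac (β v)) w) (ap (ac (β v)) (v * w)) (AA β v w) (AA β v (v * w))
    (XA β v w) (XA β v (v * w)) :=
  ⟨fun _ => sq_one (R.odd hf), R.hσ hf, fun _ => R.hA hf, fun _ => R.hA hf.mul, R.iX hf, R.iX hf.mul, R.cX hf,
    by simpa only [hf.t_ts, or_comm] using R.cX hf.mul, R.bX hf, by simpa only [hf.t_ts] using R.bX hf.mul⟩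
theorem card_XA (hf : Four v w) : M.N.q ≤ ♯(XA β v w) := by
  obtain ⟨c, M, R, e, rfl, rfl⟩ := R.tr' hf
  rw [← e, ← R.root.1.2.2, card_img M.κ R.XH, XA, card_img _ (R.XN hf), ← inf_relIndex_right (pre (ac _) ⊥)]
  refine relIndex_le_of_le_left (fun x hx => mem_pre_bot.2 ⟨R.XH hx.2, M.κ_U (by_contra fun h => ?_)⟩)
    (relIndex_ne_zero' _ _)
  obtain ⟨y, hy, h'⟩ := R.br hf hx.2 h
  exact (R.ps hf).ne_one hy (R.AA_ne hf) h' (mem_pre_bot.1 hx.1).2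
theorem hq1 (hf : Four v w) : ♯(AA β v (v * w)) ≤ ♯(XA β v w) := R.card_AA hf.mul ▸ R.card_XA hf
theorem hq2 (hf : Four v w) : ♯(AA β v w) ≤ ♯(XA β v (v * w)) := R.card_AA hf ▸ R.card_XA hf.mul
theorem XA_ne (hf : Four v w) : XA β v w ≠ ⊥ := fun e => by
  have := R.card_XA hf
  have := R.hq
  rw [e, card_bot] at *
  omega
theorem U_stb (hf : Four v w) (hx : x ∈ UU v) : ap (ac (β v)) x ∈ Stb (AA β v w ⊔ AA β v (v * w)) := by
  obtain ⟨c, M, R, rfl, rfl⟩ := R.tr hf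
  have h1 := R.mc.root_count (R.p_eq ▸ R.min.pi) R.min.norm R.nf
  have key : ∀ l : β c.t →* ℂˣ, l ≠ 1 → ∀ g ∈ c.H, ap (ac (β c.t)) g l ∈ AA β c.t c.s →
      l ≠ 1 ∧ (∀ b ∈ β c.t ⊓ C{c.t}, ap l b = 1) ∧ ∃ g ∈ c.H,
        ∀ b ∈ ⁅β c.t, zpowers c.s⁆ ⊔ (β c.t ⊓ UU c.s), ap l (g * b * g⁻¹) = 1 := fun l h g hg e =>
    ⟨h, fun b hb => (mem_pre_bot.1 (der_le l (R.der_eq hf ▸ hb))).2, g⁻¹, inv_mem hg, fun b hb => by
      rw [inv_inv, ← ap_ac (R.norm _ hg) (R.WW_le hf hb)]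
      exact e b hb⟩
  refine (R.ps hf).stb_or (R.hq1 hf) (R.hq2 hf) (R.AA_ne hf) (R.AA_ne hf.mul) (R.UX hf hx) (R.UX hf.mul hx)
    (fun l hl h => ?_) ((Nat.lt_succ_of_le (Nat.add_le_add_left ?_ _)).trans_le (h1.trans_eq ?_))
  · obtain ⟨g, hg, e⟩ : ∃ g ∈ c.H, ap (ac (β c.t)) g l ∈ AA β c.t c.s := by
      rcases (R.ps hf).orb (R.hq1 hf) hl with e | ⟨z, hz, e⟩
      · exact ⟨_, c.i_mem_H, c.i_ts ▸ R.AA_cj hf.mul c.i_mem_H e⟩
      obtain ⟨y, hy, -, rfl⟩ := mem_img.1 hz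
      exact ⟨y, R.XH hy, e⟩
    have xH := c.U_le_H hx
    refine ⟨key l h g hg e, key _ (by simpa using h) (g * x⁻¹) (mul_mem hg (inv_mem xH)) ?_⟩
    rwa [ap_mul _ (R.norm _ hg) (R.norm _ (inv_mem xH)), ap_inv _ (R.norm _ xH), MulAut.mul_apply,
      MulAut.inv_apply_self]
  · have := R.hq
    omega
  · rw [R.card_AA hf, R.card_AA hf.mul, sq]
theorem Kr_eq (hf : Four v w) : Kr (AA β v w ⊔ AA β v (v * w)) = ⁅β v, β v⁆ := by
  obtain ⟨c, M, R, rfl, rfl⟩ := R.tr hf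
  have h1 := M.H_le (X := pre (ac (β c.t)) (Stb (AA β c.t c.s ⊔ AA β c.t (c.t * c.s))))
    (fun x hx => mem_pre.2 ⟨R.norm _ (c.U_le_H hx), R.U_stb hf hx⟩)
    (fun x hx => mem_pre.2 ⟨R.norm _ hx.1, fun _ => stb_sup
      (fun l hl => mem_sup_left (mem_C1_iff_conj.1 hx.2 ▸ R.AA_cj hf hx.1 hl)) fun l hl =>
      mem_sup_right (mem_C1_iff_conj.1 (Four.C_mul hx.1 hx.2) ▸ R.AA_cj hf.mul hx.1 hl)⟩)
    (R.cov.trans (img_mono _ (sup_le ((img_le_iff (R.XN hf)).1 (R.ps hf).stbX)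
      ((img_le_iff (R.XN hf.mul)).1 (R.ps hf).stbY))))
  refine (R.min.str.2.2.2.2.2.2.1 _ (le_Kr (der1_le _) fun l _ => der_le l) inf_le_left fun g hg =>
    norm_Kr (R.norm _ hg) (mem_pre.1 (h1 hg)).2).resolve_right fun e => R.AA_ne hf (eq_bot_iff.2 fun l hl => ?_)
  exact hom_ext fun b hb => ((mem_Kr.1 (e.ge hb)).2 l (mem_sup_left hl)).trans (ap_hone b).symm
theorem V0 (hf : Four v w) : β v ⊓ UU w ≤ C{v} :=
  (le_Kr inf_le_left fun _ => R.ker_U hf).trans ((R.Kr_eq hf).trans (R.der_eq hf).symm |>.le.trans inf_le_right)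
theorem cent_of (hf : Four v w) (hx : x ∈ C{v}) (h : ⁅β v, zpowers x⁆ ≤ ⁅β v, β v⁆) : x ∈ C[β v] := by
  obtain ⟨c, M, R, rfl, rfl⟩ := R.tr hf
  exact R.min.str.2.2.2.2.2.2.2 x hx h
theorem of_fx (hf : Four v w) (hx : x ∈ C{v}) (h : ap (ac (β v)) x ∈ Fx (AA β v w ⊔ AA β v (v * w))) :
    x ∈ C[β v] := R.cent_of hf hx (R.Kr_eq hf ▸ le_Kr (comm_le_left (zpowers_le.2 (R.norm v hx)))
      fun l hl => (ac_fix (R.norm v hx)).1 (h l hl))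
theorem KB (hf : Four v w) : ⁅UU v, zpowers w⁆ ≤ C[β v] := (comm_zp_le (sq_of hf.hs)).2 fun x hx => by
  have xH := pcore_le _ _ hx
  have xN := R.norm v xH
  refine R.of_fx hf (mul_mem xH (conj_mem (norm_self _ hf.s_mem_C) (inv_mem xH))) ?_
  rw [ap_mul _ xN (mul_mem (mul_mem (R.wN hf) (inv_mem xN)) (inv_mem (R.wN hf))),
    ap_conj _ (R.wN hf) (inv_mem xN), ap_inv _ xN]
  exact (R.ps hf).comm_fx (R.XA_ne hf) (R.XA_ne hf.mul) (R.U_stb hf hx) (R.UX hf hx) (R.UX hf.mul hx)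
theorem PB (hf : Four v w) (hx : x ∈ UU v) (h : PiElt {p} x) : x ∈ C[β v] := by
  obtain ⟨k, e⟩ := h.exists_pow R.min.prime
  refine R.of_fx hf (pcore_le _ _ hx) ((R.ps hf).fx_of_p (R.hq1 hf) (R.hq2 hf) (R.AA_ne hf) (R.AA_ne hf.mul)
    (R.UX hf hx) (R.UX hf.mul hx) (R.U_stb hf hx) R.min.prime ?_ (k := k) ?_)
  · rw [R.card_AA hf, ← R.root.1.2.2, R.p_eq]
    exact R.root.1.2.1.dvd_card R.X_ne
  · rw [← ap_pow _ (R.norm v (pcore_le _ _ hx)), ← e, pow_orderOf_eq_one, ap_one]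
theorem NC (hf : Four v w) : ¬ XX β w v ≤ C[XX β v (v * w)] := fun h => by
  have n1 : β v ≤ N[⁅β v, β v⁆] := norm_comm_left _ _
  have n2 : XX β w v ≤ N[⁅β v, β v⁆] := norm_der1 (R.XN hf)
  have h0 : β v ⊓ C{v} ≤ centQ (XX β w v) ⁅β v, β v⁆ := (le_centQ n2).2 ⟨inf_le_left.trans n1, by
    rw [R.der_eq hf]
    exact comm_le_left n2⟩
  have e : ∀ {w}, Four v w → β v ⊓ UU w ≤ ⁅β v, β v⁆ := fun hf => R.der_eq hf ▸ le_inf inf_le_left (R.V0 hf)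
  have h1 : ⁅β v, XX β w v⁆ ≤ ⁅β v, β v⁆ := ((le_centQ n2).1 (hf.gen (R.odd hf) (hf.V_le_C.trans (R.norm v)) h0
    ((R.prodX hf).sup_eq ▸ sup_le ((le_centQ n2).2 ⟨(R.XX_le₁ hf).trans n1,
      R.D0 hf (R.der_eq hf).le (e hf) (e hf.mul)⟩) ((inf_le_inf_right _ inf_le_left).trans h0))
    ((R.prodX hf.mul).sup_eq ▸ sup_le ((le_centQ n2).2 ⟨(R.XX_le₁ hf.mul).trans n1,
      (comm_eq_bot'.2 h).le.trans bot_le⟩) ((inf_le_inf_right _ inf_le_left).trans h0)))).2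
  obtain ⟨c, M, R, rfl, rfl⟩ := R.tr hf
  exact R.X_ne ((img_eq_bot R.XH).2 fun x hx => mem_pre_bot.2 ⟨R.XH hx, R.κ_eq_one (R.XH hx)
    (R.cent_of hf (R.XH hx) ((comm_mono_right (zpowers_le.2 hx)).trans h1))⟩)

end RS

end H13.QN
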