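import Mathlib
import Cfsg.Agent.H13.QN5

/-!
# The rooted case: the component of `H`
-/

set_option autoImplicit false
set_option linter.unusedSectionVars false

namespace H13.QN

open Subgroup H24 H13.Dih H2.QD Cfsg

universe u

variable {G : Type u} [Group G] [Finite G] {c : QC G} {M : Mod c} {p : ℕ} {β : G → Subgroup G}
  {Y Z L : Subgroup G} {g v w x y : G}

theorem cov_L1 (hq : 5 ≤ M.N.q) (hL : M.Comp L) (hZ : Z ≤ c.H) (hN : c.CT ≤ N[Z]) (h : M.Root (img M.κ Z))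
    (he : M.e ∈ N[img M.κ Z]) : img M.κ (Z ⊓ L) = img M.κ Z := by
  obtain ⟨-, -, -, -, h1, h2, -⟩ := M.root_e h he
  obtain ⟨z, hz, z1⟩ := exists_ne_one (H := M.Dh) fun e => by
    have := M.three_le_Dh hq
    rw [e, card_bot] at this
    omega
  obtain ⟨d, hd, dH, rfl⟩ := mem_img.1 (M.img_R ▸ M.Dh_le_Rh hz)
  have sH : c.s ∈ c.H := c.four.s_mem_C
  obtain ⟨l, hl, o, ho, rfl⟩ := (mem_sup_of_norm (c.U_le_H.trans hL.nml.norm)).1
    (hL.sup ▸ M.mem_Lt.2 ⟨dH, M.Dh_le_L hz⟩)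
  have lH := hL.nml.le hl
  rw [ap_mul _ lH (c.U_le_H ho), M.κ_U ho, mul_one] at hz z1
  have h3 : l ∈ c.CT := mem_inf.2 ⟨lH, mem_C1_comm.1 (mem_C1_iff_conj.2 (mul_eq_mul_of_inf hL.inf
    (hL.nml.conj_mem sH hl) hl (c.U_nml.conj_mem sH ho) ho (by
      rw [← mem_C1_iff_conj.1 (mem_C1_comm.1 (c.mem_R.1 hd).1.2)]; group)).1)⟩
  refine (h2 _ (img_mono _ inf_le_left) ((M.Dh_le_Rh.trans le_sup_left).trans (M.img_CT ▸ img_norm _
    (norm_inf hN (c.CT_le_H.trans hL.nml.norm))))).resolve_left fun e => RS.root_ne hq h ?_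
  rw [← h1 _ (mem_sup_left hz) z1, eq_comm, inf_eq_left, ← comm_zp_eq_bot, ← img_zpowers _ lH,
    ← img_comm _ hZ (zpowers_le.2 lH)]
  exact eq_bot_of_le e (img_mono _ (le_inf (comm_le_left (zpowers_le.2 (hN h3)))
    ((comm_mono_right (zpowers_le.2 hl)).trans (comm_le_right (hZ.trans hL.nml.norm)))))

theorem le_of_img (hL : M.Comp L) (hY : Y ≤ L) (ho : Odd ♯Y) (h : img M.κ Y ≤ img M.κ (Z ⊓ L)) : Y ≤ Z :=
  fun y hy => by
  have yH := hL.nml.le (hY hy)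
  obtain ⟨z, hz, zH, e⟩ := mem_img.1 (h (ap_mem_img _ hy yH))
  refine zpowers_le.2 ?_ (mem_zpowers_sq (odd_orderOf ho hy))
  rcases hL.ker (mul_mem (inv_mem hz.2) (hY hy)) (by rw [ap_mul _ (inv_mem zH) yH, ap_inv _ zH, e,
    inv_mul_cancel]) with e | e <;> rw [inv_mul_eq_iff_eq_mul] at e
  · rw [e, mul_one]
    exact mul_mem hz.1 hz.1
  · rw [e, mul_assoc, ← mul_assoc c.t, ← mem_C1.1 zH, mul_assoc, sq_of c.four.ht, mul_one]
    exact mul_mem hz.1 hz.1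

namespace RS

variable (R : RS M p β)
include R

theorem PX (hf : Four v w) : O[{p}, UU v] ⊓ C{w} ≤ C[XX β w v] := fun x hx => by
  refine C_anti (R.XX_le₁ hf.symm) (R.PB hf.symm ?_ ((pcore_pi _ _).piElt hx.1))
  obtain ⟨c, M, R, rfl, rfl⟩ := R.tr hf.symm
  exact M.p0_inv R.hq (R.p_eq ▸ pcore_pi {p} _) (inf_le_right.trans (PP_nml p c.s).norm)
    (mem_inf.2 ⟨hx.1, mem_inf.2 ⟨hx.2, (PP_nml p c.s).le hx.1⟩⟩)
theorem covU : M.L ≤ img M.κ C[c.U] := by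
  obtain ⟨J, hJ⟩ := R.exists_J
  obtain ⟨z, z1, z2, z3, z4, z5⟩ := M.exists_inv R.hq
  have sH : c.s ∈ c.H := c.four.s_mem_C
  have XH := sup_le R.XH R.XH'
  have nP : O[{p}, c.U] ⊴ c.H := c.U_nml.pcore _
  obtain ⟨y, hy, y1, rfl, y2⟩ := M.lift_inv (zpowers_le.1 (norm_sup (norm_comm_right _ _) (zpowers_le.2
    (R.normX _ _ (mem_inf.2 ⟨c.four.mul'.t_mem_C, sH⟩))))) XH (R.cov z1) z3 z5
  have y3 : Odd ♯(zpowers y) := isPi_odd.1 (piElt_iff.1 fun r hr h => piElt_odd.2 z3 r hr (y2 r hr h))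
  have h1 : zpowers y ≤ C[O[{p}, c.U]] := bcore ((pcore_pi _ _).nil R.min.prime)
    (odd_of_le c.odd_U (pcore_le _ _)) c.four.hs (nP.norm sH) (inv_zpowers y1).norm
    (zpowers_le.2 (nP.norm (XH hy))) ((pcore_pi _ _).coprime ((isPi_compl_iff R.min.prime).2 fun e =>
      z4 (R.p_eq ▸ y2 p R.min.prime (card_zpowers' y ▸ e)))) ((inv_zpowers y1).comm_eq y3).ge
    (cents_of_le (cents_sup (R.PX c.four) fun x hx => R.PX c.four.mul (mem_inf.2 ⟨hx.1,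
      Four.C_mul (nP.le hx.1) hx.2⟩)) (zpowers_le.2 hy))
  have nC := norm_C nP.norm
  obtain ⟨h2, -⟩ := M.cov_res R.hq (M.cov_inf R.hq (R.cov.trans (img_mono _ (sup_le hJ.X1 hJ.X2)))
    (M.cov_of_norm R.hq M.big_H.cov (inf_le_left.trans nC)
      (ne_bot_of_mem (ap_mem_img _ (zpowers_le.1 h1) (XH hy)) z2))
    (inf_le_right.trans nC) (inf_le_right.trans hJ.nml.norm))
  have h3 := (res_le (J ⊓ C[O[{p}, c.U]] ⊓ c.H)).trans inf_le_left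
  exact h2.trans (img_mono _ (perf_cent (res_perfect _) (((comm_mono_right (h3.trans inf_le_left)).trans
    ((commC _ _).le.trans hJ.comm)).trans (cents_symm (h3.trans inf_le_right)))))
theorem comp : ∃ L, M.Comp L := by
  obtain ⟨L, h1, -, h2, h3, h4⟩ := M.exists_L1 R.hq R.covU
  exact ⟨L, h1, h2, h3, h4.resolve_right fun e => R.q_ne e.1⟩
theorem X_le (hL : M.Comp L) : XX β c.s c.t ≤ L := by
  have hf := c.four.symm
  have h1 := (img_le_img_iff R.XH (inf_le_left.trans R.XH)).1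
    (cov_L1 R.hq hL R.XH (le_trans (inf_comm _ _).le (R.normX _ _)) R.root.1 R.root.2).ge
  have h2 := (isProd_sup' (((inf_le_left : _ ⊓ L ≤ _).trans R.XH).trans (ker_nml M.κ).norm)).inf_left
    inf_le_left h1
  rw [← R.XX_idem hf, h2.comm_left_of_cent fun x hx => ?_]
  · exact (comm_mono_left inf_le_right).trans (comm_le_left (zpowers_le.2 (hL.nml.norm hf.t_mem_C)))
  rw [C_zpowers]
  exact R.V0 hf (mem_inf.2 ⟨R.XX_le₁ hf hx.2, M.mem_U (R.XH hx.2) (mem_pre_bot.1 hx.1).2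
    (odd_orderOf (R.oddX hf) hx.2)⟩)
theorem G1 (hf : Four v w) : XX β w v ≤ C[UU v] := by
  obtain ⟨c, M, R, rfl, rfl⟩ := R.tr hf
  obtain ⟨L, hL⟩ := R.comp
  exact (R.X_le hL).trans hL.cent
theorem G5 (hf : Four v w) (hZ : Odd ♯Z) (h1 : Z ≤ C{v}) (h2 : C{v} ⊓ C{w} ≤ N[Z]) :
    ⁅Z, zpowers w⁆ ≤ UU v ∨ XX β w v ≤ Z ∨ XX β (v * w) v ≤ Z := by
  obtain ⟨c, M, R, rfl, rfl⟩ := R.tr hf
  obtain ⟨L, hL⟩ := R.comp
  refine (M.inv_cases R.hq hZ h1 h2).imp_right fun ⟨h3, h4⟩ => ?_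
  have h5 : ⁅Z, zpowers c.s⁆ ≤ Z :=
    comm_le_left (zpowers_le.2 (h2 (mem_inf.2 ⟨hf.s_mem_C, self_mem_C1 _⟩)))
  have h6 := cov_L1 R.hq hL (h5.trans h1) (norm_comm_zp h2 inf_le_right) h3 h4
  obtain ⟨X, -, -, -, h7⟩ := M.exists_roots R.ε_eq
  have h8 : img M.κ (XX β c.s c.t) = img M.κ ⁅Z, zpowers c.s⁆ ∨
      img M.κ (XX β (c.t * c.s) c.t) = img M.κ ⁅Z, zpowers c.s⁆ := by
    have a1 := h7 _ h3 h4
    have a2 := h7 _ R.root.1 R.root.2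
    have a3 := h7 _ R.root' (ap_mem_N M.κ (R.normX _ _ (mem_inf.2 ⟨hf.mul'.t_mem_C, hf.s_mem_C⟩)) hf.s_mem_C)
    have a4 := R.ne'
    grind
  refine h8.imp (fun e => ?_) fun e => ?_
  · exact (le_of_img hL (R.X_le hL) (R.oddX hf.symm) (e.trans h6.symm).le).trans h5
  · exact (le_of_img hL (R.XX_i ▸ cj_le_of_mem_N (R.X_le hL) (hL.nml.norm c.i_mem_H)) (R.oddX hf.mul.symm)
      (e.trans h6.symm).le).trans h5

end RS

end H13.QN
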