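import Mathlib
import Cfsg.Agent.H13.QN6
import Cfsg.Agent.H2.QPure

/-!
# The rooted case: the groups `[O(C(v)), T]` commute and are trivial
-/

set_option autoImplicit false
set_option linter.unusedSectionVars false

namespace H13.QN

open Subgroup H24 H13.Dih H2.QD Cfsg

universe u

variable {G : Type u} [Group G] [Finite G] {c : QC G} {M : Mod c} {p : ℕ} {β : G → Subgroup G}
  {T Z : Subgroup G} {g v w x y : G}

theorem idem_le (hZ : Odd ♯Z) (hv : orderOf v = 2) (hN : v ∈ N[Z]) (h : ⁅Z, zpowers v⁆ ≤ T) :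
    ⁅Z, zpowers v⁆ ≤ ⁅T, zpowers v⁆ := (comm_idem hZ hv hN).ge.trans (comm_mono_left h)

namespace RS

variable (R : RS M p β)
include R

theorem X_not (hf : Four v w) : ¬ XX β v w ≤ C{v} := fun h =>
  R.nfX hf ((R.XX_idem hf).ge.trans ((comm_zp_eq_bot.2 h).le.trans bot_le))
theorem KT (hf : Four v w) : ⁅UU v, V4 v w⁆ = ⁅UU v, zpowers w⁆ := by
  obtain ⟨c, M, R, rfl, rfl⟩ := R.tr hf
  exact c.K_eq
theorem K_le (hf : Four v w) : ⁅UU v, zpowers w⁆ ≤ UU v :=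
  comm_le_left (zpowers_le.2 ((UU_nml v).norm hf.s_mem_C))
theorem K_idem (hf : Four v w) : ⁅⁅UU v, zpowers w⁆, zpowers w⁆ = ⁅UU v, zpowers w⁆ :=
  comm_idem (odd_pcore _) hf.hs ((UU_nml v).norm hf.s_mem_C)
theorem S4 (hf : Four v w) : ⁅UU w, zpowers v⁆ ≤ C[⁅UU v, zpowers w⁆] := by
  have n1 : C{v} ⊓ C{w} ≤ N[C[XX β v w] ⊓ C[XX β w v]] :=
    norm_inf (norm_C (R.normX v w)) (norm_C (inf_comm C{v} C{w} ▸ R.normX w v))
  have hT := le_inf hf.V_le_C hf.V_le_C'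
  have ho : Odd ♯(C[XX β v w] ⊓ C[XX β w v]) := by
    by_contra h
    obtain ⟨c, M, R, rfl, rfl⟩ := R.tr hf
    obtain ⟨x, ⟨h1, h2, h3⟩, h4⟩ := c.mem_T_of_norm (hT.trans n1) h
    rcases hf.mem_V.1 h1 with rfl | rfl | rfl | rfl
    · exact h4 rfl
    · exact R.X_not hf (mem_C_iff_le_C1.1 h2)
    · exact R.X_not hf.symm (mem_C_iff_le_C1.1 h3)
    · exact R.X_not hf fun y hy => hf.C_of_ts' (R.XX_le₂ hf hy) (mem_C_iff_le_C1.1 h2 hy)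
  set Ω := C[XX β v w] ⊓ C[XX β w v]
  have f1 := hf.mul.symm
  have o1 : Odd ♯(Ω ⊓ C{v * w}) := odd_of_le ho inf_le_left
  have n2 : C{v * w} ⊓ C{v} ≤ N[Ω ⊓ C{v * w}] :=
    norm_inf ((inf_comm _ _).le.trans ((four_CT hf).le.trans n1)) (norm_C1 inf_le_left)
  have n3 := n2 (mem_inf.2 ⟨f1.s_mem_C, self_mem_C1 v⟩)
  have h1 : ⁅Ω ⊓ C{v * w}, zpowers v⁆ ≤ UU (v * w) := by
    rcases R.G5 f1 o1 inf_le_right n2 with e | e | e
    · exact e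
    · exact absurd (cents_symm (e.trans (inf_le_left.trans inf_le_right))) (R.NC hf)
    · rw [hf.ts_t, ← hf.comm] at e
      exact absurd (cents_symm (e.trans (inf_le_left.trans inf_le_left))) (R.NC hf.symm)
  have h2 := comm_le_left (zpowers_le.2 n3)
  have h3 : ⁅Ω ⊓ C{v * w}, zpowers v⁆ ≤ C{w} := by
    have := R.G3 hf.symm
    rw [hf.comm] at this
    exact (cents_sup (h2.trans (inf_le_left.trans inf_le_left)) (cents_of_le ((idem_le o1 hf.ht n3 h1).trans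
      (R.KB f1)) (R.XX_le₁ hf.mul'.symm))).trans (C_le_C1 this)
  have h4 : Ω ⊓ C{v * w} ≤ C{v} := by
    rw [← comm_zp_eq_bot, ← comm_idem o1 hf.ht n3, comm_zp_eq_bot]
    exact fun x hx => hf.C_of_ts' (h3 hx) (h2 hx).2
  have k : ∀ {v w}, Four v w → ⁅UU v, zpowers w⁆ ≤ C[XX β v w] ⊓ C[XX β w v] := fun hf =>
    le_inf (cents_of_le (R.KB hf) (R.XX_le₁ hf)) ((R.K_le hf).trans (cents_symm (R.G1 hf)))
  exact cents_of_le (((R.K_idem hf.symm).ge.trans (comm_mono_left ((k hf.symm).trans (inf_comm _ _).le))).trans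
    (gwc ho hf (hT.trans n1) h4).2) ((R.K_idem hf).ge.trans (comm_mono_left (k hf)))
theorem UU_inf (hf : Four v w) : UU v ⊓ UU w = ⊥ := by
  obtain ⟨c, M, R, rfl, rfl⟩ := R.tr hf
  exact R.mc.UU_inf_of R.covU
theorem OO (hf : Four v w) (hK : ⁅UU v, zpowers w⁆ ≠ ⊥) (hT : V4 v w = T) : C{v} ≤ N[𝒪[N[⁅UU v, T⁆]]] ∧
    𝒪[N[⁅UU v, T⁆]] ⊓ C{v} ≤ UU v ∧ UU v ≤ 𝒪[N[⁅UU v, T⁆]] ∧ β v ≤ 𝒪[N[⁅UU v, T⁆]] ∧
    ⁅UU w, T⁆ ≤ 𝒪[N[⁅UU v, T⁆]] := by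
  rw [← hT, R.KT hf, ← Four.V_symm, R.KT hf.symm]
  obtain ⟨c, M, R, rfl, rfl⟩ := R.tr hf
  have n : c.H ≤ N[c.K] := M.H_le c.U_le_NK (le_trans (le_inf c.CT_le_H (c.C_T ▸ C_le_N _)) c.NT_le_NK)
    (R.covU.trans (img_mono _ ((C_anti c.K_le).trans (C_le_N _))))
  obtain ⟨-, h1, h2, -⟩ := R.mc.f2 (R.mc.N_ne_top' hK (odd_of_le c.odd_U c.K_le)) n hK
  exact ⟨n.trans (pcore_nml _ _).norm, pcore_inf_le _ n, h1,
    R.min.str.1.ge.trans ((comm_mono_left ((cents_symm (R.KB hf)).trans (C_le_N _))).trans h2),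
    (R.K_idem hf.symm).ge.trans ((comm_mono_left ((R.S4 hf).trans (C_le_N _))).trans h2)⟩
theorem XK (hK : ∀ v w : G, Four v w → ⁅UU v, zpowers w⁆ ≠ ⊥) (hf : Four v w) (hT : V4 v w = T) :
    XX β (v * w) v ≤ N[⁅UU v, T⁆ ⊔ ⁅UU w, T⁆ ⊔ ⁅UU (v * w), T⁆] := by
  have f1 := hf.mul'.symm
  obtain ⟨a1, a2, -, a3, a4⟩ := R.OO hf (hK _ _ hf) hT
  obtain ⟨b1, b2, -, b3, b4⟩ := R.OO f1 (hK _ _ f1) ((hf.V_eq f1 Four.ts_mem Four.s_mem).trans hT)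
  have k3 := R.KB f1
  rw [← R.KT f1, (hf.V_eq f1 Four.ts_mem Four.s_mem).trans hT] at k3
  set O₁ := 𝒪[N[⁅UU v, T⁆]]
  set O₃ := 𝒪[N[⁅UU (v * w), T⁆]]
  set K := ⁅UU v, T⁆ ⊔ ⁅UU w, T⁆ ⊔ ⁅UU (v * w), T⁆
  have oI : Odd ♯(O₁ ⊓ O₃) := odd_of_le (odd_pcore _) inf_le_left
  have nI : C{v} ⊓ C{w} ≤ N[O₁ ⊓ O₃] :=
    norm_inf (inf_le_left.trans a1) ((four_CT hf).ge.trans (inf_le_right.trans b1))
  have hV := le_inf hf.V_le_C hf.V_le_C'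
  have zv : zpowers v ≤ T := zpowers_le.2 (hT ▸ Four.t_mem)
  have n : ∀ a ∈ V4 v w, C{v} ⊓ C{w} ≤ N[O₁ ⊓ O₃ ⊓ C{a}] := fun a ha =>
    norm_inf nI (norm_C1 (Four.C_V.ge.trans (C_le_C1 ha)))
  have key : ∀ a ∈ V4 v w, ∀ b ∈ V4 v w, Four a b → ⁅O₁ ⊓ O₃ ⊓ C{a}, zpowers b⁆ ≤ K → O₁ ⊓ O₃ ⊓ C{a} ≤ K :=
    fun a ha b hb f h => by
    rw [← (cent_prod (odd_of_le oI inf_le_left) f.hs (n a ha (hV hb))).sup_eq]
    refine sup_le h (le_trans (fun x hx => (R.UU_inf hf.mul).le ?_) bot_le)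
    have : x ∈ C{v} ⊓ C{w} := by
      rw [← Four.C_V, ← hf.V_eq f ha hb, Four.C_V]
      exact mem_inf.2 ⟨hx.1.2, hx.2⟩
    exact mem_inf.2 ⟨a2 (mem_inf.2 ⟨hx.1.1.1, this.1⟩), b2 (mem_inf.2 ⟨hx.1.1.2, Four.C_mul this.1 this.2⟩)⟩
  have hI : O₁ ⊓ O₃ ≤ K := by
    refine hf.gen oI (hV.trans nI) (key _ Four.t_mem _ Four.s_mem hf ?_) (key _ Four.s_mem _ Four.t_mem hf.symm ?_)
      (key _ Four.ts_mem _ Four.t_mem hf.mul.symm ?_)
    · exact le_sup_of_le_left (le_sup_of_le_left (commutator_mono ((inf_le_inf_right _ inf_le_left).trans a2)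
        (zpowers_le.2 (hT ▸ Four.s_mem))))
    · have g3 := R.G3 hf.symm
      rw [hf.comm] at g3
      have o := odd_of_le oI (inf_le_left (b := C{w}))
      rcases R.G5 hf.symm o inf_le_right (inf_comm C{v} C{w} ▸ n w Four.s_mem) with e | e | e
      · exact le_sup_of_le_left (le_sup_of_le_right ((idem_le o hf.ht (n w Four.s_mem (hV Four.t_mem)) e).trans
          (comm_mono_right zv)))
      · exact absurd (sup_le (e.trans (inf_le_left.trans inf_le_right)) ((R.XX_le₁ f1).trans b3) g3)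
          (not_mem_of_odd (odd_pcore _) hf.hs)
      · rw [hf.comm] at e
        exact absurd (sup_le ((R.XX_le₁ hf).trans a3) (e.trans (inf_le_left.trans inf_le_left)) g3)
          (not_mem_of_odd (odd_pcore _) hf.hs)
    · exact le_sup_of_le_right (commutator_mono ((inf_le_inf_right _ inf_le_right).trans b2) zv)
  have h1 : XX β (v * w) v ≤ C[⁅UU v, T⁆] := cents_of_le (R.G1 hf.mul)
    (comm_le_left (hT ▸ hf.V_le_C.trans (UU_nml v).norm))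
  have h2 := (R.XX_le₁ hf.mul.symm).trans b3
  have h3 : ⁅⁅UU w, T⁆, XX β (v * w) v⁆ ≤ K := le_trans (le_inf ((comm_mono_left a4).trans (comm_le_left
    ((R.XX_le₂ hf.mul.symm).trans a1))) (comm_le_of_le b4 h2)) hI
  refine fun x hx => mem_N_of_cj_le ?_
  rw [cj_sup, cj_sup, cj_of_mem_C (h1 hx), cj_of_mem_C (cents_symm k3 (R.XX_le₁ hf.mul.symm hx))]
  refine sup_le (sup_le (le_sup_of_le_left le_sup_left) fun y hy => ?_) le_sup_right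
  obtain ⟨k, hk, rfl⟩ := mem_cj'.1 hy
  have := mul_mem (inv_mem (h3 (commutator_mem_commutator hk hx))) (mem_sup_left (mem_sup_right hk))
  rwa [commutatorElement_def, show (k * x * k⁻¹ * x⁻¹)⁻¹ * k = x * k * x⁻¹ by group] at this
theorem U_le : c.U ≤ C{c.s} := by
  by_contra h
  have hK : ∀ v w : G, Four v w → ⁅UU v, zpowers w⁆ ≠ ⊥ := fun v w hf e => by
    obtain ⟨g, rfl, rfl⟩ := c.exists_four hf
    rw [← UU_cj, ← cj_zpowers, ← cj_comm, cj_eq_bot] at e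
    exact h (comm_zp_eq_bot.1 e)
  have hf := c.four
  have h1 := R.XK hK hf rfl
  have h2 := R.XK hK hf.mul hf.V_mul
  rw [hf.t_ts, sup_right_comm] at h2
  obtain ⟨-, -, a1, -, a2⟩ := R.OO hf (hK _ _ hf) rfl
  obtain ⟨-, -, -, -, a3⟩ := R.OO hf.mul (hK _ _ hf.mul) hf.V_mul
  have h3 := R.mc.zero' (odd_of_le (odd_pcore _) (sup_le (sup_le ((comm_le_left (hf.V_le_C.trans
    (UU_nml _).norm)).trans a1) a2) a3)) (norm_sup (norm_sup (norm_comm_right _ _) (norm_comm_right _ _))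
    (norm_comm_right _ _)) (R.cov.trans (img_mono _ (sup_le h2 h1))) (g := c.ρ) (mem_N_iff_cj.2 (by
      rw [cj_sup, cj_sup, cj_comm, cj_comm, cj_comm, UU_cj, UU_cj, UU_cj, c.rot_ρ.1, c.rot_ρ.2, c.rot_ρ.ts,
        show cj c.ρ (V4 c.t c.s) = V4 c.t c.s from cj_of_mem_N c.rot_ρ.mem_NT]
      ac_rfl)) c.rot_ρ
  exact hK _ _ hf (eq_bot_of_le h3 (le_sup_of_le_left (le_sup_of_le_left (R.KT hf).ge)))

end RS

end H13.QN
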