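import Mathlib
import Cfsg.Prelude.Def_PLocal
import Cfsg.Agent.H13.Basic
import Cfsg.Agent.H22.SylIn

/-!
# Regular `p`-groups
-/

set_option autoImplicit false

namespace H13

open Cfsg Subgroup
open scoped commutatorElement

universe u

variable {G : Type*} [Group G] {p : ℕ}

theorem commutator_closure_le {s : Set G} {N : Subgroup G}
    (hN : closure s ≤ normalizer (N : Set G)) (h : ∀ x ∈ s, ∀ y ∈ s, ⁅x, y⁆ ∈ N) :
    ⁅closure s, closure s⁆ ≤ N := by
  rw [commutator_le]
  intro x hx y hy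
  induction hx, hy using closure_induction₂ with
  | mem x y hx hy => exact h x hx y hy
  | one_left => simp
  | one_right => simp
  | mul_left x y z hx hy hz h1 h2 =>
    have : ⁅x * y, z⁆ = x * ⁅y, z⁆ * x⁻¹ * ⁅x, z⁆ := by simp only [commutatorElement_def]; group
    rw [this]
    exact mul_mem (conj_mem_of_mem_normalizer (hN hx) h2) h1
  | mul_right y z x hy hz hx h1 h2 =>
    have : ⁅x, y * z⁆ = ⁅x, y⁆ * (y * ⁅x, z⁆ * y⁻¹) := by simp only [commutatorElement_def]; group
    rw [this]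
    exact mul_mem h1 (conj_mem_of_mem_normalizer (hN hy) h2)
  | inv_left x y hx hy h1 =>
    have : ⁅x⁻¹, y⁆ = x⁻¹ * ⁅x, y⁆⁻¹ * x := by simp only [commutatorElement_def]; group
    rw [this]
    exact conj_mem_of_mem_normalizer' (hN hx) (inv_mem h1)
  | inv_right x y hx hy h1 =>
    have : ⁅x, y⁻¹⁆ = y⁻¹ * ⁅x, y⁆⁻¹ * y := by simp only [commutatorElement_def]; group
    rw [this]
    exact conj_mem_of_mem_normalizer' (hN hy) (inv_mem h1)

theorem commutator_closure_pair_le {a b : G} {N : Subgroup G}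
    (hN : closure ({a, b} : Set G) ≤ normalizer (N : Set G)) (h : ⁅a, b⁆ ∈ N) :
    ⁅closure ({a, b} : Set G), closure ({a, b} : Set G)⁆ ≤ N := by
  refine commutator_closure_le hN ?_
  rintro x (rfl | rfl) y (rfl | rfl)
  · simp
  · exact h
  · rw [← commutatorElement_inv]; exact inv_mem h
  · simp

theorem left_mem_closure_pair (a b : G) : a ∈ closure ({a, b} : Set G) :=
  subset_closure (by simp)

theorem right_mem_closure_pair (a b : G) : b ∈ closure ({a, b} : Set G) :=
  subset_closure (by simp)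

theorem closure_pair_le {a b : G} {H : Subgroup G} (ha : a ∈ H) (hb : b ∈ H) :
    closure ({a, b} : Set G) ≤ H := by
  rw [closure_le]
  rintro x (rfl | rfl) <;> assumption

/-- a proper subgroup of a nilpotent subgroup `K` lies in a proper subgroup normalized by `K` -/
theorem exists_lt_normalized [Finite G] {H K : Subgroup G} (hK : Group.IsNilpotent K)
    (h : H < K) : ∃ M : Subgroup G, H ≤ M ∧ M < K ∧ K ≤ normalizer (M : Set G) := by
  obtain ⟨M, h1, h2⟩ := Finite.exists_le_maximal (p := fun M : Subgroup G => M < K) h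
  refine ⟨M, h1, h2.prop, ?_⟩
  have h3 := H22.lt_inf_normalizer_of_nilpotent hK h2.prop
  by_contra h4
  have h5 : K ⊓ normalizer (M : Set G) < K := inf_lt_left.2 h4
  exact h3.ne (h2.eq_of_le h5 h3.le)

/-- if `x, y` do not commute, any element `z` of the nilpotent group `⟨x, y⟩` lies in a proper
normal subgroup of it -/
theorem exists_lt_normalized_pair [Finite G] (hG : Group.IsNilpotent G) {x y z : G}
    (hxy : ¬ Commute x y) (hz : z ∈ closure ({x, y} : Set G)) :
    ∃ M : Subgroup G, z ∈ M ∧ M < closure ({x, y} : Set G) ∧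
      closure ({x, y} : Set G) ≤ normalizer (M : Set G) := by
  have h : zpowers z < closure ({x, y} : Set G) := by
    refine lt_of_le_of_ne (zpowers_le.2 hz) fun h => hxy ?_
    exact isMulCommutative_iff_forall_mem.mp (inferInstance : IsMulCommutative (zpowers z))
      x (h ▸ left_mem_closure_pair x y) y (h ▸ right_mem_closure_pair x y)
  obtain ⟨M, h1, h2, h3⟩ := exists_lt_normalized inferInstance h
  exact ⟨M, h1 (mem_zpowers z), h2, h3⟩

theorem pow_mem_powerClosure {n : ℕ} {H : Subgroup G} {x : G} (hx : x ∈ H) :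
    x ^ p ^ n ∈ powerClosure p n H := subset_closure ⟨x, hx, rfl⟩

theorem powerClosure_le_iff {n : ℕ} {H K : Subgroup G} :
    powerClosure p n H ≤ K ↔ ∀ x ∈ H, x ^ p ^ n ∈ K := by
  rw [powerClosure, closure_le]
  exact ⟨fun h x hx => h ⟨x, hx, rfl⟩, by rintro h _ ⟨x, hx, rfl⟩; exact h x hx⟩

theorem powerClosure_le (n : ℕ) (H : Subgroup G) : powerClosure p n H ≤ H :=
  powerClosure_le_iff.2 fun _ hx => pow_mem hx _

theorem powerClosure_mono {n : ℕ} {H K : Subgroup G} (h : H ≤ K) :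
    powerClosure p n H ≤ powerClosure p n K :=
  powerClosure_le_iff.2 fun _ hx => pow_mem_powerClosure (h hx)

theorem map_powerClosure {G' : Type*} [Group G'] (f : G →* G') (n : ℕ) (H : Subgroup G) :
    (powerClosure p n H).map f = powerClosure p n (H.map f) := by
  rw [powerClosure, MonoidHom.map_closure, powerClosure]
  congr 1
  ext y
  constructor
  · rintro ⟨_, ⟨x, hx, rfl⟩, rfl⟩
    exact ⟨f x, ⟨x, hx, rfl⟩, map_pow f x _⟩
  · rintro ⟨_, ⟨x, hx, rfl⟩, rfl⟩
    exact ⟨_, ⟨x, hx, rfl⟩, map_pow f x _⟩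

theorem le_normalizer_powerClosure {n : ℕ} {A H : Subgroup G} (h : A ≤ normalizer (H : Set G)) :
    A ≤ normalizer (powerClosure p n H : Set G) := by
  rw [powerClosure, le_normalizer_closure_iff]
  rintro a ha _ ⟨x, hx, rfl⟩
  rw [← conj_pow]
  exact pow_mem_powerClosure (conj_mem_of_mem_normalizer (h ha) hx)

/-- the regularity condition for the exponent `p ^ n` -/
def RegAt (p n : ℕ) (G : Type*) [Group G] : Prop :=
  ∀ a b : G, ∃ c ∈ powerClosure p n ⁅closure ({a, b} : Set G), closure ({a, b} : Set G)⁆,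
    (a * b) ^ (p ^ n) = a ^ (p ^ n) * b ^ (p ^ n) * c

theorem map_closure_pair {G' : Type*} [Group G'] (f : G →* G') (a b : G) :
    (closure ({a, b} : Set G)).map f = closure {f a, f b} := by
  rw [MonoidHom.map_closure, Set.image_pair]

theorem RegAt.of_surjective {G' : Type*} [Group G'] {n : ℕ} (h : RegAt p n G) (f : G →* G')
    (hf : Function.Surjective f) : RegAt p n G' := by
  intro a b
  obtain ⟨a, rfl⟩ := hf a
  obtain ⟨b, rfl⟩ := hf b
  obtain ⟨c, hc, e⟩ := h a b
  refine ⟨f c, ?_, by simpa using congrArg f e⟩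
  rw [← map_closure_pair, ← map_commutator, ← map_powerClosure]
  exact mem_map_of_mem f hc

theorem RegAt.subgroup {n : ℕ} (h : RegAt p n G) (K : Subgroup G) : RegAt p n K := by
  intro a b
  obtain ⟨c, hc, e⟩ := h a b
  have := map_closure_pair K.subtype a b
  simp only [coe_subtype] at this
  rw [← this, ← map_commutator, ← map_powerClosure] at hc
  obtain ⟨c, hc, rfl⟩ := hc
  exact ⟨c, hc, Subtype.ext e⟩

theorem RegAt.pow_eq_of_commutator {n : ℕ} (h : RegAt p n G) {a b : G}
    (hab : ∀ c ∈ ⁅closure ({a, b} : Set G), closure ({a, b} : Set G)⁆, c ^ p ^ n = 1) :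
    (a * b) ^ p ^ n = a ^ p ^ n * b ^ p ^ n := by
  obtain ⟨c, hc, e⟩ := h a b
  have : c = 1 := mem_bot.1 (powerClosure_le_iff.2 (fun x hx => mem_bot.2 (hab x hx)) hc)
  rw [e, this, mul_one]

section Finite

variable [Finite G] [hp : Fact p.Prime]

theorem RegAt.mul_pow_eq_one (hG : IsPGroup p G) (h : RegAt p 1 G) {x y : G} (hx : x ^ p = 1)
    (hy : y ^ p = 1) : (x * y) ^ p = 1 := by
  have key : ∀ H : Subgroup G, ∀ x ∈ H, ∀ y ∈ H, x ^ p = 1 → y ^ p = 1 → (x * y) ^ p = 1 := by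
    intro H
    induction H using WellFoundedLT.induction with | _ H ih => ?_
    intro x hxH y hyH hx hy
    by_cases hc : Commute x y
    · rw [hc.mul_pow, hx, hy, one_mul]
    obtain ⟨M, hxM, hM, hKM⟩ :=
      exists_lt_normalized_pair hG.isNilpotent hc (left_mem_closure_pair x y)
    let O : Subgroup G :=
      { carrier := {m | m ∈ M ∧ m ^ p = 1}
        mul_mem' := fun {a b} ha hb => ⟨mul_mem ha.1 hb.1,
          ih M (hM.trans_le (closure_pair_le hxH hyH)) a ha.1 b hb.1 ha.2 hb.2⟩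
        one_mem' := ⟨one_mem _, one_pow _⟩
        inv_mem' := fun {a} ha => ⟨inv_mem ha.1, by rw [inv_pow, ha.2, inv_one]⟩ }
    have hKO : closure ({x, y} : Set G) ≤ normalizer (O : Set G) := fun g hg =>
      mem_normalizer_of_finite fun m hm =>
        ⟨conj_mem_of_mem_normalizer (hKM hg) hm.1, by rw [conj_pow, hm.2]; group⟩
    have hxO : x ∈ O := ⟨hxM, hx⟩
    have h1 : ⁅x, y⁆ ∈ O := by
      rw [commutatorElement_def, mul_assoc, mul_assoc, ← mul_assoc y]
      exact mul_mem hxO (conj_mem_of_mem_normalizer (hKO (right_mem_closure_pair x y))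
        (inv_mem hxO))
    have h2 := h.pow_eq_of_commutator (a := x) (b := y) fun c hc => by
      rw [pow_one]; exact (commutator_closure_pair_le hKO h1 hc).2
    rwa [pow_one, hx, hy, one_mul] at h2
  exact key ⊤ x trivial y trivial hx hy

/-- the elements of order dividing `p` in a regular `p`-group -/
def RegAt.omega (hG : IsPGroup p G) (h : RegAt p 1 G) : Subgroup G where
  carrier := {x | x ^ p = 1}
  mul_mem' := fun ha hb => h.mul_pow_eq_one hG ha hb
  one_mem' := one_pow _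
  inv_mem' := fun {a} ha => by
    have ha : a ^ p = 1 := ha
    change a⁻¹ ^ p = 1
    rw [inv_pow, ha, inv_one]

theorem RegAt.mem_omega (hG : IsPGroup p G) (h : RegAt p 1 G) {x : G} :
    x ∈ h.omega hG ↔ x ^ p = 1 := Iff.rfl

theorem RegAt.omega_normal (hG : IsPGroup p G) (h : RegAt p 1 G) : (h.omega hG).Normal :=
  ⟨fun x hx g => by rw [RegAt.mem_omega] at hx ⊢; rw [conj_pow, hx]; group⟩

theorem RegAt.pow_mul_of_commutator (hG : IsPGroup p G) (h : RegAt p 1 G) {x y : G}
    (hxy : ⁅x, y⁆ ^ p = 1) : (x * y) ^ p = x ^ p * y ^ p := by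
  have := h.omega_normal hG
  have h2 := h.pow_eq_of_commutator (a := x) (b := y) fun c hc => by
    rw [pow_one]
    exact commutator_closure_pair_le (N := h.omega hG) (by rw [normalizer_eq_top]; exact le_top)
      hxy hc
  simpa using h2

theorem RegAt.pow_eq_pow_iff (hG : IsPGroup p G) (h : RegAt p 1 G) {x y : G} :
    x ^ p = y ^ p ↔ (x * y⁻¹) ^ p = 1 := by
  have hn := h.omega_normal hG
  constructor
  · have key : ∀ H : Subgroup G, ∀ x ∈ H, ∀ y ∈ H, x ^ p = y ^ p → (x * y⁻¹) ^ p = 1 := by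
      intro H
      induction H using WellFoundedLT.induction with | _ H ih => ?_
      intro x hxH y hyH hxy
      by_cases hc : Commute x y
      · rw [hc.inv_right.mul_pow, inv_pow, hxy, mul_inv_cancel]
      obtain ⟨M, hxM, hM, hKM⟩ :=
        exists_lt_normalized_pair hG.isNilpotent hc (left_mem_closure_pair x y)
      have h1 := ih M (hM.trans_le (closure_pair_le hxH hyH)) x hxM (y⁻¹ * x * y)
        (conj_mem_of_mem_normalizer' (hKM (right_mem_closure_pair x y)) hxM) (by
          have : (y⁻¹ * x * y) ^ p = y⁻¹ * x ^ p * y := by simpa using conj_pow (a := y⁻¹) (b := x)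
          rw [this, hxy]; group)
      have h2 : ⁅x, y⁻¹⁆ ^ p = 1 := by
        rw [← h1, commutatorElement_def]; congr 1; group
      rw [h.pow_mul_of_commutator hG h2, inv_pow, hxy, mul_inv_cancel]
    exact key ⊤ x trivial y trivial
  · intro hz
    have h1 : ⁅x * y⁻¹, y⁆ ∈ h.omega hG := by
      rw [commutatorElement_def, mul_assoc, mul_assoc, ← mul_assoc y]
      exact mul_mem hz (hn.conj_mem _ (inv_mem hz) y)
    have h2 := h.pow_mul_of_commutator hG h1
    rwa [inv_mul_cancel_right, hz, one_mul] at h2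

end Finite

theorem RegAt.pow_pow_eq_iff_aux [hp : Fact p.Prime] (k : ℕ) :
    ∀ (G : Type u) [Group G] [Finite G], IsPGroup p G → RegAt p 1 G →
      ∀ x y : G, x ^ p ^ k = y ^ p ^ k ↔ (x * y⁻¹) ^ p ^ k = 1 := by
  induction k with
  | zero => intro G _ _ _ _ x y; simp [mul_inv_eq_one]
  | succ k ih =>
    intro G _ _ hG h x y
    have hn := h.omega_normal hG
    have h1 := ih (G ⧸ h.omega hG) (hG.to_quotient _)
      (h.of_surjective _ (QuotientGroup.mk'_surjective _)) x y
    rw [pow_succ, pow_mul, pow_mul, pow_mul, h.pow_eq_pow_iff hG, ← h.mem_omega hG,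
      ← h.mem_omega hG, ← QuotientGroup.eq_one_iff, ← QuotientGroup.eq_one_iff]
    simpa [mul_inv_eq_one] using h1

variable [Finite G] [hp : Fact p.Prime]

theorem RegAt.pow_pow_eq_iff (hG : IsPGroup p G) (h : RegAt p 1 G) (k : ℕ) (x y : G) :
    x ^ p ^ k = y ^ p ^ k ↔ (x * y⁻¹) ^ p ^ k = 1 :=
  RegAt.pow_pow_eq_iff_aux k G hG h x y

theorem RegAt.pow_mul_inv_mem (hG : IsPGroup p G) (h : RegAt p 1 G) {K N : Subgroup G}
    (hKN : K ≤ normalizer (N : Set G)) {k : ℕ} {x y : G} (hx : x ∈ K) (hy : y ∈ K)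
    (hxy : (x * y⁻¹) ^ p ^ k ∈ N) : x ^ p ^ k * (y ^ p ^ k)⁻¹ ∈ N := by
  have hn : (N.subgroupOf K).Normal := normal_subgroupOf_of_le_normalizer hKN
  have h1 := ((h.subgroup K).of_surjective _
    (QuotientGroup.mk'_surjective (N.subgroupOf K))).pow_pow_eq_iff
    ((hG.to_subgroup K).to_quotient _) k (⟨x, hx⟩ : K) (⟨y, hy⟩ : K)
  have h2 : ((⟨x, hx⟩ : K) * (⟨y, hy⟩ : K)⁻¹) ^ p ^ k ∈ N.subgroupOf K := hxy
  rw [← QuotientGroup.eq_one_iff] at h2
  have h3 := h1.2 (by simpa using h2)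
  have h4 : (⟨x, hx⟩ : K) ^ p ^ k * ((⟨y, hy⟩ : K) ^ p ^ k)⁻¹ ∈ N.subgroupOf K := by
    rw [← QuotientGroup.eq_one_iff, QuotientGroup.mk_mul, QuotientGroup.mk_inv,
      QuotientGroup.mk_pow, QuotientGroup.mk_pow, h3, mul_inv_cancel]
  exact h4

theorem RegAt.exists_pow_eq_mul (hG : IsPGroup p G) (h : RegAt p 1 G) (H : Subgroup G) :
    ∀ x ∈ H, ∀ y ∈ H, ∃ w ∈ H, x ^ p * y ^ p = w ^ p := by
  induction H using WellFoundedLT.induction with | _ H ih => ?_
  intro x hxH y hyH
  by_cases hc : Commute x y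
  · exact ⟨x * y, mul_mem hxH hyH, (hc.mul_pow p).symm⟩
  obtain ⟨M, hxM, hM, hKM⟩ := exists_lt_normalized_pair hG.isNilpotent hc
    (mul_mem (left_mem_closure_pair x y) (right_mem_closure_pair x y))
  have hMH := hM.trans_le (closure_pair_le hxH hyH)
  let S : Subgroup G :=
    { carrier := {s | ∃ m ∈ M, s = m ^ p}
      mul_mem' := by
        rintro _ _ ⟨a, ha, rfl⟩ ⟨b, hb, rfl⟩
        exact ih M hMH a ha b hb
      one_mem' := ⟨1, one_mem _, (one_pow _).symm⟩
      inv_mem' := by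
        rintro _ ⟨a, ha, rfl⟩
        exact ⟨a⁻¹, inv_mem ha, (inv_pow _ _).symm⟩ }
  have h1 : ⁅x, y⁆ ∈ M := by
    have : ⁅x, y⁆ = x * y * (x⁻¹ * (x * y) * x)⁻¹ := by rw [commutatorElement_def]; group
    rw [this]
    exact mul_mem hxM (inv_mem
      (conj_mem_of_mem_normalizer' (hKM (left_mem_closure_pair x y)) hxM))
  obtain ⟨c, hc, e⟩ := h x y
  have h2 : c ∈ S := (powerClosure_le_iff (K := S)).2 (fun z hz =>
    ⟨z, commutator_closure_pair_le hKM h1 hz, by rw [pow_one]⟩) hc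
  obtain ⟨w, hw, e'⟩ : (x * y) ^ p * c⁻¹ ∈ S := mul_mem ⟨_, hxM, rfl⟩ (inv_mem h2)
  refine ⟨w, hMH.le hw, ?_⟩
  rw [pow_one] at e
  rw [← e', e, mul_inv_cancel_right]

theorem RegAt.mem_powerClosure_one (hG : IsPGroup p G) (h : RegAt p 1 G) {H : Subgroup G}
    {y : G} : y ∈ powerClosure p 1 H ↔ ∃ x ∈ H, y = x ^ p := by
  let S : Subgroup G :=
    { carrier := {s | ∃ m ∈ H, s = m ^ p}
      mul_mem' := by
        rintro _ _ ⟨a, ha, rfl⟩ ⟨b, hb, rfl⟩
        exact h.exists_pow_eq_mul hG H a ha b hb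
      one_mem' := ⟨1, one_mem _, (one_pow _).symm⟩
      inv_mem' := by
        rintro _ ⟨a, ha, rfl⟩
        exact ⟨a⁻¹, inv_mem ha, (inv_pow _ _).symm⟩ }
  refine ⟨fun hy => (powerClosure_le_iff (K := S)).2 (fun z hz => ⟨z, hz, by rw [pow_one]⟩) hy, ?_⟩
  rintro ⟨x, hx, rfl⟩
  simpa using pow_mem_powerClosure (p := p) (n := 1) hx

theorem RegAt.powerClosure_succ (hG : IsPGroup p G) (h : RegAt p 1 G) (n : ℕ) (H : Subgroup G) :
    powerClosure p (n + 1) H = powerClosure p n (powerClosure p 1 H) := by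
  apply le_antisymm
  · refine powerClosure_le_iff.2 fun x hx => ?_
    rw [pow_succ', pow_mul]
    exact pow_mem_powerClosure ((h.mem_powerClosure_one hG).2 ⟨x, hx, rfl⟩)
  · refine powerClosure_le_iff.2 fun y hy => ?_
    obtain ⟨x, hx, rfl⟩ := (h.mem_powerClosure_one hG).1 hy
    rw [← pow_mul, ← pow_succ']
    exact pow_mem_powerClosure hx

theorem RegAt.mem_powerClosure (hG : IsPGroup p G) (h : RegAt p 1 G) (n : ℕ) :
    ∀ {H : Subgroup G} {y : G}, y ∈ powerClosure p n H ↔ ∃ x ∈ H, y = x ^ p ^ n := by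
  induction n with
  | zero =>
    intro H y
    exact ⟨fun hy => ⟨y, powerClosure_le 0 H hy, by simp⟩,
      by rintro ⟨x, hx, rfl⟩; exact pow_mem_powerClosure hx⟩
  | succ n ih =>
    intro H y
    refine ⟨fun hy => ?_, by rintro ⟨x, hx, rfl⟩; exact pow_mem_powerClosure hx⟩
    rw [h.powerClosure_succ hG, ih] at hy
    obtain ⟨z, hz, rfl⟩ := hy
    obtain ⟨x, hx, rfl⟩ := (h.mem_powerClosure_one hG).1 hz
    exact ⟨x, hx, by rw [← pow_mul, ← pow_succ']⟩

theorem RegAt.commutator_powerClosure_le (hG : IsPGroup p G) (h : RegAt p 1 G) (n : ℕ)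
    (H : Subgroup G) : ⁅H, powerClosure p n H⁆ ≤ powerClosure p n ⁅H, H⁆ := by
  rw [commutator_le]
  intro g hg y hy
  obtain ⟨x, hx, rfl⟩ := (h.mem_powerClosure hG n).1 hy
  have := h.pow_mul_inv_mem hG (K := H) (N := powerClosure p n ⁅H, H⁆) (k := n)
    (le_normalizer_powerClosure (le_normalizer_commutator le_normalizer le_normalizer))
    (mul_mem (mul_mem hg hx) (inv_mem hg)) hx
    (pow_mem_powerClosure (commutator_mem_commutator hg hx))
  rwa [conj_pow] at this

theorem RegAt.regAt (hG : IsPGroup p G) (h : RegAt p 1 G) (n : ℕ) : RegAt p n G := by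
  induction n with
  | zero => intro a b; exact ⟨1, one_mem _, by simp⟩
  | succ n ih =>
    intro a b
    set K := closure ({a, b} : Set G) with hK
    have haK : a ∈ K := left_mem_closure_pair a b
    have hbK : b ∈ K := right_mem_closure_pair a b
    have hKK : K ≤ normalizer ((⁅K, K⁆ : Subgroup G) : Set G) :=
      le_normalizer_commutator le_normalizer le_normalizer
    have hKN : K ≤ normalizer (powerClosure p (n + 1) ⁅K, K⁆ : Set G) :=
      le_normalizer_powerClosure hKK
    obtain ⟨c₀, hc₀, e⟩ := h a b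
    obtain ⟨c, hc, rfl⟩ := (h.mem_powerClosure_one hG).1 hc₀
    rw [pow_one] at e
    have huK : a ^ p * b ^ p ∈ K := mul_mem (pow_mem haK _) (pow_mem hbK _)
    have h1 := h.pow_mul_inv_mem hG hKN (k := n) (x := (a * b) ^ p) (y := a ^ p * b ^ p)
      (pow_mem (mul_mem haK hbK) _) huK (by
        rw [e, ← conj_pow, ← pow_mul, ← pow_succ']
        exact pow_mem_powerClosure (conj_mem_of_mem_normalizer (hKK huK) hc))
    obtain ⟨d, hd, e'⟩ := ih (a ^ p) (b ^ p)
    have h2 : closure ({a ^ p, b ^ p} : Set G) ≤ powerClosure p 1 K :=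
      closure_pair_le ((h.mem_powerClosure_one hG).2 ⟨a, haK, rfl⟩)
        ((h.mem_powerClosure_one hG).2 ⟨b, hbK, rfl⟩)
    have h3 : d ∈ powerClosure p (n + 1) ⁅K, K⁆ := by
      rw [h.powerClosure_succ hG]
      refine powerClosure_mono ?_ hd
      exact (commutator_mono (h2.trans (powerClosure_le 1 K)) h2).trans
        (h.commutator_powerClosure_le hG 1 K)
    rw [e', ← pow_mul, ← pow_mul, ← pow_mul, ← pow_succ'] at h1
    have h4 := conj_mem_of_mem_normalizer'
      (hKN (mul_mem (pow_mem haK (p ^ (n + 1))) (pow_mem hbK (p ^ (n + 1))))) h1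
    refine ⟨_, mul_mem h4 h3, ?_⟩
    group

theorem isRegularPGroup_iff_regAt_one (hG : IsPGroup p G) : IsRegularPGroup p G ↔ RegAt p 1 G :=
  ⟨fun h a b => h.2 a b 1, fun h => ⟨hG, fun a b n => h.regAt hG n a b⟩⟩

theorem isRegularPGroup_iff_first_power (hG : IsPGroup p G) :
    IsRegularPGroup p G ↔ ∀ a b : G, ∃ c ∈ ⁅closure ({a, b} : Set G), closure ({a, b} : Set G)⁆,
      (a * b) ^ p = a ^ p * b ^ p * c ^ p := by
  rw [isRegularPGroup_iff_regAt_one hG]
  constructor
  · intro h a b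
    obtain ⟨c₀, hc₀, e⟩ := h a b
    obtain ⟨c, hc, rfl⟩ := (h.mem_powerClosure_one hG).1 hc₀
    exact ⟨c, hc, by simpa using e⟩
  · intro h a b
    obtain ⟨c, hc, e⟩ := h a b
    exact ⟨c ^ p ^ 1, pow_mem_powerClosure hc, by simpa using e⟩

omit hp in
theorem RegAt.comm_of_two (hG : IsPGroup 2 G) (h : RegAt 2 1 G) (a b : G) : a * b = b * a := by
  set K := closure ({a, b} : Set G) with hK
  have hKN : K ≤ normalizer (powerClosure 2 1 ⁅K, K⁆ : Set G) :=
    le_normalizer_powerClosure (le_normalizer_commutator le_normalizer le_normalizer)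
  have haK : a ∈ K := left_mem_closure_pair a b
  have hbK : b ∈ K := right_mem_closure_pair a b
  obtain ⟨c, hc, e⟩ := h a b
  have h1 : ⁅a, b⁆ = (a * b * b) * c⁻¹ * (a * b * b)⁻¹ := by
    have : c = (a ^ 2 * b ^ 2)⁻¹ * (a * b) ^ 2 := by
      rw [pow_one] at e; rw [e]; group
    rw [this, commutatorElement_def, sq, sq, sq]; group
  have h2 : ⁅K, K⁆ ≤ powerClosure 2 1 ⁅K, K⁆ := commutator_closure_pair_le hKN (by
    rw [h1]
    exact conj_mem_of_mem_normalizer (hKN (mul_mem (mul_mem haK hbK) hbK)) (inv_mem hc))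
  have h3 : ∀ n, ⁅K, K⁆ ≤ powerClosure 2 n ⁅K, K⁆ := by
    intro n
    induction n with
    | zero => exact fun x hx => by simpa using pow_mem_powerClosure (p := 2) (n := 0) hx
    | succ n ih =>
      rw [h.powerClosure_succ hG]
      exact ih.trans (powerClosure_mono h2)
  obtain ⟨n, hn⟩ := IsPGroup.iff_card.mp hG
  have h4 : powerClosure 2 n ⁅K, K⁆ ≤ ⊥ :=
    powerClosure_le_iff.2 fun x _ => by rw [← hn, pow_card_eq_one']; exact one_mem _
  exact commutatorElement_eq_one_iff_mul_comm.mp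
    (mem_bot.1 (h4 (h3 n (commutator_mem_commutator haK hbK))))

end H13
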