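import Mathlib
import Cfsg.Agent.H24.SuEn
import Cfsg.Agent.S1175

/-! The centraliser of the central involution normalises `Q`. -/

set_option autoImplicit false
set_option linter.unusedSectionVars false

namespace H24.Sz

open H26 H26.Gold Subgroup
open H7.SJ (p2 twoG_zp mem_zp cz mem_cz cs_conj cs_sq mem_C_quo gen1 burn_mod odd_le syl_sup)

variable {G : Type*} [Group G] [Finite G] {z z' t : G} {Q T O P A R B M N Z : Subgroup G}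
  {a b e g p u x : G}

theorem cv1 (hp : p ∈ N[Z]) : p⁻¹ * (e * p * e⁻¹) ∈ Z ↔ e * p * e⁻¹ * p⁻¹ ∈ Z := by
  rw [← conj_mem_iff hp, show p * (p⁻¹ * (e * p * e⁻¹)) * p⁻¹ = e * p * e⁻¹ * p⁻¹ by group]

theorem cv2 (hp : p ∈ N[Z]) : p⁻¹ * (e * p * e⁻¹) ∈ Z ↔ p * e * p⁻¹ * e⁻¹ ∈ Z := by
  rw [cv1 hp, ← inv_mem_iff, show (e * p * e⁻¹ * p⁻¹)⁻¹ = p * e * p⁻¹ * e⁻¹ by group]

theorem XN : C{z} ≤ N[zpowers z] := norm_zpowers_of_cent le_rfl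

namespace En

variable (h : En z z' t Q T O P A R)
include h

theorem ZQ : zpowers z ≤ Q := zpowers_le.2 h.zQ

theorem NX : N[zpowers z] ≤ C{z} := fun _ hg => mem_C1_iff_conj.2
  ((mem_zp h.z2 (conj_mem hg (mem_zpowers _))).resolve_left (mt conj_eq_one_iff'.1 h.z1))

theorem zC : z ∈ C[Q] := mem_C_iff_le_C1.2 (h.QT.trans h.Tz)

theorem YX : N[Q] ≤ C{z} := fun _ hg => mem_C1_iff_conj.2
  ((mem_zp h.z2 (h.CQ _ (h.QT (conj_mem hg h.zQ)) (conj_mem (N_le_NC Q hg) h.zC))).resolve_left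
    (mt conj_eq_one_iff'.1 h.z1))

theorem sylX : Syl 2 C{z} T := h.syl.of_le h.Tz le_top
theorem sylY : Syl 2 N[Q] T := h.syl.of_le h.nQ le_top
theorem TN : T ≤ N[zpowers z] := h.Tz.trans XN

theorem sqt (hc : IsConj t u) : u * u = 1 := by
  obtain ⟨g, rfl⟩ := isConj_iff.1 hc
  exact conj_sq h.t2 g

theorem conjY (hu : u ∈ N[Q]) (hc : IsConj t u) : ∃ y ∈ N[Q], u = y * t * y⁻¹ := by
  obtain ⟨m, hm, e1⟩ := Sylow_Jsub p2 h.sylY (twoG_zp (h.sqt hc)) (zpowers_le.2 hu)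
  obtain ⟨y, hy, e2⟩ := h.IY _ (e1 (conj_mem_cj m (mem_zpowers _)))
    (hc.trans (isConj_iff.2 ⟨m, rfl⟩))
  exact ⟨m⁻¹ * y, mul_mem (inv_mem hm) hy, by
    rw [show m⁻¹ * y * t * (m⁻¹ * y)⁻¹ = m⁻¹ * (y * t * y⁻¹) * m by group, ← e2]; group⟩

theorem fix (hu : u ∈ N[Q]) (hc : IsConj t u) (hg : g ∈ C{z}) (e : g * u * g⁻¹ ∈ N[Q]) :
    g ∈ N[Q] := by
  obtain ⟨y', hy', e'⟩ := h.conjY e (hc.trans (isConj_iff.2 ⟨g, rfl⟩))
  obtain ⟨y, hy, rfl⟩ := h.conjY hu hc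
  have : y'⁻¹ * g * y ∈ N[Q] := h.Ct (mem_inf.2 ⟨mem_C1_iff_conj.2 (by
    rw [show y'⁻¹ * g * y * t * (y'⁻¹ * g * y)⁻¹ = y'⁻¹ * (g * (y * t * y⁻¹) * g⁻¹) * y' by group,
      e']; group), mul_mem (mul_mem (inv_mem (h.YX hy')) hg) (h.YX hy)⟩)
  exact (mul_mem_cancel_left (inv_mem hy')).1 ((mul_mem_cancel_right hy).1 this)

theorem sc (ha : a ∈ Q) (hg : g ∈ C{z}) (h1 : g * a * g⁻¹ ∈ T) : g * a * g⁻¹ ∈ Q := by
  obtain ⟨u, hu, cu, e1⟩ := h.cm _ h1 (by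
    rw [show g * a * g⁻¹ * (g * a * g⁻¹) = g * (a * a) * g⁻¹ by group]
    exact conj_mem (XN hg) (h.sq a ha))
  obtain ⟨v, hv, cv, e2⟩ := h.cm a (h.QT ha) (h.sq a ha)
  have n := h.TN h1
  have m1 : u ∈ cz (g * a * g⁻¹) (zpowers z) := (mem_cz n).2 ⟨XN (h.YX hu), (cv2 n).2 e1⟩
  have m2 : g * v * g⁻¹ ∈ cz (g * a * g⁻¹) (zpowers z) :=
    (mem_cz n).2 ⟨XN (mul_mem (mul_mem hg (h.YX hv)) (inv_mem hg)), (cv2 n).2 (by
      rw [show g * a * g⁻¹ * (g * v * g⁻¹) * (g * a * g⁻¹)⁻¹ * (g * v * g⁻¹)⁻¹ =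
        g * (a * v * a⁻¹ * v⁻¹) * g⁻¹ by group]
      exact conj_mem (XN hg) e2)⟩
  have CX : cz (g * a * g⁻¹) (zpowers z) ≤ C{z} := fun c hc => h.NX ((mem_cz n).1 hc).1
  obtain ⟨S, hS, h2⟩ := Sylow_superset p2 (twoG_zp (h.sqt cu)) (zpowers_le.2 m1)
  obtain ⟨c, hc, h3⟩ := Sylow_Jsub p2 hS (twoG_zp (conj_sq (h.sqt cv) g)) (zpowers_le.2 m2)
  obtain ⟨k, hk, h4⟩ := Sylow_Jsub p2 h.sylX hS.pi (hS.le.trans CX)
  have k1 : k ∈ N[Q] := h.fix hu cu hk (h.nQ (h4 (conj_mem_cj k (h2 (mem_zpowers u)))))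
  have k2 : k * c * g ∈ N[Q] := h.fix hv cv (mul_mem (mul_mem hk (CX hc)) hg) (h.nQ (h4 (by
    rw [show k * c * g * v * (k * c * g)⁻¹ = k * (c * (g * v * g⁻¹) * c⁻¹) * k⁻¹ by group]
    exact conj_mem_cj k (h3 (conj_mem_cj c (mem_zpowers _))))))
  have k3 := conj_mem (mul_mem (inv_mem k1) k2) ha
  rw [show k⁻¹ * (k * c * g) * a * (k⁻¹ * (k * c * g))⁻¹ =
    g * a * g⁻¹ * ((g * a * g⁻¹)⁻¹ * (c * (g * a * g⁻¹) * c⁻¹)) by group] at k3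
  exact (mul_mem_cancel_right (h.ZQ ((mem_cz n).1 hc).2)).1 k3

theorem OX : Od[C{z}] ≤ C[Q] :=
  (h.omax _ (Od_odd _) (h.Tz.trans (pcore_nml _ _).norm)).trans h.OQ

theorem TO (hB : B ≤ Q) : T ⊓ (Od[C{z}] ⊔ B) ≤ B := fun s hs => by
  obtain ⟨o, ho, b, hb, rfl⟩ := (mem_sup_of_norm' (norm_of_cent (h.OX.trans (C_anti hB)))).1 hs.2
  have := (h.syl.inf_eq_bot (Od_odd C{z})).le
    (mem_inf.2 ⟨(mul_mem_cancel_right (h.QT (hB hb))).1 hs.1, ho⟩)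
  rw [mem_bot.1 this, one_mul]; exact hb

theorem qc (ha : a ∈ Q) (hb : b ∈ Q) : b⁻¹ * (a * b * a⁻¹) ∈ zpowers z := by
  have n := h.QT.trans h.TN
  have ea : EA (quo Q (zpowers z)) := ea_of_sq fun x hx => by
    obtain ⟨a, h1, h2, rfl⟩ := mem_quo.1 hx
    exact (cs_sq h2).2 (h.sq a h1)
  exact (mem_C_quo n (n ha)).1 (ea.le_C (cs_mem_quo ha (n ha))) b hb

theorem zin (hP : P ≤ N[M]) (hz : z ∈ M) (hn : ¬ T ⊓ M ≤ zpowers z) : z' ∈ M := by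
  obtain ⟨x, hx, x1⟩ := exists_ne_one (IsPi.inf_C_ne_bot p2
    ((h.syl.pi.of_le h.PT).quo (zpowers z)) ((h.syl.pi.inf_left M).quo (zpowers z))
    (quo_norm _ (norm_inf (norm_of_le h.PT) hP))
    (mt (quo_eq_bot (inf_le_left.trans h.TN)).1 hn))
  obtain ⟨e, he, n, rfl⟩ := mem_quo.1 hx.1
  rcases h.cP e he.1 fun p hp => (cv1 (h.TN (h.PT hp))).1
    ((mem_C_quo (h.PT.trans h.TN) n).1 hx.2 p hp) with k | k
  exacts [absurd (cs_of_mem k) x1, (mul_mem_cancel_left (mem_inf.1 he).2).1 (zpowers_le.2 hz k)]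

theorem burn (hs : Sbn M C{z}) (hz : z ∈ M) (k : T ⊓ M ≤ zpowers z) : M ≤ Od[M] ⊔ zpowers z :=
  (burn_mod (hs.le.trans XN) (hs.le.trans (C_zpowers z).ge) (hs.hall_inf h.sylX)
    (zpowers_le.2 (mem_inf.2 ⟨h.QT h.zQ, hz⟩)) fun _ hg _ ha =>
      mul_mem (inv_mem (k ha)) (conj_mem (XN (hs.le hg.1)) (k ha))).trans (sup_le_sup_left k _)

theorem zin' (hs : Sbn M C{z}) (hP : P ≤ N[M]) (hz : z ∈ M)
    (hn : ¬ M ≤ Od[C{z}] ⊔ zpowers z) : z' ∈ M :=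
  h.zin hP hz fun k => hn ((h.burn hs hz k).trans (sup_le_sup_right (hs.pcore_le _) _))

theorem QK : ¬ Q ≤ Od[C{z}] ⊔ zpowers z := fun k => by
  have := card_le ((le_inf h.QT k).trans (h.TO h.ZQ))
  rw [h.card, card_zpowers', H6.orderOf_eq_two_of h.z2 h.z1] at this
  omega

theorem case1 (hN : N ⊴ C{z}) (QN : Q ≤ N) (k : N ⊓ T ≤ Q) : C{z} ≤ N[Q] := by
  have hS : Syl 2 N Q := le_antisymm k (le_inf QN h.QT) ▸ h.sylX.inf_nml' hN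
  have RY := h.RT.trans h.nQ
  have n' := h.TN (h.QT h.z'Q)
  have n0 : N ⊓ N[Q] ≤ N[zpowers z] := inf_le_right.trans (h.YX.trans XN)
  have k1 : N ⊓ N[Q] ≤ N[Q] ⊓ cz z' (zpowers z) := by
    refine le_of_quo_le inf_le_right ⟨fun q hq => mem_inf.2 ⟨norm_self Q hq,
      (mem_cz n').2 ⟨h.TN (h.QT hq), h.qc hq h.z'Q⟩⟩, inf_le_left⟩
      (gen1 (A := quo R Q) (ea_of_sq fun x hx => ?_)
        (by rw [card_quo_of_inf RY (by rw [inf_comm, h.RQ])]; exact h.R4)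
        ((isPi_quo_iff inf_le_right).2 (hS.of_le (le_inf QN (norm_self Q)) inf_le_left).idx)
        (quo_norm _ (norm_inf ((h.RT.trans h.Tz).trans hN.norm) (norm_of_le RY)))
        fun r' hr r1 x' hx => ?_)
    · obtain ⟨r, h1, h2, rfl⟩ := mem_quo.1 hx
      exact (cs_sq h2).2 (by rw [h.eaR.sq h1]; exact one_mem _)
    obtain ⟨r, h1, h2, rfl⟩ := mem_quo.1 hr
    obtain ⟨x, h3, h4, rfl⟩ := mem_quo.1 hx.1
    exact cs_mem_quo (mem_inf.2 ⟨h4, (mem_cz n').2 ⟨n0 h3, (cv1 n').2 (h.Rz r h1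
      (fun e => r1 (cs_of_mem (e ▸ one_mem Q))) x h4
      ((cv1 h2).1 ((cs_conj h4 h2 h2).1 (mem_C1_iff_conj.1 hx.2))))⟩⟩) h4
  have k2 : Q ≤ centQ (N ⊓ N[Q]) (zpowers z) := h.genQ _
    (norm_centQ (norm_inf (h.YX.trans hN.norm) (norm_self _)) (h.YX.trans XN))
    ((mem_centQ n0).2 ⟨XN (self_mem_C1 z), fun u hu => by
      rw [commutatorElement_def, ← mem_C1.1 (h.NX (n0 hu))]; simp⟩)
    ((mem_centQ n0).2 ⟨n', fun u hu => (cv2 n').1 ((mem_cz n').1 (k1 hu).2).2⟩)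
  exact hS.norm_of_nml ((burn_mod (hN.le.trans XN) (hN.le.trans (C_zpowers z).ge) hS h.ZQ
    fun g hg a ha => (cv2 (h.TN (h.QT ha))).2 (((mem_centQ n0).1 (k2 ha)).2 g hg)).trans
      (sup_le ((hN.pcore_le _).trans (norm_of_cent h.OX)) (norm_self Q))) hN.norm

theorem case2 (hN : Chief C{z} (Od[C{z}] ⊔ zpowers z) N) (QN : Q ≤ N) (k : P ≤ N) : False := by
  have hS : Syl 2 N (T ⊓ N) := h.sylX.inf_nml hN.nmlU
  have NX := hN.nmlU.le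
  have zK : z ∈ Od[C{z}] ⊔ zpowers z := mem_sup_right (mem_zpowers z)
  have := hN.nml.normal
  let π := QuotientGroup.mk' ((Od[C{z}] ⊔ zpowers z).subgroupOf N)
  have hπ : pre π ⊥ = Od[C{z}] ⊔ zpowers z := by
    rw [pre, MonoidHom.comap_bot, QuotientGroup.ker_mk', map_subgroupOf' hN.le]
  have top : img π N = ⊤ := by
    rw [img_dom, MonoidHom.range_eq_top]; exact QuotientGroup.mk'_surjective _
  have mem : ∀ {x} {A : Subgroup G}, x ∈ N → A ≤ N → z ∈ A → ap π x ∈ img π A →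
      x ∈ Od[C{z}] ⊔ A := fun {x A} hx hA hz e => by
    have : x ∈ pre π (img π A) := mem_pre.2 ⟨hx, e⟩
    rw [pre_img π hA, hπ] at this
    exact sup_le le_sup_right (sup_le_sup_left (zpowers_le.2 hz) _) this
  obtain ⟨d, dQ, dK⟩ := SetLike.not_le_iff_exists.1 h.QK
  have d1 : ap π d ≠ 1 := fun e => dK (hπ.le (mem_pre_bot.2 ⟨QN dQ, e⟩))
  have : Nontrivial (N ⧸ (Od[C{z}] ⊔ zpowers z).subgroupOf N) := ⟨_, _, d1⟩
  have : IsSimpleGroup (N ⧸ (Od[C{z}] ⊔ zpowers z).subgroupOf N) := ⟨fun B hB => by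
    have k1 : pre π B ⊴ N := by simpa [pre_top] using (nml_top B).pre π
    have k2 := img_pre_of_le (f := π) (X := B) (by rw [← img_dom, top]; exact le_top)
    have k3 : Od[C{z}] ⊔ zpowers z ≤ pre π B := hπ.ge.trans (ker_le_pre π B)
    by_cases k4 : pre π B ≤ Od[C{z}] ⊔ zpowers z
    · exact Or.inl (by rw [← k2, img_eq_bot k1.le, hπ]; exact k4)
    have k5 : ∀ g : C{z}, Od[C{z}] ⊔ zpowers z ≤ cj (g : G) (pre π B) := fun g =>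
      (cj_of_mem_N (hN.nmlV.norm g.2)).ge.trans (cj_mono _ k3)
    have k6 : (⨅ g : C{z}, cj (g : G) (pre π B)) ≤ pre π B :=
      (iInf_le _ 1).trans (by simp)
    have k7 : C{z} ≤ N[⨅ g : C{z}, cj (g : G) (pre π B)] := le_N_iff.2 fun a ha x hx =>
      mem_iInf.2 fun g => by
        have := mem_iInf.1 hx ⟨a⁻¹ * g, mul_mem (inv_mem ha) g.2⟩
        rw [mem_cj] at this ⊢
        simpa [mul_assoc] using this
    rcases hN.max _ (le_iInf k5) (k6.trans k1.le) k7 with e | e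
    · refine absurd (e ▸ h.genQ _ (h.YX.trans k7) (le_iInf k5 zK) (mem_iInf.2 fun g => ?_)) h.QK
      have k8 := k1.cj g
      rw [cj_of_mem_N (hN.nmlU.norm g.2)] at k8
      exact h.zin' (k8.sbn.nml_trans hN.nmlU) (k.trans k8.norm) (k5 g zK) fun e =>
        k4 (cj_le_cj.1 (e.trans (cj_of_mem_N (hN.nmlV.norm g.2)).ge))
    · exact Or.inr (by rw [← k2, le_antisymm k1.le (e.ge.trans k6), top])⟩
  have tT : t ∈ T ⊓ N := mem_inf.2 ⟨h.PT h.tP, k h.tP⟩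
  refine h.tQ (h.TO le_rfl (mem_inf.2 ⟨tT.1, mem tT.2 QN h.zQ (He.gold (top ▸ hS.img π le_rfl)
    (fun e => ?_) (img_mono π (le_inf h.QT QN)) ((abl_img_iff QN).2 (commutator_le.2
      fun a ha b hb => hπ.ge (mem_sup_right ((cv1 (h.TN (h.QT hb))).1 (h.qc ha hb)))))
    (fun a' ha' g' e => ?_) (ap_mem_img π dQ (QN dQ)) d1
    (by
      rw [← ap_mul π (QN dQ) (QN dQ)]
      exact (mem_pre_bot.1 (hπ.ge (mem_sup_right (h.sq d dQ)))).2)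
    (ap_mem_img π tT tT.2) (by rw [← ap_mul π tT.2 tT.2, h.t2, ap_one]))⟩))
  · rw [abl_img_iff inf_le_right, hπ] at e
    rcases h.cP t tT.1 fun p hp => h.TO h.ZQ (mem_inf.2 ⟨mul_mem (mul_mem (mul_mem tT.1 (h.PT hp))
      (inv_mem tT.1)) (inv_mem (h.PT hp)),
      e (commutator_mem_commutator tT (mem_inf.2 ⟨h.PT hp, k hp⟩))⟩) with e | e
    exacts [h.tQ (h.ZQ e), h.tQ ((mul_mem_cancel_right h.z'Q).1 (h.ZQ e))]
  obtain ⟨a, ha, -, rfl⟩ := mem_img.1 ha'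
  obtain ⟨g, hg, -, rfl⟩ := mem_img.1 (top ▸ mem_top g' : g' ∈ img π N)
  rw [← ap_conj π hg (QN ha)] at e ⊢
  have k1 := mul_mem (mul_mem hg (QN ha)) (inv_mem hg)
  obtain ⟨m, hm, k2⟩ := Sylow_Jsub p2 (syl_sup (Od_odd C{z}) h.syl.pi
    (h.Tz.trans (pcore_nml _ _).norm)) ((h.syl.pi.piElt (h.QT ha)).conj g).isPi
    (zpowers_le.2 ((sup_le_sup_left inf_le_left _ : Od[C{z}] ⊔ T ⊓ N ≤ Od[C{z}] ⊔ T)
      (mem k1 inf_le_right (mem_inf.2 ⟨h.QT h.zQ, QN h.zQ⟩) e)))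
  have k3 := k2 (conj_mem_cj m (mem_zpowers _))
  have k4 : m ∈ N[Q] := sup_le (norm_of_cent h.OX) h.nQ hm
  have e : m * (g * a * g⁻¹) * m⁻¹ = m * g * a * (m * g)⁻¹ := by group
  refine ap_mem_img π ((conj_mem_iff k4).1 ?_) k1
  rw [e] at k3 ⊢
  exact h.sc ha (mul_mem (h.YX k4) (NX hg)) k3

theorem XY : C{z} ≤ N[Q] := by
  have hK : Od[C{z}] ⊔ zpowers z ⊴ C{z} := (pcore_nml _ _).sup ⟨zpowers_le_C1 z, XN⟩
  obtain ⟨N, hN, -⟩ := exists_chief_above hK (Nml.refl _)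
    (lt_of_le_of_ne hK.le fun e => h.QK ((h.QT.trans h.Tz).trans e.ge))
  have zN : z ∈ N := hN.le (mem_sup_right (mem_zpowers z))
  have n := h.YX.trans hN.nmlU.norm
  have QN : Q ≤ N := h.genQ N n zN
    (h.zin' hN.nmlU.sbn ((h.PT.trans h.Tz).trans hN.nmlU.norm) zN hN.lt.not_ge)
  exact (h.dich N n QN).elim (h.case1 hN.nmlU QN) fun k => (h.case2 hN QN k).elim

theorem CQ_le : C[Q] ≤ Od[C[Q]] ⊔ zpowers z :=
  h.burn (Nml.sbn ⟨(C_le_N Q).trans h.YX, h.XY.trans (N_le_NC Q)⟩) h.zC fun e he => h.CQ e he.1 he.2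

theorem O_eq : O = Od[C[Q]] :=
  have n : T ≤ N[Od[C[Q]]] := norm_pcore _ (h.nQ.trans (N_le_NC Q))
  le_antisymm (odd_le (Od_odd _) (twoG_zp h.z2) ((h.ZQ.trans h.QT).trans n) h.odd
    (h.OQ.trans h.CQ_le)) (h.omax _ (Od_odd _) n)

theorem XO : C{z} ≤ N[O] := h.O_eq ▸ norm_pcore _ (h.XY.trans (N_le_NC Q))

theorem toA (hc : g * z * g⁻¹ ∈ T) : ∃ y ∈ N[Q], y * (g * z * g⁻¹) * y⁻¹ ∈ A := by
  rcases h.zc _ hc (conj_sq h.z2 g) with k | k | ⟨u, k1, k2, k3⟩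
  · exact k
  · exact absurd (k.trans (isConj_iff.2 ⟨g, rfl⟩).symm) h.tz
  obtain ⟨y, hy, e⟩ := h.conjY (u := g⁻¹ * u * g) (h.XY (mem_C1.2 (by
    rw [show g⁻¹ * u * g * z = g⁻¹ * (u * (g * z * g⁻¹)) * g by group, k2]; group)))
    (k1.trans (isConj_iff.2 ⟨g⁻¹, by rw [inv_inv]⟩))
  refine absurd (h.ttz.trans (isConj_iff.2 ⟨g * y, ?_⟩)) k3
  rw [show g * y * (t * z) * (g * y)⁻¹ = g * (y * t * y⁻¹ * (y * z * y⁻¹)) * g⁻¹ by group, ← e,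
    mem_C1_iff_conj.1 (h.YX hy)]
  group

theorem O_bot [IsSimpleGroup G] : O = ⊥ := by
  by_cases e : N[O] = ⊤
  · refine (normalizer_eq_top_iff.1 e).eq_bot_or_eq_top.resolve_right fun e => h.z1 ?_
    exact eq_one_of_odd_sq (h.odd.piElt (e ▸ mem_top _)) h.z2
  have YO := h.YX.trans h.XO
  obtain ⟨S, hS⟩ := h.syl.exists_sylow_top p2
  obtain ⟨H, hH⟩ := Cfsg.Agent.S1175.result N[O] e z (H6.orderOf_eq_two_of h.z2 h.z1)
    (h.XO (self_mem_C1 z)) ⟨S, show z ∈ (S : Subgroup G) from hS ▸ h.QT h.zQ,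
      fun s hs => mem_C1.1 (h.Tz (hS ▸ hs))⟩
    (fun g hg => by
      obtain ⟨m, hm, e1⟩ := Sylow_Jsub p2 (h.syl.of_le (h.Tz.trans h.XO) le_top)
        (twoG_zp (conj_sq h.z2 g)) (zpowers_le.2 hg)
      obtain ⟨y, hy, e2⟩ := h.toA (g := m * g) (by
        rw [show m * g * z * (m * g)⁻¹ = m * (g * z * g⁻¹) * m⁻¹ by group]
        exact e1 (conj_mem_cj m (mem_zpowers _)))
      obtain ⟨c, hc, e3⟩ := h.Az _ e2 (mt conj_eq_one_iff'.1 (mt conj_eq_one_iff'.1 h.z1))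
      have : c⁻¹ * (y * m) * g ∈ N[O] := h.XO (mem_C1_iff_conj.2 (by
        rw [show c⁻¹ * (y * m) * g * z * (c⁻¹ * (y * m) * g)⁻¹ =
          c⁻¹ * (y * (m * g * z * (m * g)⁻¹) * y⁻¹) * c by group, ← e3]; group))
      exact (mul_mem_cancel_left (mul_mem (inv_mem (C_le_N O hc)) (mul_mem (YO hy) hm))).1 this)
    fun g h1 h2 => by
      obtain ⟨m, hm, e1⟩ := Sylow_Jsub p2 h.sylX (twoG_zp (conj_sq h.z2 g))
        (zpowers_le.2 (mem_C1.2 h1.eq.symm))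
      obtain ⟨y, hy, e2⟩ := h.toA (g := m * g) (by
        rw [show m * g * z * (m * g)⁻¹ = m * (g * z * g⁻¹) * m⁻¹ by group]
        exact e1 (conj_mem_cj m (mem_zpowers _)))
      have n := mul_mem (h.YX hy) hm
      have e0 : z * (y * (m * g * z * (m * g)⁻¹) * y⁻¹) =
          y * m * (z * (g * z * g⁻¹)) * (y * m)⁻¹ := by
        nth_rewrite 1 [← mem_C1_iff_conj.1 n]
        group
      obtain ⟨c, hc, e3⟩ := h.Az _ (mul_mem h.zA e2) (by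
        rw [e0]
        exact mt conj_eq_one_iff'.1 fun e => h2 (by
          rw [← inv_eq_of_mul_eq_one_right e, inv_eq_of_mul_eq_one_right h.z2]))
      have e4 : z * (g * z * g⁻¹) = (y * m)⁻¹ * c * z * ((y * m)⁻¹ * c)⁻¹ := by
        rw [show (y * m)⁻¹ * c * z * ((y * m)⁻¹ * c)⁻¹ = (y * m)⁻¹ * (c * z * c⁻¹) * (y * m) by group,
          e3, e0]
        group
      rw [e4, ← cj_C1]
      exact cj_le_of_mem h.XO (mul_mem (inv_mem (h.XO n)) (C_le_N O hc))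
  exact absurd (H6.isConj_of_isStronglyEmbedded hH (H6.orderOf_eq_two_of h.t2
    fun e => h.tQ (e ▸ one_mem Q)) (H6.orderOf_eq_two_of h.z2 h.z1)) h.tz

theorem CQ1 [IsSimpleGroup G] : C[Q] ≤ zpowers z := by
  have := h.CQ_le
  rwa [← h.O_eq, h.O_bot, bot_sup_eq] at this

theorem O2 : O[{2}, C{z}] = Q := by
  have n := h.YX.trans (pcore_nml {2} C{z}).norm
  have k : Q ≤ O[{2}, C{z}] := pcore_max (h.syl.pi.of_le h.QT) ⟨h.QT.trans h.Tz, h.XY⟩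
  have k1 := pcore_le_Hall h.sylX
  exact le_antisymm ((le_inf le_rfl k1).trans
    ((h.dich _ n k).resolve_right fun e => h.nP _ n e k1)) k

end En

end H24.Sz
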