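import Mathlib
import Cfsg.Prelude.Def_Local
import Cfsg.Prelude.Def_PLocal
import Cfsg.Prelude.Def_OddOrderLocal
import Cfsg.Agent.H13.Baer
import Cfsg.Agent.H1.CoprimeAbelian
import Cfsg.Agent.H22.SylIn

/-!
# The Thompson transitivity theorem (Bender's form)
-/

set_option autoImplicit false

namespace H13

open Cfsg Subgroup
open H22 (cj SylIn)
open scoped commutatorElement

variable {G : Type*} [Group G] [Finite G] {p q : ℕ}

/-- `Q` is a maximal `E`-invariant `q`-subgroup. -/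
def MaxInv (q : ℕ) (E Q : Subgroup G) : Prop :=
  IsPGroup q Q ∧ E ≤ normalizer (Q : Set G) ∧
    ∀ R : Subgroup G, IsPGroup q R → E ≤ normalizer (R : Set G) → Q ≤ R → R = Q

theorem exists_maxInv {E R : Subgroup G} (hR : IsPGroup q R) (hER : E ≤ normalizer (R : Set G)) :
    ∃ Q : Subgroup G, MaxInv q E Q ∧ R ≤ Q := by
  obtain ⟨Q, h1, h2⟩ := Finite.exists_le_maximal
    (p := fun Q : Subgroup G => IsPGroup q Q ∧ E ≤ normalizer (Q : Set G)) ⟨hR, hER⟩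
  exact ⟨Q, ⟨h2.prop.1, h2.prop.2, fun T h3 h4 h5 => le_antisymm (h2.le_of_ge ⟨h3, h4⟩ h5) h5⟩, h1⟩

omit [Finite G] in
theorem cj_eq_of_mem_centralizer {E : Subgroup G} {c : G} (hc : c ∈ centralizer (E : Set G)) :
    cj c E = E := H22.cj_eq_iff.mpr (centralizer_le_normalizer _ hc)

omit [Finite G] in
theorem le_normalizer_cj {E Q : Subgroup G} (h : E ≤ normalizer (Q : Set G)) {c : G}
    (hc : c ∈ centralizer (E : Set G)) : E ≤ normalizer (cj c Q : Set G) := by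
  rw [← H22.cj_normalizer, ← cj_eq_of_mem_centralizer hc]
  exact H22.cj_mono h

omit [Finite G] in
theorem MaxInv.cj {E Q : Subgroup G} (h : MaxInv q E Q) {c : G}
    (hc : c ∈ centralizer (E : Set G)) : MaxInv q E (cj c Q) := by
  refine ⟨H22.isPGroup_cj h.1 c, le_normalizer_cj h.2.1 hc, fun R h1 h2 h3 => ?_⟩
  have := h.2.2 (H22.cj c⁻¹ R) (H22.isPGroup_cj h1 _) (le_normalizer_cj h2 (inv_mem hc))
    (H22.cj_le_iff_le_cj_inv.mp h3)
  rw [← this, H22.cj_cj_inv]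

theorem inf_ne_bot_of_cocyclic {E B₁ B₂ : Subgroup G} (hE : IsElementaryAbelian p E)
    (hp : 0 < p) (hcard : p ^ 2 < Nat.card E) (h1 : B₁ ≤ E) (h2 : B₂ ≤ E) {a₁ a₂ : G}
    (ha₁ : a₁ ∈ E) (ha₂ : a₂ ∈ E) (h3 : E ≤ B₁ ⊔ zpowers a₁) (h4 : E ≤ B₂ ⊔ zpowers a₂) :
    B₁ ⊓ B₂ ≠ ⊥ := by
  have hn : ∀ {A B : Subgroup G}, A ≤ E → B ≤ E → A ≤ normalizer (B : Set G) := fun hA hB =>
    le_normalizer_of_le_centralizer fun x hx y hy =>
      isMulCommutative_iff_forall_mem.mp hE.1 y (hB hy) x (hA hx)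
  have key : ∀ {B : Subgroup G} {a : G}, B ≤ E → a ∈ E → E ≤ B ⊔ zpowers a →
      Nat.card E ≤ Nat.card B * p := fun {B a} hB ha h => by
    refine (card_le_of_le h).trans ((Nat.le_of_dvd (Nat.mul_pos Nat.card_pos Nat.card_pos)
      (H2.card_sup_dvd_of_le_normalizer (hn hB (zpowers_le.mpr ha)))).trans ?_)
    rw [Nat.card_zpowers]
    exact Nat.mul_le_mul_left _ (Nat.le_of_dvd hp (orderOf_dvd_of_pow_eq_one (hE.2 a ha)))
  intro h
  have k1 := key h1 ha₁ h3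
  have k2 := key h2 ha₂ h4
  have k3 := H2.card_sup_mul_card_inf (hn h1 h2)
  rw [h, card_bot, mul_one] at k3
  have k4 : Nat.card B₁ * Nat.card B₂ ≤ Nat.card E := k3 ▸ card_le_of_le (sup_le h1 h2)
  have k5 : Nat.card E * Nat.card E ≤ p ^ 2 * Nat.card E :=
    calc Nat.card E * Nat.card E ≤ (Nat.card B₁ * p) * (Nat.card B₂ * p) := Nat.mul_le_mul k1 k2
      _ = p ^ 2 * (Nat.card B₁ * Nat.card B₂) := by ring
      _ ≤ _ := Nat.mul_le_mul_left _ k4
  exact hcard.not_ge (Nat.le_of_mul_le_mul_right k5 Nat.card_pos)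

theorem transitivity_of_key [hp : Fact p.Prime] [Fact q.Prime] (hqp : q ≠ p)
    {E E₀ K : Subgroup G} (hE : IsPGroup p E) (hEc : IsMulCommutative E) (hE₀ : E₀ ≤ E)
    (hE₀e : ∀ x ∈ E₀, x ^ p = 1) (hcard : p ^ 2 < Nat.card E₀)
    (hkey : ∀ e ∈ E, e ≠ 1 → ∃ Y : Subgroup G, (Nat.card Y).Coprime p ∧
      ∀ L : Subgroup G, L ≤ centralizer {e} → (Nat.card L).Coprime p →
        E ≤ normalizer (L : Set G) → L ≤ Y)
    (hK : ∀ c ∈ centralizer (E : Set G), (orderOf c).Coprime p → c ∈ K)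
    (Q₁ Q₂ : Subgroup G) (h₁ : MaxInv q E Q₁) (h₂ : MaxInv q E Q₂) :
    ∃ k ∈ K, Q₂ = cj k Q₁ := by
  induction hn : Nat.card G - Nat.card ↥(Q₁ ⊓ Q₂) using Nat.strong_induction_on
    generalizing Q₁ Q₂ with | _ n ih => ?_
  by_cases h12 : Q₁ ≤ Q₂
  · exact ⟨1, one_mem _, by rw [H22.cj_one]; exact h₁.2.2 _ h₂.1 h₂.2.1 h12⟩
  by_cases h21 : Q₂ ≤ Q₁
  · exact ⟨1, one_mem _, by rw [H22.cj_one]; exact (h₂.2.2 _ h₁.1 h₁.2.1 h21).symm⟩
  set D := Q₁ ⊓ Q₂ with hD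
  have hED : E ≤ normalizer (D : Set G) := le_normalizer_inf h₁.2.1 h₂.2.1
  have hcop : ∀ {R : Subgroup G}, IsPGroup q R → (Nat.card R).Coprime p := fun hR =>
    H2.IsPGroup.card_coprime_of_ne hR hqp
  have hE₀c : IsMulCommutative E₀ := isMulCommutative_of_le hEc hE₀
  have hcopE : ∀ {A R : Subgroup G}, A ≤ E → (Nat.card R).Coprime p →
      (Nat.card A).Coprime (Nat.card R) := fun hA hR =>
    (H1.card_coprime_of_isPGroup (hE.to_le hA) hR).symm
  have step : ∀ Q : Subgroup G, MaxInv q E Q → D < Q → ∃ B ≤ E₀, (∃ a ∈ E₀, E₀ ≤ B ⊔ zpowers a) ∧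
      ¬ Q ⊓ normalizer (D : Set G) ⊓ centralizer (B : Set G) ≤ D := by
    intro Q hQ hDQ
    by_contra hcon
    push Not at hcon
    exact (H22.lt_inf_normalizer hQ.1 hDQ).not_ge (H1.le_of_centralizer_cocyclic_le E₀ _ D
      (hE₀.trans (le_normalizer_inf hQ.2.1 (hED.trans le_normalizer)))
      (hcopE hE₀ (hcop hQ.1.to_inf_left)) hcon)
  obtain ⟨B₁, hB₁, ⟨a₁, ha₁, hB₁'⟩, hL₁⟩ := step Q₁ h₁ (inf_lt_left.mpr h12)
  obtain ⟨B₂, hB₂, ⟨a₂, ha₂, hB₂'⟩, hL₂⟩ := step Q₂ h₂ (inf_lt_right.mpr h21)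
  obtain ⟨⟨e, he⟩, he1⟩ := ne_bot_iff_exists_ne_one.mp (inf_ne_bot_of_cocyclic ⟨hE₀c, hE₀e⟩
    hp.out.pos hcard hB₁ hB₂ ha₁ ha₂ hB₁' hB₂')
  have heE : e ∈ E := hE₀ (hB₁ he.1)
  obtain ⟨Y, hY, hYL⟩ := hkey e heE fun h => he1 (Subtype.ext h)
  have hEe : E ≤ normalizer (centralizer {e} : Set G) :=
    (show E ≤ centralizer {e} from fun x hx => mem_centralizer_singleton_iff.mpr
      (isMulCommutative_iff_forall_mem.mp hEc x hx e heE)).trans le_normalizer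
  set L₁ := Q₁ ⊓ normalizer (D : Set G) ⊓ centralizer {e} with hL₁d
  set L₂ := Q₂ ⊓ normalizer (D : Set G) ⊓ centralizer {e} with hL₂d
  have hEL : ∀ {Q : Subgroup G}, MaxInv q E Q → E ≤ normalizer
      ((Q ⊓ normalizer (D : Set G) ⊓ centralizer {e} : Subgroup G) : Set G) := fun hQ =>
    le_normalizer_inf (le_normalizer_inf hQ.2.1 (hED.trans le_normalizer)) hEe
  have hL₁D : ¬ L₁ ≤ D := fun h => hL₁ ((inf_le_inf_left _ (centralizer_le
    (Set.singleton_subset_iff.mpr he.1))).trans h)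
  have hL₂D : ¬ L₂ ≤ D := fun h => hL₂ ((inf_le_inf_left _ (centralizer_le
    (Set.singleton_subset_iff.mpr he.2))).trans h)
  have hL₁n : L₁ ≤ normalizer (D : Set G) := inf_le_left.trans inf_le_right
  have hL₂n : L₂ ≤ normalizer (D : Set G) := inf_le_left.trans inf_le_right
  set X := L₁ ⊔ L₂ ⊔ D with hX
  have hXc : (Nat.card X).Coprime p := by
    refine Nat.Coprime.coprime_dvd_left (H2.card_sup_dvd_of_le_normalizer (sup_le hL₁n hL₂n))
      (Nat.Coprime.mul_left (Nat.Coprime.coprime_dvd_left (card_dvd_of_le (sup_le ?_ ?_)) hY)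
        (hcop h₁.1.to_inf_left))
    · exact hYL _ inf_le_right (hcop h₁.1.to_inf_left.to_inf_left) (hEL h₁)
    · exact hYL _ inf_le_right (hcop h₂.1.to_inf_left.to_inf_left) (hEL h₂)
  have hEX : E ≤ normalizer (X : Set G) := le_normalizer_sup (le_normalizer_sup (hEL h₁) (hEL h₂)) hED
  have hsol : Group.IsSolvable E ∨ Group.IsSolvable X := Or.inl (H1.solvable_of_isPGroup hE)
  have hM₁ : L₁ ⊔ D ≤ Q₁ := sup_le (inf_le_left.trans inf_le_left) inf_le_left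
  have hM₂ : L₂ ⊔ D ≤ Q₂ := sup_le (inf_le_left.trans inf_le_left) inf_le_right
  obtain ⟨R₁, hR₁, hER₁⟩ := H1.exists_invariant_sylow_le E X hEX (hcopE le_rfl hXc) hsol q (L₁ ⊔ D)
    (sup_le_sup_right le_sup_left _) (h₁.1.to_le hM₁) (le_normalizer_sup (hEL h₁) hED)
  obtain ⟨R₂, hR₂, hER₂⟩ := H1.exists_invariant_sylow_le E X hEX (hcopE le_rfl hXc) hsol q (L₂ ⊔ D)
    (sup_le_sup_right le_sup_right _) (h₂.1.to_le hM₂) (le_normalizer_sup (hEL h₂) hED)
  obtain ⟨c, hcE, hc⟩ := H1.invariant_sylow_conj E X hEX (hcopE le_rfl hXc) hsol q R₁ R₂ hER₁ hER₂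
  have hc' : cj (c : G) ((R₁ : Subgroup X).map X.subtype) = (R₂ : Subgroup X).map X.subtype := by
    rw [← hc]
    exact H1.conj_coe_smul_map_subtype X c R₁
  have hcK : (c : G) ∈ K := hK c hcE (orderOf_coprime_of_mem hXc c.2)
  obtain ⟨Q₃, h₃, hRQ⟩ := exists_maxInv (R₂.isPGroup'.map X.subtype) hER₂
  have lt₁ := H2.card_lt_of_lt (right_lt_sup.mpr hL₁D)
  have lt₂ := H2.card_lt_of_lt (right_lt_sup.mpr hL₂D)
  have le₁ : Nat.card ↥(L₁ ⊔ D) ≤ Nat.card ↥(cj (c : G) Q₁ ⊓ Q₃) := by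
    rw [← H22.card_cj (c : G)]
    exact card_le_of_le (le_inf (H22.cj_mono hM₁) ((H22.cj_mono hR₁).trans (hc'.trans_le hRQ)))
  have le₂ : Nat.card ↥(L₂ ⊔ D) ≤ Nat.card ↥(Q₂ ⊓ Q₃) :=
    card_le_of_le (le_inf hM₂ (hR₂.trans hRQ))
  have b₁ := card_le_card_group (cj (c : G) Q₁ ⊓ Q₃)
  have b₂ := card_le_card_group (Q₂ ⊓ Q₃)
  obtain ⟨k, hk, hk'⟩ := ih _ (by omega) _ _ (h₁.cj hcE) h₃ rfl
  obtain ⟨k', hk'1, hk''⟩ := ih _ (by omega) _ _ h₂ h₃ rfl
  refine ⟨k'⁻¹ * (k * c), mul_mem (inv_mem hk'1) (mul_mem hk hcK), ?_⟩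
  rw [H22.cj_mul, H22.cj_mul, ← hk', hk'', H22.cj_inv_cj]

omit [Finite G] in
theorem commutator_commutator_eq_bot_of_class_le_two {T : Subgroup G} [Group.IsNilpotent T]
    (h : Group.nilpotencyClass T ≤ 2) : ⁅⁅T, T⁆, T⁆ = ⊥ := by
  have h1 := congrArg (map T.subtype) 
    (Subgroup.lowerCentralSeries_eq_bot_iff_nilpotencyClass_le.mpr h)
  rwa [Subgroup.map_bot, Subgroup.lowerCentralSeries_succ, Subgroup.lowerCentralSeries_succ,
    Subgroup.lowerCentralSeries_zero, map_commutator, map_commutator, ← MonoidHom.range_eq_map,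
    range_subtype] at h1

/-- The Thompson–Bender lemma inside a `p`-constrained subgroup. -/
theorem le_map_pPrimeCore_of_invariant [Fact p.Prime]
    (h2 : p = 2 → ∀ T : Subgroup G, IsPGroup p T → ⁅⁅T, T⁆, T⁆ = ⊥) {H E L : Subgroup G}
    (hH : IsPConstrained p H) (hE : IsPGroup p E) (hEH : E ≤ H)
    (hΩ : ∀ x ∈ centralizer (E : Set G), ∀ k : ℕ, x ^ p ^ k = 1 → x ∈ E) (hLH : L ≤ H)
    (hL : (Nat.card L).Coprime p) (hEL : E ≤ normalizer (L : Set G)) :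
    L ≤ (pPrimeCore p H).map H.subtype := by
  have hΩ' : ∀ x ∈ centralizer (E.subgroupOf H : Set H), ∀ k : ℕ, x ^ p ^ k = 1 →
      x ∈ E.subgroupOf H := fun x hx k hk =>
    hΩ x (fun y hy => congrArg Subtype.val (hx ⟨y, hEH hy⟩ hy)) k (congrArg Subtype.val hk)
  have hL' : (Nat.card (L.subgroupOf H)).Coprime p := by rwa [H2.card_subgroupOf_of_le hLH]
  have hEL' : E.subgroupOf H ≤ normalizer (L.subgroupOf H : Set H) := by
    rw [← subgroupOf_normalizer_eq hLH]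
    exact comap_mono hEL
  have key : L.subgroupOf H ≤ pPrimeCore p H := by
    by_cases hp2 : p = 2
    · refine le_pPrimeCore_of_invariant_of_class_two hH (fun T hT => ?_) hE.comap_subtype hΩ' hL' hEL'
      apply map_injective H.subtype_injective
      rw [map_commutator, map_commutator, Subgroup.map_bot]
      exact h2 hp2 _ (hT.map _)
    · exact le_pPrimeCore_of_invariant hp2 hH hE.comap_subtype
        (fun x hx h => hΩ' x hx 1 (by rwa [pow_one])) hL' hEL'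
  exact fun x hx => ⟨⟨x, hLH hx⟩, key hx, rfl⟩

/-- The Thompson transitivity theorem. -/
theorem thompson_transitivity [hp : Fact p.Prime] [Fact q.Prime] (hqp : q ≠ p)
    (hloc : ∀ T : Subgroup G, IsPGroup p T → T ≠ ⊥ → IsPConstrained p (normalizer (T : Set G)))
    (h2 : p = 2 → ∀ T : Subgroup G, IsPGroup p T → ⁅⁅T, T⁆, T⁆ = ⊥)
    {E E₀ : Subgroup G} (hE : IsPGroup p E) (hEc : IsMulCommutative E) (hE₀ : E₀ ≤ E)
    (hE₀e : ∀ x ∈ E₀, x ^ p = 1) (hcard : p ^ 2 < Nat.card E₀)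
    (hΩ : ∀ x ∈ centralizer (E : Set G), ∀ k : ℕ, x ^ p ^ k = 1 → x ∈ E)
    {Q₁ Q₂ : Subgroup G} (h₁ : MaxInv q E Q₁) (h₂ : MaxInv q E Q₂) :
    ∃ k ∈ (pPrimeCore p (centralizer (E : Set G))).map (centralizer (E : Set G)).subtype,
      Q₂ = cj k Q₁ := by
  refine transitivity_of_key hqp hE hEc hE₀ hE₀e hcard (fun e he he1 => ?_)
    (fun c hc hco => ?_) Q₁ Q₂ h₁ h₂
  · have hle : centralizer {e} ≤ normalizer (zpowers e : Set G) := by
      refine le_normalizer_of_le_centralizer ?_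
      rw [zpowers_eq_closure, centralizer_closure]
    refine ⟨(pPrimeCore p (normalizer (zpowers e : Set G))).map (Subgroup.subtype _), ?_,
      fun L h1 h3 h4 => le_map_pPrimeCore_of_invariant h2
        (hloc _ (hE.to_le (zpowers_le.mpr he)) (zpowers_ne_bot.mpr he1)) hE ?_ hΩ (h1.trans hle)
        h3 h4⟩
    · rw [H2.card_map_subtype]
      exact H2.pPrimeCore_coprime p _
    · refine le_trans (fun x hx => mem_centralizer_singleton_iff.mpr ?_) hle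
      exact isMulCommutative_iff_forall_mem.mp hEc x hx e he
  · set C := centralizer (E : Set G) with hC
    have hEC : E ≤ C := le_centralizer_iff_isMulCommutative.mpr hEc
    have hs : SylIn p E C := ⟨hEC, hE, fun R h1 h3 h4 => le_antisymm (fun x hx => by
      obtain ⟨k, hk⟩ := isPGroup_iff_forall_mem.mp h3 x hx
      exact hΩ x (h1 hx) k hk) h4⟩
    have h1 := le_sup_pPrimeCore_of_central (K := (⊤ : Subgroup C)) (Z := E.subgroupOf C)
      hE.comap_subtype (fun x _ y hy => Subtype.ext (x.2 y hy))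
      (by rw [relIndex_top_right]; exact (hp.out.coprime_iff_not_dvd.mpr hs.not_dvd).symm)
    have h3 : IsPGroup p (C ⧸ pPrimeCore p C) := by
      have h4 := (hE.comap_subtype (K := C)).map (QuotientGroup.mk' (pPrimeCore p C))
      have h5 : (E.comap C.subtype).map (QuotientGroup.mk' (pPrimeCore p C)) = ⊤ := by
        rw [← map_top_of_surjective _ (QuotientGroup.mk'_surjective _), ← top_le_iff.mp h1,
          Subgroup.map_sup, QuotientGroup.map_mk'_self, sup_bot_eq]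
        rfl
      rw [h5] at h4
      exact h4.of_equiv topEquiv
    refine ⟨⟨c, hc⟩, (QuotientGroup.eq_one_iff _).mp ?_, rfl⟩
    obtain ⟨k, hk⟩ := h3 (QuotientGroup.mk ⟨c, hc⟩)
    exact eq_one_of_pow_eq_one_of_coprime hk (Nat.Coprime.coprime_dvd_left
      (orderOf_map_dvd (QuotientGroup.mk' _) _) (by simpa using hco))

theorem isPGroup_iff_forall_prime_dvd [hq : Fact q.Prime] {Q : Subgroup G} :
    IsPGroup q Q ↔ ∀ r : ℕ, r.Prime → r ∣ Nat.card Q → r = q := by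
  constructor
  · intro h r hr hd
    obtain ⟨n, hn⟩ := h.exists_card_eq
    exact (Nat.prime_dvd_prime_iff_eq hr hq.out).mp (hr.dvd_of_dvd_pow (hn ▸ hd))
  · intro h
    exact IsPGroup.of_card (Nat.eq_prime_pow_of_unique_prime_dvd Nat.card_pos.ne'
      fun hd hd' => h _ hd hd')

theorem maxInv_of_mem_maxInvSubgroups [Fact q.Prime] {E Q : Subgroup G}
    (h : Q ∈ maxInvSubgroups ⊤ E {q}) : MaxInv q E Q :=
  ⟨isPGroup_iff_forall_prime_dvd.mpr h.1.2.1, h.1.2.2, fun R h1 h2 h3 =>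
    h.2 R ⟨le_top, isPGroup_iff_forall_prime_dvd.mp h1, h2⟩ h3⟩

theorem pPrimeCore_le_piCore [hp : Fact p.Prime] :
    pPrimeCore p G ≤ piCore (primesNotDvd p) G :=
  le_sSup ⟨inferInstance, fun _ hr hd => ⟨hr, fun h => H2.not_dvd_card_pPrimeCore p G
    ((Nat.prime_dvd_prime_iff_eq hr hp.out).mp h ▸ hd)⟩⟩

end H13
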