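import Mathlib
import Cfsg.Prelude.Def_PLocal
import Cfsg.Prelude.Def_Solvable
import Cfsg.Agent.H13.Basic
import Cfsg.Agent.H3.MaxClass
import Cfsg.Agent.H4.Frobenius
import Cfsg.Agent.H26.S01a

/-!
# Uniserial actions, groups of maximal class, invariant complements, Frobenius fixed points
-/

set_option autoImplicit false

namespace H13

open Cfsg Subgroup
open scoped commutatorElement

variable {G : Type*} [Group G] {p : ℕ}

theorem le_normalizer_iterCommutator {A N K : Subgroup G} (hN : A ≤ normalizer (N : Set G))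
    (hK : A ≤ normalizer (K : Set G)) (i : ℕ) :
    A ≤ normalizer (iterCommutator N K i : Set G) := by
  induction i with
  | zero => exact hN
  | succ i ih => exact le_normalizer_commutator ih hK

theorem iterCommutator_succ_le {N K : Subgroup G} (hN : K ≤ normalizer (N : Set G)) (i : ℕ) :
    iterCommutator N K (i + 1) ≤ iterCommutator N K i :=
  le_normalizer_iff_commutator_le_left.mp (le_normalizer_iterCommutator hN le_normalizer i)

theorem iterCommutator_le {N K : Subgroup G} (hN : K ≤ normalizer (N : Set G)) (i : ℕ) :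
    iterCommutator N K i ≤ N := by
  induction i with
  | zero => exact le_rfl
  | succ i ih => exact (iterCommutator_succ_le hN i).trans ih

theorem iterCommutator_mono_right {N K K' : Subgroup G} (h : K ≤ K') (i : ℕ) :
    iterCommutator N K i ≤ iterCommutator N K' i := by
  induction i with
  | zero => exact le_rfl
  | succ i ih => exact commutator_mono ih h

section

variable [Finite G] [hp : Fact p.Prime]

theorem mul_card_iterCommutator_succ_le {N K : Subgroup G} (hN : IsPGroup p N) (hK : IsPGroup p K)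
    (hKN : K ≤ normalizer (N : Set G)) {i : ℕ} (hi : iterCommutator N K i ≠ ⊥) :
    p * Nat.card (iterCommutator N K (i + 1)) ≤ Nat.card (iterCommutator N K i) :=
  H3.mul_card_le_of_lt (hN.to_le (iterCommutator_le hKN i))
    (commutator_lt_of_isPGroup (hN.to_le (iterCommutator_le hKN i)) hK
      (le_normalizer_iterCommutator hKN le_normalizer i) hi)

theorem card_iterCommutator_le {N K : Subgroup G} (hN : IsPGroup p N) (hK : IsPGroup p K)
    (hKN : K ≤ normalizer (N : Set G)) {n : ℕ} (hn : Nat.card N = p ^ n) (i : ℕ) :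
    Nat.card (iterCommutator N K i) ≤ p ^ (n - i) := by
  induction i with
  | zero => exact hn.le
  | succ i ih =>
    by_cases hi : iterCommutator N K i = ⊥
    · have : iterCommutator N K (i + 1) = ⊥ := le_bot_iff.mp (hi ▸ iterCommutator_succ_le hKN i)
      rw [this, card_bot]
      exact Nat.one_le_pow _ _ hp.out.pos
    · have h1 := (mul_card_iterCommutator_succ_le hN hK hKN hi).trans ih
      rcases Nat.eq_zero_or_pos (n - i) with h2 | h2
      · have h3 : 0 < Nat.card (iterCommutator N K (i + 1)) := Nat.card_pos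
        have := hp.out.one_lt
        rw [h2, pow_zero] at h1
        nlinarith
      · rw [show n - i = n - (i + 1) + 1 by omega, pow_succ'] at h1
        exact Nat.le_of_mul_le_mul_left h1 hp.out.pos

theorem le_card_iterCommutator {N K : Subgroup G} (hN : IsPGroup p N) (hK : IsPGroup p K)
    (hKN : K ≤ normalizer (N : Set G)) (j : ℕ) : ∀ i : ℕ, iterCommutator N K (i + j) ≠ ⊥ →
      p ^ (j + 1) ≤ Nat.card (iterCommutator N K i) := by
  induction j with
  | zero =>
    intro i hi
    have := H3.mul_card_le_of_lt (hN.to_le (iterCommutator_le hKN i)) (bot_lt_iff_ne_bot.2 hi)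
    simpa using this
  | succ j ih =>
    intro i hi
    have h1 := ih (i + 1) (by rwa [add_assoc, add_comm 1])
    have h2 : iterCommutator N K i ≠ ⊥ := by
      intro h
      have : iterCommutator N K (i + 1) = ⊥ := le_bot_iff.mp (h ▸ iterCommutator_succ_le hKN i)
      rw [this, card_bot] at h1
      have := Nat.one_lt_pow (n := j + 1) (by omega) hp.out.one_lt
      omega
    calc p ^ (j + 1 + 1) = p * p ^ (j + 1) := pow_succ' _ _
      _ ≤ _ := (Nat.mul_le_mul_left p h1).trans (mul_card_iterCommutator_succ_le hN hK hKN h2)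

theorem uniserial_of_card {N K : Subgroup G} (hN : IsPGroup p N) (hK : IsPGroup p K)
    (hKN : K ≤ normalizer (N : Set G)) {n : ℕ} (hn : Nat.card N = p ^ n)
    (hc : ∀ i, Nat.card (iterCommutator N K i) = p ^ (n - i)) (H : Subgroup G) (hHN : H ≤ N)
    (hKH : K ≤ normalizer (H : Set G)) :
    (∃ i ≤ n, H = iterCommutator N K i) ∧ N ≤ normalizer (H : Set G) := by
  have hnorm : ∀ i, N ≤ normalizer (iterCommutator N K i : Set G) := fun i => by
    have h1 : K ⊔ N ≤ normalizer (N : Set G) := sup_le hKN le_normalizer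
    have h2 : iterCommutator N K i = iterCommutator N (K ⊔ N) i :=
      eq_of_le_of_card_ge (iterCommutator_mono_right le_sup_left i) (by
        rw [hc]
        exact card_iterCommutator_le hN (isPGroup_sup_of_le_normalizer hK hN hKN) h1 hn i)
    rw [h2]
    exact le_normalizer_iterCommutator le_normalizer (le_sup_right.trans le_normalizer) i
  have hbot : iterCommutator N K n = ⊥ := by
    rw [← card_eq_one, hc, Nat.sub_self, pow_zero]
  have key : ∀ j ≤ n, ∀ H : Subgroup G, K ≤ normalizer (H : Set G) → H ≤ iterCommutator N K j →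
      iterCommutator N K j ≤ H ⊔ iterCommutator N K (j + 1) → H = iterCommutator N K j := by
    intro j hj
    induction hj using Nat.decreasingInduction with
    | self => intro H _ h _; rw [hbot] at h ⊢; exact le_bot_iff.mp h
    | of_succ j hj ih =>
      intro H hKH h1 h2
      have h3 : ⁅H, K⁆ = iterCommutator N K (j + 1) := by
        refine ih _ (le_normalizer_commutator hKH le_normalizer) (commutator_mono h1 le_rfl) ?_
        change ⁅iterCommutator N K j, K⁆ ≤ _
        rw [commutator_le]
        intro x hx g hg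
        have hHn := (h1.trans (iterCommutator_le hKN j)).trans (hnorm (j + 1))
        obtain ⟨h, hh, m, hm, rfl⟩ := (mem_sup_of_le_normalizer hHn).1 (h2 hx)
        have : ⁅h * m, g⁆ = h * ⁅m, g⁆ * h⁻¹ * ⁅h, g⁆ := by
          simp only [commutatorElement_def]; group
        rw [this]
        exact mul_mem (mem_sup_right (conj_mem_of_mem_normalizer
          (hnorm (j + 1 + 1) (iterCommutator_le hKN j (h1 hh))) (commutator_mem_commutator hm hg)))
          (mem_sup_left (commutator_mem_commutator hh hg))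
      refine le_antisymm h1 (h2.trans (sup_le le_rfl ?_))
      rw [← h3]
      exact le_normalizer_iff_commutator_le_left.mp hKH
  have main : ∀ j ≤ n, H ≤ iterCommutator N K j → ∃ i ≤ n, H = iterCommutator N K i := by
    intro j hj
    induction hj using Nat.decreasingInduction with
    | self => intro h; exact ⟨n, le_rfl, by rw [hbot] at h ⊢; exact le_bot_iff.mp h⟩
    | of_succ j hj ih =>
      intro h1
      by_cases h2 : H ≤ iterCommutator N K (j + 1)
      · exact ih h2
      refine ⟨j, hj.le, key j hj.le H hKH h1 ?_⟩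
      have h3 : H ⊔ iterCommutator N K (j + 1) ≤ iterCommutator N K j :=
        sup_le h1 (iterCommutator_succ_le hKN j)
      have h4 := H3.mul_card_le_of_lt (hN.to_le (h3.trans (iterCommutator_le hKN j)))
        (right_lt_sup.2 h2)
      refine (eq_of_le_of_card_ge h3 (le_trans ?_ h4)).ge
      rw [hc, hc, show n - j = n - (j + 1) + 1 by omega, pow_succ']
  obtain ⟨i, hi, rfl⟩ := main 0 (Nat.zero_le _) hHN
  exact ⟨⟨i, hi, rfl⟩, hnorm i⟩

theorem uniserial_iff {N K : Subgroup G} (hN : IsPGroup p N) (hK : IsPGroup p K)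
    (hKN : K ≤ normalizer (N : Set G)) (n : ℕ) (hn : Nat.card N = p ^ n) :
    ((∀ H : Subgroup G, H ≤ N → K ≤ normalizer (H : Set G) → H ≠ ⊥ → (⁅H, K⁆).relIndex H = p) ↔
      iterCommutator N K (n - 1) ≠ ⊥ ∨ n = 0) ∧
    ((∀ H : Subgroup G, H ≤ N → K ≤ normalizer (H : Set G) → H ≠ ⊥ → (⁅H, K⁆).relIndex H = p) →
      ∀ H : Subgroup G, H ≤ N → K ≤ normalizer (H : Set G) →
        (∃ i ≤ n, H = iterCommutator N K i) ∧ N ≤ normalizer (H : Set G)) := by
  have h1 : (∀ H : Subgroup G, H ≤ N → K ≤ normalizer (H : Set G) → H ≠ ⊥ →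
      (⁅H, K⁆).relIndex H = p) → ∀ i, Nat.card (iterCommutator N K i) = p ^ (n - i) := by
    intro h i
    induction i with
    | zero => exact hn
    | succ i ih =>
      by_cases hi : iterCommutator N K i = ⊥
      · have : iterCommutator N K (i + 1) = ⊥ := le_bot_iff.mp (hi ▸ iterCommutator_succ_le hKN i)
        rw [hi, card_bot, eq_comm, Nat.pow_eq_one] at ih
        have h2 := hp.out.one_lt
        rw [this, card_bot, show n - (i + 1) = 0 by omega, pow_zero]
      · have h2 := h _ (iterCommutator_le hKN i)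
          (le_normalizer_iterCommutator hKN le_normalizer i) hi
        have h3 := H2.card_mul_relIndex (iterCommutator_succ_le hKN i)
        change (iterCommutator N K (i + 1)).relIndex _ = p at h2
        rw [h2, ih] at h3
        rcases Nat.eq_zero_or_pos (n - i) with h4 | h4
        · rw [h4, pow_zero] at h3
          exact (hp.out.one_lt.ne' (Nat.eq_one_of_mul_eq_one_left h3)).elim
        · rw [show n - i = n - (i + 1) + 1 by omega, pow_succ] at h3
          exact Nat.eq_of_mul_eq_mul_right hp.out.pos h3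
  refine ⟨⟨fun h => ?_, fun h H hHN hKH hH => ?_⟩,
    fun h H hHN hKH => uniserial_of_card hN hK hKN hn (h1 h) H hHN hKH⟩
  · rcases Nat.eq_zero_or_pos n with h2 | h2
    · exact Or.inr h2
    · refine Or.inl fun h3 => ?_
      have h4 := h1 h (n - 1)
      rw [h3, card_bot, show n - (n - 1) = 1 by omega, pow_one] at h4
      exact hp.out.one_lt.ne h4
  · have hc : ∀ i, Nat.card (iterCommutator N K i) = p ^ (n - i) := fun i => by
      refine le_antisymm (card_iterCommutator_le hN hK hKN hn i) ?_
      rcases Nat.eq_zero_or_pos (n - i) with h4 | h4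
      · rw [h4, pow_zero]; exact Nat.card_pos
      · have := le_card_iterCommutator hN hK hKN (n - 1 - i) i (by
          rw [show i + (n - 1 - i) = n - 1 by omega]
          exact h.resolve_right (by omega))
        rwa [show n - 1 - i + 1 = n - i by omega] at this
    obtain ⟨⟨i, hi, rfl⟩, -⟩ := uniserial_of_card hN hK hKN hn hc H hHN hKH
    have h3 := H2.card_mul_relIndex (iterCommutator_succ_le hKN i)
    have h4 : i ≠ n := by
      rintro rfl
      exact hH (by rw [← card_eq_one, hc, Nat.sub_self, pow_zero])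
    rw [hc, hc, show n - i = n - (i + 1) + 1 by omega, pow_succ] at h3
    exact Nat.eq_of_mul_eq_mul_left (pow_pos hp.out.pos _) h3

theorem card_normal_index_prime (hD : (commutator G).index = p ^ 2)
    (hDp : ∀ x : G, x ^ p ∈ commutator G) :
    Nat.card {N : Subgroup G // N.Normal ∧ N.index = p} = p + 1 := by
  classical
  have := Fintype.ofFinite G
  have := Fintype.ofFinite (Subgroup G)
  set D := commutator G with hDdef
  set d := Nat.card D with hd
  have hd0 : 0 < d := Nat.card_pos
  have hG : Nat.card G = d * p ^ 2 := by rw [← D.card_mul_index, hD]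
  have hsup : ∀ x, x ∉ D → Nat.card ↥(zpowers x ⊔ D) = p * d := fun x hx =>
    H2.card_sup_zpowers_of_pow_prime_mem hp.out (by rw [normalizer_eq_top]; trivial) hx (hDp x)
  have hidx : ∀ N : Subgroup G, N.index = p ↔ Nat.card N = p * d := fun N => by
    have h1 := N.card_mul_index
    rw [hG] at h1
    constructor
    · intro h
      rw [h, sq, ← mul_assoc] at h1
      rw [Nat.eq_of_mul_eq_mul_right hp.out.pos h1, mul_comm]
    · intro h
      rw [h, show d * p ^ 2 = p * d * p by ring] at h1
      exact Nat.eq_of_mul_eq_mul_left (Nat.mul_pos hp.out.pos hd0) h1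
  have hcount : ∀ N : Subgroup G, D ≤ N →
      (Finset.univ.filter fun x : G => x ∈ N ∧ x ∉ D).card = Nat.card N - d := fun N hN => by
    have h1 : (Finset.univ.filter fun x : G => x ∈ N ∧ x ∉ D) =
        (Finset.univ.filter fun x : G => x ∈ N) \ (Finset.univ.filter fun x : G => x ∈ D) := by
      ext x; simp
    rw [h1, Finset.card_sdiff_of_subset (by intro x; simpa using @hN x), hd,
      Nat.card_eq_fintype_card, Nat.card_eq_fintype_card, Fintype.card_subtype,
      Fintype.card_subtype]
  have h := Finset.card_eq_sum_card_fiberwise (f := fun x : G => zpowers x ⊔ D)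
    (s := Finset.univ.filter fun x : G => x ∈ (⊤ : Subgroup G) ∧ x ∉ D)
    (t := Finset.univ.filter fun N : Subgroup G => N.Normal ∧ N.index = p) (by
      intro x hx
      simp only [Finset.coe_filter, Finset.mem_univ, true_and, Set.mem_ofPred_eq] at hx ⊢
      exact ⟨Normal.of_commutator_le _ le_sup_right, (hidx _).2 (hsup x hx.2)⟩)
  rw [hcount ⊤ le_top, card_top, hG, Finset.sum_congr rfl (g := fun _ => p * d - d)] at h
  · rw [Finset.sum_const, smul_eq_mul] at h
    rw [Nat.card_eq_fintype_card, Fintype.card_subtype]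
    obtain ⟨q, hq⟩ : ∃ q, p = q + 1 := ⟨p - 1, by have := hp.out.pos; omega⟩
    have hq0 : 0 < q := by have := hp.out.one_lt; omega
    have e1 : d * p ^ 2 - d = (p + 1) * (q * d) := by
      rw [Nat.sub_eq_iff_eq_add (Nat.le_mul_of_pos_right _ (pow_pos hp.out.pos _)), hq]; ring
    have e2 : p * d - d = q * d := by rw [hq, add_mul, one_mul, Nat.add_sub_cancel]
    rw [e1, e2] at h
    exact (Nat.eq_of_mul_eq_mul_right (Nat.mul_pos hq0 hd0) h).symm
  · intro N hN
    simp only [Finset.mem_filter, Finset.mem_univ, true_and] at hN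
    obtain ⟨hNn, hNi⟩ := hN
    have hDN : D ≤ N := by
      rw [hDdef, ← Normal.quotient_commutative_iff_commutator_le]
      exact (isCyclic_of_prime_card (p := p) (by rw [← hNi]; rfl)).isMulCommutative
    rw [← (hidx N).1 hNi, ← hcount N hDN]
    congr 1
    ext x
    simp only [Finset.mem_filter, Finset.mem_univ, true_and, mem_top]
    constructor
    · rintro ⟨h1, rfl⟩
      exact ⟨mem_sup_left (mem_zpowers x), h1⟩
    · rintro ⟨h1, h2⟩
      exact ⟨h2, eq_of_le_of_card_ge (sup_le (zpowers_le.2 h1) hDN)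
        (by rw [hsup x h2, (hidx N).1 hNi])⟩

theorem maxClass_normal_subgroups (n : ℕ) (hG : Nat.card G = p ^ n)
    (hcl : Group.nilpotencyClass G = n - 1) (hn : 3 ≤ n) :
    (∀ (N : Subgroup G) [N.Normal] (r : ℕ), 2 ≤ r → N.index = p ^ r →
      N = (⊤ : Subgroup G).lowerCentralSeries (r - 1)) ∧
    Nat.card {N : Subgroup G // N.Normal ∧ N.index = p} = p + 1 := by
  have hP : IsPGroup p G := IsPGroup.of_card hG
  obtain ⟨h1, h2⟩ := H3.index_commutator_of_maxClass hn hG hcl
  refine ⟨fun N _ r hr hN => ?_,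
    card_normal_index_prime h1 fun x => h2 ▸ H2.IsPGroup.pow_mem_frattini hP x⟩
  have h3 := H2.nilpotencyClass_le_of_card_eq_pow r (G ⧸ N) hN hr
  have := (hP.to_quotient N).isNilpotent
  have h4 : (⊤ : Subgroup G).lowerCentralSeries (r - 1) ≤ N := by
    have h5 := Subgroup.lowerCentralSeries_eq_bot_iff_nilpotencyClass_le.2 h3
    rw [← map_top_of_surjective _ (QuotientGroup.mk'_surjective N), ← map_lowerCentralSeries,
      Subgroup.map_eq_bot_iff, QuotientGroup.ker_mk'] at h5
    exact h5
  have h6 := N.card_mul_index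
  rw [hN, hG] at h6
  have h7 : r ≤ n := (Nat.pow_dvd_pow_iff_le_right hp.out.one_lt).1 (h6 ▸ Dvd.intro_left _ rfl)
  have h8 := H3.pow_le_card_lowerCentralSeries hP (n - r) (r - 1) (by omega)
  refine (eq_of_le_of_card_ge h4 (le_trans (le_of_eq ?_) h8)).symm
  rw [show n = n - r + r by omega, pow_add] at h6
  exact Nat.eq_of_mul_eq_mul_right (pow_pos hp.out.pos _) h6

end

theorem exists_invariant_complement [Finite G] (V A U : Subgroup G) (hVab : IsMulCommutative V)
    (hAV : A ≤ normalizer (V : Set G)) (hcop : (Nat.card A).Coprime (Nat.card V)) (hUV : U ≤ V)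
    (hAU : A ≤ normalizer (U : Set G)) (W : Subgroup G) (hWV : W ≤ V) (hUW : U ⊓ W = ⊥)
    (hUWV : U ⊔ W = V) :
    ∃ W' : Subgroup G, W' ≤ V ∧ A ≤ normalizer (W' : Set G) ∧ U ⊓ W' = ⊥ ∧ U ⊔ W' = V := by
  have hc : ∀ X Y : Subgroup G, X ≤ V → Y ≤ V → X ≤ normalizer (Y : Set G) := fun X Y hX hY =>
    le_normalizer_of_le_centralizer
      (hX.trans ((le_centralizer_iff_isMulCommutative.2 hVab).trans (centralizer_anti hY)))
  have hU : H24.Nml U (V ⊔ A) := ⟨hUV.trans le_sup_left, sup_le (hc _ _ le_rfl hUV) hAU⟩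
  obtain ⟨H, hH⟩ := H26.Gaschutz_split (A := W) hU (isMulCommutative_of_le hVab hUV) le_sup_left
    (by
      rw [sup_comm, H2.relIndex_sup_of_le_normalizer hAV]
      exact (Nat.Coprime.coprime_dvd_right (card_dvd_of_le hUV)
        (Nat.Coprime.coprime_dvd_left (relIndex_dvd_card V A) hcop)).symm)
    ⟨hc _ _ hWV hUV, hUW, hUWV⟩
  have h1 := hH.modl hUV le_sup_left
  refine ⟨H ⊓ V, inf_le_right, ?_, h1.inf, h1.sup⟩
  refine le_sup_right.trans (hH.sup.ge.trans (sup_le (hc _ _ hUV inf_le_right) ?_))
  exact le_normalizer_inf le_normalizer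
    (hH.right_le.trans (sup_le le_normalizer hAV))

theorem prod_eq_one_of_fixed {F V : Type*} [Group F] [CommGroup V] (ρ : F →* MulAut V)
    (S : Subgroup F) [Fintype S] (hS : ∀ v, (∀ s ∈ S, ρ s v = v) → v = 1) (v : V) :
    ∏ s : S, ρ s v = 1 := by
  refine hS _ fun t ht => ?_
  rw [map_prod]
  refine Fintype.prod_equiv (Equiv.mulLeft (⟨t, ht⟩ : S)) _ _ fun s => ?_
  simp

theorem pow_card_kernel_eq_one {F V : Type*} [Group F] [Finite F] [CommGroup V]
    (ρ : F →* MulAut V) (K H : Subgroup F) [hKn : K.Normal] (hKH : IsComplement' K H)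
    (hTI : ∀ g, g ∉ H → ∀ x ∈ H, g * x * g⁻¹ ∈ H → x = 1)
    (hcov : ∀ x, x ∉ K → ∃ g, g⁻¹ * x * g ∈ H)
    (hK : ∀ v, (∀ k ∈ K, ρ k v = v) → v = 1) (hH : ∀ v, (∀ h ∈ H, ρ h v = v) → v = 1) (v : V) :
    v ^ Nat.card K = 1 := by
  classical
  have := Fintype.ofFinite F
  have h1 : ∏ x : F, ρ x v = 1 := by
    have := prod_eq_one_of_fixed ρ ⊤ (fun v h => hK v fun k _ => h k trivial) v
    rw [← this]
    exact (Fintype.prod_equiv topEquiv.toEquiv _ _ fun _ => rfl).symm
  have h2 : ∏ x ∈ Finset.univ.filter (fun x : F => x ∈ K), ρ x v = 1 := by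
    rw [← prod_eq_one_of_fixed ρ K hK v]
    exact Finset.prod_subtype _ (by simp) _
  have h3 : ∏ x ∈ Finset.univ.filter (fun x : F => x ∉ K), ρ x v = 1 := by
    rw [← Finset.prod_filter_mul_prod_filter_not Finset.univ (fun x : F => x ∈ K), h2,
      one_mul] at h1
    exact h1
  have h4 : ∀ k : K, v * ∏ h ∈ Finset.univ.erase (1 : H), ρ (k * h * (k : F)⁻¹) v = 1 := fun k => by
    have := congrArg (ρ k) (prod_eq_one_of_fixed ρ H hH (ρ (k : F)⁻¹ v))
    rw [map_prod, map_one, ← Finset.mul_prod_erase _ _ (Finset.mem_univ (1 : H))] at this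
    simpa using this
  have h5 : ∏ k : K, ∏ h ∈ Finset.univ.erase (1 : H), ρ (k * h * (k : F)⁻¹) v =
      ∏ x ∈ Finset.univ.filter (fun x : F => x ∉ K), ρ x v := by
    rw [← Finset.prod_product']
    refine Finset.prod_bij (fun x _ => (x.1 : F) * x.2 * (x.1 : F)⁻¹) ?_ ?_ ?_ fun _ _ => rfl
    · rintro ⟨k, h⟩ hx
      simp only [Finset.mem_product, Finset.mem_univ, Finset.mem_erase, ne_eq, and_true,
        true_and, Finset.mem_filter] at hx ⊢
      intro h6
      have h7 : (h : F) ∈ K := by simpa [mul_assoc] using hKn.conj_mem _ h6 (k : F)⁻¹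
      exact hx (Subtype.ext (mem_bot.1 (hKH.disjoint.le_bot ⟨h7, h.2⟩)))
    · rintro ⟨k, h⟩ hx ⟨k', h'⟩ - e
      simp only [Finset.mem_product, Finset.mem_univ, Finset.mem_erase, ne_eq, and_true,
        true_and] at hx e
      have e1 : ((k' : F)⁻¹ * k) * h * ((k' : F)⁻¹ * k)⁻¹ = h' := by
        calc _ = (k' : F)⁻¹ * (k * h * (k : F)⁻¹) * k' := by group
          _ = h' := by rw [e]; group
      have e2 : (k' : F)⁻¹ * k ∈ H := by
        by_contra h8
        exact hx (Subtype.ext (hTI _ h8 _ h.2 (e1 ▸ h'.2)))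
      have e3 : (k' : F)⁻¹ * k = 1 :=
        mem_bot.1 (hKH.disjoint.le_bot ⟨K.mul_mem (K.inv_mem k'.2) k.2, e2⟩)
      rw [e3] at e1
      rw [inv_mul_eq_one] at e3
      exact Prod.ext (Subtype.ext e3.symm) (Subtype.ext (by simpa using e1))
    · intro x hx
      simp only [Finset.mem_filter, Finset.mem_univ, true_and] at hx
      obtain ⟨g, hg⟩ := hcov x hx
      obtain ⟨⟨k, h⟩, rfl⟩ := hKH.2 g
      refine ⟨(k, h * ⟨_, hg⟩ * h⁻¹), ?_, ?_⟩
      · simp only [Finset.mem_product, Finset.mem_univ, Finset.mem_erase, ne_eq, and_true,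
          true_and]
        intro h9
        have h10 := congrArg Subtype.val h9
        simp only [MulMemClass.coe_mul, InvMemClass.coe_inv, OneMemClass.coe_one] at h10
        apply hx
        have : x = 1 := by
          calc x = k * (h * (((k : F) * h)⁻¹ * x * (k * h)) * (h : F)⁻¹) * (k : F)⁻¹ := by group
            _ = 1 := by rw [h10]; group
        exact this ▸ one_mem K
      · simp only [MulMemClass.coe_mul, InvMemClass.coe_inv]
        group
  have h6 := Finset.prod_congr (rfl : (Finset.univ : Finset K) = _) fun k _ => h4 k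
  rw [Finset.prod_mul_distrib, h5, h3, mul_one, Finset.prod_const, Finset.prod_const_one,
    Finset.card_univ] at h6
  rwa [Nat.card_eq_fintype_card]

open scoped IsMulCommutative Pointwise in
theorem frobenius_complement_fixed_point [Finite G] (V F : Subgroup G) (hVab : IsMulCommutative V)
    (hV1 : V ≠ ⊥) (hFV : F ≤ normalizer (V : Set G)) (H : Subgroup F)
    (hH : IsFrobeniusComplement H) (hcop : (Nat.card V).Coprime (Nat.card (frobeniusKernel H)))
    (hCK : V ⊓ centralizer (Subtype.val '' frobeniusKernel H : Set G) = ⊥) :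
    V ⊓ centralizer ((H.map F.subtype : Subgroup G) : Set G) ≠ ⊥ := by
  intro hCH
  obtain ⟨K, hK, hKn, hKH⟩ := H4.frobenius_kernel_isFrobeniusComplement H hH
  let ρ : F →* MulAut V := V.normalizerMonoidHom.comp (inclusion hFV)
  have hρ : ∀ (x : F) (v : V), ((ρ x v : V) : G) = x * v * (x : G)⁻¹ := fun _ _ => rfl
  obtain ⟨v, hv⟩ := ne_bot_iff_exists_ne_one.1 hV1
  have h1 := pow_card_kernel_eq_one ρ K H hKH (fun g hg x hx hx' => ?_) (fun x hx => ?_)
    (fun v h => ?_) (fun v h => ?_) v
  · rw [← hK] at hcop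
    exact hv ((powCoprime hcop).injective (by
      rw [powCoprime_apply, powCoprime_apply, one_pow]; exact h1))
  · have h2 : g * x * g⁻¹ ∈ H ⊓ MulAut.conj g • H := ⟨hx', smul_mem_pointwise_smul _ _ _ hx⟩
    rw [hH.2.2 g hg, mem_bot] at h2
    simpa using h2
  · have h2 : x ∉ frobeniusKernel H := hK ▸ hx
    simp only [frobeniusKernel, Set.mem_ofPred_eq, not_or, not_forall, not_not] at h2
    obtain ⟨g, hg⟩ := h2.2
    exact ⟨g, by simpa using mem_pointwise_smul_iff_inv_smul_mem.1 hg⟩
  · refine Subtype.ext (mem_bot.1 (hCK.le ⟨v.2, ?_⟩))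
    rintro _ ⟨k, hk, rfl⟩
    have := congrArg Subtype.val (h k (by rw [← SetLike.mem_coe, hK]; exact hk))
    rw [hρ] at this
    exact mul_inv_eq_iff_eq_mul.1 this
  · refine Subtype.ext (mem_bot.1 (hCH.le ⟨v.2, ?_⟩))
    rintro _ ⟨k, hk, rfl⟩
    have := congrArg Subtype.val (h k hk)
    rw [hρ] at this
    exact mul_inv_eq_iff_eq_mul.1 this

end H13
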