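import Mathlib
import Cfsg.Agent.H13.WType
import Cfsg.Agent.H13.WGen
import Cfsg.Agent.H13.DihCount

/-! Local subgroups covering `C(t) / O(C(t))`. -/

set_option autoImplicit false
set_option linter.unusedSectionVars false
set_option linter.style.haveILetI false

namespace H13.W

open H24 H26 Cfsg Subgroup H13.Dih
open H22 (WR WA Bj hh sw HasOdd)
open scoped commutatorElement

universe u

variable {G : Type u} [Group G] [Finite G] {c : WC G} {M : Mod c} {p : ℕ}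
variable {K L N P X Y : Subgroup G}

/-- `N` contains `S` and covers `H / O` -/
structure Cov (c : WC G) (N : Subgroup G) : Prop where
  S_le : c.S ≤ N
  cov : c.H ≤ (N ⊓ c.H) ⊔ c.O

namespace Cov

theorem mono (h : Cov c N) (hL : N ≤ L) : Cov c L :=
  ⟨h.S_le.trans hL, h.cov.trans (sup_le_sup_right (inf_le_inf_right _ hL) _)⟩

theorem of_H (h : c.H ≤ N) : Cov c N := ⟨c.S_le_H.trans h, (le_inf h le_rfl).trans le_sup_left⟩

theorem E0_le (h : Cov c N) : c.E0 ≤ N := c.E0_le_S.trans h.S_le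
theorem S_le' (h : Cov c N) : c.S ≤ N ⊓ c.H := le_inf h.S_le c.S_le_H
theorem E0_le' (h : Cov c N) : c.E0 ≤ N ⊓ c.H := c.E0_le_S.trans h.S_le'

theorem decomp (h : Cov c N) {x : G} (hx : x ∈ c.H) : ∃ o ∈ c.O, ∃ n ∈ N ⊓ c.H, x = o * n :=
  (mem_sup_of_norm (inf_le_right.trans c.H_le_NO)).1 ((h.cov.trans (sup_comm _ _).le) hx)

theorem le_O (h : Cov c N) (hX : Odd ♯X) (hn : N ⊓ c.H ≤ N[X]) : X ⊓ c.H ≤ c.O :=
  c.le_O_of_cover inf_le_right h.cov (odd_of_le hX inf_le_left) inf_le_right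
    (norm_inf hn (norm_of_le inf_le_right))

theorem core_inf_H (h : Cov c N) : 𝒪[N] ⊓ c.H ≤ c.O :=
  h.le_O (odd_pcore _) (inf_le_left.trans (pcore_nml _ _).norm)

theorem fus (h : Cov c N) : ∃ g ∈ N, g * c.σ * g⁻¹ = c.u := by
  obtain ⟨f, hf, e⟩ := c.exists_fus
  obtain ⟨o, ho, n, hn, rfl⟩ := h.decomp hf
  have hn1 : n ∈ N := hn.1
  obtain ⟨o', ho', e'⟩ := conj_of_coset (odd_of_le c.odd_O (inf_le_left : c.O ⊓ N ≤ _))
    (sq_of c.hu) (sq_of (two_conj c.hσ n)) (mem_inf.2 ⟨by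
      have := mul_mem (inv_mem ho) (conj_mem (c.H_le_NO c.u_mem_H) ho)
      convert this using 1
      nth_rewrite 2 [← e]
      group,
      mul_mem (mul_mem (mul_mem hn1 (h.S_le c.σ_mem_S)) (inv_mem hn1))
        (inv_mem (h.S_le c.u_mem_S))⟩)
  exact ⟨o' * n, mul_mem ho'.2 hn1, by rw [← e']; group⟩

theorem img (h : Cov c N) (M : Mod c) : img M.κ (N ⊓ c.H) = ⊤ :=
  (M.cover_iff inf_le_right (c.Z_le_S.trans h.S_le')).1 h.cov

theorem of_img (M : Mod c) (hS : c.S ≤ N) (h : H24.img M.κ (N ⊓ c.H) = ⊤) : Cov c N :=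
  ⟨hS, (M.cover_iff inf_le_right (c.Z_le_S.trans (le_inf hS c.S_le_H))).2 h⟩

theorem t_mem (h : Cov c N) (M : Mod c) (hq : M.d.N.q ≠ 3) {R : Subgroup G}
    (hR : N ⊓ c.H ≤ N[R]) (h1 : H24.img M.κ R ≠ ⊥) : c.t ∈ R :=
  M.t_mem' hq inf_le_right (h.S_le' c.u_mem_S) h.cov hR h1

end Cov

namespace Hyp

variable (h : Hyp M)
include h

theorem iso (hN : Cov c N) (hO : 𝒪[N] ≠ ⊥) : ∀ x ∈ N, ∃ o ∈ 𝒪[N], o * x ∈ c.H :=
  h.qtype hN.S_le hN.cov hO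

theorem O_inf_le (hN : Cov c N) (hO : 𝒪[N] ≠ ⊥) : c.O ⊓ N ≤ 𝒪[N] :=
  WC.le_core_of_isol (h.iso hN hO) (odd_of_le c.odd_O inf_le_left) inf_le_right
    (norm_inf (inf_le_right.trans c.H_le_NO) (norm_of_le inf_le_left))

theorem comm_t (hN : Cov c N) (hO : 𝒪[N] ≠ ⊥) : ⁅N, zpowers c.t⁆ ≤ 𝒪[N] :=
  WC.comm_isol (h.iso hN hO) (hN.S_le c.t_mem_S)

omit h in
theorem core_N_ne_bot (h1 : X ≠ ⊥) (h2 : Odd ♯X) : 𝒪[N[X]] ≠ ⊥ :=
  ne_bot_of_le h1 (le_O h2 (nml_N X))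

/-- counting the involutions centralising `P` -/
theorem not_syl (hp : p.Prime) (hk : p ∣ c.k) (hP : IsPi {p} P) (hN : Cov c N[P])
    (h1 : P ≤ C{c.t}) (h2 : ¬ P ≤ C{c.u}) : ¬ Syl p 𝒪[N[P]] P := by
  intro hs
  have hO : 𝒪[N[P]] ≠ ⊥ := fun e => h2 (by rw [eq_bot_of_le e hs.le]; exact bot_le)
  have h3 := h.dvd_invol hp hk hP
  have hB : 𝒪[N[P]] ⊓ C[P] ⊴ N[P] := (pcore_nml _ _).inf (C_nml_N P)
  have ht : c.t ∈ C[P] := mem_C_iff_le_C1.2 h1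
  have h4 : {a : G | orderOf a = 2 ∧ a ∈ C[P]} = cl (𝒪[N[P]] ⊓ C[P]) c.t := by
    ext a
    constructor
    · rintro ⟨ha, haP⟩
      have hu : ∀ g ∈ N[P], g * a * g⁻¹ ≠ c.u := fun g hg e =>
        h2 (mem_C_iff_le_C1.1 (e ▸ conj_mem (N_le_NC _ hg) haP))
      obtain ⟨g, hg, e | e | e⟩ := c.invol_cases hN.S_le (C_le_N _ haP) ha
      · obtain ⟨o, ho, e1⟩ := h.iso hN hO _ (inv_mem hg)
        have e2 : a = o⁻¹ * c.t * o := by
          have := mem_C1_iff_conj.1 e1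
          rw [← this, ← e]; group
        obtain ⟨o', ho', e3⟩ := conj_of_coset (odd_of_le (odd_pcore _)
          (inf_le_left : 𝒪[N[P]] ⊓ C[P] ≤ _)) (sq_of c.ht) (sq_of ha)
          (mem_inf.2 ⟨by
            have := mul_mem (inv_mem ho) (conj_mem ((pcore_nml _ _).norm (hN.S_le c.t_mem_S)) ho)
            convert this using 1
            rw [e2]; group, mul_mem haP (inv_mem ht)⟩)
        exact ⟨o'⁻¹, inv_mem ho', by rw [← e3]; group⟩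
      · exact absurd e (hu g hg)
      · obtain ⟨f, hf, e1⟩ := hN.fus
        exact absurd (by rw [← e1, ← e]; group) (hu (f * g) (mul_mem hf hg))
    · rintro ⟨o, ho, rfl⟩
      exact ⟨two_conj c.ht o, mul_mem (mul_mem ho.2 ht) (inv_mem (mem_inf.1 ho).2)⟩
  rw [h4, ncard_cl] at h3
  exact ((hs.inf_nml (hB.of_le inf_le_left (pcore_le _ _))).idx_of_ge
    (inf_le_left.trans h1)).not_dvd' hp rfl h3

/-- the Frattini argument for an `S`-invariant Sylow subgroup of `O(N)` -/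
theorem cov_syl (hp : p.Prime) (hN : Cov c N) (hO : 𝒪[N] ≠ ⊥) (hY : Syl p 𝒪[N] Y)
    (hS : c.S ≤ N[Y]) : Cov c N[Y] := by
  refine ⟨hS, hN.cov.trans (sup_le (fun x hx => ?_) le_sup_right)⟩
  have hK := pcore_nml ({2} : Set ℕ)ᶜ N
  obtain ⟨b, hb, n, hn, rfl⟩ := (Frattini_arg hp hK hY).mul x hx.1
  have hn2 : n ∈ N[Y] := hn.2
  have ht := hS c.t_mem_S
  obtain ⟨o, ho, e⟩ := conj_of_coset (odd_of_le (odd_pcore _) (inf_le_left : 𝒪[N] ⊓ N[Y] ≤ _))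
    (sq_of c.ht) (sq_of (two_conj c.ht n)) (mem_inf.2
      ⟨h.comm_t hN hO (commutator_mem_commutator hn.1 (mem_zpowers _)),
      mul_mem (mul_mem (mul_mem hn2 ht) (inv_mem hn2)) (inv_mem ht)⟩)
  have h1 : o * n ∈ c.H := mem_C1_iff_conj.2 (by
    rw [mul_inv_rev, ← mul_assoc, mul_assoc o, mul_assoc o, e])
  have h2 : b * o⁻¹ ∈ c.O := hN.core_inf_H (mem_inf.2 ⟨mul_mem hb (inv_mem (mem_inf.1 ho).1), by
    have := mul_mem (mem_inf.1 hx).2 (inv_mem h1)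
    convert this using 1; group⟩)
  have := mul_mem (mem_sup_right h2 : _ ∈ (N[Y] ⊓ c.H) ⊔ c.O)
    (mem_sup_left (mem_inf.2 ⟨mul_mem ho.2 hn2, h1⟩))
  convert this using 1; group

end Hyp

namespace WC

variable (c)

/-- a prime dividing `k` -/
theorem not_cent_of_dvd (hp : p.Prime) (hk : p ∣ c.k) (hP : Syl p c.O P) : ¬ P ≤ C{c.u} :=
  fun h => (hP.idx_of_ge (le_inf hP.le h)).not_dvd' hp rfl hk

theorem ne_two_of_dvd (hk : p ∣ c.k) : p ≠ 2 := by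
  rintro rfl
  have h1 : c.k ∣ ♯c.O := relIndex_dvd_card _ _
  exact c.odd_O.not_two_dvd_nat (hk.trans h1)

theorem not_cent_t (hX : Odd ♯X) (ht : c.t ∈ N[X]) (h : ¬ X ≤ C{c.t}) :
    ¬ ⁅X, zpowers c.t⁆ ≤ C{c.t} := fun h1 =>
  h (comm_zp_eq_bot.1 (by rw [← comm_idem hX c.ht ht]; exact comm_zp_eq_bot.2 h1))

theorem inf_u_ne_bot (hX : Odd ♯X) (hS : c.S ≤ N[X]) (h : ¬ X ≤ C{c.t}) :
    X ⊓ C{c.u} ≠ ⊥ ∧ X ⊓ C{c.t * c.u} ≠ ⊥ := by
  have e : cj c.σ (X ⊓ C{c.u}) = X ⊓ C{c.t * c.u} := by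
    rw [cj_inf, cj_C1, c.σ_u, cj_of_mem_N (hS c.σ_mem_S)]
  have h1 : X ⊓ C{c.u} ≠ ⊥ := fun h1 => h (c.four.gen hX (c.V_le_S.trans hS) inf_le_right
    (h1 ▸ bot_le) (by rw [← e, h1, cj_bot]; exact bot_le))
  exact ⟨h1, by rwa [← e, Ne, cj_eq_bot]⟩

end WC

end H13.W
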