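import Mathlib
import Cfsg.Agent.H13.WQ

/-! Case A, the factorisation step. -/

set_option autoImplicit false
set_option linter.unusedSectionVars false
set_option linter.style.haveILetI false

namespace H13.W

open H24 H26 Cfsg Subgroup H13.Dih
open H22 (WR WA Bj hh sw HasOdd)
open scoped commutatorElement

universe u

variable {G : Type u} [Group G] [Finite G] {c : WC G} {M : Mod c} {p : ℕ}
variable {K L N P V X Y : Subgroup G}

namespace WC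

variable (c)

/-- the odd part of `C_L(E0)` -/
def B (L : Subgroup G) : Subgroup G := L ⊓ C[c.E0] ⊓ 𝒪[c.D]

theorem odd_B (L : Subgroup G) : Odd ♯(c.B L) := odd_of_le (odd_pcore _) inf_le_right
theorem B_le (L : Subgroup G) : c.B L ≤ L := inf_le_left.trans inf_le_left
theorem B_le_C (L : Subgroup G) : c.B L ≤ C[c.E0] := inf_le_left.trans inf_le_right
theorem B_le_H (L : Subgroup G) : c.B L ≤ c.H := (c.B_le_C L).trans (c.CE0_le_D.trans c.D_le_H)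
theorem le_B (hX : Odd ♯X) (h1 : X ≤ L) (h2 : X ≤ C[c.E0]) : X ≤ c.B L :=
  le_inf (le_inf h1 h2) (c.le_OD hX (h2.trans c.CE0_le_D))
theorem norm_B (h1 : X ≤ N[L]) (h2 : X ≤ N[c.E0]) : X ≤ N[c.B L] :=
  norm_inf (norm_inf h1 (norm_C h2)) (norm_pcore _ (h2.trans c.NE0_le_ND))

theorem t_mem_der : c.t ∈ ⁅c.S, c.S⁆ := by
  have := commutator_mem_commutator c.u_mem_S c.σ_mem_S
  convert this using 1
  rw [commutatorElement_def, inv_of c.hu, ← c.t_eq_comm]; group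

/-- `t` acts trivially on an `S`-invariant section of prime order -/
theorem comm_t_le (hp : p.Prime) {W : Subgroup G} (hV : IsPi {p} V) (hW : W ⊴ V)
    (h1 : c.S ≤ N[V]) (h2 : c.S ≤ N[W]) (h : W.relIndex V ≤ p) : ⁅V, zpowers c.t⁆ ≤ W := by
  have h3 : Cyc (quo V W) := by
    obtain ⟨k, hk⟩ := (hV.quo W).card_eq_pow hp
    rw [← card_quo hW.norm, hk] at h
    rcases k with _ | _ | k
    · rw [card_eq_one'.1 hk]; exact cyc_bot
    · exact cyc_of_prime (by rw [hk]; simpa using hp)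
    · exfalso
      have := Nat.pow_lt_pow_right hp.one_lt (show 1 < k + 1 + 1 by omega)
      rw [pow_one] at this
      omega
  have h4 := H25.cyc_der1_norm_le_cent h3 (quo_norm W h1)
  rw [← quo_comm h2 h2] at h4
  have h5 := zpowers_le.2 c.t_mem_der
  rw [commC, ← quo_cents (h5.trans ((der1_le _).trans h2)) hW.norm]
  exact (quo_mono W h5).trans h4

end WC

namespace Mod

variable (M)

theorem exists_B (hN : Cov c N) {φ : M.Γ} (h1 : φ ∈ C{M.d.e}) (h2 : Odd (orderOf φ)) :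
    ∃ b ∈ c.B N, ap M.κ b = φ := by
  have h3 : φ ∈ img M.κ (N ⊓ c.H ⊓ C[c.E0]) := by
    rw [M.img_inf_CE0 inf_le_right hN.E0_le', hN.img M, top_inf_eq]; exact h1
  obtain ⟨x, hx, hxH, rfl⟩ := mem_img.1 h3
  have h4 := constt_mem ({2} : Set ℕ)ᶜ hx
  refine ⟨constt {2}ᶜ x, ⟨⟨h4.1.1, h4.2⟩, c.mem_OD (c.CE0_le_D h4.2)
    (piElt_odd.1 (piElt_constt _ _))⟩, ?_⟩
  rw [constt_ap _ _ hxH, constt_eq_self (piElt_odd.2 h2)]

theorem C_le_img_B (hN : Cov c N) : C{M.d.e} ≤ img M.κ (c.B N) ⊔ zpowers M.d.e := by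
  rw [← M.img_E0, ← img_sup _ (c.B_le_H N) c.E0_le_H]
  have h3 : C{M.d.e} ≤ img M.κ (N ⊓ c.H ⊓ C[c.E0]) := by
    rw [M.img_inf_CE0 inf_le_right hN.E0_le', hN.img M, top_inf_eq]
  refine h3.trans (img_mono _ fun x hx => ?_)
  obtain ⟨b, hb, z, hz, rfl⟩ := c.D_sd.isProd.mul x (c.CE0_le_D hx.2)
  refine mul_mem (mem_sup_left ⟨⟨?_, ?_⟩, hb⟩) (mem_sup_right hz)
  · simpa using mul_mem (mem_inf.1 (mem_inf.1 hx).1).1 (inv_mem (hN.E0_le hz))
  · simpa using mul_mem (mem_inf.1 hx).2 (inv_mem (c.abl_E0.le_C hz))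

theorem mem_zpowers_anti {x : G} (hx : x ∈ c.E0) (h : ap M.det x = 1) :
    x ∈ zpowers (c.E.r (1, -1)) := by
  obtain ⟨a, rfl⟩ := c.mem_E0.1 hx
  rw [M.det_r] at h
  exact ((H22.WR.isR_zpowers_anti c.E).r_mem a).2 (H22.mem_Cj_zero.2 (ofAdd_eq_one.1 h))

/-- modulo `t`, the Sylow 2-subgroups of the kernel of the determinant are dihedral -/
theorem cd_range (hN : Cov c N) {K1 : Subgroup G} (hK1 : K1 = N ⊓ c.H ⊓ pre M.det ⊥)
    {A : Type*} [Group A] [Finite A] (α : K1 →* A) (ht : ap α c.t = 1) : CD α.range := by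
  have hn : K1 ⊴ N ⊓ c.H := hK1 ▸ nml_inf_of_norm (inf_le_right.trans (ker_nml _).norm)
  have hd : ∀ x ∈ K1, ap M.det x = 1 := fun x hx => (mem_pre_bot.1 (hK1.le hx).2).2
  have h1 := ((c.S_syl_of hN.S_le').inf_nml hn).img α.rangeRestrict le_rfl
  rw [img_dom, MonoidHom.range_eq_top.2 α.rangeRestrict_surjective] at h1
  have ha : c.E.r (1, -1) ∈ K1 := hK1.ge ⟨hN.E0_le' (c.r_mem _), mem_pre_bot.2
    ⟨c.E0_le_H (c.r_mem _), by rw [M.det_r]; simp⟩⟩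
  have htK : c.t ∈ K1 := hK1.ge ⟨hN.S_le' c.t_mem_S, mem_pre_bot.2
    ⟨c.t_mem_H, by rw [WC.t, M.det_r]; simp [c.hh2]⟩⟩
  have ht' : ap α.rangeRestrict c.t = 1 := by
    rw [ap_of_mem _ htK] at ht ⊢
    exact Subtype.ext ht
  have k1 : ∀ x ∈ c.E0, x ∈ K1 → ap α.rangeRestrict x ∈ zpowers (ap α.rangeRestrict (c.E.r (1, -1))) :=
    fun x hx hxK => by
      rw [← img_zpowers _ ha]
      exact ap_mem_img _ (M.mem_zpowers_anti hx (hd x hxK)) hxK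
  have k2 : ∀ g ∈ img α.rangeRestrict (c.S ⊓ K1), g ∉ zpowers (ap α.rangeRestrict (c.E.r (1, -1))) →
      ∃ b, c.E.s b ∈ K1 ∧ g = ap α.rangeRestrict (c.E.s b) := fun g hg h => by
    obtain ⟨x, hx, hxK, rfl⟩ := mem_img.1 hg
    rcases c.E.cases hx.1 with ⟨b, rfl⟩ | ⟨b, rfl⟩
    · exact absurd (k1 _ (c.r_mem b) hxK) h
    · exact ⟨b, hxK, rfl⟩
  refine cd_of_syl h1 (a := ap α.rangeRestrict (c.E.r (1, -1))) fun g hg h => ?_
  obtain ⟨b, hb, rfl⟩ := k2 g hg h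
  refine ⟨?_, ?_, fun g' hg' h' => ?_⟩
  · have h2 : b.1 + b.2 = hh c.n := by
      have h3 := hd _ hb
      have h4 : c.E.s b = c.E.r b * c.σ := by rw [WC.σ, c.E.r_mul_s, add_zero]
      rw [h4, ap_mul _ (c.E0_le_H (c.r_mem b)) c.σ_mem_H, M.det_r, M.det_σ, ← ofAdd_add,
        ofAdd_eq_one, add_eq_zero_iff_eq_neg, c.nhh] at h3
      exact h3
    rw [← ap_mul _ hb hb, H22.WR.s_mul_self, h2]; exact ht'
  · rw [← ap_conj _ hb ha, ← ap_inv _ ha, c.E.s_conj_r, c.E.r_inv]; simp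
  · obtain ⟨b', hb', rfl⟩ := k2 g' hg' h'
    rw [← ap_mul _ hb hb']
    exact k1 _ (by rw [c.E.s_mul_s]; exact c.r_mem _) (mul_mem hb hb')

/-- quadratic elements of `K` when `t` acts trivially -/
theorem quad_of_t (hp : p.Prime) (h2 : p ≠ 2) (hq : M.d.N.q ≠ 3) (hN : Cov c N)
    (hV : IsElementaryAbelian p V) (hK : N ⊓ c.H ≤ N[V]) (hΦ : img M.κ (N ⊓ c.H ⊓ C[V]) = ⊥)
    (ht : c.t ∈ C[V]) {a : G} (ha : a ∈ N ⊓ c.H) (ho : Odd (orderOf a))
    (h : ⁅⁅V, zpowers a⁆, zpowers a⁆ = ⊥) : ap M.κ a = 1 := by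
  haveI := Fact.mk hp
  have hn : N ⊓ c.H ⊓ pre M.det ⊥ ⊴ N ⊓ c.H := nml_inf_of_norm (inf_le_right.trans (ker_nml _).norm)
  have hK1 := hn.le.trans hK
  have htK : c.t ∈ N ⊓ c.H ⊓ pre M.det ⊥ := ⟨hN.S_le' c.t_mem_S, mem_pre_bot.2
    ⟨c.t_mem_H, by rw [WC.t, M.det_r]; simp [c.hh2]⟩⟩
  obtain ⟨D, hD, haD, hD'⟩ := stab hV hK1 ((M.cd_range hN rfl _ (by
    rw [ap_of_mem _ htK, ← MonoidHom.mem_ker, H12.ker_conjAct']; exact ht)).not_quad h2)
    (mem_inf.2 ⟨ha, mem_pre_bot.2 ⟨ha.2, M.det_odd ha.2 ho⟩⟩) h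
  have hDH : D ≤ c.H := hD.le.trans (hn.le.trans inf_le_right)
  have h3 : IsPi {p} (img M.κ D) := by
    rw [isPi_iff_piElt]
    intro z hz
    obtain ⟨x, hx, hxH, rfl⟩ := mem_img.1 hz
    have h4 := constt_mem ({p} : Set ℕ)ᶜ hx
    have h5 := ap_mem_img M.κ (mem_inf.2 ⟨hn.le (hD.le h4), hD' _ h4 (piElt_constt _ _)⟩) (hDH h4)
    rw [hΦ, mem_bot, constt_ap _ _ hxH, constt_eq_one_iff, compl_compl] at h5
    exact h5
  by_contra h4
  have h5 : img M.κ D ≤ O[{p}, img M.κ (N ⊓ c.H ⊓ pre M.det ⊥)] := pcore_max h3 (hD.img _)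
  haveI := M.img_normal inf_le_right hN.cov hn.norm
  have h6 := M.d.nml_big hq _ (nml_top_iff.1 ((nml_top (img M.κ (N ⊓ c.H ⊓ pre M.det ⊥))).pcore {p}))
    (ne_bot_of_mem (h5 (ap_mem_img _ haD ha.2)) h4)
  have h7 := eq_one_of_odd_of_sq (odd_orderOf (odd_of_pi h2 (pcore_pi _ _)) (h6 M.d.s_mem)) M.d.s_sq
  exact M.d.s_not (h7 ▸ one_mem _)

/-- quadratic elements of `C_K(E0)` induce inner-diagonal automorphisms -/
theorem quad_mem_T (hp : p.Prime) (h2 : p ≠ 2) (hN : Cov c N)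
    (hV : IsElementaryAbelian p V) (hK : N ⊓ c.H ≤ N[V]) (hΦ : img M.κ (N ⊓ c.H ⊓ C[V]) = ⊥)
    {a : G} (ha : a ∈ c.B N) (hap : ap M.κ a ^ p = 1)
    (h : ⁅⁅V, zpowers a⁆, zpowers a⁆ = ⊥) : ap M.κ a ∈ M.d.T := by
  haveI := Fact.mk hp
  by_contra hT
  have hB : c.B N ≤ N ⊓ c.H := le_inf (c.B_le N) (c.B_le_H N)
  have hφ : ap M.κ a ∈ C{M.d.e} := M.κ_D (c.CE0_le_D (c.B_le_C N ha))
  obtain ⟨τ, hτ, h3, h4, h5⟩ := M.d.exists_not_cent c.hn hp h2 hφ hT hap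
  obtain ⟨D, hD, haD, hD'⟩ := stab_odd h2 hV (hB.trans hK) (c.odd_B N) ha h
  obtain ⟨b, hb, rfl⟩ := M.exists_B hN (M.d.T_le_C hτ) h4
  have h6 : ⁅b, a⁆ ∈ D := mul_mem (hD.conj_mem hb haD) (inv_mem haD)
  have h7 := constt_mem ({p} : Set ℕ)ᶜ h6
  have h8 := ap_mem_img M.κ (mem_inf.2 ⟨hB (hD.le h7), hD' _ h7 (piElt_constt _ _)⟩)
    (c.B_le_H N (hD.le h7))
  rw [hΦ, mem_bot, constt_ap _ _ (c.B_le_H N (hD.le h6)), ap_commutator _ (c.B_le_H N hb)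
    (c.B_le_H N ha), constt_eq_self] at h8
  · exact h5 (mem_C1.2 (commutatorElement_eq_one_iff_mul_comm.1 h8))
  · refine h3.of_mem_zpowers ?_
    have := mul_mem (mem_zpowers _) (conj_mem (H25.cyc_N_le M.d.T_cyc (zpowers_le.2 hτ)
      (M.d.C_norm_T c.hn hφ)) (inv_mem (mem_zpowers _)))
    rwa [commutatorElement_def, mul_assoc, mul_assoc, ← mul_assoc (ap M.κ a)]

end Mod

/-- the data for the factorisation step in case A -/
structure FA (c : WC G) (p : ℕ) (Y X : Subgroup G) : Prop where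
  hp : p.Prime
  h2 : p ≠ 2
  pi : IsPi {p} X
  le : Y ≤ X
  norm : X ≤ N[Y]
  S_norm : c.S ≤ N[X]
  cov : Cov c N[Y]
  nt : ¬ Y ≤ C{c.t}
  comm : ⁅X, c.E0⁆ ≤ Y
  inf_O : X ⊓ c.O ≤ Y
  syl : Syl p (c.B N[Y]) (X ⊓ C[c.E0])

namespace FA

variable (f : FA c p Y X) (M)
include f

theorem odd : Odd ♯X := odd_of_pi f.h2 f.pi
theorem E0_norm : c.E0 ≤ N[X] := c.E0_le_S.trans f.S_norm
theorem isProd : IsProd Y (X ⊓ C[c.E0]) X :=
  (cent_prod2 f.odd c.E0_pi f.E0_norm).mono_left f.comm f.le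
theorem X0_le : X ⊓ C[c.E0] ≤ N[Y] ⊓ c.H :=
  f.syl.le.trans (le_inf (c.B_le _) (c.B_le_H _))
theorem Y_inf_H : Y ⊓ c.H ≤ c.O := f.cov.le_O (odd_of_le f.odd f.le) inf_le_left
theorem ne_bot : Y ≠ ⊥ := fun e => f.nt (e ▸ bot_le)

theorem le_Y {W : Subgroup G} (h1 : W ≤ X) (h2 : W ≤ c.H) (h3 : img M.κ W = ⊥) : W ≤ Y :=
  (le_inf h1 (M.le_O_of_img h2 (odd_of_le f.odd h1) h3)).trans f.inf_O

theorem q_ne (h : X ≠ Y) : M.d.N.q ≠ 3 := fun hq => by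
  refine h (le_antisymm (f.isProd.sup_eq.ge.trans (sup_le le_rfl (f.le_Y M inf_le_left
    (f.X0_le.trans inf_le_right) ?_))) f.le)
  have h2 := ((img_mono _ ((inf_le_right : X ⊓ C[c.E0] ≤ _).trans c.CE0_le_D)).trans
    M.img_D_le).trans (M.d.C_le_of_three c.hn hq)
  refine (((isPi_odd.2 (odd_of_le f.odd inf_le_left)).img M.κ).eq_bot ?_)
  rw [compl_compl, ← M.img_E0] at *
  exact (c.E0_pi.img _).of_le h2

theorem center_le (hq : M.d.N.q ≠ 3) : Z[X] ≤ Y := by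
  have hZ : c.E0 ≤ N[Z[X]] := norm_Z f.E0_norm
  rw [← (cent_prod2 (odd_of_le f.odd inf_le_left) c.E0_pi hZ).sup_eq]
  refine sup_le ((comm_mono_left inf_le_left).trans f.comm) ?_
  have h1 : Z[X] ⊓ C[c.E0] ≤ N[Y] ⊓ c.H ⊓ C[Y] :=
    le_inf ((inf_le_inf_right _ inf_le_left).trans f.X0_le)
      (inf_le_left.trans (inf_le_right.trans (C_anti f.le)))
  refine f.le_Y M (inf_le_left.trans inf_le_left) (h1.trans (inf_le_left.trans inf_le_right))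
    (eq_bot_of_le (by_contra fun h2 => f.nt ?_) (img_mono _ h1))
  exact mem_C_iff_le_C1.1 (f.cov.t_mem M hq (norm_inf (norm_self _) (norm_C inf_le_left)) h2).2

theorem cov_of_L {C0 : Subgroup G} (h0 : N[X] ≤ N[C0]) (hL : M.d.L ≤ img M.κ (N[C0] ⊓ c.H)) :
    Cov c N[C0] := by
  refine Cov.of_img M (f.S_norm.trans h0) (M.d.eq_top hL ((M.C_le_img_B f.cov).trans (sup_le ?_ ?_)))
  · set B := c.B N[Y]
    have hBH : B ≤ c.H := c.B_le_H _
    have h1 : (B ⊓ pre M.κ M.d.L) ⊔ (X ⊓ C[c.E0]) ⊴ B := by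
      refine nml_of_der1_le (le_sup_left.trans' (le_inf (der1_le _) ?_)) (sup_le inf_le_left f.syl.le)
      rw [← img_le_iff ((der1_le _).trans hBH), img_comm _ hBH hBH]
      exact M.d.comm_le_L _ _
    have h2 := (Frattini_arg f.hp h1 (f.syl.of_le le_sup_right h1.le)).sup_eq
    have h3 : B ⊓ N[X ⊓ C[c.E0]] ≤ N[C0] ⊓ c.H := by
      refine le_inf (le_trans ?_ h0) (inf_le_left.trans hBH)
      conv_rhs => rw [← f.isProd.sup_eq]
      exact norm_sup (inf_le_left.trans (c.B_le _)) inf_le_right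
    rw [← h2, img_sup _ (h1.le.trans hBH) (inf_le_left.trans hBH),
      img_sup _ (inf_le_left.trans hBH) (f.syl.le.trans hBH)]
    refine sup_le (sup_le ((img_le_of_le_pre inf_le_right).trans hL) (img_mono _ ?_)) (img_mono _ h3)
    exact le_inf (inf_le_left.trans ((norm_self _).trans h0)) (f.syl.le.trans hBH)
  · rw [← M.img_E0]
    exact img_mono _ (le_inf (f.E0_norm.trans h0) c.E0_le_H)

include M in
/-- a characteristic subgroup of `X` whose normaliser covers `H / O` -/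
theorem exists_char : ∃ C0 ≤ X, C0 ≠ ⊥ ∧ N[X] ≤ N[C0] ∧ Cov c N[C0] := by
  by_cases hXY : X = Y
  · exact ⟨X, le_rfl, hXY ▸ f.ne_bot, le_rfl, hXY ▸ f.cov⟩
  have hq := f.q_ne M hXY
  haveI := Fact.mk f.hp
  set V := omegaOne p Z[Y] with hVd
  have hV : IsElementaryAbelian p V := H25.omegaOne_elem (abl_center Y)
  have hVZ : V ≤ Z[Y] := H25.omegaOne_le _ _
  have hNV : N[Y] ≤ N[V] := H25.norm_omegaOne p (norm_Z le_rfl)
  have hK : N[Y] ⊓ c.H ≤ N[V] := inf_le_left.trans hNV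
  have hYV : Y ≤ C[V] := cents_symm (hVZ.trans inf_le_right)
  have hX1 : X ≠ ⊥ := ne_bot_of_le f.ne_bot f.le
  by_cases hΦ : img M.κ (N[Y] ⊓ c.H ⊓ C[V]) = ⊥
  swap
  · have h1 : omegaOne p Z[X] ≤ V := H25.omegaOne_mono p (le_inf (f.center_le M hq)
      (inf_le_right.trans (C_anti f.le)))
    have h0 : N[X] ≤ N[omegaOne p Z[X]] := H25.norm_omegaOne p (norm_Z le_rfl)
    refine ⟨omegaOne p Z[X], (H25.omegaOne_le _ _).trans inf_le_left,
      H12.omega_center_ne_bot (f.pi.isPGroup f.hp) hX1, h0, f.cov_of_L M h0 ?_⟩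
    exact (M.L_le_img hq inf_le_right f.cov.cov (norm_inf (norm_self _) (norm_C hK)) hΦ).trans
      (img_mono _ (le_inf (norm_of_cent (cents_of_le inf_le_right h1))
        (inf_le_left.trans inf_le_right)))
  have hle : ∀ W ≤ X ⊓ C[c.E0], W ≤ C[V] → W ≤ Y := fun W h1 h2 =>
    f.le_Y M (h1.trans inf_le_left) (h1.trans (f.X0_le.trans inf_le_right))
      (eq_bot_of_le hΦ (img_mono _ (le_inf (h1.trans f.X0_le) h2)))
  have hC : X ⊓ C[V] ≤ Y := by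
    rw [← f.isProd.modl hYV]
    exact sup_le le_rfl (hle _ inf_le_left inf_le_right)
  have hVX : V ⊴ X := ⟨hVZ.trans (inf_le_left.trans f.le), f.norm.trans hNV⟩
  rcases thompson_alt hV hVX f.le hC with hJ | ⟨A, hA, h1, h2⟩
  · refine ⟨thompsonSubgroupOf p X, H12.J_le _, H12.J_ne_bot (f.pi.isPGroup f.hp) hX1,
      H12.normalizer_le_normalizer_J _, f.cov.mono ?_⟩
    rw [← hJ]; exact H12.normalizer_le_normalizer_J _
  exfalso
  have hAY : IsProd Y A (Y ⊔ A) := isProd_sup (hA.le.trans f.norm)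
  have hA1 : Y ⊔ A ≤ X := sup_le f.le hA.le
  set A0 := X ⊓ C[c.E0] ⊓ (Y ⊔ A) with hA0
  have hp0 : IsProd Y A0 (Y ⊔ A) := f.isProd.inf_left le_sup_left hA1
  have hA0K : A0 ≤ N[Y] ⊓ c.H := inf_le_left.trans f.X0_le
  have hA0H : A0 ≤ c.H := hA0K.trans inf_le_right
  have hquad : ⁅⁅V, Y ⊔ A⁆, Y ⊔ A⁆ = ⊥ := by
    have e1 : ⁅V, Y ⊔ A⁆ = ⁅V, A⁆ := hAY.symm.comm_right_of_cent hYV
    rw [e1, hAY.symm.comm_right_of_cent (cents_of_le hYV (comm_le_left (hA.le.trans hVX.norm))), h1]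
  have hq1 : ∀ a ∈ A0, ⁅⁅V, zpowers a⁆, zpowers a⁆ = ⊥ := fun a ha =>
    eq_bot_of_le hquad (commutator_mono (comm_mono_right (zpowers_le.2 ha.2)) (zpowers_le.2 ha.2))
  have hpow : ∀ a ∈ A0, ap M.κ a ^ p = 1 := fun a ha => by
    obtain ⟨y, hy, b, hb, e⟩ := hAY.mul a ha.2
    have h3 : a ^ p ∈ Y := by
      have ha' := f.norm ha.1.1
      have hy' : ap (coset Y) y = 1 := cs_of_mem hy
      rw [← cs_eq_one (pow_mem ha' p)]
      show ap (coset Y) (a ^ p) = 1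
      rw [ap_pow _ ha', e, ap_mul _ (norm_self _ hy) (f.norm (hA.le hb)),
        hy', one_mul, ← ap_pow _ (f.norm (hA.le hb)), hA.ea.2 b hb, ap_one]
    rw [← ap_pow _ (hA0H ha)]
    exact M.κ_O (f.Y_inf_H ⟨h3, pow_mem (hA0H ha) p⟩)
  have hT : img M.κ A0 ≤ M.d.T := fun z hz => by
    obtain ⟨a, ha, -, rfl⟩ := mem_img.1 hz
    exact M.quad_mem_T f.hp f.h2 f.cov hV hK hΦ (f.syl.le ha.1) (hpow a ha) (hq1 a ha)
  have hne : img M.κ A0 ≠ ⊥ := fun e => h2 (le_sup_right.trans (hp0.sup_eq.ge.trans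
    (sup_le hYV ((f.le_Y M (inf_le_left.trans inf_le_left) hA0H e).trans hYV))))
  have hcard : ♯(img M.κ A0) ∣ p := H25.Cfsg.IsElementaryAbelian.card_dvd_of_cyc
    ⟨M.d.T_abl.of_le hT, fun z hz => by
      obtain ⟨a, ha, -, rfl⟩ := mem_img.1 hz
      exact hpow a ha⟩ (M.d.T_cyc.of_le hT)
  have hCC : C[A] ⊓ V = C[A0] ⊓ V := by
    have e : ∀ B, C[Y ⊔ B] ⊓ V = C[B] ⊓ V := fun B => by
      rw [C_sup, inf_assoc, inf_eq_right.2 (inf_le_right.trans (cents_symm hYV))]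
    rw [← e A, ← e A0, hp0.sup_eq]
  have hidx : (C[A0] ⊓ V).relIndex V ≤ p := by
    rw [← hCC, inf_relIndex_right]
    refine (offender hA hV hVX.le).trans ?_
    have e1 : C[V].relIndex A = C[V].relIndex A0 := by
      have e : ∀ B ≤ X, C[V].relIndex B = C[V].relIndex (C[V] ⊔ (Y ⊔ B)) := fun B hB => by
        rw [← sup_assoc, sup_eq_left.2 hYV, relIndex_sup_of_norm (norm_C (hB.trans hVX.norm))]
      rw [e A hA.le, e A0 (inf_le_left.trans inf_le_left), hp0.sup_eq]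
    rw [e1]
    refine (Nat.le_of_dvd (card_pos _) ?_).trans (Nat.le_of_dvd f.hp.pos hcard)
    rw [card_img _ hA0H, ← inf_relIndex_right (pre M.κ ⊥)]
    refine relIndex_dvd_of_le_left _ ((f.le_Y M (inf_le_right.trans (inf_le_left.trans inf_le_left))
      (inf_le_right.trans hA0H) ((img_eq_bot (inf_le_right.trans hA0H)).2 inf_le_left)).trans hYV)
  have hS : c.S ≤ N[C[A0] ⊓ V] := by
    have hSV : c.S ≤ N[V] := f.cov.S_le.trans hNV
    have e : C[A0] ⊓ V = C[Y ⊔ A0] ⊓ V := by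
      rw [C_sup, inf_assoc, inf_eq_right.2 (inf_le_right.trans (cents_symm hYV))]
    rw [e]
    refine norm_inf (norm_C (c.S_le (norm_sup f.cov.E0_le (norm_of_cent (cents_symm
      (inf_le_left.trans inf_le_right)))) (mem_N_of_cj_le ?_))) hSV
    rw [cj_sup, cj_of_mem_N (f.cov.S_le c.σ_mem_S)]
    refine sup_le le_sup_left fun x hx => ?_
    have h3 : x ∈ X ⊓ C[c.E0] :=
      cj_le_of_mem_N inf_le_left (norm_inf f.S_norm (norm_C c.S_le_NE0) c.σ_mem_S) hx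
    have hxH := (f.X0_le h3).2
    have h4 : ap M.κ x ∈ img M.κ A0 := by
      rw [← M.d.cj_s_of_le hT, ← M.κ_σ, ← img_cj _ c.σ_mem_H]
      exact ap_mem_img _ hx hxH
    obtain ⟨a, ha, haH, e1⟩ := mem_img.1 h4
    have h5 : a⁻¹ * x ∈ X := mul_mem (inv_mem (mem_inf.1 (mem_inf.1 ha).1).1) h3.1
    have h6 : a⁻¹ * x ∈ Y := f.inf_O ⟨h5, M.mem_O (mul_mem (inv_mem haH) hxH)
      (by rw [ap_mul _ (inv_mem haH) hxH, ap_inv _ haH, e1, inv_mul_cancel]) (odd_orderOf f.odd h5)⟩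
    simpa using mul_mem (mem_sup_right ha : a ∈ Y ⊔ A0) (mem_sup_left h6)
  have h3 := c.comm_t_le f.hp (f.pi.of_le hVX.le) (Abl.nml hV.1 inf_le_right) (f.cov.S_le.trans hNV) hS hidx
  have hVo : Odd ♯V := odd_of_le f.odd hVX.le
  have htV : c.t ∈ N[V] := hNV (f.cov.S_le c.t_mem_S)
  have h4 : c.t ∈ C[V] := by
    have h5 : A0 ≤ N[Y] ⊓ c.H ⊓ C[⁅V, zpowers c.t⁆] :=
      le_inf hA0K (cents_symm (h3.trans inf_le_left))
    have h6 := (f.cov.t_mem M hq (norm_inf (norm_self _) (norm_C (norm_comm_zp hK inf_le_right)))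
      (ne_bot_of_le hne (img_mono _ h5))).2
    exact mem_C_iff_le_C1.2 (by_contra fun h7 => c.not_cent_t hVo htV h7 (mem_C_iff_le_C1.1 h6))
  refine hne (eq_bot_iff.2 fun z hz => ?_)
  obtain ⟨a, ha, -, rfl⟩ := mem_img.1 hz
  exact M.quad_of_t f.hp f.h2 hq f.cov hV hK hΦ h4 (hA0K ha) (odd_orderOf f.odd ha.1.1) (hq1 a ha)

end FA

end H13.W
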