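import Mathlib
import Cfsg.Agent.H13.WA1

/-! Case A: primes dividing `k` for which there are no `E0`-invariant root groups. -/

set_option autoImplicit false
set_option linter.unusedSectionVars false
set_option linter.style.haveILetI false

namespace H13.W

open H24 H26 Cfsg Subgroup H13.Dih
open H22 (WR WA Bj hh sw HasOdd)
open scoped commutatorElement

universe u

variable {G : Type u} [Group G] [Finite G] {c : WC G} {M : Mod c} {p : ℕ}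
variable {A K L N P Q V X Y : Subgroup G}

theorem syl_sup2 (hK : Odd ♯K) (hA : IsPi {2} A) (hn : A ≤ N[K]) (hX : IsPi {p} X) (h1 : X ≤ K)
    (h2 : A ≤ N[X]) : ∃ R, Syl p K R ∧ A ≤ N[R] ∧ X ≤ R :=
  coprime_Hall_subset hn (cop2 hK hA) (sol_of_odd hK) h1 hX h2

theorem syl_trans2 (hK : Odd ♯K) (hA : IsPi {2} A) (hn : A ≤ N[K]) (hP : Syl p K P)
    (h1 : A ≤ N[P]) (hQ : Syl p K Q) (h2 : A ≤ N[Q]) : ∃ g ∈ K ⊓ C[A], Q = cj g P :=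
  coprime_Hall_trans hn (cop2 hK hA) (sol_of_odd hK) hP h1 hQ h2

theorem syl_inf_C (hp : p.Prime) (hK : Odd ♯K) (hA : IsPi {2} A) (hn : A ≤ N[K]) (hP : Syl p K P)
    (h1 : A ≤ N[P]) : Syl p (K ⊓ C[A]) (P ⊓ C[A]) := by
  obtain ⟨Q, hQ⟩ := Sylow_exists hp (K ⊓ C[A])
  obtain ⟨R, hR, h2, h3⟩ := syl_sup2 hK hA hn hQ.pi (hQ.le.trans inf_le_left)
    (norm_of_cent (cents_symm (hQ.le.trans inf_le_right)))
  obtain ⟨g, hg, rfl⟩ := syl_trans2 hK hA hn hR h2 hP h1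
  refine (hQ.cj_mem hg).of_ge (inf_le_inf_right _ hP.le) (hP.pi.inf_left _)
    (le_inf (cj_mono _ h3) (cj_le_of_mem (hQ.le.trans inf_le_right) hg.2))

theorem WC.C_ne_top (c : WC G) {v : G} (hv : v ∈ c.V) (h1 : v ≠ 1) : C{v} ≠ ⊤ := fun e => by
  obtain ⟨g, -, rfl⟩ := c.exists_conj hv h1
  rw [← cj_C1, cj_eq_top] at e
  exact c.four.ne (c.w_t.symm.trans (mem_C1_iff_conj.1 (e ▸ mem_top _)))

namespace WC

variable (c)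

/-- `A L = O(L) O(C_L(E0))` -/
def AA (L : Subgroup G) : Subgroup G := 𝒪[L] ⊔ c.B L

theorem A_le (L : Subgroup G) : c.AA L ≤ L := sup_le (pcore_le _ _) (c.B_le L)
theorem core_nml_A (L : Subgroup G) : 𝒪[L] ⊴ c.AA L := (pcore_nml _ _).of_le le_sup_left (c.A_le L)
theorem odd_A (L : Subgroup G) : Odd ♯(c.AA L) :=
  odd_sup (odd_pcore _) (c.odd_B L) ((c.B_le L).trans (pcore_nml _ _).norm)
theorem norm_A (h1 : X ≤ N[L]) (h2 : X ≤ N[c.E0]) : X ≤ N[c.AA L] :=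
  norm_sup (norm_pcore _ h1) (c.norm_B h1 h2)
theorem A_inf_C (L : Subgroup G) : c.AA L ⊓ C[c.E0] = c.B L :=
  le_antisymm (c.le_B (odd_of_le (c.odd_A L) inf_le_left) (inf_le_left.trans (c.A_le L)) inf_le_right)
    (le_inf le_sup_right (c.B_le_C L))
theorem le_A (hX : Odd ♯X) (hN : c.E0 ≤ N[X]) (h1 : X ≤ L) (h2 : ⁅X, c.E0⁆ ≤ 𝒪[L]) : X ≤ c.AA L := by
  rw [← (cent_prod2 hX c.E0_pi hN).sup_eq]
  exact sup_le_sup h2 (c.le_B (odd_of_le hX inf_le_left) (inf_le_left.trans h1) inf_le_right)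

end WC

namespace Hyp

theorem ne_top_of_core (h : Hyp M) (hO : 𝒪[N] ≠ ⊥) : N ≠ ⊤ := fun e =>
  h.N_ne_top hO (odd_pcore _) (top_le_iff.1 (e.ge.trans (pcore_nml _ _).norm))

/-- an `S`-invariant Sylow subgroup of `O` for a prime dividing `k` -/
theorem exists_start (h : Hyp M) (hp : p.Prime) (hk : p ∣ c.k) :
    ∃ Y, IsPi {p} Y ∧ Cov c N[Y] ∧ ¬ Y ≤ C{c.t} := by
  have h2 := c.ne_two_of_dvd hk
  obtain ⟨P, hP, hS, -⟩ := syl_sup2 c.odd_O c.S_pi (c.S_le_H.trans c.H_le_NO) (isPi_bot {p}) bot_le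
    (by simp)
  have hc : Cov c N[P] := ⟨hS, (Frattini_arg hp c.O_nml hP).symm.sup_eq.ge.trans
    (sup_le_sup_right (inf_comm _ _).le _)⟩
  have h3 := c.not_cent_of_dvd hp hk hP
  have h4 := h.not_syl hp hk hP.pi hc (hP.le.trans c.O_le_H) h3
  have hP1 : P ≠ ⊥ := fun e => h3 (e ▸ bot_le)
  have hPo := odd_of_pi h2 hP.pi
  obtain ⟨Y, hY, h5, h6⟩ := syl_sup2 (odd_pcore N[P]) c.S_pi (hS.trans (pcore_nml _ _).norm) hP.pi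
    (le_O hPo (nml_N P)) hS
  refine ⟨Y, hY.pi, h.cov_syl hp hc (core_N_ne_bot hP1 hPo) hY h5, fun h7 => h4 ?_⟩
  rwa [hP.eq_of_le hY.pi h6 ((le_inf hY.le h7).trans hc.core_inf_H)] at hY

variable (h : Hyp M) (hp : p.Prime) (h2 : p ≠ 2) (hε : M.d.N.ε = -1 ∨ p ≠ M.d.N.p)
include h hp h2 hε

theorem comm_le_A (hL : L ≠ ⊤) (hE : c.E0 ≤ L) (hX : IsPi {p} X) (h1 : X ≤ L) (hN : c.E0 ≤ N[X]) :
    ⁅X, c.E0⁆ ≤ 𝒪[L] :=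
  M.rf h.ih hL hE (odd_of_pi h2 hX) h1 hN fun _ hv h3 => M.rootfree hp h2 hε hX hN hv h3

theorem le_A (hL : L ≠ ⊤) (hE : c.E0 ≤ L) (hX : IsPi {p} X) (h1 : X ≤ L) (hN : c.E0 ≤ N[X]) :
    X ≤ c.AA L :=
  c.le_A (odd_of_pi h2 hX) hN h1 (h.comm_le_A hp h2 hε hL hE hX h1 hN)

theorem localA (hL : L ≠ ⊤) (hE : c.E0 ≤ L) (hX : IsPi {p} X) (hY : IsPi {p} Y) (h1 : X ≤ L)
    (h3 : Y ≤ L) (hN : c.E0 ≤ N[X]) (hN' : c.E0 ≤ N[Y]) :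
    ∃ g ∈ C[c.E0], ∃ R, IsPi {p} R ∧ c.E0 ≤ N[R] ∧ cj g X ≤ R ∧ Y ≤ R := by
  have hA := c.norm_A (norm_of_le hE) (norm_self _)
  obtain ⟨R, hR, r1, r2⟩ := syl_sup2 (c.odd_A L) c.E0_pi hA hX (h.le_A hp h2 hε hL hE hX h1 hN) hN
  obtain ⟨R', hR', r3, r4⟩ := syl_sup2 (c.odd_A L) c.E0_pi hA hY (h.le_A hp h2 hε hL hE hY h3 hN') hN'
  obtain ⟨g, hg, rfl⟩ := syl_trans2 (c.odd_A L) c.E0_pi hA hR r1 hR' r3
  exact ⟨g, hg.2, _, hR'.pi, r3, cj_mono _ r2, r4⟩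

theorem transA (hP : MaxInv p c.E0 P) (hQ : MaxInv p c.E0 Q) (h1 : P ⊓ Q ≠ ⊥) :
    ∃ g ∈ C[c.E0], cj g P = Q :=
  maxInt hp (C_le_N _) (fun _ _ _ d1 d2 d3 x1 x2 x3 x4 x5 x6 =>
    h.localA hp h2 hε (h.N_ne_top d1 (odd_of_pi h2 d2)) d3 x1 x2 x5 x6 x3 x4) hP hQ h1

theorem transA' (hL : L ≠ ⊤) (hE : c.E0 ≤ L) (hP : MaxInv p c.E0 P) (hQ : MaxInv p c.E0 Q)
    (h1 : P ⊓ L ≠ ⊥) (h3 : Q ⊓ L ≠ ⊥) : ∃ g ∈ C[c.E0], cj g P = Q := by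
  obtain ⟨g, hg, R, r1, r2, r3, r4⟩ := h.localA hp h2 hε hL hE (hP.pi.inf_left L) (hQ.pi.inf_left L)
    inf_le_right inf_le_right (norm_inf hP.norm (norm_of_le hE)) (norm_inf hQ.norm (norm_of_le hE))
  obtain ⟨R', r5, hR⟩ := exists_maxInv r1 r2
  obtain ⟨g1, hg1, e1⟩ := h.transA hp h2 hε (hP.cj (C_le_N _ hg)) hR
    (ne_bot_of_le (mt cj_eq_bot.1 h1) (le_inf (cj_mono _ inf_le_left) (r3.trans r5)))
  obtain ⟨g2, hg2, e2⟩ := h.transA hp h2 hε hR hQ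
    (ne_bot_of_le h3 (le_inf (r4.trans r5) inf_le_left))
  exact ⟨g2 * g1 * g, mul_mem (mul_mem hg2 hg1) hg, by rw [cj_mul, cj_mul, e1, e2]⟩

theorem extA (hN : Cov c N) (hO : 𝒪[N] ≠ ⊥) (hX : IsPi {p} X) (hS : c.S ≤ N[X]) (h1 : X ≤ N)
    (ht : ¬ X ≤ C{c.t}) : ∃ R, X ≤ R ∧ Syl p (c.AA N) R ∧ c.S ≤ N[R] ∧ R ≤ N[R ⊓ 𝒪[N]] ∧
      Cov c N[R ⊓ 𝒪[N]] ∧ ¬ R ⊓ 𝒪[N] ≤ C{c.t} := by
  obtain ⟨R, hR, r1, r2⟩ := syl_sup2 (c.odd_A N) c.S_pi (c.norm_A (norm_of_le hN.S_le) c.S_le_NE0) hX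
    (h.le_A hp h2 hε (h.ne_top_of_core hO) hN.E0_le hX h1 (c.E0_le_S.trans hS)) hS
  refine ⟨R, r2, hR, r1, norm_inf (norm_self _) (hR.le.trans (c.core_nml_A N).norm),
    h.cov_syl hp hN hO (hR.inf_nml (c.core_nml_A N))
      (norm_inf r1 (hN.S_le.trans (pcore_nml _ _).norm)), fun h3 => ?_⟩
  have h4 := hS c.t_mem_S
  exact c.not_cent_t (odd_of_pi h2 hX) h4 ht ((le_inf ((comm_le_left (zpowers_le.2 h4)).trans r2)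
    ((comm_mono_left h1).trans (h.comm_t hN hO))).trans h3)

/-- Case A does not occur. -/
theorem caseA : ¬ p ∣ c.k := fun hk => by
  obtain ⟨Y0, y1, y2, y3⟩ := h.exists_start hp hk
  obtain ⟨X, -, ⟨hX, hS, Y1, z⟩, hm⟩ := exists_max (H := Y0) (P := fun X => IsPi {p} X ∧ c.S ≤ N[X] ∧
    ∃ Y, Y ≤ X ∧ X ≤ N[Y] ∧ Cov c N[Y] ∧ ¬ Y ≤ C{c.t})
    ⟨y1, y2.S_le, Y0, le_rfl, norm_self _, y2, y3⟩
  obtain ⟨Y, -, ⟨hYX, hXY, hY, hYt⟩, hm'⟩ := exists_max (H := Y1)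
    (P := fun Y => Y ≤ X ∧ X ≤ N[Y] ∧ Cov c N[Y] ∧ ¬ Y ≤ C{c.t}) z
  have hXt : ¬ X ≤ C{c.t} := fun e => hYt (hYX.trans e)
  have hXo := odd_of_pi h2 hX
  have key : ∀ N, Cov c N → 𝒪[N] ≠ ⊥ → X ≤ N → Syl p (c.AA N) X ∧ X ≤ N[X ⊓ 𝒪[N]] ∧
      Cov c N[X ⊓ 𝒪[N]] ∧ ¬ X ⊓ 𝒪[N] ≤ C{c.t} := fun N n1 n2 n3 => by
    obtain ⟨R, r1, r2, r3, r4⟩ := h.extA hp h2 hε n1 n2 hX hS n3 hXt
    obtain rfl := hm R ⟨r2.pi, r3, _, inf_le_left, r4⟩ r1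
    exact ⟨r2, r4⟩
  have hYo := odd_of_le hXo hYX
  have hO := core_N_ne_bot (fun e => hYt (e.le.trans bot_le)) hYo
  obtain ⟨k1, k2⟩ := key _ hY hO hXY
  have e := hm' _ ⟨inf_le_left, k2⟩ (le_inf hYX (le_O hYo (nml_N Y)))
  have hE := c.E0_le_S.trans hS
  have f : FA c p Y X := ⟨hp, h2, hX, hYX, hXY, hS, hY, hYt,
    e ▸ le_inf (comm_le_left hE) (h.comm_le_A hp h2 hε (h.ne_top_of_core hO) hY.E0_le hX hXY hE),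
    e ▸ le_inf inf_le_left ((le_inf inf_le_right (inf_le_left.trans hXY)).trans (h.O_inf_le hY hO)),
    c.A_inf_C _ ▸ syl_inf_C hp (c.odd_A _) c.E0_pi (c.norm_A (norm_of_le hY.E0_le) (norm_self _)) k1 hE⟩
  obtain ⟨C0, c1, c2, c3, c4⟩ := f.exists_char M
  have hC := odd_of_le hXo c1
  have hO' := core_N_ne_bot c2 hC
  have hXm : MaxInv p c.E0 X := maxInv_of_norm hp hX hE fun R r1 r2 r3 r4 =>
    ((key _ c4 hO' ((norm_self _).trans c3)).1.eq_of_le r1 r3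
      (h.le_A hp h2 hε (h.ne_top_of_core hO') c4.E0_le r1 (r4.trans c3) r2)).le
  obtain ⟨u1, u2⟩ := c.inf_u_ne_bot hXo hS hXt
  obtain ⟨g, hg, e⟩ := h.transA' hp h2 hε (c.C_ne_top c.tu_mem_V (ne_one_of c.htu))
    (c.E0_le_C c.tu_mem_V) (hXm.cj c.w_mem_NE0) hXm
    (by rwa [← c.w_u, ← cj_C1, ← cj_inf, Ne, cj_eq_bot]) u2
  exact c2 (h.eq_bot_of_norm hC c4.S_le c4.cov (c3 (mem_N_iff_cj.2 (by rw [cj_mul, e])))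
    (by simpa using hg))

end Hyp

end H13.W
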