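import Mathlib
import Cfsg.Agent.H13.WDefs
import Cfsg.Agent.H0.WLat

/-! WAlg: lattice + number theory part of the wreathed case (written by lead). -/

set_option autoImplicit false

namespace H13.W

open Finset H0.WL

/-- `v i` = coefficient vector of the `i`-th generalized character, `deg`, `val` = values of the
irreducible characters at `1` and `t`. -/
structure Lat {ι : Type*} [Fintype ι] (Q : ℤ) (ρ : ℚ) (deg val : ι → ℤ) (v : Fin 8 → ι → ℤ) :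
    Prop where
  pos : ∀ x, 0 < deg x
  gram : ∀ i j, ∑ x, v i x * v j x = Gram i j
  sdeg : ∀ i, ∑ x, v i x * deg x = 0
  sval : ∀ i, ∑ x, v i x * val x = Val8 Q i
  scls : ∀ i, ∑ x, (v i x * val x ^ 2 / deg x : ℚ) = ρ * Cls8 Q i

namespace WAlgAux

/-- rational pairing -/
def qd {ι : Type*} [Fintype ι] (v : ι → ℤ) (φ : ι → ℚ) : ℚ := ∑ x, (v x : ℚ) * φ x

section
variable {ι : Type*} [Fintype ι] [DecidableEq ι]

theorem qd_add (u v : ι → ℤ) (φ : ι → ℚ) : qd (u + v) φ = qd u φ + qd v φ := by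
  simp [qd, add_mul, sum_add_distrib]

theorem qd_sub (u v : ι → ℤ) (φ : ι → ℚ) : qd (u - v) φ = qd u φ - qd v φ := by
  simp [qd, sub_mul, sum_sub_distrib]

theorem qd_e (a : ι) (s : ℤ) (φ : ι → ℚ) : qd (e a s) φ = s * φ a := by
  simp [qd, e_apply]

end

theorem sterm {s : ℤ} (hs : Sg s) (V D : ℤ) :
    (s : ℚ) * ((V : ℚ) ^ 2 / D) = ((s * V : ℤ) : ℚ) ^ 2 / ((s * D : ℤ) : ℚ) := by
  rcases hs with rfl | rfl
  · simp
  · simp [neg_div, div_neg]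

/-- first step: `c = m f`, `ρ Q f = 1` -/
theorem step1 {Q f c fe fo ge go ct ht : ℤ} {ρ : ℚ} (hQ : Q % 4 = 1) (hQ1 : Q ≠ 1)
    (hf : f ≠ 0) (hc : c ≠ 0) (hg : f + c ≠ 0) (hh : f + (f + c) ≠ 0)
    (v0 : fe - fo = 2 * (Q + 1)) (c0 : (fe : ℚ) ^ 2 / f - fo ^ 2 / f = ρ * (4 * Q * (Q + 1)))
    (v2 : ge - go = 2 * (Q + 1))
    (c2 : (ge : ℚ) ^ 2 / (f + c : ℤ) - go ^ 2 / (f + c : ℤ) = ρ * (4 * Q * (Q + 1)))
    (v5 : ge - fe - ct = 2 * (Q - 1))
    (c5 : (ge : ℚ) ^ 2 / (f + c : ℤ) - fe ^ 2 / f - ct ^ 2 / c = ρ * (-(Q - 1) * (Q + 1) ^ 2))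
    (v6 : ht - fe - ge = -4 * (Q + 1))
    (c6 : (ht : ℚ) ^ 2 / (f + (f + c) : ℤ) - fe ^ 2 / f - ge ^ 2 / (f + c : ℤ) =
      ρ * (-(Q + 1) * (Q ^ 2 + 6 * Q + 1))) :
    c = (Q - 1) * f ∧ ρ * Q * f = 1 ∧ fe = Q + 2 ∧ ct = -(Q - 1) := by
  have hf' : (f : ℚ) ≠ 0 := by exact_mod_cast hf
  have hc' : (c : ℚ) ≠ 0 := by exact_mod_cast hc
  have hg' : (f : ℚ) + c ≠ 0 := by exact_mod_cast hg
  have hh' : (f : ℚ) + (f + c) ≠ 0 := by exact_mod_cast hh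
  have hn : (Q : ℚ) + 1 ≠ 0 := by
    have : Q + 1 ≠ 0 := by omega
    exact_mod_cast this
  have hm : (Q : ℚ) - 1 ≠ 0 := by
    have : Q - 1 ≠ 0 := by omega
    exact_mod_cast this
  have hQ0 : (Q : ℚ) ≠ 0 := by
    have : Q ≠ 0 := by omega
    exact_mod_cast this
  push_cast at c2 c5 c6
  have v0' : (fo : ℚ) = fe - 2 * (Q + 1) := by
    have : fo = fe - 2 * (Q + 1) := by omega
    exact_mod_cast this
  have v2' : (go : ℚ) = ge - 2 * (Q + 1) := by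
    have : go = ge - 2 * (Q + 1) := by omega
    exact_mod_cast this
  have v5' : (ct : ℚ) = ge - fe - 2 * (Q - 1) := by
    have : ct = ge - fe - 2 * (Q - 1) := by omega
    exact_mod_cast this
  have v6' : (ht : ℚ) = ge + fe - 4 * (Q + 1) := by
    have : ht = ge + fe - 4 * (Q + 1) := by omega
    exact_mod_cast this
  have e0 : (fe : ℚ) = ρ * Q * f + (Q + 1) := by
    rw [v0'] at c0; field_simp at c0
    have : ((Q : ℚ) + 1) * (fe - (ρ * Q * f + (Q + 1))) = 0 := by linarith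
    have := (mul_eq_zero.1 this).resolve_left hn
    linarith
  have e2 : (ge : ℚ) = ρ * Q * (f + c) + (Q + 1) := by
    rw [v2'] at c2; field_simp at c2
    have : ((Q : ℚ) + 1) * (ge - (ρ * Q * (f + c) + (Q + 1))) = 0 := by linarith
    have := (mul_eq_zero.1 this).resolve_left hn
    linarith
  have eE : ((Q : ℚ) + 1) * c ^ 2 = ρ * (Q - 1) ^ 2 * f * (f + c) * (f + (f + c)) := by
    rw [v6', e0, e2] at c6; field_simp at c6
    have : ((Q : ℚ) + 1) * ((Q + 1) * c ^ 2 - ρ * (Q - 1) ^ 2 * f * (f + c) * (f + (f + c))) = 0 := by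
      linear_combination (-1 : ℚ) * c6
    have := (mul_eq_zero.1 this).resolve_left hn
    linarith
  have eD : ((Q : ℚ) + 1) ^ 2 * c ^ 2 + 4 * (Q - 1) ^ 2 * f * (f + c) =
      ρ * (Q - 1) * ((Q + 1) ^ 2 + 4 * Q) * f * (f + c) * c := by
    rw [v5', e0, e2] at c5; field_simp at c5
    linear_combination (-1 : ℚ) * c5
  have key : ((c : ℚ) - (Q - 1) * f) * ((3 * (Q - 1) ^ 2 + 10 * (Q - 1) + 8) * c ^ 2 +
      (6 * (Q - 1) ^ 2 + 4 * (Q - 1)) * c * f + 4 * (Q - 1) ^ 2 * f ^ 2) = 0 := by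
    linear_combination (-1 / 2 : ℚ) * (Q - 1) * (f + (f + c)) * eD +
      (1 / 2 : ℚ) * ((Q + 1) ^ 2 + 4 * Q) * c * eE
  have hcm : (c : ℚ) = (Q - 1) * f := by
    rcases mul_eq_zero.1 key with k | k
    · linarith
    · by_cases h4 : Q = -3
      · subst h4
        have : ((f : ℚ) + c) * (c + 4 * f) = 0 := by push_cast at k; linear_combination k / 16
        have := (mul_eq_zero.1 this).resolve_left hg'
        push_cast; linarith
      by_cases h8 : Q = -7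
      · exfalso
        subst h8
        push_cast at k eE e0 e2 v5'
        have : (3 * (c : ℚ) + 4 * f) * (5 * c + 8 * f) = 0 := by linear_combination k / 8
        rcases mul_eq_zero.1 this with k1 | k1
        · have hc1 : (c : ℚ) = -4 / 3 * f := by linarith
          rw [hc1] at eE
          have : (f : ℚ) ^ 2 * (4 * ρ * f - 3) = 0 := by linear_combination (9 / 32 : ℚ) * eE
          have := (mul_eq_zero.1 this).resolve_left (pow_ne_zero 2 hf')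
          have h3 : (4 * fe : ℚ) = -45 := by rw [e0]; linarith
          have h3' : 4 * fe = -45 := by exact_mod_cast h3
          omega
        · have hc1 : (c : ℚ) = -8 / 5 * f := by linarith
          rw [hc1] at eE e2
          have : (f : ℚ) ^ 2 * (ρ * f - 1) = 0 := by linear_combination (25 / 384 : ℚ) * eE
          have := (mul_eq_zero.1 this).resolve_left (pow_ne_zero 2 hf')
          have h3 : (5 * ge : ℚ) = -9 := by rw [e2]; linarith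
          have h3' : 5 * ge = -9 := by exact_mod_cast h3
          omega
      · exfalso
        have hr : 4 ≤ Q - 1 ∨ Q - 1 ≤ -12 := by omega
        have hr' : (4 : ℚ) ≤ Q - 1 ∨ (Q : ℚ) - 1 ≤ -12 := by
          rcases hr with h | h
          · left; exact_mod_cast h
          · right; exact_mod_cast h
        generalize (Q : ℚ) - 1 = m at k hr'
        have hd : 0 < 3 * m ^ 2 + 28 * m + 28 := by rcases hr' with h | h <;> nlinarith
        have : (4 * m * f + (3 * m + 2) * c) ^ 2 + (3 * m ^ 2 + 28 * m + 28) * c ^ 2 = 0 := by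
          linear_combination 4 * k
        have h1 : 0 < (3 * m ^ 2 + 28 * m + 28) * (c : ℚ) ^ 2 := by positivity
        nlinarith [sq_nonneg (4 * m * f + (3 * m + 2) * c)]
  have hρ : ρ * Q * f = 1 := by
    rw [hcm] at eE
    have : ((Q : ℚ) + 1) * (Q - 1) ^ 2 * f ^ 2 * (ρ * Q * f - 1) = 0 := by
      linear_combination (-1 : ℚ) * eE
    have := (mul_eq_zero.1 this).resolve_left (by positivity)
    linarith
  refine ⟨by exact_mod_cast hcm, hρ, ?_, ?_⟩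
  · have : (fe : ℚ) = Q + 2 := by rw [e0, hρ]; ring
    exact_mod_cast this
  · have : (ct : ℚ) = -(Q - 1) := by rw [v5', e0, e2, hcm]; linear_combination (Q - 1 : ℚ) * hρ
    exact_mod_cast this

/-- the equation coming from `C` -/
theorem stepC {Q f d x0 x1 : ℤ} {ρ : ℚ} (hQ1 : Q ≠ 1) (hf : f ≠ 0) (hd : d ≠ 0)
    (hx : d + (Q - 1) * f ≠ 0) (hρ : ρ * Q * f = 1) (v4 : x0 - x1 + -(Q - 1) = -2 * (Q - 1))
    (c4 : (x0 : ℚ) ^ 2 / d - x1 ^ 2 / (d + (Q - 1) * f : ℤ) +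
      (-(Q - 1) : ℤ) ^ 2 / ((Q - 1) * f : ℤ) = ρ * ((Q - 1) * (Q + 1) ^ 2)) :
    Q * (f * x0 - d) ^ 2 = (Q + 1) ^ 2 * d * (d + (Q - 1) * f) := by
  have hf' : (f : ℚ) ≠ 0 := by exact_mod_cast hf
  have hd' : (d : ℚ) ≠ 0 := by exact_mod_cast hd
  have hx' : (d : ℚ) + (Q - 1) * f ≠ 0 := by exact_mod_cast hx
  have hm : (Q : ℚ) - 1 ≠ 0 := by
    have : Q - 1 ≠ 0 := by omega
    exact_mod_cast this
  have hQ0 : (Q : ℚ) ≠ 0 := by rintro h; rw [h] at hρ; simp at hρ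
  have v4' : (x1 : ℚ) = x0 + (Q - 1) := by
    have : x1 = x0 + (Q - 1) := by omega
    exact_mod_cast this
  have hρ' : ρ = 1 / (Q * f) := by field_simp; linarith
  push_cast at c4
  rw [v4', hρ'] at c4
  field_simp at c4
  have : ((Q : ℚ) - 1) * (Q * (f * x0 - d) ^ 2 - (Q + 1) ^ 2 * d * (d + (Q - 1) * f)) = 0 := by
    linear_combination c4
  have := (mul_eq_zero.1 this).resolve_left hm
  have h2 : (Q : ℚ) * (f * x0 - d) ^ 2 = (Q + 1) ^ 2 * d * (d + (Q - 1) * f) := by linarith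
  exact_mod_cast h2

/-- the equation coming from `G` -/
theorem stepG {Q f d x0 y : ℤ} {ρ : ℚ} (hf : f ≠ 0) (hd : d ≠ 0)
    (hx : f - d ≠ 0) (hρ : ρ * Q * f = 1) (v7 : x0 + y - (Q + 2) = 0)
    (c7 : (x0 : ℚ) ^ 2 / d + y ^ 2 / (f - d : ℤ) - (Q + 2 : ℤ) ^ 2 / f =
      ρ * ((Q + 1) * (Q - 1) ^ 2)) :
    Q * (f * x0 - d - (Q + 1) * d) ^ 2 = (Q + 1) * (Q - 1) ^ 2 * d * (f - d) := by
  have hf' : (f : ℚ) ≠ 0 := by exact_mod_cast hf
  have hd' : (d : ℚ) ≠ 0 := by exact_mod_cast hd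
  have hx' : (f : ℚ) - d ≠ 0 := by exact_mod_cast hx
  have hQ0 : (Q : ℚ) ≠ 0 := by rintro h; rw [h] at hρ; simp at hρ
  have v7' : (y : ℚ) = Q + 2 - x0 := by
    have : y = Q + 2 - x0 := by omega
    exact_mod_cast this
  have hρ' : ρ = 1 / (Q * f) := by field_simp; linarith
  push_cast at c7
  rw [v7', hρ'] at c7
  field_simp at c7
  have h2 : (Q : ℚ) * (f * x0 - d - (Q + 1) * d) ^ 2 = (Q + 1) * (Q - 1) ^ 2 * d * (f - d) := by
    linear_combination c7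
  exact_mod_cast h2

/-- everything that follows without anchoring -/
theorem common {ι : Type*} [Fintype ι] [DecidableEq ι] {Q : ℤ} {ρ : ℚ} {deg val : ι → ℤ}
    {v : Fin 8 → ι → ℤ} (h : Lat Q ρ deg val v) (hQ : Q % 4 = 1) (hQ1 : Q ≠ 1) :
    ∃ (a b x0 χ : ι) (s ξ κ : ℤ), Sg s ∧ Sg ξ ∧ Sg κ ∧ a ≠ b ∧ v 0 = e a s - e b s ∧
      v 7 = e x0 ξ + e χ κ - e a s ∧ v 4 x0 = ξ ∧ (∀ y, v 4 y ≠ 0 → v 7 y ≠ 0 → y = x0) ∧
      deg b = deg a ∧ ρ * Q * (s * deg a : ℤ) = 1 ∧ s * val a = Q + 2 ∧ s * val b = -Q ∧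
      κ * deg χ = s * deg a - ξ * deg x0 ∧
      Q * (s * deg a * (ξ * val x0) - ξ * deg x0) ^ 2 =
        (Q + 1) ^ 2 * (ξ * deg x0) * (ξ * deg x0 + (Q - 1) * (s * deg a)) ∧
      Q * (s * deg a * (ξ * val x0) - ξ * deg x0 - (Q + 1) * (ξ * deg x0)) ^ 2 =
        (Q + 1) * (Q - 1) ^ 2 * (ξ * deg x0) * (s * deg a - ξ * deg x0) := by
  have g : ∀ i j, dot (v i) (v j) = Gram i j := h.gram
  have dg : ∀ i, dot (v i) deg = 0 := h.sdeg
  have vl : ∀ i, dot (v i) val = Val8 Q i := h.sval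
  have cl : ∀ i, qd (v i) (fun x => (val x : ℚ) ^ 2 / deg x) = ρ * Cls8 Q i := by
    intro i; rw [← h.scls i, qd]; simp only [mul_div_assoc]
  obtain ⟨a, b, p, q, c, k, x0, x1, χ, s, τ, γ, η, ξ0, ξ1, κ, hs, hτ, hγ, hη, hξ0, hξ1, hκ, hab,
      e0, e2, e4, e5, e6, e7, hC, huniq⟩ :=
    shape h.pos (dg 0) (dg 1) (dg 2) (dg 3) (dg 4) (dg 7) (g 0 0) (g 1 1) (g 0 1) (g 2 2) (g 3 3)
      (g 2 3) (g 0 2) (g 1 2) (g 0 3) (g 1 3) (g 4 4) (g 0 4) (g 1 4) (g 2 4) (g 3 4) (g 5 5)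
      (g 0 5) (g 1 5) (g 2 5) (g 3 5) (g 5 4) (g 6 6) (g 0 6) (g 1 6) (g 2 6) (g 3 6) (g 5 6)
      (g 7 7) (g 0 7) (g 1 7) (g 2 7) (g 3 7) (g 7 4) (g 5 7)
  have d0 := dg 0; have d2 := dg 2; have d4 := dg 4; have d5 := dg 5; have d6 := dg 6
  have d7 := dg 7
  have v0 := vl 0; have v2 := vl 2; have v4 := vl 4; have v5 := vl 5; have v6 := vl 6
  have v7 := vl 7
  have c0 := cl 0; have c2 := cl 2; have c4 := cl 4; have c5 := cl 5; have c6 := cl 6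
  have c7 := cl 7
  rw [e0] at d0 v0 c0
  rw [e2] at d2 v2 c2
  rw [e4] at d4 v4 c4
  rw [e5] at d5 v5 c5
  rw [e6] at d6 v6 c6
  rw [e7] at d7 v7 c7
  simp only [dot_add, dot_sub, dot_e] at d0 d2 d4 d5 d6 d7 v0 v2 v4 v5 v6 v7
  simp only [qd_add, qd_sub, qd_e, sterm hs, sterm hτ, sterm hγ, sterm hη, sterm hξ0, sterm hξ1,
    sterm hκ] at c0 c2 c4 c5 c6 c7
  have nz : ∀ {σ : ℤ}, Sg σ → ∀ x, σ * deg x ≠ 0 := fun hσ x => mul_ne_zero hσ.ne (h.pos x).ne'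
  have hb : s * deg b = s * deg a := by omega
  have hp : τ * deg p = s * deg a + γ * deg c := by omega
  have hq : τ * deg q = s * deg a + γ * deg c := by omega
  have hk : η * deg k = s * deg a + (s * deg a + γ * deg c) := by omega
  rw [hb] at c0
  rw [hp, hq] at c2
  rw [hp] at c5
  rw [hk, hp] at c6
  obtain ⟨r1, r2, r3, r4⟩ := step1 (Q := Q) (ρ := ρ) hQ hQ1 (nz hs a) (nz hγ c) (hp ▸ nz hτ p)
    (hk ▸ nz hη k) v0 (by simpa [Cls8] using c0) v2 (by simpa [Cls8] using c2) v5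
    (by simpa [Cls8] using c5) v6 (by simpa [Cls8] using c6)
  have hx1 : ξ1 * deg x1 = ξ0 * deg x0 + (Q - 1) * (s * deg a) := by omega
  have hχ : κ * deg χ = s * deg a - ξ0 * deg x0 := by omega
  rw [hx1, r1, r4] at c4
  rw [r4] at v4
  rw [hχ, r3] at c7
  rw [r3] at v7
  have v0' : s * val a - s * val b = 2 * (Q + 1) := v0
  refine ⟨a, b, x0, χ, s, ξ0, κ, hs, hξ0, hκ, hab, e0, e7, hC, huniq,
    mul_left_cancel₀ hs.ne hb, r2, r3, by omega, hχ, ?_, ?_⟩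
  · exact stepC (ρ := ρ) hQ1 (nz hs a) (nz hξ0 x0) (hx1 ▸ nz hξ1 x1) r2 v4
      (by simpa [Cls8] using c4)
  · exact stepG (ρ := ρ) (nz hs a) (nz hξ0 x0) (hχ ▸ nz hκ χ) r2 v7 (by simpa [Cls8] using c7)

end WAlgAux

open WAlgAux

theorem Lat.anchored {ι : Type*} [Fintype ι] [DecidableEq ι] {Q : ℤ} {ρ : ℚ} {deg val : ι → ℤ}
    {v : Fin 8 → ι → ℤ} (h : Lat Q ρ deg val v) (hQ : Q % 4 = 1) (hQ1 : Q ≠ 1) {x₀ : ι}
    (h1 : deg x₀ = 1) (h2 : val x₀ = 1) (h3 : ∀ i, v i x₀ = One8 i) :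
    ρ * (Q * (Q ^ 2 + Q + 1)) = 1 ∧ ∃ xe xo xc, xe ≠ xo ∧ v 0 = Pi.single xe 1 - Pi.single xo 1 ∧
      v 7 = Pi.single x₀ 1 + Pi.single xc 1 - Pi.single xe 1 ∧
      deg xe = Q ^ 2 + Q + 1 ∧ deg xo = Q ^ 2 + Q + 1 ∧ deg xc = Q ^ 2 + Q ∧ val xe = Q + 2 ∧
      val xo = -Q := by
  obtain ⟨a, b, x0, χ, s, ξ, κ, hs, hξ, hκ, hab, e0, e7, hC, hu, hb, hρ, va, vb, hχ, hCq, -⟩ :=
    common h hQ hQ1
  have h4 : v 4 x₀ = 1 := h3 4
  have h7 : v 7 x₀ = 1 := h3 7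
  obtain rfl : x₀ = x0 := hu x₀ (by omega) (by omega)
  obtain rfl : ξ = 1 := by omega
  rw [h1, h2] at hCq
  rw [h1] at hχ
  have hF : s * deg a = Q ^ 2 + Q + 1 := by
    have : (s * deg a - (Q ^ 2 + Q + 1)) * (Q * (s * deg a) + 1) = 0 := by linear_combination hCq
    rcases mul_eq_zero.1 this with k | k
    · omega
    · exfalso
      have : Q ∣ 1 := ⟨-(s * deg a), by linarith⟩
      have := Int.isUnit_iff.1 (isUnit_of_dvd_one this)
      omega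
  have hpos : 0 < Q ^ 2 + Q := by
    rcases (by omega : 5 ≤ Q ∨ Q ≤ -3) with k | k <;> nlinarith
  have pa := h.pos a
  have pχ := h.pos χ
  obtain rfl : s = 1 := by
    rcases hs with k | k
    · exact k
    · subst k; omega
  obtain rfl : κ = 1 := by
    rcases hκ with k | k
    · exact k
    · subst k; omega
  rw [hF] at hρ
  refine ⟨by push_cast at hρ; linear_combination hρ, a, b, χ, hab, e0, e7, by omega, by omega,
    by omega, by omega, by omega⟩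

theorem Lat.twisted {ι : Type*} [Fintype ι] {Q : ℤ} {ρ : ℚ} {deg val : ι → ℤ}
    {v : Fin 8 → ι → ℤ} (h : Lat Q ρ deg val v) (hQ : Q % 4 = 1) (hQ1 : Q ≠ 1)
    (hρ : ρ * (Q * (Q ^ 2 + Q + 1)) = 1) : ∃ x, deg x = 1 ∧ v 4 x ≠ 0 := by
  classical
  obtain ⟨a, b, x0, χ, s, ξ, κ, hs, hξ, hκ, -, -, -, hC, -, -, hρ', -, -, hχ, hCq, hGq⟩ :=
    common h hQ hQ1
  have hF : s * deg a = Q ^ 2 + Q + 1 := by
    have h0 : ρ * Q ≠ 0 := by rintro k; rw [k] at hρ'; simp at hρ'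
    have : ((s * deg a : ℤ) : ℚ) = Q ^ 2 + Q + 1 :=
      mul_left_cancel₀ h0 (by rw [hρ']; linear_combination -hρ)
    exact_mod_cast this
  have nd : ξ * deg x0 ≠ 0 := mul_ne_zero hξ.ne (h.pos x0).ne'
  have nχ : κ * deg χ ≠ 0 := mul_ne_zero hκ.ne (h.pos χ).ne'
  rw [hF] at hCq hGq hχ
  generalize hd : ξ * deg x0 = d at hCq hGq hχ nd
  generalize (Q ^ 2 + Q + 1) * (ξ * val x0) - d = U at hCq hGq
  have hU : Q * U = d * (Q ^ 2 + 1) + (Q - 1) * (Q ^ 2 + Q + 1) := by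
    have : 2 * (Q + 1) * d * (Q * U - (d * (Q ^ 2 + 1) + (Q - 1) * (Q ^ 2 + Q + 1))) = 0 := by
      linear_combination hCq - hGq
    have := (mul_eq_zero.1 this).resolve_left
      (mul_ne_zero (mul_ne_zero (by norm_num) (by omega)) nd)
    omega
  have : (Q - 1) ^ 2 * (Q ^ 2 + Q + 1) * ((d - 1) * (d - (Q ^ 2 + Q + 1))) = 0 := by
    linear_combination Q * hCq - (Q * U + (d * (Q ^ 2 + 1) + (Q - 1) * (Q ^ 2 + Q + 1))) * hU
  have hFpos : 0 < Q ^ 2 + Q + 1 := by nlinarith [sq_nonneg (2 * Q + 1)]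
  have := (mul_eq_zero.1 this).resolve_left
    (mul_ne_zero (pow_ne_zero 2 (by omega)) hFpos.ne')
  have hd1 : d = 1 := by
    rcases mul_eq_zero.1 this with k | k <;> omega
  refine ⟨x0, ?_, by rw [hC]; exact hξ.ne⟩
  have := h.pos x0
  rcases hξ with k | k <;> subst k <;> omega

end H13.W
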