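import Mathlib
import Cfsg.Agent.H13.WGen
import Cfsg.Agent.H3.Transfer

/-! Quadratic action of two elements satisfying the braid relation; a transfer lemma. -/

set_option autoImplicit false
set_option linter.unusedSectionVars false
set_option linter.style.haveILetI false

namespace H13.W

open H24 H26 Cfsg Subgroup H13.Dih
open scoped commutatorElement IsMulCommutative

universe u

variable {G : Type u} [Group G] [Finite G] {p : ℕ} {A K S V W : Subgroup G} {g x y : G}

theorem abl_syl_inf (hS : Syl p K S) (ha : Abl S) : S ⊓ ⁅K, K⁆ ⊓ C[K] = ⊥ := by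
  have h := H3.abelian_hall_inf_commutator_inf_center (G := K) (H := S.subgroupOf K)
    (ha.subgroupOf K) (by rw [card_subgroupOf_of_le hS.le]; exact hS.coprime)
  refine eq_bot_iff.2 fun x hx => ?_
  have hxK := hS.le hx.1.1
  have h1 : (⟨x, hxK⟩ : K) ∈ (⊥ : Subgroup K) := by
    rw [← h]
    refine ⟨⟨hx.1.1, ?_⟩, mem_center_iff.2 fun y => Subtype.ext (mem_C.1 hx.2 y y.2)⟩
    have h2 := hx.1.2
    rw [der1_eq_map] at h2
    obtain ⟨z, hz, e⟩ := h2
    rwa [show (⟨x, hxK⟩ : K) = z from Subtype.ext e.symm]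
  exact congrArg Subtype.val (mem_bot.1 h1)

/-- `x` acts quadratically on `V` -/
def Qd (V : Subgroup G) (x : G) : Prop := ∀ v ∈ V, x * v * x⁻¹ * v⁻¹ ∈ C{x}

theorem Qd.mono (h : Qd V x) (hW : W ≤ V) : Qd W x := fun v hv => h v (hW hv)

theorem Qd.conj (h : Qd V x) (hg : g ∈ N[V]) : Qd V (g * x * g⁻¹) := fun v hv => by
  have := conj_mem_cj g (h _ (conj_mem' hg hv))
  rw [cj_C1] at this
  convert this using 1; group

theorem Qd.congr (h : Qd V x) (hx : x ∈ N[V]) (hy : y * x⁻¹ ∈ C[V]) : Qd V y := fun v hv => by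
  have key : ∀ v ∈ V, y * v * y⁻¹ = x * v * x⁻¹ := fun v hv => by
    rw [← conj_eq_of_mem_C hy (conj_mem hx hv)]; group
  rw [key v hv, mem_C1_comm, mem_C1_iff_conj, key _ (mul_mem (conj_mem hx hv) (inv_mem hv))]
  exact mem_C1_iff_conj.1 (mem_C1_comm.1 (h v hv))

theorem qd_of_C (h : x ∈ C[V]) : Qd V x := fun v hv => by
  rw [conj_eq_of_mem_C h hv, mul_inv_cancel]; exact one_mem _

theorem qd_of_comm (h : ⁅⁅V, A⁆, A⁆ = ⊥) (hx : x ∈ A) : Qd V x := fun _ hv =>
  mem_C1_comm.1 (mem_C1_iff_conj.2 (H12.commute_of_commutator_commutator_eq_bot h hv hx hx))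

section Act

variable (V) [IsMulCommutative V]

/-- the conjugation action on an abelian group, in the endomorphism ring -/
noncomputable def act (g : G) : AddMonoid.End (Additive V) :=
  MonoidHom.toAdditive (ap V.normalizerMonoidHom g).toMonoidHom

variable {V}

theorem act_apply (hg : g ∈ N[V]) (v : Additive V) :
    ((act V g v).toMul : G) = g * v.toMul * g⁻¹ := by
  rw [act, ap_of_mem _ hg]; rfl

theorem act_mul (hx : x ∈ N[V]) (hy : y ∈ N[V]) : act V (x * y) = act V x * act V y := by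
  unfold act; rw [ap_mul _ hx hy]; rfl

theorem end_ext {r s : AddMonoid.End (Additive V)}
    (h : ∀ v : Additive V, ((r v).toMul : G) = (s v).toMul) : r = s :=
  AddMonoidHom.ext fun v => Additive.toMul.injective (Subtype.ext (h v))

theorem act_eq_one (hg : g ∈ N[V]) : act V g = 1 ↔ g ∈ C[V] := by
  refine ⟨fun h => mem_C'.2 fun v hv => ?_, fun h => end_ext fun v => ?_⟩
  · have := act_apply hg (Additive.ofMul ⟨v, hv⟩)
    rw [h] at this
    exact mul_inv_eq_iff_eq_mul.1 this.symm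
  · rw [act_apply hg, conj_eq_of_mem_C h v.toMul.2]; rfl

theorem act_sub_apply (hg : g ∈ N[V]) (v : Additive V) :
    (((act V g - 1) v).toMul : G) = g * v.toMul * g⁻¹ * (v.toMul : G)⁻¹ := by
  rw [← act_apply hg]
  change ((act V g v - v).toMul : G) = _
  rw [toMul_sub, div_eq_mul_inv]; rfl

theorem Qd.act (h : Qd V x) (hx : x ∈ N[V]) : (act V x - 1) * (act V x - 1) = 0 :=
  end_ext fun v => by
    change (((W.act V x - 1) ((W.act V x - 1) v)).toMul : G) = 1
    rw [act_sub_apply hx, act_sub_apply hx, mem_C1_iff_conj.1 (mem_C1_comm.1 (h _ v.toMul.2)),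
      mul_inv_cancel]

theorem act_two (ho : Odd ♯V) (r : AddMonoid.End (Additive V)) (h : r + r = 0) : r = 0 :=
  end_ext fun v => eq_one_of_odd_of_sq (odd_orderOf ho (r v).toMul.2)
    (congrArg (fun s : AddMonoid.End (Additive V) => ((s v).toMul : G)) h)

theorem act_braid (hx : x ∈ N[V]) (hy : y ∈ N[V]) (h : x * y * x * (y * x * y)⁻¹ ∈ C[V]) :
    (1 + (act V x - 1)) * (1 + (act V y - 1)) * (1 + (act V x - 1)) =
      (1 + (act V y - 1)) * (1 + (act V x - 1)) * (1 + (act V y - 1)) := by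
  simp only [add_sub_cancel]
  have h1 := mul_mem (mul_mem hy hx) hy
  have := congrArg (· * act V (y * x * y)) ((act_eq_one (C_le_N _ h)).2 h)
  simp only [one_mul] at this
  rwa [← act_mul (C_le_N _ h) h1, inv_mul_cancel_right, act_mul (mul_mem hx hy) hx, act_mul hx hy,
    act_mul (mul_mem hy hx) hy, act_mul hy hx] at this

end Act

variable (hV : Abl V) (ho : Odd ♯V) (hx : x ∈ N[V]) (hy : y ∈ N[V]) (h1 : Qd V x) (h2 : Qd V y)
  (h : x * y * x * (y * x * y)⁻¹ ∈ C[V])
include hV ho hx hy h1 h2 h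

theorem braid_one' (h3 : x * y * x * (x * y * x) ∈ C[V]) : x * y⁻¹ ∈ C[V] := by
  haveI : IsMulCommutative V := hV
  have hn := mul_mem (mul_mem hx hy) hx
  have h4 := braid_one (act_two ho) (h1.act hx) (h2.act hy) (act_braid hx hy h) (by
    simp only [add_sub_cancel]
    rw [← act_mul hx hy, ← act_mul (mul_mem hx hy) hx, ← act_mul hn hn]
    exact (act_eq_one (mul_mem hn hn)).2 h3)
  have hy' := inv_mem hy
  rw [← act_eq_one (mul_mem hx hy'), act_mul hx hy', sub_left_inj.1 h4, ← act_mul hy hy',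
    mul_inv_cancel, act_eq_one (one_mem _)]
  exact one_mem _

theorem braid_neg' (h3 : Inv (x * y * x * (x * y * x)) V) {v : G} (hv : v ∈ V) :
    x * y * x * v * (x * y * x)⁻¹ = x * v * x⁻¹ * v⁻¹ * (y * v * y⁻¹ * v⁻¹) := by
  haveI : IsMulCommutative V := hV
  have hn := mul_mem (mul_mem hx hy) hx
  have h4 := braid_neg (act_two ho) (h1.act hx) (h2.act hy) (act_braid hx hy h) (by
    simp only [add_sub_cancel]
    rw [← act_mul hx hy, ← act_mul (mul_mem hx hy) hx, ← act_mul hn hn]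
    exact end_ext fun v => by rw [act_apply (mul_mem hn hn), h3 _ v.toMul.2]; rfl)
  simp only [add_sub_cancel] at h4
  rw [← act_mul hx hy, ← act_mul (mul_mem hx hy) hx] at h4
  have h5 := act_apply hn (Additive.ofMul ⟨v, hv⟩)
  rw [h4] at h5
  rw [← show _ = x * y * x * v * (x * y * x)⁻¹ from h5]
  exact congrArg₂ (· * ·) (act_sub_apply hx (Additive.ofMul ⟨v, hv⟩))
    (act_sub_apply hy (Additive.ofMul ⟨v, hv⟩))

end H13.W
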