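import Mathlib
import Cfsg.Agent.H13.WType

/-! The endgame: `u` centralises `O`. -/

set_option autoImplicit false
set_option linter.unusedSectionVars false
set_option linter.style.haveILetI false

namespace H13.W

open H24 H26 Cfsg Subgroup H13.Dih
open H22 (WR WA Bj hh sw HasOdd)
open scoped commutatorElement

universe u

variable {G : Type u} [Group G] [Finite G] {c : WC G} {M : Mod c}

namespace WC

variable (c)

theorem cjw_O : cj c.w c.O = 𝒪[C{c.u}] := by rw [c.cj_O, c.w_t]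
theorem cjw_H : cj c.w c.H = C{c.u} := by rw [c.cj_H, c.w_t]
theorem cjw_Ou : cj c.w 𝒪[C{c.u}] = 𝒪[C{c.t * c.u}] := by rw [← pcore_cj, cj_C1, c.w_u]
theorem cjw_Otu : cj c.w 𝒪[C{c.t * c.u}] = c.O := by rw [← pcore_cj, cj_C1, c.w_tu, O]
theorem cjσ_Ou : cj c.σ 𝒪[C{c.u}] = 𝒪[C{c.t * c.u}] := by rw [← pcore_cj, cj_C1, c.σ_u]
theorem cj_D {g : G} (hg : g ∈ N[c.V]) : cj g c.D = c.D := cj_of_mem_N (c.NV_le_ND hg)

theorem kp_of (h : c.S ≤ C[c.O]) : Kp G := by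
  intro t ht x hx hx2
  obtain ⟨g, e⟩ := c.invol_G ht
  have h1 : g * x * g⁻¹ ∈ c.H := by
    rw [WC.H, ← e, ← cj_C1]; exact conj_mem_cj g hx
  obtain ⟨y, hy, h2⟩ := Sylow_Jsub Nat.prime_two (c.S_syl_of c.S_le_H) (hx2.conj g).isPi
    (zpowers_le.2 h1)
  have h3 := h (h2 (conj_mem_cj y (mem_zpowers _)))
  rw [conj_mem_iff (N_le_NC _ (c.H_le_NO hy)), mem_C_iff_le_C1, ← cj_C1, le_cj_iff, c.cj_O,
    ← e] at h3
  simpa [mul_assoc] using h3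

end WC

namespace Mod

variable (M)

theorem img_CO (hq : M.d.N.q ≠ 3) (hk : c.O ≤ C{c.u}) : M.d.L ≤ img M.κ (c.H ⊓ C[c.O]) := by
  refine M.L_le_img hq le_rfl le_sup_left (c.O_nml.infC).norm (ne_bot_of_mem
    (ap_mem_img _ (mem_inf.2 ⟨c.u_mem_H, mem_C_iff_le_C1.2 hk⟩) c.u_mem_H) ?_)
  rw [M.κ_u]; exact M.d.û_ne c.hn

/-- `H` is generated by `D`, `O` and any subgroup covering `L` -/
theorem H_le {K R : Subgroup G} (hR : R ≤ c.H) (h1 : M.d.L ≤ img M.κ R) (h2 : R ≤ K)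
    (h3 : c.D ≤ K) (h4 : c.O ≤ K) : c.H ≤ K := by
  have h5 : K ⊓ c.H ≤ c.H := inf_le_right
  have := (M.cover_iff h5 (le_inf ((c.Z_le_E0.trans c.E0_le_D).trans h3) c.Z_le_H)).2
    (M.d.eq_top (h1.trans (img_mono _ (le_inf h2 hR)))
      (M.img_D.ge.trans (img_mono _ (le_inf h3 c.D_le_H))))
  exact this.trans (sup_le inf_le_left h4)

end Mod

namespace Hyp

variable (h : Hyp M) (hk : c.O ≤ C{c.u})
include hk

omit h in
theorem O_le_D : c.O ≤ c.D := le_inf c.O_le_H hk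

omit h in
theorem Ou_le_D : 𝒪[C{c.u}] ≤ c.D := by
  rw [← c.cjw_O, ← c.cj_D c.w_mem_NV]; exact cj_mono _ (O_le_D hk)

omit h in
theorem Otu_le_D : 𝒪[C{c.t * c.u}] ≤ c.D := by
  rw [← c.cjw_Ou, ← c.cj_D c.w_mem_NV]; exact cj_mono _ (Ou_le_D hk)

include h

theorem O_eq_bot_of_three (hq : M.d.N.q = 3) : c.O = ⊥ := by
  have h1 : 𝒪[C{c.u}] ≤ c.O := by
    refine M.le_O_of_img ((Ou_le_D hk).trans c.D_le_H) (odd_pcore _) ?_
    have h2 := ((img_mono _ (Ou_le_D hk)).trans M.img_D_le).trans (M.d.C_le_of_three c.hn hq)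
    refine (((pcore_pi _ _).img M.κ).eq_bot ?_)
    rw [compl_compl, ← M.img_E0] at *
    exact (c.E0_pi.img _).of_le h2
  have h2 : 𝒪[C{c.u}] = c.O := eq_of_card_eq h1 (by rw [← c.cjw_O, card_cj])
  exact h.eq_bot_of_HH c.odd_O c.H_le_NO (h2 ▸ (pcore_nml _ _).norm)

theorem O_inf_Ou : c.O ⊓ 𝒪[C{c.u}] = ⊥ := by
  by_cases hq : M.d.N.q = 3
  · rw [h.O_eq_bot_of_three hk hq, bot_inf_eq]
  have key : ∀ W ≤ c.O, c.D ≤ N[W] → c.H ≤ N[W] := fun W h1 h2 =>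
    M.H_le inf_le_left (M.img_CO hq hk) (norm_of_cent (cents_of_le inf_le_right h1)) h2
      ((O_le_D hk).trans h2)
  have hD : ∀ v ∈ c.V, c.D ≤ N[𝒪[C{v}]] := fun v hv => (c.D_le_C hv).trans (pcore_nml _ _).norm
  refine h.eq_bot_of_HH (odd_of_le c.odd_O inf_le_left)
    (key _ inf_le_left (norm_inf (hD _ c.t_mem_V) (hD _ c.u_mem_V))) ?_
  have := norm_cj (key (c.O ⊓ 𝒪[C{c.t * c.u}]) inf_le_left
    (norm_inf (hD _ c.t_mem_V) (hD _ c.tu_mem_V))) c.w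
  rwa [c.cjw_H, cj_inf, c.cjw_O, c.cjw_Otu, inf_comm] at this

theorem E0_cent : c.E0 ≤ C[c.O] := by
  rw [← comm_eq_bot', eq_bot_iff, ← h.O_inf_Ou hk]
  exact le_inf (comm_le_left (c.E0_le_H.trans c.H_le_NO))
    (M.comm_odd_D c.odd_O (O_le_D hk) c.u_mem_V (ne_one_of c.hu))

theorem S_cent : c.S ≤ C[c.O] := by
  refine c.S_le (h.E0_cent hk) ?_
  obtain ⟨f, hf, e⟩ := c.exists_fus
  rw [← conj_mem_iff (N_le_NC _ (c.H_le_NO hf)), e]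
  exact mem_C_iff_le_C1.2 hk

theorem kp : Kp G := c.kp_of (h.S_cent hk)

theorem img_Ou_le : img M.κ 𝒪[C{c.u}] ≤ M.d.T := by
  have hD : ∀ v ∈ c.V, c.D ≤ N[𝒪[C{v}]] := fun v hv => (c.D_le_C hv).trans (pcore_nml _ _).norm
  have h1 : 𝒪[C{c.u}] ≤ C[𝒪[C{c.t * c.u}]] := by
    refine cents_of_inf_eq_bot ((Ou_le_D hk).trans (hD _ c.tu_mem_V))
      ((Otu_le_D hk).trans (hD _ c.u_mem_V)) ?_
    rw [← c.cjw_Ou, ← c.cjw_O, ← cj_inf, c.cjw_O, h.O_inf_Ou hk, cj_bot]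
  have h2 := img_cent M.κ h1
  have h3 := img_norm M.κ (hD _ c.u_mem_V)
  rw [M.img_D] at h3
  intro φ hφ
  have hφe := ((img_mono _ (Ou_le_D hk)).trans M.img_D_le) hφ
  refine M.d.mem_T_of_comm c.hn hφe fun τ hτ => ?_
  have h4 : ⁅τ, φ⁆ ∈ img M.κ 𝒪[C{c.u}] ⊓ M.d.T :=
    mem_inf.2 ⟨mul_mem (conj_mem (h3 (M.d.T_le_C hτ)) hφ) (inv_mem hφ), by
      have := mul_mem hτ (conj_mem (M.d.C_norm_T c.hn hφe) (inv_mem hτ))
      rwa [commutatorElement_def, mul_assoc, mul_assoc, ← mul_assoc φ]⟩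
  rw [← M.d.cj_s_of_le inf_le_right, cj_inf, ← M.κ_σ, ← img_cj _ c.σ_mem_H, c.cjσ_Ou] at h4
  exact mem_C1.2 (mem_C.1 (h2 hφ) _ h4.1)

theorem ker_inf_Ou : pre M.κ ⊥ ⊓ 𝒪[C{c.u}] = ⊥ := by
  rw [M.ker_eq, eq_bot_iff, ← h.O_inf_Ou hk]
  exact fun x hx => ⟨Mod.mem_O_of_odd hx.1 (odd_orderOf (odd_pcore _) hx.2), hx.2⟩

theorem cyc_O : Cyc c.O := by
  rw [← cyc_cj (g := c.w), c.cjw_O]
  exact cyc_of_img ((Ou_le_D hk).trans c.D_le_H) (h.ker_inf_Ou hk)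
    (M.d.T_cyc.of_le (h.img_Ou_le hk))

theorem card_O_dvd : ♯c.O ∣ M.d.m' := by
  have h1 := card_dvd (h.img_Ou_le hk)
  rw [card_img_of_inf _ ((Ou_le_D hk).trans c.D_le_H) (h.ker_inf_Ou hk), ← c.cjw_O, card_cj,
    M.d.card_T, M.d.hm] at h1
  exact (((Nat.coprime_two_right.2 c.odd_O)).pow_right _).dvd_of_dvd_mul_left h1

theorem D_le_CE0 : c.D ≤ C[c.E0] := fun x hx => by
  obtain ⟨o, ho, e⟩ := M.lift_C c.D_le_H c.E0_le_D hx (M.κ_D hx)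
  simpa using mul_mem (inv_mem (cents_symm (h.E0_cent hk) ho.1)) e

theorem D0_cent (hq : M.d.N.q ≠ 3) : c.D ⊓ pre M.κ M.d.T ≤ C[c.O] := fun x hx => by
  have hK : (c.H ⊓ C[c.O]) ⊔ c.E0 ≤ c.H := sup_le inf_le_left c.E0_le_H
  have h1 : ap M.κ x ∈ img M.κ ((c.H ⊓ C[c.O]) ⊔ c.E0) := by
    rw [img_sup _ inf_le_left c.E0_le_H, M.img_E0]
    exact (M.d.L0_le.trans (sup_le_sup_right (M.img_CO hq hk) _)) (M.d.T_le (mem_pre.1 hx.2).2)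
  obtain ⟨y, hy, hyH, e⟩ := mem_img.1 h1
  have hxH := c.D_le_H hx.1
  have h2 : y⁻¹ * x ∈ c.O ⊔ c.Z := by
    rw [← M.mem_ker (mul_mem (inv_mem hyH) hxH), ap_mul _ (inv_mem hyH) hxH, ap_inv _ hyH, e,
      inv_mul_cancel]
  have h3 := sup_le (h.cyc_O hk).abl.le_C (c.Z_le_S.trans (h.S_cent hk)) h2
  simpa using mul_mem (sup_le inf_le_right (h.E0_cent hk) hy) h3

theorem D0_abl (hq : M.d.N.q ≠ 3) : Abl (c.D ⊓ pre M.κ M.d.T) := by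
  obtain ⟨τ, hτ, e⟩ := M.d.T_cyc.exists_gen
  have h1 : τ ∈ img M.κ c.D := M.img_D ▸ M.d.T_le_C hτ
  obtain ⟨y, hy, hyH, rfl⟩ := mem_img.1 h1
  have hy0 : y ∈ c.D ⊓ pre M.κ M.d.T := ⟨hy, mem_pre.2 ⟨hyH, hτ⟩⟩
  have h2 : c.D ⊓ pre M.κ M.d.T ≤ C[c.O ⊔ c.Z] :=
    cents_sup (h.D0_cent hk hq) (inf_le_left.trans ((h.D_le_CE0 hk).trans (C_anti c.Z_le_E0)))
  have h3 : c.O ⊔ c.Z ≤ c.D ⊓ pre M.κ M.d.T :=
    le_inf (sup_le (O_le_D hk) (c.Z_le_E0.trans c.E0_le_D)) (M.ker_eq ▸ ker_le_pre _ _)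
  refine Abl.of_le (Abl.sup (abl_zpowers y) (abl_iff.2 (h3.trans h2))
    ((zpowers_le.2 hy0).trans h2)) (inf_le_right.trans ?_)
  rw [← e, ← img_zpowers _ hyH, pre_img _ (zpowers_le.2 hyH), M.ker_eq]

theorem L0_eq_top : M.d.L0 = ⊤ := by
  by_cases hq : M.d.N.q = 3
  · rw [eq_top_iff, ← M.d.cover]
    exact sup_le le_rfl ((M.d.C_le_of_three c.hn hq).trans (zpowers_le.2 M.d.e_mem_L0))
  set D0 := c.D ⊓ pre M.κ M.d.T with hD0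
  have hDN : c.D ≤ N[D0] := norm_inf (norm_self _)
    (norm_pre c.D_le_H (M.img_D_le.trans (M.d.C_norm_T c.hn)))
  have hw : c.w ∈ N[D0] := by
    have h1 : cj c.w D0 ≤ c.D := (cj_mono _ inf_le_left).trans (c.cj_D c.w_mem_NV).le
    refine mem_N_of_cj_le (le_inf h1 ((img_le_iff (h1.trans c.D_le_H)).1 ?_))
    refine M.d.le_T_of_abl c.hn ((img_mono _ h1).trans M.img_D_le) (M.d.T_le_C.trans ?_)
      (((h.D0_abl hk hq).cj _).img _)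
    rw [← M.img_D]
    refine img_norm _ ?_
    have := norm_cj hDN c.w
    rwa [c.cj_D c.w_mem_NV] at this
  have key : ∀ g ∈ c.H, g ∈ N[c.D] → g ∈ centQ c.D D0 := fun g hg hgD => by
    have hm : ∀ y ∈ c.D, ⁅g, y⁆ ∈ D0 := fun y hy => by
      have h1 : ⁅g, y⁆ ∈ c.D := mul_mem (conj_mem hgD hy) (inv_mem hy)
      refine ⟨h1, mem_pre.2 ⟨c.D_le_H h1, M.d.mem_T c.hn ?_ (M.κ_D h1)⟩⟩
      rw [ap_commutator _ hg (c.D_le_H hy)]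
      exact M.d.L_le (M.d.comm_mem_L _ _)
    refine (mem_centQ hDN).2 ⟨mem_N_of_finite fun y hy => ?_, hm⟩
    simpa [commutatorElement_def] using mul_mem (hm y hy.1) hy
  have hwN : c.w ∈ N[centQ c.D D0] := norm_centQ (zpowers_le.2 (c.NV_le_ND c.w_mem_NV))
    (zpowers_le.2 hw) (mem_zpowers _)
  have hσ := key _ c.σ_mem_H (c.NV_le_ND c.σ_mem_NV)
  have hc := c.CE0_le_D c.σσw
  have h5 : c.w ∈ centQ c.D D0 := by
    have := mul_mem (inv_mem (key _ (c.D_le_H hc) (norm_self _ hc)))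
      (mul_mem hσ (conj_mem hwN hσ))
    convert this using 1; group
  refine h.twist fun y hy => ?_
  have h6 := ((mem_centQ hDN).1 h5).2 y hy
  have h7 : c.w * y * c.w⁻¹ ∈ c.H := c.D_le_H (conj_mem (c.NV_le_ND c.w_mem_NV) hy)
  rw [← ap_inv _ hy.1, ← ap_mul _ h7 (inv_mem hy.1)]
  exact M.d.T_le (mem_pre.1 h6.2).2

theorem O_central : c.O ≤ C[c.H] := by
  by_cases hq : M.d.N.q = 3
  · rw [h.O_eq_bot_of_three hk hq]; exact bot_le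
  refine cents_symm (M.H_le inf_le_left (M.img_CO hq hk) inf_le_right (fun x hx => ?_)
    (h.cyc_O hk).abl.le_C)
  refine h.D0_cent hk hq ⟨hx, mem_pre.2 ⟨c.D_le_H hx, M.d.mem_T c.hn ?_ (M.κ_D hx)⟩⟩
  rw [h.L0_eq_top hk]; exact mem_top _

end Hyp

end H13.W
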