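import Mathlib
import Cfsg.Agent.H13.WA2
import Cfsg.Agent.H13.WB0
import Cfsg.Agent.H13.WEnd

/-! Case B: `k` is a power of the characteristic, split case.  Basic facts. -/

set_option autoImplicit false
set_option linter.unusedSectionVars false
set_option linter.style.haveILetI false

namespace H13.W

open H24 H26 Cfsg Subgroup H13.Dih
open scoped commutatorElement

universe u

variable {G : Type u} [Group G] [Finite G] {c : WC G} {M : Mod c} {p r : ℕ} {U : Subgroup M.Γ}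
variable {A B K L N P Q R V X Y : Subgroup G} {g v : G}

theorem WC.inf_conj (c : WC G) (X : Subgroup G) (g : G) :
    X ⊓ C{g * c.t * g⁻¹} = cj g (cj g⁻¹ X ⊓ c.H) := by rw [cj_inf, cj_cj_inv, c.cj_H]

theorem pcore_le_odd (h2 : p ≠ 2) (L : Subgroup G) : O[{p}, L] ≤ 𝒪[L] :=
  pcore_mono L (singleton_subset_compl h2)

/-- the hypotheses of case B -/
structure HB (M : Mod c) (U : Subgroup M.Γ) (p : ℕ) : Prop extends Hyp M where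
  hε : M.d.N.ε = 1
  R : Roots M.d U
  ep : p = M.d.N.p
  k_ne : ¬ c.O ≤ C{c.u}
  k_pi : ∀ r, r.Prime → r ∣ c.k → r = p

namespace HB

variable (b : HB M U p)
include b

theorem hp : p.Prime := b.ep ▸ M.d.N.hp
theorem h2 : p ≠ 2 := b.ep ▸ M.d.N.p_ne
theorem hq : M.d.N.q ≠ 3 := M.d.q_ne_three c.hn b.hε
theorem piU : IsPi {p} U := b.ep ▸ b.R.pi
theorem odd (hX : IsPi {p} X) : Odd ♯X := odd_of_pi b.h2 hX

theorem le_D_of_O (hr : r.Prime) (hrp : r ≠ p) (hX : IsPi {r} X) (h1 : X ≤ c.O) (h3 : c.V ≤ N[X]) :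
    X ≤ c.D := by
  obtain ⟨S0, h4⟩ := Sylow_exists hr (c.O ⊓ C{c.u})
  have h5 : Syl r c.O S0 := h4.of_idx inf_le_left
    ((piNat_compl_singleton hr).2 fun h => hrp (b.k_pi r hr h))
  have h6 : S0 ≤ C[c.V] := c.C_V ▸ h4.le.trans (inf_le_inf_right _ c.O_le_H)
  have hV := c.V_le_S.trans (c.S_le_H.trans c.H_le_NO)
  obtain ⟨R, r1, r2, r3⟩ := syl_sup2 c.odd_O c.V_pi hV hX h1 h3
  obtain ⟨g, hg, rfl⟩ := syl_trans2 c.odd_O c.V_pi hV h5 (norm_of_cent (cents_symm h6)) r1 r2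
  exact c.C_V ▸ r3.trans (cj_le_of_mem h6 hg.2)

theorem inf_H_le_D (hr : r.Prime) (h2 : r ≠ 2) (hrp : r ≠ p) (hX : IsPi {r} X) (h1 : c.E0 ≤ N[X]) :
    X ⊓ c.H ≤ c.D := by
  have h3 : c.E0 ≤ N[X ⊓ c.H] := norm_inf h1 (norm_of_le c.E0_le_H)
  rw [← (cent_prod2 (odd_of_pi h2 (hX.inf_left _)) c.E0_pi h3).sup_eq]
  exact sup_le (b.le_D_of_O hr hrp ((hX.inf_left _).of_le (comm_le_left h3))
    (M.rootfree hr h2 (Or.inr (b.ep ▸ hrp)) hX h1 c.t_mem_V (ne_one_of c.ht))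
    (c.V_le_E0.trans (norm_comm h3 (norm_self _)))) (inf_le_right.trans c.CE0_le_D)

theorem le_D (hr : r.Prime) (h2 : r ≠ 2) (hrp : r ≠ p) (hX : IsPi {r} X) (h1 : c.E0 ≤ N[X]) :
    X ≤ c.D := by
  have key : ∀ v ∈ c.V, v ≠ 1 → X ⊓ C{v} ≤ c.D := fun v hv h3 => by
    obtain ⟨g, hg, rfl⟩ := c.exists_conj hv h3
    rw [c.inf_conj]
    exact cj_le_of_mem_N (b.inf_H_le_D hr h2 hrp (hX.cj _) (norm_cj_of (inv_mem hg) h1))
      (c.NE0_le_ND hg)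
  exact c.four.gen (odd_of_pi h2 hX) (c.V_le_E0.trans h1) (key _ c.t_mem_V (ne_one_of c.ht))
    (key _ c.u_mem_V (ne_one_of c.hu)) (key _ c.tu_mem_V (ne_one_of c.htu))

theorem comm_V_le (hB : Odd ♯B) (h1 : c.E0 ≤ N[B]) : ⁅B, c.V⁆ ≤ O[{p}, B] := by
  obtain ⟨K, hK, h3⟩ := coprime_Hall_exists ({p} : Set ℕ)ᶜ h1 (cop2 hB c.E0_pi) (sol_of_odd hB)
  have hKo := odd_of_le hB hK.le
  refine coprime_comm_pcore (c.V_le_E0.trans h1) (cop2 hB c.V_pi) (sol_of_odd hB) hK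
    (le_of_syl_le fun r hr h4 => ?_)
  obtain ⟨R, r1, r2, -⟩ := syl_sup2 hKo c.E0_pi h3 (isPi_bot {r}) bot_le (by simp)
  exact ⟨R, r1, c.C_V ▸ b.le_D hr ((isPi_odd.2 hKo).mem hr h4) (hK.pi.mem hr h4) r1.pi r2⟩

theorem core_comm (hE : c.E0 ≤ L) : ⁅𝒪[L], c.V⁆ ≤ O[{p}, L] :=
  (b.comm_V_le (odd_pcore _) (hE.trans (pcore_nml _ _).norm)).trans ((pcore_nml _ _).pcore_le _)

theorem core_le (hE : c.E0 ≤ L) : 𝒪[L] ≤ O[{p}, L] ⊔ (𝒪[L] ⊓ c.D) := by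
  rw [← c.C_V]
  exact (cent_prod2 (odd_pcore _) c.V_pi
    (c.V_le_E0.trans (hE.trans (pcore_nml _ _).norm))).sup_eq.ge.trans
      (sup_le_sup_right (b.core_comm hE) _)

theorem O_le : c.O ≤ O[{p}, c.H] ⊔ (c.O ⊓ c.D) := b.core_le c.E0_le_H

theorem P_le_O : O[{p}, c.H] ≤ c.O := pcore_le_odd b.h2 _

theorem P_not_le : ¬ O[{p}, c.H] ≤ C{c.u} := fun h =>
  b.k_ne (b.O_le.trans (sup_le h (inf_le_right.trans inf_le_right)))

theorem P_ne_bot : O[{p}, c.H] ≠ ⊥ := fun h => b.P_not_le (h.le.trans bot_le)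

theorem le_P (hX : IsPi {p} X) (h1 : X ≤ c.O) (hD : c.D ≤ N[X]) : X ≤ O[{p}, c.H] := by
  have hP := pcore_nml {p} c.H
  refine le_sup_right.trans ((pcore_max ((pcore_pi _ _).sup hX (h1.trans (c.O_le_H.trans hP.norm)))
    ⟨sup_le b.P_le_O h1, b.O_le.trans (sup_le (norm_of_le le_sup_left) (inf_le_right.trans
      (norm_sup (c.D_le_H.trans hP.norm) hD)))⟩).trans (c.O_nml.pcore_le _))

theorem le_Pv (hv : v ∈ c.V) (h0 : v ≠ 1) (hX : IsPi {p} X) (h1 : X ≤ 𝒪[C{v}]) (hD : c.D ≤ N[X]) :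
    X ≤ O[{p}, C{v}] := by
  obtain ⟨g, hg, rfl⟩ := c.exists_conj hv h0
  rw [← c.cj_O, le_cj_iff] at h1
  rw [← c.cj_H, pcore_cj, le_cj_iff]
  exact b.le_P (hX.cj _) h1 (norm_cj_of (inv_mem (c.NE0_le_ND hg)) hD)

theorem img_norm (hD : c.D ≤ N[X]) : C{M.d.e} ≤ N[img M.κ X] := M.img_D ▸ H24.img_norm _ hD

theorem img_cases (hX : IsPi {p} X) (hD : c.D ≤ N[X]) :
    img M.κ X = ⊥ ∨ img M.κ X = U ∨ img M.κ X = cj M.d.s U :=
  b.R.inv_sub _ (b.ep ▸ hX.img _) (b.img_norm hD)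

theorem inf_ker_le (hX : IsPi {p} X) (hD : c.D ≤ N[X]) : pre M.κ ⊥ ⊓ X ≤ O[{p}, c.H] :=
  b.le_P (hX.inf_right _) (M.le_O_of_img (inf_le_left.trans (pre_le _ _))
    (b.odd (hX.inf_right _)) (eq_bot_of_le (img_ker _) (img_mono _ inf_le_left)))
    (norm_inf (c.D_le_H.trans (ker_nml _).norm) hD)

theorem le_P_of_img (hX : IsPi {p} X) (hD : c.D ≤ N[X]) (hH : X ≤ c.H) (h : img M.κ X = ⊥) :
    X ≤ O[{p}, c.H] := (le_inf ((img_eq_bot hH).1 h) le_rfl).trans (b.inf_ker_le hX hD)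

theorem Q_le (hv : v ∈ c.V) (h0 : v ≠ 1) : O[{p}, c.D] ≤ O[{p}, C{v}] := by
  obtain ⟨g, hg, rfl⟩ := c.exists_conj hv h0
  rw [← c.cj_H, pcore_cj, ← cj_of_mem_N (c.NE0_le_ND hg), pcore_cj, cj_le_cj]
  have hD := (pcore_nml {p} c.D).norm
  exact b.le_P_of_img (pcore_pi _ _) hD ((pcore_le _ _).trans c.D_le_H)
    (b.R.eq_bot_of_le_C c.hn (b.ep ▸ (pcore_pi _ _).img _) (b.img_norm hD)
      ((img_mono _ (pcore_le _ _)).trans M.img_D_le))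

omit b in
theorem inf_D_le (hX : IsPi {p} X) (hD : c.D ≤ N[X]) : X ⊓ c.D ≤ O[{p}, c.D] :=
  pcore_max (hX.inf_left _) (nml_inf_of_norm' hD)

section Y

variable (hY : MaxInv p c.H Y)
include hY

theorem P_le_Y : O[{p}, c.H] ≤ Y := le_sup_right.trans (hY.max _ (hY.pi.sup (pcore_pi _ _)
  ((pcore_le _ _).trans hY.norm)) (norm_sup hY.norm (pcore_nml _ _).norm) le_sup_left).le

theorem Y_inf_H : Y ⊓ c.H ≤ O[{p}, c.H] :=
  pcore_max (hY.pi.inf_left _) (nml_inf_of_norm' hY.norm)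

theorem Y_ne_bot : Y ≠ ⊥ := ne_bot_of_le b.P_ne_bot (b.P_le_Y hY)

theorem N_le (h0 : A ≠ ⊥) (hA : Odd ♯A) (h1 : c.H ≤ N[A]) (h3 : Y ≤ N[A]) : N[A] ≤ Y ⊔ c.H := by
  intro x hx
  obtain ⟨o, ho, e⟩ := b.iso (Cov.of_H h1) (Hyp.core_N_ne_bot h0 hA) x hx
  have hP := pcore_nml {p} N[A]
  have h4 : O[{p}, N[A]] ≤ Y := le_sup_left.trans (hY.max _ ((pcore_pi _ _).sup hY.pi
    (h3.trans hP.norm)) (norm_sup (h1.trans hP.norm) hY.norm) le_sup_right).le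
  have h5 := ((b.core_le (c.E0_le_H.trans h1)).trans
    (sup_le_sup h4 (inf_le_right.trans c.D_le_H))) ho
  simpa using mul_mem (inv_mem h5) (mem_sup_right e)

theorem Y_not_le : ¬ Y ≤ c.H := fun h => by
  have hP := pcore_nml {p} c.H
  have h1 := (b.N_le hY b.P_ne_bot (b.odd (pcore_pi _ _)) hP.norm (h.trans hP.norm)).trans
    (sup_le h le_rfl)
  obtain ⟨r, hr, h3⟩ := Nat.exists_prime_and_dvd (n := c.k) fun e => b.k_ne
    (((relIndex_eq_one.1 e).trans inf_le_right))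
  have h4 := b.dvd_invol b.hp (b.k_pi r hr h3 ▸ h3) (pcore_pi {p} c.H)
  have h5 : {a : G | orderOf a = 2 ∧ a ∈ C[O[{p}, c.H]]} = {c.t} := by
    ext a
    refine ⟨fun ⟨ha, h6⟩ => by_contra fun h7 => ?_, ?_⟩
    · obtain ⟨g, hg, e⟩ := c.invol_H (h1 (C_le_N _ h6)) ha h7
      exact b.P_not_le (mem_C_iff_le_C1.1 (e ▸ conj_mem (N_le_NC _ (hP.norm hg)) h6))
    · rintro rfl
      exact ⟨c.ht, mem_C_iff_le_C1.2 hP.le⟩
  rw [h5, Set.ncard_singleton] at h4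
  exact b.hp.one_lt.ne' (Nat.dvd_one.1 h4)

theorem Y_inf_u : Y ⊓ C{c.u} ≤ 𝒪[C{c.u}] := by
  by_contra h
  obtain ⟨A, hA, ⟨a1, a2, a3⟩, hm⟩ := exists_min (H := Y) (P := fun A => O[{p}, c.H] ≤ A ∧
    c.H ≤ N[A] ∧ ¬ A ⊓ C{c.u} ≤ 𝒪[C{c.u}]) ⟨b.P_le_Y hY, hY.norm, h⟩
  have hAp := hY.pi.of_le hA
  have hP := pcore_nml {p} c.H
  have h0 : c.H ≤ N[O[{p}, c.H] ⊔ Phi A] := norm_sup hP.norm (norm_Phi a2)
  have h1 : O[{p}, c.H] ⊔ Phi A ≤ A := sup_le a1 (Phi_le _)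
  refine b.P_ne_bot (eq_bot_of_le (b.root b.hε _ A (b.ep ▸ hAp) h1 h0 a2
    ((hAp.der1_le_Phi b.hp).trans le_sup_right) ?_ (by_contra fun h3 => a3 ?_) a3) le_sup_left)
  · have := (inf_le_inf_right _ hA).trans (b.Y_inf_H hY)
    exact le_inf (this.trans le_sup_left) (this.trans b.P_le_O)
  · rw [← Phi_nongen a1 (hm _ ⟨le_sup_left, h0, h3⟩ h1).ge]
    exact ((le_inf inf_le_left (inf_le_inf_right _ hP.le)).trans (inf_D_le (pcore_pi _ _)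
      (c.D_le_H.trans hP.norm))).trans ((b.Q_le c.u_mem_V (ne_one_of c.hu)).trans
        (pcore_le_odd b.h2 _))

theorem Y_inf (hv : v ∈ c.V) (h0 : v ≠ 1) : Y ⊓ C{v} ≤ 𝒪[C{v}] := by
  rcases c.mem_V.1 hv with rfl | rfl | rfl | rfl
  · exact absurd rfl h0
  · exact (b.Y_inf_H hY).trans b.P_le_O
  · exact b.Y_inf_u hY
  · have := cj_mono c.σ (b.Y_inf_u hY)
    rwa [cj_inf, cj_C1, c.σ_u, c.cjσ_Ou, cj_of_mem_N (hY.norm c.σ_mem_H)] at this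

end Y

end HB

end H13.W
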