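import Mathlib
import Cfsg.Agent.H13.WB1

/-! Case B: the subgroup `L1` of `H` with `L1 / P ≅ SL₂(q)` and the root group `U1`. -/

set_option autoImplicit false
set_option linter.unusedSectionVars false
set_option linter.style.haveILetI false

namespace H13.W

open H24 H26 Cfsg Subgroup H13.Dih
open scoped commutatorElement

universe u

variable {G : Type u} [Group G] [Finite G] {c : WC G} {M : Mod c} {p r : ℕ} {U : Subgroup M.Γ}
variable {A B K L N P Q R S V X Y : Subgroup G} {g v x y : G}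

theorem comm_le_of_cyc {Γ : Type*} [Group Γ] {D : Subgroup G} {f : D →* Γ} (hS : S ≤ D)
    (hc : Cyc (img f S)) (hK : S ≤ N[K]) (h : ⁅S ⊓ pre f ⊥, S⁆ ≤ K) : ⁅S, S⁆ ≤ K := by
  obtain ⟨z, hz, e⟩ := hc.exists_gen
  obtain ⟨s, hs, hsD, rfl⟩ := mem_img.1 hz
  have h1 := zpowers_le.2 hs
  have h2 : S ≤ (S ⊓ pre f ⊥) ⊔ zpowers s := by
    rw [inf_comm, group_modr ((h1.trans hS).trans (ker_nml f).norm) h1]
    refine le_inf (((img_le_img_iff hS (h1.trans hS)).1 ?_).trans (sup_comm _ _).le) le_rfl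
    rw [img_zpowers _ hsD, e]
  have h3 : ⁅S, zpowers s⁆ ≤ K := (comm_mono_left h2).trans (comm_sup_le (h1.trans hK)
    (inf_le_left.trans hK) (h1.trans hK) ((comm_mono_right h1).trans h)
    (comm_le_of_cent (abl_zpowers s).le_C))
  exact (comm_mono_left h2).trans (comm_sup_le hK (inf_le_left.trans hK) (h1.trans hK) h
    ((commC _ _).le.trans h3))

namespace Mod

variable (M p U)

def C2 : Subgroup G := c.H ⊓ centQ c.O O[{p}, c.H] ⊓ pre M.κ M.d.L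
def L1 : Subgroup G := ⁅M.C2 p, M.C2 p⁆ ⊔ O[{p}, c.H]
def W1 : Subgroup G := M.L1 p ⊓ pre M.κ U
def U1 : Subgroup G := O[{p}, M.W1 p U]

theorem C2_nml : M.C2 p ⊴ c.H := by
  haveI := M.d.L_nml
  exact (nml_inf_of_norm (norm_centQ c.H_le_NO (pcore_nml _ _).norm)).inf
    ⟨pre_le _ _, norm_pre le_rfl (norm_of_normal _ _)⟩

theorem C2_comm : ⁅M.C2 p, c.O⁆ ≤ O[{p}, c.H] :=
  ((le_centQ (c.O_le_H.trans (pcore_nml _ _).norm)).1 (inf_le_left.trans inf_le_right)).2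

theorem L1_nml : M.L1 p ⊴ c.H := (M.C2_nml p).der1.sup (pcore_nml _ _)
theorem P_le_L1 : O[{p}, c.H] ≤ M.L1 p := le_sup_right
theorem U1_le : M.U1 p U ≤ M.L1 p := (pcore_le _ _).trans inf_le_left
theorem U1_le_H : M.U1 p U ≤ c.H := (M.U1_le p U).trans (M.L1_nml p).le
theorem U1_pi : IsPi {p} (M.U1 p U) := pcore_pi _ _
theorem W1_le_H : M.W1 p U ≤ c.H := inf_le_right.trans (pre_le _ _)
theorem norm_W1 (hX : X ≤ c.H) (h : img M.κ X ≤ N[U]) : X ≤ N[M.W1 p U] :=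
  norm_inf (hX.trans (M.L1_nml p).norm) (norm_pre hX h)
theorem norm_U1 (hX : X ≤ c.H) (h : img M.κ X ≤ N[U]) : X ≤ N[M.U1 p U] :=
  norm_pcore _ (M.norm_W1 p U hX h)
theorem mem_N_U1 (hx : x ∈ c.H) (h : ap M.κ x ∈ N[U]) : x ∈ N[M.U1 p U] :=
  M.norm_U1 p U (zpowers_le.2 hx) (by rwa [img_zpowers _ hx, zpowers_le]) (mem_zpowers x)

end Mod

namespace HB

variable (b : HB M U p)
include b

theorem img_P : img M.κ O[{p}, c.H] = ⊥ := eq_bot_of_le M.img_O (img_mono _ b.P_le_O)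

theorem P_le_W1 : O[{p}, c.H] ≤ M.W1 p U :=
  le_inf (M.P_le_L1 p) ((img_le_iff (pcore_le _ _)).1 (b.img_P.le.trans bot_le))

theorem P_le_U1 : O[{p}, c.H] ≤ M.U1 p U :=
  pcore_max (pcore_pi _ _) ((pcore_nml _ _).of_le b.P_le_W1 (M.W1_le_H p U))

theorem D_norm_U1 : c.D ≤ N[M.U1 p U] := M.norm_U1 p U c.D_le_H (M.img_D_le.trans b.R.norm)

theorem img_C2 : img M.κ (M.C2 p) = M.d.L := by
  rw [Mod.C2, img_inf_pre, inf_eq_right]
  have hP := pcore_nml {p} c.H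
  refine M.L_le_img b.hq le_rfl le_sup_left
    (nml_inf_of_norm (norm_centQ c.H_le_NO hP.norm)).norm (ne_bot_of_mem (ap_mem_img _
      (mem_inf.2 ⟨c.u_mem_H, ((le_centQ (c.O_le_H.trans hP.norm)).2 ⟨c.V_le_S.trans
        (c.S_le_H.trans hP.norm), (commC _ _).le.trans (b.core_comm c.E0_le_H)⟩) c.u_mem_V⟩)
      c.u_mem_H) ?_)
  rw [M.κ_u]; exact M.d.û_ne c.hn

theorem img_L1 : img M.κ (M.L1 p) = M.d.L := by
  have h := (M.C2_nml p).le
  rw [Mod.L1, img_sup _ ((der1_le _).trans h) (pcore_le _ _), b.img_P, sup_bot_eq, img_comm _ h h,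
    b.img_C2, M.d.perfect b.hq]

theorem det_L1 (hx : x ∈ M.L1 p) : ap M.det x = 1 := by
  have h := (M.C2_nml p).le
  refine (mem_pre_bot.1 ((sup_le ((comm_le_ker h h).2 (le_C_iff.2 fun a _ b _ => mul_comm a b))
    fun y hy => mem_pre_bot.2 ⟨pcore_le _ _ hy, M.det_odd (pcore_le _ _ hy)
      (odd_orderOf (b.odd (pcore_pi _ _)) hy)⟩ : M.L1 p ≤ pre M.det ⊥) hx)).2

theorem t_mem_L1 : c.t ∈ M.L1 p :=
  M.t_mem ((M.L1_nml p).norm c.u_mem_H) (b.img_L1 ▸ M.d.s_mem)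

theorem L1_inf_O : M.L1 p ⊓ c.O ≤ O[{p}, c.H] := by
  have hP := pcore_nml {p} c.H
  have hC := M.C2_nml p
  have hPC : O[{p}, c.H] ≤ M.C2 p := le_inf (le_inf hP.le ((le_centQ (c.O_le_H.trans hP.norm)).2
    ⟨norm_self _, comm_le_left (c.O_le_H.trans hP.norm)⟩))
    ((img_le_iff hP.le).1 (b.img_P.le.trans bot_le))
  have hN := hC.le.trans hP.norm
  refine pcore_max (isPi_def.2 fun r hr h1 => by_contra fun h3 => ?_) ((M.L1_nml p).inf c.O_nml)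
  have ho : Odd ♯(M.L1 p ⊓ c.O) := odd_of_le c.odd_O inf_le_right
  have h2 : r ≠ 2 := (isPi_odd.2 ho).mem hr h1
  obtain ⟨R, hR⟩ := Sylow_exists hr (M.L1 p ⊓ c.O)
  have hRC : R ≤ M.C2 p := hR.le.trans (inf_le_left.trans (sup_le (der1_le _) hPC))
  obtain ⟨S, hS, hRS⟩ := Sylow_superset hr hR.pi hRC
  have hSH := hS.le.trans hC.le
  have h4 : ⁅S, S⁆ ≤ O[{p}, c.H] := comm_le_of_cyc hSH (M.d.cyc_syl r hr h2 (b.ep ▸ h3) _
    (((img_mono _ hS.le).trans b.img_C2.le).trans M.d.L_le) (hS.pi.img _)) (hS.le.trans hN)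
    ((commutator_mono (M.le_O_of_img (inf_le_left.trans hSH) (odd_of_pi h2 (hS.pi.inf_left _))
      (eq_bot_of_le (img_ker _) (img_mono _ inf_le_right))) hS.le).trans
      ((commC _ _).le.trans (M.C2_comm p)))
  have h5 := abl_syl_inf (hS.quo hN) ((abl_quo (hS.le.trans hN)).2 h4)
  have h6 : R ≤ O[{p}, c.H] := by
    rw [← quo_eq_bot (hRC.trans hN)]
    refine eq_bot_of_le h5 (le_inf (le_inf (quo_mono _ hRS) ?_) ?_)
    · rw [← quo_comm hN hN, ← quo_sup_right ((der1_le _).trans hN)]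
      exact quo_mono _ (hR.le.trans inf_le_left)
    · rw [quo_cents (hRC.trans hN) hN]
      exact (comm_mono_left (hR.le.trans inf_le_right)).trans ((commC _ _).le.trans (M.C2_comm p))
  exact hR.ne_bot hr rfl h1 (hR.pi.eq_bot (((pcore_pi _ _).of_le h6).compl_of_ne (Ne.symm h3)))

theorem ker_L1 (hx : x ∈ M.L1 p) (h : ap M.κ x = 1) :
    x ∈ O[{p}, c.H] ∨ x * c.t ∈ O[{p}, c.H] :=
  (M.ker_det ((M.mem_ker ((M.L1_nml p).le hx)).1 h) (b.det_L1 hx)).imp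
    (fun h1 => b.L1_inf_O ⟨hx, h1⟩) fun h1 => b.L1_inf_O ⟨mul_mem hx b.t_mem_L1, h1⟩

/-- elements of odd order of `L1` with the same image -/
theorem odd_eq (hx : x ∈ M.L1 p) (hy : y ∈ M.L1 p) (h1 : Odd (orderOf x)) (h2 : Odd (orderOf y))
    (h : ap M.κ x = ap M.κ y) : x * y⁻¹ ∈ O[{p}, c.H] := by
  have hH := (M.L1_nml p).le
  have hP := pcore_nml {p} c.H
  refine (b.ker_L1 (mul_mem hx (inv_mem hy)) (by
    rw [ap_mul _ (hH hx) (inv_mem (hH hy)), ap_inv _ (hH hy), h, mul_inv_cancel])).resolve_right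
    fun h3 => ?_
  have h4 : Odd ♯(O[{p}, c.H] ⊔ zpowers y) := odd_sup (b.odd (pcore_pi _ _))
    (by rwa [card_zpowers']) (zpowers_le.2 (hP.norm (hH hy)))
  have h5 := mul_mem (mem_sup_left h3 : _ ∈ O[{p}, c.H] ⊔ zpowers y) (mem_sup_right (mem_zpowers y))
  have h6 : x * y⁻¹ * c.t * y = c.t * x := by
    rw [mul_assoc, mul_assoc, ← mem_C1.1 (hH hy), ← mem_C1.1 (hH hx)]; group
  rw [h6] at h5
  exact not_mem_of_odd h4 c.ht (zpowers_le.2 h5 (mem_zpowers_of_comm c.ht h1 (mem_C1.1 (hH hx)).symm))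

theorem img_W1 : img M.κ (M.W1 p U) = U := by
  rw [Mod.W1, img_inf_pre, b.img_L1, inf_eq_right.2 b.R.le]

theorem syl_U1 : Syl p (M.W1 p U) (M.U1 p U) := by
  obtain ⟨S, hS, h1⟩ := Sylow_superset b.hp (pcore_pi _ _) b.P_le_W1
  have hW := M.W1_le_H p U
  refine hS.pcore_hall fun x hx => ?_
  have h2 := (hS.img M.κ hW).eq_self (b.img_W1.symm ▸ b.piU)
  obtain ⟨s, hs, hsH, e⟩ := mem_img.1 (h2.ge (ap_mem_img _ hx (hW hx)))
  have h3 : c.t ∈ N[S] := C_le_N _ (mem_C_iff_le_C1.2 (hS.le.trans hW))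
  have h4 := b.ker_L1 (mul_mem (inv_mem (mem_inf.1 (hS.le hs)).1) (mem_inf.1 hx).1)
    (by rw [ap_mul _ (inv_mem hsH) (hW hx), ap_inv _ hsH, e, inv_mul_cancel])
  have h5 : s⁻¹ * x ∈ N[S] := by
    rcases h4 with h | h
    · exact norm_self _ (h1 h)
    · simpa using mul_mem (norm_self _ (h1 h)) (inv_mem h3)
  simpa using mul_mem (norm_self _ hs) h5

theorem img_U1 : img M.κ (M.U1 p U) = U := by
  have := (b.syl_U1.img M.κ (M.W1_le_H p U)).eq_self (b.img_W1.symm ▸ b.piU)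
  rwa [b.img_W1] at this

theorem le_U1' (hX : IsPi {p} X) (h1 : X ≤ M.L1 p) (h : img M.κ X ≤ U) : X ≤ M.U1 p U :=
  b.syl_U1.le_pcore hX (le_inf h1 ((img_le_iff (h1.trans (M.L1_nml p).le)).1 h))

theorem exists_U1 {z : M.Γ} (hz : z ∈ U) : ∃ x ∈ M.U1 p U, ap M.κ x = z := by
  obtain ⟨x, hx, -, e⟩ := mem_img.1 (b.img_U1.ge hz)
  exact ⟨x, hx, e⟩

theorem κ_U1 (hx : x ∈ M.U1 p U) : ap M.κ x ∈ U := b.img_U1.le (ap_mem_img _ hx (M.U1_le_H p U hx))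

theorem le_U1 (hX : IsPi {p} X) (hD : c.D ≤ N[X]) (hH : X ≤ c.H) (h : img M.κ X ≤ U) :
    X ≤ M.U1 p U := by
  have hU := M.U1_le_H p U
  have h1 := M.norm_U1 p U hH (h.trans (norm_self _))
  have h2 : M.U1 p U ⊔ X ≤ M.U1 p U ⊔ pre M.κ ⊥ := by
    rw [← img_le_img_iff (sup_le hU hH) hU, img_sup _ hU hH, b.img_U1]
    exact sup_le le_rfl h
  refine le_sup_right.trans ((le_inf h2 le_rfl).trans ?_)
  rw [← group_modl' (hU.trans (ker_nml _).norm) le_sup_left]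
  exact sup_le le_rfl ((b.inf_ker_le ((M.U1_pi p U).sup hX h1)
    (norm_sup b.D_norm_U1 hD)).trans b.P_le_U1)

/-- `D`-invariant `p`-subgroups of `H` -/
theorem le_U1_or (hX : IsPi {p} X) (hD : c.D ≤ N[X]) (hH : X ≤ c.H) :
    X ≤ M.U1 p U ∨ cj c.σ X ≤ M.U1 p U := by
  rcases b.img_cases hX hD with h | h | h
  · exact Or.inl (b.le_U1 hX hD hH (h.le.trans bot_le))
  · exact Or.inl (b.le_U1 hX hD hH h.le)
  · refine Or.inr (b.le_U1 (hX.cj _) (norm_cj_of (c.NV_le_ND c.σ_mem_NV) hD)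
      (cj_le_of_mem hH c.σ_mem_H) ?_)
    rw [img_cj _ c.σ_mem_H, h, M.κ_σ, ← cj_mul, M.d.s_sq, cj_one]

end HB

end H13.W
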