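import Mathlib
import Cfsg.Agent.H13.WB2

/-! Case B: root elements do not act quadratically. -/

set_option autoImplicit false
set_option linter.unusedSectionVars false
set_option linter.style.haveILetI false

namespace H13.W

open H24 H26 Cfsg Subgroup H13.Dih
open scoped commutatorElement

universe u

variable {G : Type u} [Group G] [Finite G] {c : WC G} {M : Mod c} {p r : ℕ} {U : Subgroup M.Γ}
variable {A B J K L N P Q R S V X Y : Subgroup G} {g v x y : G}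

theorem mem_stab (hA : Abl A) (hB : B ≤ A) :
    x ∈ centQ A B ↔ ∀ v ∈ A, x * v * x⁻¹ * v⁻¹ ∈ B := by
  rw [mem_centQ (hA.norm le_rfl hB)]
  exact ⟨fun h => h.2, fun h => ⟨mem_N_of_finite fun v hv => by
    simpa using mul_mem (h v (hB hv)) hv, h⟩⟩

namespace HB

variable (b : HB M U p)
include b

theorem big_img (hJ : J ≤ M.L1 p ⊔ c.Z) (ho : Odd ♯J)
    (h : ♯(M.L1 p ⊔ c.Z) ≤ ♯J * (M.d.N.q ^ 2 - 1)) : J ≤ M.L1 p ∧ M.d.N.q < ♯(img M.κ J) := by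
  have hL := M.L1_nml p
  have hZ := c.Z_le_H.trans hL.norm
  have h1 : J ≤ M.L1 p := le_of_idx_compl' (nml_sup_left hZ)
    (by rw [relIndex_sup_of_norm hZ]; exact c.Z_pi.relIndex _) (isPi_odd.2 ho) hJ
  refine ⟨h1, ?_⟩
  have hP := pcore_nml {p} c.H
  have h2 := card_img_mul M.κ (sup_le hL.le c.Z_le_H)
  have h3 := card_img_mul M.κ (h1.trans hL.le)
  have hZk : c.Z ≤ pre M.κ ⊥ := M.ker_eq ▸ le_sup_right
  rw [img_sup _ hL.le c.Z_le_H, b.img_L1, (img_eq_bot c.Z_le_H).2 hZk, sup_bot_eq] at h2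
  have h4 : ♯(pre M.κ ⊥ ⊓ J) ≤ ♯O[{p}, c.H] := card_le ((le_inf (inf_le_right.trans h1)
    (M.le_O_of_img (inf_le_left.trans (pre_le _ _)) (odd_of_le ho inf_le_right)
      (eq_bot_of_le (img_ker _) (img_mono _ inf_le_left)))).trans b.L1_inf_O)
  have h5 : ♯O[{p}, c.H] * 2 ^ c.n ≤ ♯(pre M.κ ⊥ ⊓ (M.L1 p ⊔ c.Z)) := by
    rw [← c.card_Z, ← card_sup_of_inf (c.Z_le_H.trans hP.norm)
      ((isPi_odd.2 (b.odd (pcore_pi _ _))).inf_eq_bot' c.Z_pi)]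
    exact card_le (le_inf (sup_le ((img_eq_bot hP.le).1 b.img_P) hZk)
      (sup_le_sup_right (M.P_le_L1 p) _))
  have h6 := card_mul_relIndex M.d.L_le
  rw [M.d.L_index, M.d.card_L0] at h6
  have h7 : 4 ≤ 2 ^ c.n := by simpa using Nat.pow_le_pow_right (show 0 < 2 by norm_num) c.hn
  have h8 := M.d.N.hm
  have h9 := M.d.N.hn
  have h10 := M.d.N.three_le_q
  rw [b.hε] at h8 h9
  have h11 : M.d.N.q ^ 2 - 1 = M.d.N.m * M.d.N.n := by
    have : (M.d.N.q ^ 2 : ℤ) = M.d.N.m * M.d.N.n + 1 := by rw [h8, h9]; ring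
    have : M.d.N.q ^ 2 = M.d.N.m * M.d.N.n + 1 := by exact_mod_cast this
    omega
  have h12 : 0 < M.d.N.m * M.d.N.n := Nat.mul_pos (by omega) (by omega)
  have h13 := card_pos O[{p}, c.H]
  rw [h11, ← h2, ← h3] at h
  have h14 : ♯O[{p}, c.H] * (M.d.N.m * M.d.N.n) * (2 * M.d.N.q) ≤
      ♯O[{p}, c.H] * (M.d.N.m * M.d.N.n) * ♯(img M.κ J) :=
    calc _ = ♯O[{p}, c.H] * 4 * ♯M.d.L := by
          rw [show ♯O[{p}, c.H] * 4 * ♯M.d.L = ♯O[{p}, c.H] * 2 * (♯M.d.L * 2) by ring, h6]; ring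
      _ ≤ ♯O[{p}, c.H] * 2 ^ c.n * ♯M.d.L := by gcongr
      _ ≤ _ := Nat.mul_le_mul_right _ h5
      _ ≤ _ := h
      _ ≤ ♯O[{p}, c.H] * ♯(img M.κ J) * (M.d.N.m * M.d.N.n) := by gcongr
      _ = _ := by ring
  have := Nat.le_of_mul_le_mul_left h14 (by positivity)
  omega

theorem U2_le : cj c.σ (M.U1 p U) ≤ M.L1 p :=
  cj_le_of_mem_N (M.U1_le p U) ((M.L1_nml p).norm c.σ_mem_H)

theorem img_U2 : img M.κ (cj c.σ (M.U1 p U)) = cj M.d.s U := by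
  rw [img_cj _ c.σ_mem_H, b.img_U1, M.κ_σ]

theorem odd_U1 (hx : x ∈ M.U1 p U) : Odd (orderOf x) := odd_orderOf (b.odd (M.U1_pi p U)) hx
theorem odd_U2 (hx : x ∈ cj c.σ (M.U1 p U)) : Odd (orderOf x) :=
  odd_orderOf (b.odd ((M.U1_pi p U).cj _)) hx

variable (hV : Abl V) (ho : Odd ♯V) (hN : c.H ≤ N[V]) (hP : O[{p}, c.H] ≤ C[V])

include hN hP in
theorem qd_all (hx : x ∈ M.U1 p U) (h1 : ap M.κ x ≠ 1) (h : Qd V x) (hy : y ∈ M.U1 p U) :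
    Qd V y := by
  have hU := M.U1_le_H p U
  by_cases h2 : ap M.κ y = 1
  · exact qd_of_C (hP (b.inf_ker_le (M.U1_pi p U) b.D_norm_U1 ⟨mem_pre_bot.2 ⟨hU hy, h2⟩, hy⟩))
  obtain ⟨τ, hτ, e⟩ := b.R.trans _ (b.κ_U1 hx) _ (b.κ_U1 hy) h1 h2
  obtain ⟨d, hd, rfl⟩ := M.exists_ap τ
  have h3 := conj_mem (M.mem_N_U1 p U hd (b.R.norm (M.d.T_le_C hτ))) hx
  exact (h.conj (hN hd)).congr (hN (hU h3)) (hP (b.odd_eq (M.U1_le p U hy) (M.U1_le p U h3)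
    (b.odd_U1 hy) (b.odd_U1 h3) (by rw [ap_conj _ hd (hU hx), e])))

variable (hΦ : img M.κ (c.H ⊓ C[V]) = ⊥) (hq : ∀ x ∈ M.U1 p U, Qd V x)
include hV ho hN hP hΦ hq

omit hV ho hP hΦ in
theorem qd_U2 (hy : y ∈ cj c.σ (M.U1 p U)) : Qd V y := by
  obtain ⟨x, hx, rfl⟩ := mem_cj'.1 hy
  exact (hq x hx).conj (hN c.σ_mem_H)

theorem exists_braid (hx : x ∈ M.U1 p U) (h1 : ap M.κ x ≠ 1) : ∃ y ∈ cj c.σ (M.U1 p U),
    ap M.κ y ≠ 1 ∧ x * y * x * (y * x * y)⁻¹ ∈ O[{p}, c.H] ∧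
    x * y * x * (x * y * x) * c.t ∈ O[{p}, c.H] ∧ c.t ∉ C[V] ∧
    ∀ τ ∈ M.d.T, ap M.κ (x * y * x) * τ * (ap M.κ (x * y * x))⁻¹ = τ⁻¹ := by
  obtain ⟨z, hz, z1, z2, z3, z4⟩ := b.R.braid _ (b.κ_U1 hx) h1
  obtain ⟨y, hy, hyH, rfl⟩ := mem_img.1 (b.img_U2.ge hz)
  have hxH := M.U1_le_H p U hx
  have hxL := M.U1_le p U hx
  have hyL := b.U2_le hy
  have hn := mul_mem (mul_mem hxL hyL) hxL
  have hnH := (M.L1_nml p).le hn
  have e : ap M.κ (x * y * x) = ap M.κ x * ap M.κ y * ap M.κ x := by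
    rw [ap_mul _ (mul_mem hxH hyH) hxH, ap_mul _ hxH hyH]
  have h2 : x * y * x * (y * x * y)⁻¹ ∈ O[{p}, c.H] := by
    have := b.odd_eq (mul_mem hn (inv_mem (mul_mem hxL hyL))) hyL
      (by rw [orderOf_conj]; exact b.odd_U1 hx) (b.odd_U2 hy)
      (by rw [ap_conj _ (mul_mem hxH hyH) hxH, ap_mul _ hxH hyH, z2]; group)
    convert this using 1; group
  have h3 : x * y * x * (x * y * x) ∉ C[V] := fun h => by
    have h4 := braid_one' hV ho (hN hxH) (hN hyH) (hq x hx) (b.qd_U2 hN hq hy) (hP h2) h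
    have h5 := ap_mem_img M.κ (mem_inf.2 ⟨mul_mem hxH (inv_mem hyH), h4⟩) (mul_mem hxH (inv_mem hyH))
    rw [hΦ, mem_bot, ap_mul _ hxH (inv_mem hyH), ap_inv _ hyH, mul_inv_eq_one] at h5
    exact h1 (mem_bot.1 (b.R.inf_cj ▸ mem_inf.2 ⟨b.κ_U1 hx, h5 ▸ hz⟩))
  have h4 := (b.ker_L1 (mul_mem hn hn) (by rw [ap_mul _ hnH hnH, e, z3])).resolve_left
    fun h => h3 (hP h)
  exact ⟨y, hy, z1, h2, h4, fun h => h3 (by simpa using mul_mem (hP h4) (inv_mem h)), e ▸ z4⟩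

theorem not_qd (hu : V ⊓ C{c.u} ≤ 𝒪[C{c.u}]) : False := by
  have hU := M.U1_le_H p U
  have hL := M.L1_nml p
  obtain ⟨z, hz, z1⟩ := exists_ne_one b.R.ne_bot
  obtain ⟨x, hx, rfl⟩ := b.exists_U1 hz
  obtain ⟨y, hy, y1, y2, y3, y4, y5⟩ := b.exists_braid hV ho hN hP hΦ hq hx z1
  set A := ⁅V, zpowers c.t⁆
  have htV := hN c.t_mem_H
  have hAV : A ≤ V := comm_le_left (zpowers_le.2 htV)
  have hA := hV.of_le hAV
  have hAo := odd_of_le ho hAV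
  have hAN : c.H ≤ N[A] := norm_comm_zp hN le_rfl
  have hinv : Inv c.t A := Abl.inv_comm hV (sq_of c.ht) htV
  have hPA := cents_of_le hP hAV
  obtain ⟨A', hA', J, hJ, hJo, hJA, hc⟩ := b.orb b.hε A (M.L1 p ⊔ c.Z) hAo hA
    (fun e => y4 (mem_C_iff_le_C1.2 (comm_zp_eq_bot.1 e))) hAN (hinv.inf_C hAo)
    ((inf_le_inf_right _ hAV).trans hu) (sup_le hL.le c.Z_le_H)
  obtain ⟨hJL, hb⟩ := b.big_img hJ hJo hc
  obtain ⟨g, -, g1, τ, hτ, τ1, τ2⟩ := b.R.big _ ((img_mono _ hJL).trans b.img_L1.le) (odd_img hJo _) hb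
  obtain ⟨g, hg, rfl⟩ := M.exists_ap g
  rw [← img_cj _ hg] at g1 τ2
  have hB : cj g A' < A := by rwa [← cj_of_mem_N (hAN hg), cj_lt_cj]
  have hJ'L : cj g J ≤ M.L1 p := cj_le_of_mem_N hJL (hL.norm hg)
  have hJ'o := odd_cj hJo g
  have hJ' : cj g J ≤ centQ A (cj g A') := fun j hj => (mem_stab hA hB.le).2 fun v hv => by
    have := cj_mono g hJA
    rw [cj_comm, cj_of_mem_N (hAN hg), commC] at this
    exact this (commutator_mem_commutator hj hv)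
  have hP' : O[{p}, c.H] ≤ centQ A (cj g A') := fun j hj => (mem_stab hA hB.le).2 fun v hv => by
    rw [conj_eq_of_mem_C (hPA hj) hv, mul_inv_cancel]; exact one_mem _
  have hU' : M.U1 p U ≤ centQ A (cj g A') := fun a ha => by
    obtain ⟨j, hj, -, e⟩ := mem_img.1 (g1 (b.κ_U1 ha))
    simpa using mul_mem (hP' (b.odd_eq (M.U1_le p U ha) (hJ'L hj) (b.odd_U1 ha)
      (odd_orderOf hJ'o hj) e.symm)) (hJ' hj)
  obtain ⟨η, hη, hηH, rfl⟩ := mem_img.1 τ2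
  have hxH := hU hx
  have hyH := hL.le (b.U2_le hy)
  have hn := mul_mem (mul_mem (M.U1_le p U hx) (b.U2_le hy)) (M.U1_le p U hx)
  have hnH := hL.le hn
  have hneg : ∀ v ∈ A, x * y * x * v * (x * y * x)⁻¹ = x * v * x⁻¹ * v⁻¹ * (y * v * y⁻¹ * v⁻¹) :=
    fun v hv => braid_neg' hA hAo (hAN hxH) (hAN hyH) ((hq x hx).mono hAV)
      ((b.qd_U2 hN hq hy).mono hAV) (hPA y2) (by
        simpa using (hinv.cent_mul (hPA y3)) |> fun h => by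
          rwa [mul_assoc, sq_of c.ht, mul_one] at h) hv
  have hζ : η * (x * y * x) * η⁻¹ * (x * y * x)⁻¹ ∈ centQ A (cj g A') := by
    have h1 := b.odd_eq (mul_mem (mul_mem hn (inv_mem (hJ'L hη))) (inv_mem hn)) (hJ'L hη)
      (by rw [orderOf_conj, orderOf_inv]; exact odd_orderOf hJ'o hη) (odd_orderOf hJ'o hη)
      (by rw [ap_conj _ hnH (inv_mem hηH), ap_inv _ hηH, y5 _ (inv_mem hτ), inv_inv])
    have := mul_mem (mul_mem (hJ' hη) (hP' h1)) (hJ' hη)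
    convert this using 1; group
  have hηU := M.mem_N_U1 p U hηH (b.R.norm (M.d.T_le_C hτ))
  have hy' : η * y * η⁻¹ * y⁻¹ ∈ centQ A (cj g A') := (mem_stab hA hB.le).2 fun v hv => by
    have hv' := conj_mem' (hAN hyH) hv
    have h1 := (mem_stab hA hB.le).1 hζ _ (conj_mem (hAN hnH) hv')
    have h2 := (mem_stab hA hB.le).1 (hU' hx) _ hv'
    have h3 := (mem_stab hA hB.le).1 (hU' (conj_mem hηU hx)) _ hv'
    have h4 := mul_mem (mul_mem (inv_mem h3) h1) h2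
    have h5 := hneg _ (conj_mem' (hAN hηH) hv')
    have h6 : η * (x * y * x) * η⁻¹ * (x * y * x)⁻¹ * (x * y * x * (y⁻¹ * v * y) * (x * y * x)⁻¹) *
        (η * (x * y * x) * η⁻¹ * (x * y * x)⁻¹)⁻¹ =
        η * (x * y * x * (η⁻¹ * (y⁻¹ * v * y) * η) * (x * y * x)⁻¹) * η⁻¹ := by group
    rw [h6, h5, hneg _ hv'] at h4
    convert h4 using 1; group
  have hηU2 : η ∈ N[cj c.σ (M.U1 p U)] := by
    rw [← cj_N, mem_cj]
    refine M.mem_N_U1 p U (mul_mem (mul_mem (inv_mem c.σ_mem_H) hηH) c.σ_mem_H) (b.R.norm ?_)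
    rw [ap_mul _ (mul_mem (inv_mem c.σ_mem_H) hηH) c.σ_mem_H, ap_mul _ (inv_mem c.σ_mem_H) hηH,
      ap_inv _ c.σ_mem_H, M.κ_σ]
    exact conj_mem' M.d.s_mem_NC (M.d.T_le_C hτ)
  obtain ⟨x3, hx3, e3⟩ := mem_cj'.1 (mul_mem (conj_mem hηU2 hy) (inv_mem hy))
  have hκ3 : ap M.κ x3 ≠ 1 := fun h => by
    have h1 := congrArg (ap M.κ) e3
    rw [ap_conj _ c.σ_mem_H (hU hx3), h, mul_one, mul_inv_cancel,
      ap_mul _ (mul_mem (mul_mem hηH hyH) (inv_mem hηH)) (inv_mem hyH), ap_conj _ hηH hyH,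
      ap_inv _ hyH, mul_inv_eq_one] at h1
    obtain ⟨z', hz', e⟩ := mem_cj'.1 (b.img_U2.le (ap_mem_img _ hy hyH))
    rcases b.R.fpf _ (inv_mem hτ) z' hz' (by
      rw [← M.d.s_inv _ hτ]
      calc _ = M.d.s * (ap M.κ η * (M.d.s⁻¹ * z' * M.d.s) * (ap M.κ η)⁻¹) * M.d.s⁻¹ := by group
        _ = z' := by
          nth_rewrite 1 [M.d.s_inv']
          nth_rewrite 3 [← M.d.s_inv']
          rw [← e, h1, e]
          nth_rewrite 2 [← M.d.s_inv']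
          nth_rewrite 2 [M.d.s_inv']
          group) with h2 | h2
    · exact τ1 (inv_eq_one.1 h2)
    · exact y1 (by rw [e, h2]; group)
  obtain ⟨y3, hy3, -, -, k3, -⟩ := b.exists_braid hV ho hN hP hΦ hq hx3 hκ3
  have h7 : c.σ * y3 * c.σ⁻¹ ∈ M.U1 p U := by
    have := mem_cj.1 hy3
    rwa [c.σ_inv] at this ⊢
  have h8 := conj_mem ((pcore_nml {p} c.H).norm c.σ_mem_H) k3
  rw [e3] at hy'
  have h9 := mul_mem (mul_mem hy' (hU' h7)) hy'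
  have h10 : c.t ∈ centQ A (cj g A') := by
    have := mul_mem (inv_mem (mul_mem h9 h9)) (hP' h8)
    convert this using 1
    rw [← c.σ_t]; nth_rewrite 2 [c.σ_t]; group
  refine hB.not_ge fun v hv => zpowers_le.2 ?_ (mem_zpowers_sq (odd_orderOf hAo hv))
  have := inv_mem ((mem_stab hA hB.le).1 h10 v hv)
  rwa [hinv v hv, mul_inv_rev, inv_inv] at this

end HB

end H13.W
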