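import Mathlib
import Cfsg.Agent.H13.WB3

/-! Case B does not occur. -/

set_option autoImplicit false
set_option linter.unusedSectionVars false
set_option linter.style.haveILetI false

namespace H13.W

open H24 H26 Cfsg Subgroup H13.Dih
open scoped commutatorElement

universe u

variable {G : Type u} [Group G] [Finite G] {c : WC G} {M : Mod c} {p r : ℕ} {U : Subgroup M.Γ}
variable {A B J K L N P Q R S V X Y : Subgroup G} {g v x y : G}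

theorem WC.exists_conj' (c : WC G) {w' : G} (h1 : w' ∈ L) (h2 : w' * c.w⁻¹ ∈ C[c.E0]) (hv : v ∈ c.V)
    (h0 : v ≠ 1) : ∃ g ∈ L ⊓ N[c.E0], g * c.t * g⁻¹ = v := by
  have h3 : w' ∈ L ⊓ N[c.E0] := ⟨h1, by simpa using mul_mem (C_le_N _ h2) c.w_mem_NE0⟩
  have key : ∀ x ∈ c.E0, w' * x * w'⁻¹ = c.w * x * c.w⁻¹ := fun x hx => by
    rw [← conj_eq_of_mem_C h2 (conj_mem c.w_mem_NE0 hx)]; group
  rcases c.mem_V.1 hv with h | h | h | h
  · exact absurd h h0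
  · exact ⟨1, one_mem _, by simp [h]⟩
  · exact ⟨w', h3, by rw [h, key _ c.t_mem_E0, c.w_t]⟩
  · exact ⟨w' * w', mul_mem h3 h3, by
      rw [h, ← c.w_u, ← key _ c.u_mem_E0, ← c.w_t, ← key _ c.t_mem_E0]; group⟩

namespace HB

variable (b : HB M U p)
include b

section Y

variable (hY : MaxInv p c.H Y)
include hY

theorem X_pi : IsPi {p} (Y ⊔ M.U1 p U) := hY.pi.sup (M.U1_pi p U) ((M.U1_le_H p U).trans hY.norm)
theorem X_norm : c.D ≤ N[Y ⊔ M.U1 p U] := norm_sup (c.D_le_H.trans hY.norm) b.D_norm_U1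
omit b in
theorem X_comm : ⁅Y ⊔ M.U1 p U, zpowers c.t⁆ ≤ Y :=
  comm_sup_le (zpowers_le.2 (hY.norm c.t_mem_H)) (norm_self _) ((M.U1_le_H p U).trans hY.norm)
    (comm_le_left (zpowers_le.2 (hY.norm c.t_mem_H))) (comm_le_of_cent (C_zpowers c.t ▸ M.U1_le_H p U))

theorem center_le : Z[Y ⊔ M.U1 p U] ≤ Y := by
  have hD : c.D ≤ N[Z[Y ⊔ M.U1 p U]] := norm_Z (b.X_norm hY)
  have hp := (b.X_pi hY).inf_left C[Y ⊔ M.U1 p U]
  rw [← (cent_prod (b.odd hp) c.ht (hD (c.V_le_D c.t_mem_V))).sup_eq]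
  refine sup_le ((comm_mono_left inf_le_left).trans (X_comm hY)) ((b.le_P_of_img (hp.inf_left _)
    (norm_inf hD (norm_of_le c.D_le_H)) inf_le_right (eq_bot_of_le (by_contra fun h => b.Y_not_le hY
      (mem_C_iff_le_C1.1 ((Cov.of_H le_rfl).t_mem M b.hq (inf_le_left.trans
        (nml_inf_of_norm (norm_C hY.norm)).norm) h).2)) (img_mono _ (le_inf inf_le_right
      (inf_le_left.trans (inf_le_right.trans (C_anti le_sup_left))))))).trans (b.P_le_Y hY))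

theorem exists_char : ∃ C0 ≤ Y ⊔ M.U1 p U, C0 ≠ ⊥ ∧ N[Y ⊔ M.U1 p U] ≤ N[C0] ∧ c.H ≤ N[C0] := by
  haveI := Fact.mk b.hp
  set V := omegaOne p Z[Y] with hVd
  have hV : IsElementaryAbelian p V := H25.omegaOne_elem (abl_center Y)
  have hVZ : V ≤ Z[Y] := H25.omegaOne_le _ _
  have hNV : N[Y] ≤ N[V] := H25.norm_omegaOne p (norm_Z le_rfl)
  have hK := hY.norm.trans hNV
  have hYV : Y ≤ C[V] := cents_symm (hVZ.trans inf_le_right)
  have hX1 : Y ⊔ M.U1 p U ≠ ⊥ := ne_bot_of_le (b.Y_ne_bot hY) le_sup_left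
  have hXp := (b.X_pi hY).isPGroup b.hp
  have hU := M.U1_le_H p U
  have hPY := b.P_le_Y hY
  by_cases hΦ : img M.κ (c.H ⊓ C[V]) = ⊥
  swap
  · have h1 : omegaOne p Z[Y ⊔ M.U1 p U] ≤ V := H25.omegaOne_mono p (le_inf (b.center_le hY)
      (inf_le_right.trans (C_anti le_sup_left)))
    have h0 : N[Y ⊔ M.U1 p U] ≤ N[omegaOne p Z[Y ⊔ M.U1 p U]] := H25.norm_omegaOne p (norm_Z le_rfl)
    have h2 := (b.X_norm hY).trans h0
    exact ⟨_, (H25.omegaOne_le _ _).trans inf_le_left, H12.omega_center_ne_bot hXp hX1, h0,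
      M.H_le inf_le_left (M.L_le_img b.hq le_rfl le_sup_left (nml_inf_of_norm (norm_C hK)).norm hΦ)
        (norm_of_cent (cents_of_le inf_le_right h1)) h2 (b.O_le.trans (sup_le
          ((hPY.trans (le_sup_left.trans (norm_self _))).trans h0) (inf_le_right.trans h2)))⟩
  have hle : ∀ x ∈ M.U1 p U, ap M.κ x = 1 → x ∈ Y := fun x hx h =>
    hPY (b.inf_ker_le (M.U1_pi p U) b.D_norm_U1 ⟨mem_pre_bot.2 ⟨hU hx, h⟩, hx⟩)
  have hprod : IsProd Y (M.U1 p U) (Y ⊔ M.U1 p U) := isProd_sup (hU.trans hY.norm)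
  have hC : (Y ⊔ M.U1 p U) ⊓ C[V] ≤ Y := by
    rw [← hprod.modl hYV]
    exact sup_le le_rfl fun x hx => hle x hx.1 (mem_bot.1 (hΦ ▸ ap_mem_img M.κ
      (mem_inf.2 ⟨hU hx.1, hx.2⟩) (hU hx.1)))
  have hVX : V ⊴ Y ⊔ M.U1 p U := ⟨hVZ.trans (inf_le_left.trans le_sup_left),
    sup_le ((norm_self _).trans hNV) (hU.trans hK)⟩
  rcases thompson_alt hV hVX le_sup_left hC with hJ | ⟨A, hA, h1, h2⟩
  · refine ⟨thompsonSubgroupOf p _, H12.J_le _, H12.J_ne_bot hXp hX1,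
      H12.normalizer_le_normalizer_J _, hY.norm.trans ?_⟩
    rw [← hJ]; exact H12.normalizer_le_normalizer_J _
  exfalso
  obtain ⟨a, ha, h3⟩ := SetLike.not_le_iff_exists.1 h2
  obtain ⟨y, hy, x, hx, rfl⟩ := hprod.mul a (hA.le ha)
  have hVY := hVZ.trans inf_le_left
  refine b.not_qd hV.1 (odd_of_le (b.odd hY.pi) hVY) hK (hPY.trans hYV) hΦ (fun z hz =>
    b.qd_all hK (hPY.trans hYV) hx (fun h => h3 (mul_mem (hYV hy) (hYV (hle x hx h))))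
      ((qd_of_comm h1 ha).congr (hVX.norm (hA.le ha)) ?_) hz)
    ((inf_le_inf_right _ hVY).trans (b.Y_inf_u hY))
  have := inv_mem (hYV hy)
  convert this using 1; group

theorem X_max : MaxInv p c.D (Y ⊔ M.U1 p U) := by
  obtain ⟨C0, c1, c2, c3, c4⟩ := b.exists_char hY
  have h1 := c3.trans (b.N_le hY c2 (b.odd ((b.X_pi hY).of_le c1)) c4
    ((le_sup_left.trans (norm_self _)).trans c3))
  refine maxInv_of_norm b.hp (b.X_pi hY) (b.X_norm hY) fun R r1 r2 r3 r4 => ?_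
  refine (le_inf (r4.trans h1) le_rfl).trans ?_
  rw [← group_modl hY.norm (le_sup_left.trans r3)]
  refine sup_le_sup_left ((b.le_U1_or (r1.inf_right _) (norm_inf (norm_of_le c.D_le_H) r2)
    inf_le_left).resolve_right fun h => ?_) _
  have h2 := img_mono M.κ ((cj_mono c.σ (le_inf (M.U1_le_H p U) (le_sup_right.trans r3))).trans h)
  rw [b.img_U2, b.img_U1] at h2
  exact b.R.ne_cj (eq_of_card_eq h2 (card_cj _ _))

end Y

/-- tame subgroups -/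
theorem tame (hD : c.D ≤ L) (hX : IsPi {p} X) (hN : c.D ≤ N[X]) (h : ⁅X, c.V⁆ ≤ 𝒪[L]) :
    X ≤ O[{p}, L] ⊔ O[{p}, c.D] := by
  have hV := c.V_le_D.trans hN
  rw [← (cent_prod2 (b.odd hX) c.V_pi hV).sup_eq, ← commGid2 (b.odd hX) c.V_pi hV, c.C_V]
  exact sup_le_sup ((comm_mono_left h).trans (b.core_comm (c.E0_le_D.trans hD))) (inf_D_le hX hN)

theorem tame' (hL : L ≠ ⊤) (hD : c.D ≤ L) (hX : IsPi {p} X) (hN : c.D ≤ N[X]) (h1 : X ≤ L)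
    (h : ∀ v ∈ c.V, v ≠ 1 → X ⊓ C{v} ≤ 𝒪[C{v}]) : X ≤ O[{p}, L] ⊔ O[{p}, c.D] :=
  b.tame hD hX hN ((comm_mono_right c.V_le_E0).trans (M.rf b.ih hL (c.E0_le_D.trans hD) (b.odd hX) h1
    (c.E0_le_D.trans hN) fun v hv h0 => (comm_mono_left (h v hv h0)).trans
      (comm_le_left ((c.E0_le_C hv).trans (pcore_nml _ _).norm))))

omit b in
theorem R0_pi (hD : c.D ≤ L) : IsPi {p} (O[{p}, L] ⊔ O[{p}, c.D]) :=
  (pcore_pi _ _).sup (pcore_pi _ _) (((pcore_le _ _).trans hD).trans (pcore_nml _ _).norm)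
omit b in
theorem R0_norm (hD : c.D ≤ L) : c.D ≤ N[O[{p}, L] ⊔ O[{p}, c.D]] :=
  norm_sup (hD.trans (pcore_nml _ _).norm) (pcore_nml _ _).norm

theorem local_S (hL : L ≠ ⊤) (hO : 𝒪[L] ≠ ⊥) (hD : c.D ≤ L) (hS : c.S ≤ L) :
    ∃ R, IsPi {p} R ∧ c.D ≤ N[R] ∧
      ∀ X, IsPi {p} X → c.D ≤ N[X] → X ≤ L → X ≤ R ∨ cj c.σ X ≤ R := by
  have hP := pcore_nml {p} L
  have hσ := hS c.σ_mem_S
  rcases c.tri hS with h | ⟨⟨w', h1, h2⟩, -⟩
  · refine ⟨O[{p}, L] ⊔ (M.U1 p U ⊓ L), (pcore_pi _ _).sup ((M.U1_pi p U).inf_left _)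
      (inf_le_right.trans hP.norm), norm_sup (hD.trans hP.norm)
      (norm_inf b.D_norm_U1 (norm_of_le hD)), fun X x1 x2 x3 => ?_⟩
    have ht := x2 (c.V_le_D c.t_mem_V)
    have h3 : ⁅X, zpowers c.t⁆ ≤ O[{p}, L] := by
      rw [← comm_idem (b.odd x1) c.ht ht]
      exact (commutator_mono ((comm_mono_left x3).trans (WC.comm_isol h (hS c.t_mem_S)))
        (zpowers_le.2 c.t_mem_V)).trans (b.core_comm (c.E0_le_D.trans hD))
    have h4 := (cent_prod (b.odd x1) c.ht ht).sup_eq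
    rcases b.le_U1_or (x1.inf_left c.H) (norm_inf x2 (norm_of_le c.D_le_H)) inf_le_right with e | e
    · exact Or.inl (h4.ge.trans (sup_le_sup h3 (le_inf e (inf_le_left.trans x3))))
    · refine Or.inr ((cj_mono _ h4.ge).trans ?_)
      rw [cj_sup]
      exact sup_le_sup (cj_le_of_mem_N h3 (hP.norm hσ))
        (le_inf e (cj_le_of_mem (inf_le_left.trans x3) hσ))
  refine ⟨_, R0_pi hD, R0_norm hD, fun X x1 x2 x3 => Or.inl (b.tame' hL hD x1 x2 x3 fun v hv h0 => ?_)⟩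
  obtain ⟨g, hg, rfl⟩ := c.exists_conj' h1 h2 hv h0
  rw [c.inf_conj, ← c.cj_O, cj_le_cj]
  have y1 := (x1.cj g⁻¹).inf_left c.H
  have y2 : c.D ≤ N[cj g⁻¹ X ⊓ c.H] :=
    norm_inf (norm_cj_of (inv_mem (c.NE0_le_ND hg.2)) x2) (norm_of_le c.D_le_H)
  have y3 : cj g⁻¹ X ⊓ c.H ≤ L ⊓ c.H :=
    inf_le_inf_right _ (cj_le_of_mem x3 (inv_mem (mem_inf.1 hg).1))
  refine M.le_O_of_img inf_le_right (b.odd y1) (by_contra fun h3 => hO ?_)
  have h4 : M.d.s ∈ N[img M.κ (L ⊓ c.H)] :=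
    norm_self _ (M.κ_σ ▸ ap_mem_img _ (mem_inf.2 ⟨hσ, c.σ_mem_H⟩) c.σ_mem_H)
  have h5 : U ≤ img M.κ (L ⊓ c.H) := by
    rcases b.img_cases y1 y2 with e | e | e
    · exact absurd e h3
    · exact e.ge.trans (img_mono _ y3)
    · have := cj_le_of_mem_N (e.ge.trans (img_mono _ y3)) h4
      rwa [← cj_mul, M.d.s_sq, cj_one] at this
  exact b.zero L hS w' h1 h2 (Cov.of_img M hS (M.d.eq_top (b.R.gen.ge.trans (sup_le h5
    (cj_le_of_mem_N h5 h4))) (M.img_D.ge.trans (img_mono _ (le_inf hD c.D_le_H))))).cov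

theorem localB (hL : L ≠ ⊤) (hO : 𝒪[L] ≠ ⊥) (hD : c.D ≤ L) (hX : IsPi {p} X) (hY : IsPi {p} Y)
    (h1 : X ≤ L) (h3 : Y ≤ L) (hN : c.D ≤ N[X]) (hN' : c.D ≤ N[Y]) :
    ∃ g ∈ N[c.V], ∃ R, IsPi {p} R ∧ c.D ≤ N[R] ∧ cj g X ≤ R ∧ Y ≤ R := by
  obtain ⟨T, hT, hE⟩ := Sylow_superset Nat.prime_two c.E0_pi (c.E0_le_D.trans hD)
  rcases c.two_cases hT.pi hE with rfl | ⟨g, hg, rfl⟩
  · have key : ∀ X, IsPi {p} X → X ≤ L → c.D ≤ N[X] → X ≤ O[{p}, L] ⊔ O[{p}, c.D] :=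
      fun X x1 x2 x3 => b.tame hD x1 x3 ((comm_mono_right c.V_le_E0).trans
        (c.comm_le_of_nml (c.nml_of_syl hT) (b.odd x1) x2 (c.E0_le_D.trans x3)))
    exact ⟨1, one_mem _, _, R0_pi hD, R0_norm hD, by rw [cj_one]; exact key X hX h1 hN,
      key Y hY h3 hN'⟩
  have hgD := inv_mem (c.NE0_le_ND hg)
  have hgV := c.NE0_le_NV hg
  obtain ⟨R, r1, r2, r3⟩ := b.local_S (L := cj g⁻¹ L) (mt cj_eq_top.1 hL)
    (by rwa [pcore_cj, Ne, cj_eq_bot]) (by rw [← cj_of_mem_N hgD]; exact cj_mono _ hD)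
    (cj_le_iff.1 hT.le)
  have key : ∀ X, IsPi {p} X → X ≤ L → c.D ≤ N[X] → ∃ a ∈ N[c.V], cj a X ≤ R := fun X x1 x2 x3 => by
    rcases r3 _ (x1.cj _) (norm_cj_of hgD x3) (cj_mono _ x2) with e | e
    · exact ⟨_, inv_mem hgV, e⟩
    · exact ⟨c.σ * g⁻¹, mul_mem c.σ_mem_NV (inv_mem hgV), by rwa [cj_mul]⟩
  obtain ⟨a1, a2, a3⟩ := key X hX h1 hN
  obtain ⟨a4, a5, a6⟩ := key Y hY h3 hN'
  exact ⟨a4⁻¹ * a1, mul_mem (inv_mem a5) a2, cj a4⁻¹ R, r1.cj _,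
    norm_cj_of (inv_mem (c.NV_le_ND a5)) r2, by rw [cj_mul]; exact cj_mono _ a3, cj_le_iff.1 a6⟩

theorem transB (hP : MaxInv p c.D P) (hQ : MaxInv p c.D Q) (h1 : P ⊓ Q ≠ ⊥) :
    ∃ g ∈ N[c.V], cj g P = Q :=
  maxInt b.hp c.NV_le_ND (fun _ _ _ d1 d2 d3 x1 x2 x3 x4 x5 x6 =>
    b.localB (b.N_ne_top d1 (b.odd d2)) (Hyp.core_N_ne_bot d1 (b.odd d2)) d3 x1 x2 x5 x6 x3 x4)
    hP hQ h1

theorem cj_inf (hY : MaxInv p c.H Y) (hg : g ∈ N[c.V]) (hv : v ∈ c.V) (h0 : v ≠ 1) :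
    cj g Y ⊓ C{v} ≤ 𝒪[C{v}] := by
  obtain ⟨h1, h2⟩ := c.conj_V (inv_mem hg) hv h0
  have := cj_mono g (b.Y_inf hY h1 h2)
  rwa [H24.cj_inf, ← pcore_cj, cj_C1, show g * (g⁻¹ * v * g⁻¹⁻¹) * g⁻¹ = v by group] at this

theorem le_cj_Y (hY : MaxInv p c.H Y) (hg : g ∈ N[c.V]) (hX : X ≤ cj g (Y ⊔ M.U1 p U))
    (hD : c.D ≤ N[X]) (h : ∀ v ∈ c.V, v ≠ 1 → X ⊓ C{v} ≤ 𝒪[C{v}]) : X ≤ cj g Y := by
  obtain ⟨h1, h2⟩ := c.conj_V hg c.t_mem_V (ne_one_of c.ht)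
  have h3 := h _ h1 h2
  rw [c.inf_conj, ← c.cj_O, cj_le_cj] at h3
  rw [le_cj_iff] at hX ⊢
  have hp := (b.X_pi hY).of_le hX
  have hD' := norm_cj_of (inv_mem (c.NV_le_ND hg)) hD
  rw [← (cent_prod (b.odd hp) c.ht (hD' (c.V_le_D c.t_mem_V))).sup_eq]
  exact sup_le ((comm_mono_left hX).trans (X_comm hY)) ((b.le_P (hp.inf_left _) h3
    (norm_inf hD' (norm_of_le c.D_le_H))).trans (b.P_le_Y hY))

theorem false : False := by
  obtain ⟨Y, -, hY⟩ := exists_maxInv (isPi_bot {p}) (show c.H ≤ N[⊥] by simp)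
  have hYo := b.odd hY.pi
  have hD := c.D_le_H.trans hY.norm
  have hw := c.NV_le_ND c.w_mem_NV
  have hD' := norm_cj_of hw hD
  have hcj : ∀ a g : G, a * c.t * a⁻¹ = g * c.t * g⁻¹ → cj a Y = cj g Y := fun a g h =>
    cj_eq_cj_iff.2 (hY.norm (mem_C1_iff_conj.2 (by
      calc _ = g⁻¹ * (a * c.t * a⁻¹) * g := by group
        _ = c.t := by rw [h]; group)))
  have h0 : Y ⊓ cj c.w Y ≠ ⊥ := by
    refine ne_bot_of_le (c.inf_u_ne_bot hYo (c.S_le_H.trans hY.norm) (b.Y_not_le hY)).1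
      (le_inf inf_le_left ((b.le_Pv c.u_mem_V (ne_one_of c.hu) (hY.pi.inf_left _) (b.Y_inf_u hY)
        (norm_inf hD (norm_of_le inf_le_right))).trans ?_))
    rw [← c.cjw_H, pcore_cj]
    exact cj_mono _ (b.P_le_Y hY)
  have h1 : cj c.w Y ≠ Y := fun e => b.Y_ne_bot hY (b.eq_bot_of_HH hYo hY.norm
    (by rw [← c.cjw_H, ← e]; exact norm_cj hY.norm _))
  have h2 : Y ⊓ cj c.w Y < Y := lt_of_le_of_ne inf_le_left fun e =>
    h1 (eq_of_card_eq (inf_eq_left.1 e) (card_cj _ _).symm).symm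
  have h3 : Y ⊓ cj c.w Y < cj c.w Y := lt_of_le_of_ne inf_le_right fun e =>
    h1 (eq_of_card_eq (inf_eq_right.1 e) (card_cj _ _))
  have h4 := (hY.pi.nil b.hp).proper_norm h2
  have h5 := ((hY.pi.cj c.w).nil b.hp).proper_norm h3
  have hL : c.D ≤ N[Y ⊓ cj c.w Y] := norm_inf hD hD'
  have hL' := b.N_ne_top h0 (odd_of_le hYo inf_le_left)
  obtain ⟨R, hR0, hR⟩ := exists_maxInv (R0_pi (p := p) hL) (R0_norm hL)
  obtain ⟨g, hg, rfl⟩ := b.transB (b.X_max hY) hR (ne_bot_of_le h0 (le_inf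
    (inf_le_left.trans le_sup_left) (((pcore_max (hY.pi.inf_left _) (nml_N _)).trans
      le_sup_left).trans hR0)))
  have key : ∀ a ∈ N[c.V], cj a Y ⊓ N[Y ⊓ cj c.w Y] ≤ cj g Y := fun a ha => by
    have k1 := norm_inf (norm_cj_of (c.NV_le_ND ha) hD) (norm_of_le hL)
    have k2 : ∀ v ∈ c.V, v ≠ 1 → cj a Y ⊓ N[Y ⊓ cj c.w Y] ⊓ C{v} ≤ 𝒪[C{v}] := fun v hv hv1 =>
      (inf_le_inf_right _ inf_le_left).trans (b.cj_inf hY ha hv hv1)
    exact b.le_cj_Y hY hg ((b.tame' hL' hL ((hY.pi.cj a).inf_left _) k1 inf_le_right k2).trans hR0)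
      k1 k2
  have k1 := key 1 (one_mem _)
  have k2 := key c.w c.w_mem_NV
  rw [cj_one] at k1
  obtain ⟨g1, g2⟩ := c.conj_V hg c.t_mem_V (ne_one_of c.ht)
  rcases c.mem_V.1 g1 with e | e | e | e
  · exact g2 e
  · rw [hcj g 1 (by simpa using e), cj_one] at k2
    exact h5.not_ge (le_inf k2 inf_le_left)
  · rw [hcj g c.w (by rw [e, c.w_t])] at k1
    exact h4.not_ge (le_inf inf_le_left k1)
  · rw [hcj g (c.σ * c.w) (by rw [e, ← c.σ_u, ← c.w_t]; group), cj_mul] at k1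
    have := card_le (le_inf ((inf_le_left : Y ⊓ N[Y ⊓ cj c.w Y] ≤ Y).trans
      (cj_of_mem_N (hY.norm c.σ_mem_H)).ge) k1)
    rw [← H24.cj_inf, card_cj] at this
    exact (card_lt h4).not_ge this

end HB

/-- `k = 1` -/
theorem Hyp.O_le_C (h : Hyp M) : c.O ≤ C{c.u} := by
  by_contra hk
  have h1 : ∀ r, r.Prime → r ∣ c.k → ¬ (M.d.N.ε = -1 ∨ r ≠ M.d.N.p) := fun r hr h1 h2 =>
    h.caseA hr (c.ne_two_of_dvd h1) h2 h1
  obtain ⟨r, hr, h3⟩ := Nat.exists_prime_and_dvd (n := c.k) fun e => hk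
    (((relIndex_eq_one.1 e).trans inf_le_right))
  have hε : M.d.N.ε = 1 := M.d.N.hε.resolve_right fun e => h1 r hr h3 (Or.inl e)
  obtain ⟨U, hU⟩ := M.roots hε
  exact HB.false ⟨h, hε, hU, rfl, hk, fun r hr h2 => by_contra fun e => h1 r hr h2 (Or.inr e)⟩

end H13.W
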