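import Mathlib
import Cfsg.Agent.H13.WDefs

/-! WNum: finite sums of roots of unity for the wreathed case (written by lead). -/

set_option autoImplicit false

namespace H13.W

open Finset
open H22 (WR WA Bj hh)
open scoped ComplexConjugate

namespace WNumAux

variable {n : ℕ}

theorem ch_add (a b : ZMod (2 ^ n)) : ch (a + b) = ch a * ch b := AddChar.map_add_eq_mul _ _ _

theorem ch_zero : ch (0 : ZMod (2 ^ n)) = 1 := AddChar.map_zero_eq_one _

theorem conj_ch (a : ZMod (2 ^ n)) : conj (ch a) = ch (-a) := by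
  simp only [ch, ZMod.stdAddChar_apply, AddChar.map_neg_eq_inv]
  rw [← Circle.coe_inv_eq_conj, Circle.coe_inv]

theorem ch_hh (hn : 1 ≤ n) : ch (hh n) = -1 := by
  have h1 : ch (hh n) * ch (hh n) = 1 := by rw [← ch_add, H22.hh_add_hh hn, ch_zero]
  rcases mul_self_eq_one_iff.1 h1 with h | h
  · exact absurd (ZMod.injective_stdAddChar (h.trans ch_zero.symm)) (H22.hh_ne_zero hn)
  · exact h

theorem sum_ch (c : ZMod (2 ^ n)) : ∑ x, ch (c * x) = if c = 0 then (2 : ℂ) ^ n else 0 := by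
  have := AddChar.sum_mulShift c (ZMod.isPrimitive_stdAddChar (2 ^ n))
  simp only [ch, mul_comm c]
  rw [this]; split <;> simp

theorem sum_range_cast (g : ZMod (2 ^ n) → ℂ) : ∑ k ∈ range (2 ^ n), g k = ∑ x, g x := by
  refine sum_nbij' (fun k => (k : ZMod (2 ^ n))) ZMod.val (by simp) ?_ ?_ (by simp) (by simp)
  · intro x _; simpa using ZMod.val_lt x
  · intro k hk; exact ZMod.val_cast_of_lt (mem_range.1 hk)

theorem sum_range_two (g : ℕ → ℂ) (m : ℕ) :
    ∑ k ∈ range (2 * m), g k = ∑ l ∈ range m, (g (2 * l) + g (2 * l + 1)) := by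
  induction m with
  | zero => simp
  | succ m ih => rw [mul_add, mul_one, sum_range_succ, sum_range_succ, ih, sum_range_succ]; ring

theorem sum_range_cast2 (g : ZMod (2 ^ n) → ℂ) :
    ∑ k ∈ range (2 ^ (n + 1)), g k = 2 * ∑ x, g x := by
  rw [pow_succ, mul_two, sum_range_add, sum_range_cast, two_mul]
  congr 1
  rw [← sum_range_cast]
  refine sum_congr rfl fun k _ => ?_
  rw [Nat.cast_add, ZMod.natCast_self, zero_add]

theorem hh_sq (hn : 2 ≤ n) : hh n * hh n = 0 := by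
  rw [hh, ← pow_add, H22.two_pow_eq_zero_iff]; omega

theorem two_ne (hn : 2 ≤ n) : (2 : ZMod (2 ^ n)) ≠ 0 := by
  have := (H22.two_pow_eq_zero_iff (n := n) (j := 1)).not.2 (by omega)
  simpa using this

theorem odd_ne (hn : 1 ≤ n) (a : ZMod (2 ^ n)) : 2 * a + 1 ≠ 0 := by
  intro h
  have := H22.hh_mul_odd hn a
  rw [h, mul_zero] at this
  exact H22.hh_ne_zero hn this.symm

theorem hh_even (hn : 2 ≤ n) : hh n = 2 * 2 ^ (n - 2) := by
  rw [hh, ← pow_succ']; congr 1; omega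

/-- characters of `E0` -/
noncomputable def X (w x : WA n) : ℂ := ch (w.1 * x.1 + w.2 * x.2)

theorem X_orth (w w' : WA n) :
    ∑ x, X w x * conj (X w' x) = if w = w' then ((2 : ℂ) ^ n) ^ 2 else 0 := by
  have : ∀ x : WA n, X w x * conj (X w' x) =
      ch ((w.1 - w'.1) * x.1) * ch ((w.2 - w'.2) * x.2) := by
    intro x; rw [X, X, conj_ch, ← ch_add, ← ch_add]; congr 1; ring
  simp only [this]
  rw [Fintype.sum_prod_type]
  simp only []
  rw [← sum_mul_sum, sum_ch, sum_ch]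
  simp only [sub_eq_zero, Prod.ext_iff]
  by_cases h1 : w.1 = w'.1 <;> by_cases h2 : w.2 = w'.2 <;> simp [h1, h2, sq]

/-- the sixteen weights -/
def wt (n : ℕ) : Fin 16 → WA n :=
  ![(0, 0), (hh n, 0), (0, hh n), (hh n, hh n), (1, 0), (0, 1), (-1, -1), (-1, 0), (0, -1), (1, 1),
    (1, -1), (-1, 1), (2, 1), (-2, -1), (1, 2), (-1, -2)]

/-- the six coordinates -/
def co (n : ℕ) : Fin 6 → ZMod (2 ^ n) := ![0, hh n, 1, -1, 2, -2]

/-- weights in terms of coordinates -/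
def wi : Fin 16 → Fin 6 × Fin 6 :=
  ![(0, 0), (1, 0), (0, 1), (1, 1), (2, 0), (0, 2), (3, 3), (3, 0), (0, 3), (2, 2),
    (2, 3), (3, 2), (4, 2), (5, 3), (2, 4), (3, 5)]

/-- invariant -/
def ci : Fin 6 → Fin 4 := ![0, 1, 2, 3, 1, 1]

theorem co_eq (hn : 2 ≤ n) (i j : Fin 6) (h : co n i = co n j) : ci i = ci j := by
  have h1 : 1 ≤ n := by omega
  have a := odd_ne h1
  have b := two_ne hn
  have c := H22.hh_ne_zero h1
  have d := hh_even hn
  generalize (2 : ZMod (2 ^ n)) ^ (n - 2) = y at d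
  fin_cases i <;> fin_cases j <;> first
    | rfl
    | (exfalso
       simp only [co, Fin.reduceFinMk, Matrix.cons_val] at h
       first
        | exact c (by linear_combination h)
        | exact c (by linear_combination -h)
        | exact b (by linear_combination h)
        | exact b (by linear_combination -h)
        | exact a 0 (by linear_combination h)
        | exact a 0 (by linear_combination -h)
        | exact a 1 (by linear_combination h)
        | exact a 1 (by linear_combination -h)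
        | exact a y (by linear_combination h - d)
        | exact a y (by linear_combination -h - d)
        | exact a (-y) (by linear_combination h + d)
        | exact a (-y) (by linear_combination -h + d))

theorem wt_inj (hn : 2 ≤ n) : Function.Injective (wt n) := by
  have e : ∀ k, wt n k = (co n (wi k).1, co n (wi k).2) := by
    intro k; fin_cases k <;> rfl
  have d : ∀ k l, ci (wi k).1 = ci (wi l).1 → ci (wi k).2 = ci (wi l).2 → k = l := by decide
  intro k l h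
  rw [e, e, Prod.ext_iff] at h
  exact d k l (co_eq hn _ _ h.1) (co_eq hn _ _ h.2)

/-- coefficients -/
def cL : Fin 8 → Fin 16 → ℤ :=
  ![![0, 1, 1, 1, -1, -1, -1, 0, 0, 0, 0, 0, 0, 0, 0, 0],
    ![0, 1, 1, 1, 0, 0, 0, -1, -1, -1, 0, 0, 0, 0, 0, 0],
    ![0, 1, 1, 1, -1, -1, -1, 0, 0, 0, 0, 0, 0, 0, 0, 0],
    ![0, 1, 1, 1, 0, 0, 0, -1, -1, -1, 0, 0, 0, 0, 0, 0],
    ![0, 0, 0, 0, 0, 0, 0, 0, 0, 0, 0, 0, 0, 0, 0, 0],
    ![0, 0, 0, 0, 0, 0, 0, 0, 0, 0, 0, 0, 0, 0, 0, 0],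
    ![0, -2, -2, -2, 0, 0, 0, 0, 0, 0, 1, 1, 1, 1, 1, 1],
    ![3, -1, -1, -1, 0, 0, 0, 0, 0, 0, 0, 0, 0, 0, 0, 0]]

theorem pw_hh (hn : 1 ≤ n) (x : WA n) :
    pw (hh n) x = X (hh n, 0) x + X (0, hh n) x + X (hh n, hh n) x := by
  have := H22.two_mul_hh hn
  simp only [pw, X]
  congr 1
  · congr 1 <;> congr 1 <;> ring
  · congr 1; linear_combination (-x.1 - x.2) * this

theorem pw_one (x : WA n) : pw 1 x = X (1, 0) x + X (0, 1) x + X (-1, -1) x := by
  simp only [pw, X]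
  congr 1
  · congr 1 <;> congr 1 <;> ring
  · congr 1; ring

theorem pw_neg (x : WA n) : pw (-1) x = X (-1, 0) x + X (0, -1) x + X (1, 1) x := by
  simp only [pw, X]
  congr 1
  · congr 1 <;> congr 1 <;> ring
  · congr 1; ring

theorem orb_eq (x : WA n) : orb x = X (1, -1) x + X (-1, 1) x + X (2, 1) x + X (-2, -1) x +
    X (1, 2) x + X (-1, -2) x := by
  simp only [orb, X]
  have e : ∀ {a b c d e f a' b' c' d' e' f' : ZMod (2 ^ n)}, a = a' → b = b' → c = c' → d = d' →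
      e = e' → f = f' → ch a + ch b + ch c + ch d + ch e + ch f =
        ch a' + ch b' + ch c' + ch d' + ch e' + ch f' := by
    rintro _ _ _ _ _ _ _ _ _ _ _ _ rfl rfl rfl rfl rfl rfl; rfl
  apply e <;> ring

theorem X_zero (x : WA n) : X (0, 0) x = 1 := by simp [X, ch_zero]

theorem Lam_eq (hn : 1 ≤ n) (i : Fin 8) (x : WA n) :
    Lam n i x = ∑ k, (cL i k : ℂ) * X (wt n k) x := by
  fin_cases i <;>
    simp [Lam, cL, wt, Fin.sum_univ_succ, pw_hh hn, pw_one, pw_neg, orb_eq, X_zero] <;> ring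

theorem bil {ι α : Type*} [Fintype ι] [DecidableEq ι] (s : Finset α) (b : ι → α → ℂ) (w : ι → ℂ)
    (hb : ∀ k l, ∑ x ∈ s, b k x * conj (b l x) = if k = l then w k else 0) (c c' : ι → ℤ) :
    ∑ x ∈ s, (∑ k, (c k : ℂ) * b k x) * conj (∑ k, (c' k : ℂ) * b k x) =
      ∑ k, (c k * c' k : ℤ) * w k := by
  simp only [map_sum, map_mul, map_intCast, sum_mul_sum]
  rw [sum_comm]
  refine sum_congr rfl fun k _ => ?_
  rw [sum_comm]
  have : ∀ l, ∑ x ∈ s, (c k : ℂ) * b k x * ((c' l : ℂ) * conj (b l x)) =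
      c k * c' l * if k = l then w k else 0 := by
    intro l; rw [← hb, mul_sum]; exact sum_congr rfl fun x _ => by ring
  simp [this]

theorem sum_Lam (hn : 2 ≤ n) (c c' : Fin 16 → ℤ) :
    ∑ x : WA n, (∑ k, (c k : ℂ) * X (wt n k) x) * conj (∑ k, (c' k : ℂ) * X (wt n k) x) =
      (∑ k, c k * c' k : ℤ) * ((2 : ℂ) ^ n) ^ 2 := by
  rw [bil univ (fun k => X (wt n k)) (fun _ => ((2 : ℂ) ^ n) ^ 2)]
  · rw [← sum_mul]; push_cast; rfl
  · intro k l; rw [X_orth]; simp only [(wt_inj hn).eq_iff]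

theorem th_orth (hn : 2 ≤ n) (a b : ZMod (2 ^ n)) :
    ∑ k ∈ range (2 ^ (n + 1)), th a k * conj (th b k) = if a = b then 2 * (2 : ℂ) ^ n else 0 := by
  have : ∀ k : ℕ, th a k * conj (th b k) = ch ((b - a) * (1 + hh n) * (k : ZMod (2 ^ n))) := by
    intro k; rw [th, th, conj_ch, ← ch_add]; congr 1; ring
  simp only [this]
  rw [sum_range_cast2 (fun x => ch ((b - a) * (1 + hh n) * x)), sum_ch]
  have h2 : (b - a) * (1 + hh n) = 0 ↔ a = b := by
    refine ⟨fun h => ?_, by rintro rfl; simp⟩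
    have h1 := hh_sq hn
    linear_combination (hh n - 1) * h - (b - a) * h1
  simp only [h2]; split <;> simp

theorem xi_even (l : ℕ) : xi n (2 * l) = 2 * ch (l : ZMod (2 ^ n)) := by simp [xi]

theorem xi_odd (l : ℕ) : xi n (2 * l + 1) = 0 := by simp [xi]

theorem xi_th (hn : 2 ≤ n) (a : ZMod (2 ^ n)) :
    ∑ k ∈ range (2 ^ (n + 1)), xi n k * conj (th a k) = 0 := by
  rw [pow_succ', sum_range_two]
  have : ∀ l : ℕ, xi n (2 * l) * conj (th a (2 * l)) + xi n (2 * l + 1) * conj (th a (2 * l + 1)) =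
      2 * ch ((2 * (a * (1 + hh n)) + 1) * (l : ZMod (2 ^ n))) := by
    intro l
    rw [xi_even, xi_odd, zero_mul, add_zero, th, conj_ch, mul_assoc, ← ch_add]; congr 2
    push_cast; ring
  simp only [this]
  rw [← mul_sum, sum_range_cast (fun x => ch ((2 * (a * (1 + hh n)) + 1) * x)), sum_ch,
    if_neg (odd_ne (by omega) _), mul_zero]

theorem th_xi (hn : 2 ≤ n) (a : ZMod (2 ^ n)) :
    ∑ k ∈ range (2 ^ (n + 1)), th a k * conj (xi n k) = 0 := by
  have := congrArg conj (xi_th hn a)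
  rw [map_sum, map_zero] at this
  rw [← this]
  exact sum_congr rfl fun k _ => by simp [mul_comm]

theorem xi_xi : ∑ k ∈ range (2 ^ (n + 1)), xi n k * conj (xi n k) = 4 * (2 : ℂ) ^ n := by
  rw [pow_succ', sum_range_two]
  have : ∀ l : ℕ, xi n (2 * l) * conj (xi n (2 * l)) + xi n (2 * l + 1) * conj (xi n (2 * l + 1)) =
      4 := by
    intro l
    rw [xi_even, xi_odd, zero_mul, add_zero, map_mul, conj_ch, mul_mul_mul_comm, ← ch_add,
      add_neg_cancel, ch_zero, map_ofNat]; norm_num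
  simp only [this]
  simp [mul_comm]

/-- basis on the cyclic group -/
noncomputable def bT (n : ℕ) : Fin 5 → ℕ → ℂ :=
  ![th (0 : ZMod (2 ^ n)), th (hh n), th (1 : ZMod (2 ^ n)), th (-1 : ZMod (2 ^ n)), xi n]

/-- coefficients -/
def cT : Fin 8 → Fin 5 → ℤ :=
  ![![0, 1, -1, 0, 0], ![0, 1, 0, -1, 0], ![0, -1, 1, 0, 0], ![0, -1, 0, 1, 0], ![2, 0, 0, 0, -1],
    ![0, -2, 0, 0, 1], ![0, 0, 0, 0, 0], ![1, -1, 0, 0, 0]]

/-- weights -/
def wT : Fin 5 → ℤ := ![2, 2, 2, 2, 4]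

theorem th_zero (k : ℕ) : th (0 : ZMod (2 ^ n)) k = 1 := by simp [th, ch_zero]

theorem The_eq (i : Fin 8) (k : ℕ) : The n i k = ∑ l, (cT i l : ℂ) * bT n l k := by
  fin_cases i <;> simp [The, cT, bT, Fin.sum_univ_succ, th_zero] <;> ring

theorem sum_The (hn : 2 ≤ n) (c c' : Fin 5 → ℤ) :
    ∑ x ∈ range (2 ^ (n + 1)), (∑ k, (c k : ℂ) * bT n k x) * conj (∑ k, (c' k : ℂ) * bT n k x) =
      (∑ k, c k * c' k * wT k : ℤ) * (2 : ℂ) ^ n := by
  rw [bil _ (bT n) (fun k => wT k * (2 : ℂ) ^ n)]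
  · push_cast; rw [sum_mul]; exact sum_congr rfl fun k _ => by ring
  · have e : ∀ k : Fin 4, bT n k.castSucc = th (co n k.castSucc.castSucc) := by
      intro k; fin_cases k <;> rfl
    have e' : bT n (Fin.last 4) = xi n := rfl
    have w : ∀ k : Fin 4, wT k.castSucc = 2 := by decide
    have w' : wT (Fin.last 4) = 4 := rfl
    have d : ∀ k l : Fin 4, ci k.castSucc.castSucc = ci l.castSucc.castSucc → k = l := by decide
    intro k l
    induction k using Fin.lastCases with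
    | last =>
      induction l using Fin.lastCases with
      | last => rw [e', xi_xi, if_pos rfl, w']; norm_num
      | cast l => rw [e, e', xi_th hn, if_neg (Fin.castSucc_lt_last l).ne']
    | cast k =>
      induction l using Fin.lastCases with
      | last => rw [e, e', th_xi hn, if_neg (Fin.castSucc_lt_last k).ne]
      | cast l =>
        rw [e, e, th_orth hn, w]
        by_cases h : k = l
        · subst h; simp
        · rw [if_neg (fun h' => h (d _ _ (co_eq hn _ _ h'))), if_neg (by simpa using h)]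

theorem fin (a b g : ℤ) (h : 2 * a + 3 * b = 12 * g) :
    (6 * (2 ^ n) ^ 2 : ℂ)⁻¹ * (a * ((2 : ℂ) ^ n) ^ 2) + (4 * 2 ^ n : ℂ)⁻¹ * (b * (2 : ℂ) ^ n) =
      g := by
  have h' : (2 * a + 3 * b : ℂ) = 12 * g := by exact_mod_cast h
  field_simp
  linear_combination 2 * h'

theorem pw_sw (j : ZMod (2 ^ n)) (a : WA n) : pw j (a.2, a.1) = pw j a := by
  simp only [pw]; rw [show -a.2 - a.1 = -a.1 - a.2 by ring]; ring

theorem pw_rot (j : ZMod (2 ^ n)) (a : WA n) : pw j (a.2, -a.1 - a.2) = pw j a := by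
  simp only [pw]; rw [show -a.2 - (-a.1 - a.2) = a.1 by ring]; ring

theorem orb_sw (a : WA n) : orb (a.2, a.1) = orb a := by
  simp only [orb]; rw [show -a.2 - a.1 = -a.1 - a.2 by ring]; ring

theorem orb_rot (a : WA n) : orb (a.2, -a.1 - a.2) = orb a := by
  simp only [orb]; rw [show -a.2 - (-a.1 - a.2) = a.1 by ring]; ring

theorem pw_zero (j : ZMod (2 ^ n)) : pw j 0 = 3 := by simp [pw, ch_zero]; norm_num

theorem orb_zero : orb (0 : WA n) = 6 := by simp [orb, ch_zero]; norm_num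

theorem cast_pow : ((2 ^ n : ℕ) : ZMod (2 ^ n)) = 0 := ZMod.natCast_self _

theorem th_half (j : ZMod (2 ^ n)) (i : ℕ) : th j (i + 2 ^ n) = th j i := by
  rw [th, th, Nat.cast_add, cast_pow, add_zero]

theorem th_per (j : ZMod (2 ^ n)) (i : ℕ) : th j (i + 2 ^ (n + 1)) = th j i := by
  rw [pow_succ, mul_two, ← add_assoc, th_half, th_half]

theorem th_at_zero (j : ZMod (2 ^ n)) : th j 0 = 1 := by simp [th, ch_zero]

theorem th_pow (j : ZMod (2 ^ n)) : th j (2 ^ n) = 1 := by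
  rw [← zero_add (2 ^ n), th_half, th_at_zero]

theorem xi_per (i : ℕ) : xi n (i + 2 ^ (n + 1)) = xi n i := by
  have h : Even (i + 2 ^ (n + 1)) ↔ Even i := by
    rw [Nat.even_add]; simp [pow_succ]
  have h2 : (i + 2 ^ (n + 1)) / 2 = i / 2 + 2 ^ n := by rw [pow_succ]; omega
  simp only [xi, h, h2, Nat.cast_add, cast_pow, add_zero]

theorem xi_of_odd {i : ℕ} (h : Odd i) : xi n i = 0 := by
  rw [xi, if_neg (Nat.not_even_iff_odd.2 h)]

theorem xi_half (hn : 1 ≤ n) {i : ℕ} (h : Odd i) : xi n (i + 2 ^ n) = xi n i := by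
  rw [xi_of_odd h, xi_of_odd]
  exact h.add_even ((Nat.even_pow.2 ⟨even_two, by omega⟩))

theorem xi_zero : xi n 0 = 2 := by simp [xi, ch_zero]

theorem xi_pow (hn : 1 ≤ n) : xi n (2 ^ n) = -2 := by
  have : 2 ^ n = 2 * 2 ^ (n - 1) := by rw [← pow_succ']; congr 1; omega
  conv_lhs => arg 2; rw [this]
  rw [xi_even]; push_cast
  rw [show (2 : ZMod (2 ^ n)) ^ (n - 1) = hh n from rfl, ch_hh hn]; norm_num

theorem pw_t0 (hn : 2 ≤ n) : pw (hh n) (hh n, hh n) = 3 := by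
  simp only [pw]
  rw [show hh n * (-hh n - hh n) = -(hh n * hh n) - hh n * hh n by ring, hh_sq hn]
  simp [ch_zero]; norm_num

theorem pw_t1 (hn : 2 ≤ n) : pw 1 (hh n, hh n) = -1 := by
  have h1 : 1 ≤ n := by omega
  simp [pw, H22.neg_hh h1, ch_hh h1, ch_zero]

theorem pw_t2 (hn : 2 ≤ n) : pw (-1) (hh n, hh n) = -1 := by
  have h1 : 1 ≤ n := by omega
  simp [pw, H22.neg_hh h1, ch_hh h1, ch_zero]

theorem orb_t (hn : 2 ≤ n) : orb (hh n, hh n) = -2 := by
  have h1 : 1 ≤ n := by omega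
  simp [orb, H22.neg_hh h1, ch_hh h1, ch_zero]; norm_num

theorem Lam_t (hn : 2 ≤ n) (i : Fin 8) :
    Lam n i (hh n, hh n) = (![4, 4, 4, 4, 0, 0, -8, 0] : Fin 8 → ℂ) i := by
  fin_cases i <;> simp [Lam, pw_t0 hn, pw_t1 hn, pw_t2 hn, orb_t hn] <;> norm_num

theorem The_t (hn : 2 ≤ n) (i : Fin 8) :
    The n i (2 ^ n) = (![0, 0, 0, 0, 4, -4, 0, 0] : Fin 8 → ℂ) i := by
  have h1 : 1 ≤ n := by omega
  fin_cases i <;> simp [The, th_pow, xi_pow h1] <;> norm_num

theorem sum_pw {j : ZMod (2 ^ n)} (hj : j ≠ 0) : ∑ a, pw j (a, -a) = 2 ^ n := by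
  have : ∀ a : ZMod (2 ^ n), pw j (a, -a) = ch (j * a) + ch (-j * a) + ch (0 * a) := by
    intro a; simp [pw]
  simp only [this, sum_add_distrib, sum_ch]
  simp [hj]

theorem sum_orb (hn : 2 ≤ n) : ∑ a : ZMod (2 ^ n), orb (a, -a) = 0 := by
  have : ∀ a : ZMod (2 ^ n), orb (a, -a) = ch (2 * a) + ch (-2 * a) + ch (1 * a) + ch (-1 * a) +
      ch (-1 * a) + ch (1 * a) := by
    intro a; simp [orb, two_mul, sub_eq_add_neg]
  have h1 : (1 : ZMod (2 ^ n)) ≠ 0 := by simpa using odd_ne (n := n) (by omega) 0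
  simp only [this, sum_add_distrib, sum_ch]
  simp [h1, two_ne hn]

theorem Lam_s (hn : 2 ≤ n) (i : Fin 8) :
    ∑ a, Lam n i (a, -a) = (![0, 0, 0, 0, 0, 0, -2, 2] : Fin 8 → ℂ) i * 2 ^ n := by
  have h0 := sum_pw (H22.hh_ne_zero (n := n) (by omega))
  have h1' : (1 : ZMod (2 ^ n)) ≠ 0 := by simpa using odd_ne (n := n) (by omega) 0
  have h1 := sum_pw h1'
  have h2 := sum_pw (neg_ne_zero.2 h1')
  fin_cases i <;> simp [Lam, sum_sub_distrib, ← mul_sum, h0, h1, h2, sum_orb hn]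
  ring

end WNumAux

open WNumAux

theorem adm8 {n : ℕ} (hn : 2 ≤ n) (i : Fin 8) : Adm (Lam n i) (The n i) := by
  have h1 : 1 ≤ n := by omega
  refine ⟨fun a => ?_, fun a => ?_, ?_, fun k => ?_, fun k hk => ?_, ?_⟩
  · fin_cases i <;> simp [Lam, pw_sw, orb_sw]
  · fin_cases i <;> simp [Lam, pw_rot, orb_rot]
  · fin_cases i <;> simp [Lam, pw_zero, orb_zero]; norm_num
  · fin_cases i <;> simp [The, th_per, xi_per]
  · fin_cases i <;> simp [The, th_half, xi_half h1 hk]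
  · fin_cases i <;> simp [The, th_at_zero, xi_zero]

theorem gram8 {n : ℕ} (hn : 2 ≤ n) (i j : Fin 8) :
    (6 * (2 ^ n) ^ 2 : ℂ)⁻¹ * ∑ x, Lam n i x * conj (Lam n j x) +
      (4 * 2 ^ n : ℂ)⁻¹ * ∑ k ∈ range (2 ^ (n + 1)), The n i k * conj (The n j k) = Gram i j := by
  have h1 : 1 ≤ n := by omega
  simp only [Lam_eq h1, The_eq]
  rw [sum_Lam hn, sum_The hn]
  apply fin
  revert i j; decide

theorem one8 {n : ℕ} (hn : 2 ≤ n) (i : Fin 8) :
    (6 * (2 ^ n) ^ 2 : ℂ)⁻¹ * ∑ x, Lam n i x +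
      (4 * 2 ^ n : ℂ)⁻¹ * ∑ k ∈ range (2 ^ (n + 1)), The n i k = One8 i := by
  have h1 : 1 ≤ n := by omega
  have a := sum_Lam hn (cL i) ![1, 0, 0, 0, 0, 0, 0, 0, 0, 0, 0, 0, 0, 0, 0, 0]
  have b := sum_The hn (cT i) ![1, 0, 0, 0, 0]
  have a' : ∀ x : WA n, ∑ k, ((![1, 0, 0, 0, 0, 0, 0, 0, 0, 0, 0, 0, 0, 0, 0, 0] : Fin 16 → ℤ) k : ℂ) *
      X (wt n k) x = 1 := by
    intro x; simp [Fin.sum_univ_succ, wt, X_zero]
  have b' : ∀ x, ∑ k, ((![1, 0, 0, 0, 0] : Fin 5 → ℤ) k : ℂ) * bT n k x = 1 := by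
    intro x; simp [Fin.sum_univ_succ, bT, th_zero]
  simp only [a', b', map_one, mul_one] at a b
  simp only [Lam_eq h1, The_eq]
  rw [a, b]
  apply fin
  clear a b a' b'
  revert i; decide

theorem val8 {n : ℕ} (hn : 2 ≤ n) (i : Fin 8) (Q : ℤ) :
    (1 + Q : ℂ) / 2 * Lam n i (hh n, hh n) + (1 - Q : ℂ) / 2 * The n i (2 ^ n) = Val8 Q i := by
  rw [Lam_t hn, The_t hn]
  fin_cases i <;> simp [Val8] <;> ring

theorem cls8 {n : ℕ} (hn : 2 ≤ n) (i : Fin 8) (Q : ℤ) (hQ : Q ≠ 0) :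
    (1 / 2 : ℂ) * ((Q * (Q + 1)) ^ 2 * ((Lam n i (hh n, hh n) + The n i (2 ^ n)) / 2 +
          (Lam n i (hh n, hh n) - The n i (2 ^ n)) / (2 * Q)) +
        Q * (Q + 1) * (Q - 1) ^ 2 *
          ((∑ a, Lam n i (a, -a)) / 2 ^ n - Lam n i (hh n, hh n) / 2)) = Q * Cls8 Q i := by
  rw [Lam_t hn, The_t hn, Lam_s hn, mul_div_assoc, div_self (pow_ne_zero n two_ne_zero)]
  have hQ' : (Q : ℂ) ≠ 0 := by exact_mod_cast hQ
  fin_cases i <;> simp [Cls8] <;> field_simp <;> ring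

end H13.W
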