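import Mathlib
import Cfsg.Agent.H1.WS7

/-!
# Class multiplication coefficients of the class of involutions against `Spec`
-/

set_option autoImplicit false

namespace H13.W

open H24 Cfsg Subgroup Finset
open H22 (WR WA Bj hh)
open scoped ComplexConjugate

universe u

variable {G : Type u} [Group G]

open H1.WS in
theorem spec_class [Fintype G] {c : WC G} {M : Mod c} {Θ : G → ℂ} {Λ : WA c.n → ℂ}
    {ϑ : ℕ → ℂ} (h : Spec M Θ Λ ϑ) (ha : Adm Λ ϑ) :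
    ∑ a ∈ H5.cl c.t, ∑ b ∈ H5.cl c.t, Θ (a * b) = c.H.index * (c.k : ℂ) ^ 2 / 2 *
      ((M.Q * (M.Q + 1)) ^ 2 * ((Λ (hh c.n, hh c.n) + ϑ (2 ^ c.n)) / 2 +
          (Λ (hh c.n, hh c.n) - ϑ (2 ^ c.n)) / (2 * M.Q)) +
        M.Q * (M.Q + 1) * (M.Q - 1) ^ 2 *
          ((∑ a, Λ (a, -a)) / 2 ^ c.n - Λ (hh c.n, hh c.n) / 2)) := by
  classical
  have hord : ∀ a ∈ H5.cl c.t, orderOf a = 2 := fun a ha => by
    obtain ⟨g, rfl⟩ := isConj_iff.1 (H5.mem_cl.1 ha)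
    rw [orderOf_conj, t_ord]
  -- reduction to `D`
  have e : ∀ g : G, ap (⊤ : Subgroup G).subtype g = g := fun g => ap_of_mem _ (mem_top g)
  have h1 := sum_inv_pairs (⊤ : Subgroup G).subtype (fun g => ⟨⟨g, mem_top g⟩, rfl⟩) (t_ord c)
    (U := H5.cl c.t) (fun a _ => mem_top a)
    (fun g _ a ha => H5.mem_cl.2 ((H5.mem_cl.1 ha).trans (isConj_iff.2 ⟨g, rfl⟩))) Θ
    (fun k _ g _ => h.cf g k) (fun a _ b _ h0 => by
      obtain ⟨v, hv, h2⟩ := exists_inv fun ho => h0 (h.odd _ ho)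
      exact ⟨v, by rwa [e], inv_G c h2⟩)
  simp only [e, H5.card_cl] at h1
  rw [sum_pairs (W := UU c) (t_ord c) hord
    (fun a ha => H5.mem_cl.2 (inv_G c ((mem_UU c).1 ha).2.1))
    (fun a ha h2 h3 => (mem_UU c).2 ⟨h2, hord a ha, h3⟩)] at h1
  -- symmetrisation
  have h2 : ∑ a ∈ UU c, ∑ b ∈ UU c, (FD c Θ (a * b) + FD c Θ (c.t * (a * b))) =
      2 * ∑ a ∈ UU c, ∑ b ∈ UU c, FD c Θ (a * b) := by
    simp only [Finset.sum_add_distrib, ← mul_assoc]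
    rw [sum_UU_t c fun a => ∑ b ∈ UU c, FD c Θ (a * b), two_mul]
  have hd : ∀ a ∈ UU c, ∀ b ∈ UU c, dt M (a * b) = 0 := fun a ha b hb => by
    rw [dt_mul M (UU_H c a ha) (UU_H c b hb), dt_UU M ha, dt_UU M hb, H22.hh_add_hh (n1 c)]
  set Lt := Λ (hh c.n, hh c.n) with hLt
  let A : M.Γ → ℂ := fun ρ => (1 + St M.d ρ) / 2 * Lt + (1 - St M.d ρ) / 2 * ϑ (2 ^ c.n)
  have h3 := sum_inv_pairs M.κ M.surj (ord_uu M.d c.hn) (UU_H c) (UU_conj c)
    (fun g => FD c Θ g + FD c Θ (c.t * g) - A (ap M.κ g))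
    (fun k hk g hg => by
      have e1 : c.t * (k * g * k⁻¹) = k * (c.t * g) * k⁻¹ := by
        rw [← t_comm c hk, mul_assoc k (k * c.t * k⁻¹ * g), t_comm c hk, ← t_comm c hk]
        rw [t_comm c hk]
        conv_lhs => rw [← t_comm c hk]
        group
      simp only [FD, A, e1, t_mem_conj c hk, h.cf _ k, ap_conj _ hk hg, St_conj])
    (fun a ha b hb h0 => by
      have hab := mul_mem (UU_H c a ha) (UU_H c b hb)
      obtain ⟨v, hv, h2⟩ := exists_inv fun ho => h0 (sub_eq_zero.2 (G2_odd h hab (hd a ha b hb) ho))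
      refine ⟨v, hv, ?_⟩
      obtain ⟨g, -, hg⟩ := M.d.inv_conj v (zpowers_le.2 (by
        rw [ap_mul _ (UU_H c a ha) (UU_H c b hb)]
        exact mul_mem (V_L M.d c.hn (κ_UU M ha)) (V_L M.d c.hn (κ_UU M hb))) hv) h2
      exact isConj_iff.2 ⟨g, hg⟩)
  have h4 : ∑ a ∈ UU c, ∑ b ∈ UU c, (if uu M.d ∈ zpowers (ap M.κ (a * b)) then
      FD c Θ (a * b) + FD c Θ (c.t * (a * b)) - A (ap M.κ (a * b)) else 0) =
      (2 * c.k) ^ 2 * (♯(M.d.T ⊓ M.d.L) * (M.d.m' * ∑ a, Λ (a, -a) - ♯(M.d.T ⊓ M.d.L) * Lt)) := by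
    rw [← sum_psi M.d c.hn, ← card_FS (M.d.T ⊓ M.d.L), ← nsmul_eq_mul _ Lt, ← sum_const,
      ← Finset.sum_sub_distrib, card_FS,
      ← sum_V_pairs M.d c.hn (fun ρ => psi M.d (fun x => Λ (x, -x)) ρ - Lt),
      ← sum_UU2 M fun ρ => if uu M.d ∈ zpowers ρ then psi M.d (fun x => Λ (x, -x)) ρ - Lt else 0]
    · refine Finset.sum_congr rfl fun a ha => Finset.sum_congr rfl fun b hb => ?_
      split_ifs with hu
      · obtain ⟨e1, e2⟩ := G2_uu h (mul_mem (UU_H c a ha) (UU_H c b hb)) (hd a ha b hb) hu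
        have e3 : St M.d (ap M.κ (a * b)) = 1 := e2
        simp only [e1, A, e3]
        push_cast
        ring
      · rfl
    · intro y hy ho
      have := psi_eq M.d (n1 c) (fun x => Λ (x, -x)) 0 ho fun i =>
        (T_abl M.d).comm (zp_le_T M.d (ee_mem M.d i)) hy
      rw [add_zero, ee_zero, one_mul] at this
      rw [this, neg_zero, show ((0, 0) : WA c.n) = 0 from rfl, ha.zero, zero_add, zero_add,
        H22.neg_hh (n1 c), sub_self]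
  have h5 : ∑ a ∈ UU c, ∑ b ∈ UU c, A (ap M.κ (a * b)) = (2 * c.k) ^ 2 *
      ((H5.cl (uu M.d)).card ^ 2 * (Lt + ϑ (2 ^ c.n)) / 2 +
        (H5.cl (uu M.d)).card ^ 2 * M.d.N.ε / M.d.N.q * (Lt - ϑ (2 ^ c.n)) / 2) := by
    rw [sum_UU2 M A, ← sum_St_V M.d c.hn]
    congr 1
    have : ∀ ρ, A ρ = (Lt + ϑ (2 ^ c.n)) / 2 + St M.d ρ * ((Lt - ϑ (2 ^ c.n)) / 2) := fun ρ => by
      simp only [A]; ring
    simp only [this, Finset.sum_add_distrib, sum_const, nsmul_eq_mul, ← Finset.sum_mul]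
    ring
  simp only [Finset.sum_sub_distrib] at h3
  rw [h4, h5, h2] at h3
  have h6 : ((H5.cl (uu M.d)).card : ℂ) = M.d.N.q * (M.d.N.q + M.d.N.ε) / 2 := by
    have e1 : (2 * (H5.cl (uu M.d)).card : ℂ) = M.d.N.q * M.d.N.n := by
      exact_mod_cast card_cl' M.d c.hn
    have e2 : (M.d.N.n : ℂ) = M.d.N.q + M.d.N.ε := by exact_mod_cast M.d.N.hn
    rw [← e2, ← e1]
    ring
  have h7 : (M.d.N.m : ℂ) = M.d.N.q - M.d.N.ε := by exact_mod_cast M.d.N.hm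
  have h8 : (♯(M.d.T ⊓ M.d.L) : ℂ) = (M.d.N.q - M.d.N.ε) / 2 := by
    have e1 : (2 * ♯(M.d.T ⊓ M.d.L) : ℂ) = M.d.N.m := by exact_mod_cast card_TL M.d
    rw [← h7, ← e1]
    ring
  have hN := N_ne c.n
  have h9 : (M.d.m' : ℂ) = (M.d.N.q - M.d.N.ε) / 2 ^ c.n := by
    rw [← h7, M.d.hm]
    push_cast
    field_simp
  have hq : (M.d.N.q : ℂ) ≠ 0 := by exact_mod_cast (q_pos M.d).ne'
  rw [h6, h8, h9, sub_eq_iff_eq_add] at h3
  have h10 : ∑ a ∈ UU c, ∑ b ∈ UU c, (if c.t ∈ zpowers (a * b) then Θ (a * b) else 0) =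
      (2 * ∑ a ∈ UU c, ∑ b ∈ UU c, FD c Θ (a * b)) / 2 := by
    rw [mul_div_cancel_left₀ _ two_ne_zero]
    rfl
  rw [h1, h10, h3, Mod.Q, WC.H]
  rcases M.d.N.hε with e | e <;> rw [e] <;> push_cast <;> field_simp <;> ring

open H1.WS in
/-- number of conjugates of `u` in `H` -/
theorem index_cent_u [Finite G] {c : WC G} (M : Mod c) :
    (c.H ⊓ C{c.u}).relIndex c.H = c.k * (M.d.N.q * M.d.N.n) := by
  let _ := Fintype.ofFinite G
  have := sum_UU M fun _ => 1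
  simp only [sum_const, nsmul_eq_mul, mul_one] at this
  rw [← card_UU, ← card_cl' M.d c.hn]
  have h : (UU c).card = 2 * c.k * (H5.cl (uu M.d)).card := by exact_mod_cast this
  rw [h]
  ring

end H13.W
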