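import Mathlib
import Cfsg.Agent.H18.WS4
import Cfsg.Agent.H5.BS

/-! Existence of the eight generalized characters (wreathed case). -/

set_option autoImplicit false
set_option linter.unusedSectionVars false

namespace H18.WS

open H24 H4 H5 Cfsg Subgroup H13.W H13.Dih
open H22 (WR WA Bj hh sw)

universe u

variable {G : Type u} [Group G] [Fintype G] {c : WC G}

open Classical in
variable (c) in
/-- the function on `S` given by a pair -/
noncomputable def fn (p : (WA c.n → ℂ) × (ZMod (2 ^ c.n) → ℂ)) (g : G) : ℂ :=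
  if h : ∃ a, c.E.r a = g then p.1 h.choose
  else if h : ∃ a, c.E.s a = g then p.2 (h.choose.1 + h.choose.2) else 0

theorem fn_r (p : (WA c.n → ℂ) × (ZMod (2 ^ c.n) → ℂ)) (a : WA c.n) : fn c p (c.E.r a) = p.1 a := by
  have h : ∃ b, c.E.r b = c.E.r a := ⟨a, rfl⟩
  rw [fn, dif_pos h, c.E.r_inj.1 h.choose_spec]

theorem fn_s (p : (WA c.n → ℂ) × (ZMod (2 ^ c.n) → ℂ)) (a : WA c.n) :
    fn c p (c.E.s a) = p.2 (a.1 + a.2) := by
  have h : ∃ b, c.E.s b = c.E.s a := ⟨a, rfl⟩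
  rw [fn, dif_neg fun ⟨b, e⟩ => c.E.r_ne_s b a e, dif_pos h, c.E.s_inj.1 h.choose_spec]

theorem S_ext {f g : c.S → ℂ} (h1 : ∀ a, f ⟨c.E.r a, c.E.r_mem a⟩ = g ⟨c.E.r a, c.E.r_mem a⟩)
    (h2 : ∀ a, f ⟨c.E.s a, c.E.s_mem a⟩ = g ⟨c.E.s a, c.E.s_mem a⟩) : f = g := by
  funext ⟨x, hx⟩
  rcases c.E.cases hx with ⟨a, rfl⟩ | ⟨a, rfl⟩
  exacts [h1 a, h2 a]

theorem isGen_lin {A : Type*} [Group A] {f : A → ℂ} (h1 : f 1 = 1)
    (h2 : ∀ a b, f (a * b) = f a * f b) : IsGeneralizedCharacter A f :=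
  (isIrrCharacter_linear (MonoidHom.toHomUnits (⟨⟨f, h1⟩, h2⟩ : A →* ℂ))).isGen

theorem isGen_fn {p : (WA c.n → ℂ) × (ZMod (2 ^ c.n) → ℂ)} (h : p ∈ GS c.n) :
    IsGeneralizedCharacter c.S fun g => fn c p g := by
  classical
  induction h using AddSubgroup.closure_induction with
  | mem p hp =>
    rcases hp with ⟨k, l, rfl⟩ | ⟨k, rfl⟩
    · let q : (WA c.n → ℂ) × (ZMod (2 ^ c.n) → ℂ) := (fun x => ch (k * x.1 + l * x.2), 0)
      let C := c.E0.subgroupOf c.S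
      have h1 : IsGeneralizedCharacter C fun g => fn c q ((g : c.S) : G) := by
        refine isGen_lin ?_ ?_
        · rw [coe_one, coe_one, ← c.E.r_zero, fn_r]; simp [q]
        · rintro ⟨⟨a, ha⟩, ha'⟩ ⟨⟨b, hb⟩, hb'⟩
          obtain ⟨a, rfl⟩ := c.mem_E0.1 (mem_subgroupOf.1 ha')
          obtain ⟨b, rfl⟩ := c.mem_E0.1 (mem_subgroupOf.1 hb')
          simp only [MulMemClass.mk_mul_mk, c.E.r_mul_r, fn_r, q, ← ch_add, Prod.fst_add,
            Prod.snd_add]
          congr 1; ring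
      have h2 : ∀ y : c.S, extendByZero C (fun g => fn c q ((g : c.S) : G)) y = fn c q y := by
        rintro ⟨y, hy⟩
        rcases c.E.cases hy with ⟨a, rfl⟩ | ⟨a, rfl⟩
        · exact extendByZero_of_mem _ _ (mem_subgroupOf.2 (c.r_mem a))
        · rw [extendByZero_of_not_mem _ _ fun h => c.isR.s_not_mem a (mem_subgroupOf.1 h), fn_s]
          rfl
      have h3 : ∀ y : c.S, indFun C (fun g => fn c q ((g : c.S) : G)) y =
          fn c q y + fn c q (c.σ * y * c.σ⁻¹) := by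
        intro y
        rw [indFun_apply_two_cosets C h1.classFun (x := ⟨c.σ, c.σ_mem_S⟩)
          (fun h => c.σ_not_mem (mem_subgroupOf.1 h)) fun g _ => ?_, h2, h2]
        · simp [c.σ_inv]
        · refine (c.mem_S g.2).imp mem_subgroupOf.2 fun h => mem_subgroupOf.2 ?_
          have := conj_mem c.σ_mem_NE0 h
          simpa [mul_assoc, c.σ_inv, c.σσ] using this
      convert h1.indFun using 1
      refine S_ext (fun a => ?_) fun a => ?_
      · rw [h3]; simp only [c.σ_r, fn_r, II, q]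
      · rw [h3]; simp only [WC.σ, c.E.s_conj_s, fn_s, q]; simp
    · refine isGen_lin ?_ ?_
      · rw [coe_one, ← c.E.r_zero, fn_r]; simp
      · rintro ⟨a, ha⟩ ⟨b, hb⟩
        rcases c.E.cases ha with ⟨a, rfl⟩ | ⟨a, rfl⟩ <;>
          rcases c.E.cases hb with ⟨b, rfl⟩ | ⟨b, rfl⟩ <;>
          simp only [MulMemClass.mk_mul_mk, c.E.r_mul_r, c.E.r_mul_s, c.E.s_mul_r, c.E.s_mul_s,
            fn_r, fn_s, ← ch_add, Prod.fst_add, Prod.snd_add, H22.sw_fst, H22.sw_snd, add_zero] <;>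
          congr 1 <;> ring
  | zero => convert isGen_zero using 1; exact S_ext (by simp [fn_r]) (by simp [fn_s])
  | add p q _ _ hp hq => convert hp.add hq using 1; exact S_ext (by simp [fn_r]) (by simp [fn_s])
  | neg p _ hp => convert hp.neg using 1; exact S_ext (by simp [fn_r]) (by simp [fn_s])

theorem fn_stable {p : (WA c.n → ℂ) × (ZMod (2 ^ c.n) → ℂ)} (h1 : ∀ a, p.1 (a.2, a.1) = p.1 a)
    (h2 : ∀ a, p.1 (a.2, -a.1 - a.2) = p.1 a) (h3 : ∀ d, p.2 (2 * d) = p.1 (d + hh c.n, d))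
    {a b : G} (ha : a ∈ c.S) (hb : b ∈ c.S) (h : IsConj a b) : fn c p a = fn c p b := by
  have hr : ∀ x y, IsConj (c.E.r x) (c.E.r y) → p.1 x = p.1 y := fun x y h =>
    fus_ind (P := fun y => p.1 x = p.1 y) (fun a e => e.trans (h1 a).symm)
      (fun a e => e.trans (h2 a).symm) h rfl
  have hs : ∀ x y, IsConj (c.E.s x) (c.E.r y) → p.2 (x.1 + x.2) = p.1 y := by
    intro x y h
    rcases H22.even_or_odd (x.1 + x.2) with ⟨d, e⟩ | ⟨d, e⟩
    · rw [e, h3]; exact hr _ _ ((conj_even e).symm.trans h)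
    · exact absurd h (not_conj_odd e)
  rcases c.E.cases ha with ⟨a, rfl⟩ | ⟨a, rfl⟩ <;> rcases c.E.cases hb with ⟨b, rfl⟩ | ⟨b, rfl⟩ <;>
    simp only [fn_r, fn_s]
  exacts [hr _ _ h, (hs _ _ h.symm).symm, hs _ _ h, by rw [sum_of_conj h]]

theorem exists_odd (M : Mod c) : ∃ z : ℤ, M.Q - 1 = (2 * z + 1) * 2 ^ c.n := by
  obtain ⟨k, hk⟩ := M.d.odd_m'
  have h1 := M.d.N.hm
  rw [M.d.hm, hk] at h1
  push_cast at h1
  unfold Mod.Q
  rcases M.d.N.hε with h | h <;> rw [h] at h1 ⊢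
  · exact ⟨k, by linear_combination -h1⟩
  · exact ⟨-k - 1, by linear_combination h1⟩

theorem spec_of_gd (M : Mod c) {Λ : WA c.n → ℂ} {ϑ : ℕ → ℂ} (h : Gd Λ ϑ) (h0 : Λ 0 = 0)
    (h0' : ϑ 0 = 0) : ∃ Θ, IsGeneralizedCharacter G Θ ∧ Spec M Θ Λ ϑ := by
  obtain ⟨κ, γ, h⟩ := h
  have hn := c.n1
  have hκ : κ 0 = 0 := by
    have := h.dif 0
    simp only [Nat.cast_zero, mul_zero, Prod.mk_zero_zero, h0, h0'] at this
    linear_combination -this / 2
  obtain ⟨a, ha⟩ := exists_half hn h.sp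
  obtain ⟨z, hz⟩ := exists_odd M
  obtain ⟨p, hp⟩ : ∃ p : (WA c.n → ℂ) × (ZMod (2 ^ c.n) → ℂ), p =
    (fun x => Λ x + (2 * z + 1) * (DD κ x + DD' κ x),
      fun b => γ b + if b = 0 then (2 * z + 1) * 2 ^ c.n * κ (hh c.n) else 0) := ⟨_, rfl⟩
  have hgs : p ∈ GS c.n := by
    refine gs_congr (add_mem (add_mem (add_mem h.gs (zsmul_mem (gs_two_DD hn h.sp) z))
      (zsmul_mem (gs_DD' h.sp) (2 * z + 1))) (zsmul_mem gs_delta ((2 * z + 1) * a)))
      (fun x => by simp [hp]; ring) fun b => ?_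
    by_cases e : b = 0 <;> simp [hp, ha, hκ, e]
    ring
  have h2 := H22.hh_add_hh hn
  have s1 : ∀ a : WA c.n, p.1 (a.2, a.1) = p.1 a := fun a => by
    simp only [hp, h.sw, DD, DD', show -a.2 - a.1 = -a.1 - a.2 by ring, eq_comm (a := a.2) (b := a.1)]
    by_cases e : a.1 = a.2 <;> simp only [e, if_true, if_false] <;> ring
  have s2 : ∀ a : WA c.n, p.1 (a.2, -a.1 - a.2) = p.1 a := fun a => by
    simp only [hp, h.rot, DD, DD', show -a.2 - (-a.1 - a.2) = a.1 by ring,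
      eq_comm (a := a.2) (b := a.1), eq_comm (a := -a.1 - a.2) (b := a.1)]
    by_cases e : a.1 = a.2 <;> by_cases e' : a.1 = -a.1 - a.2
    · simp only [if_pos e, if_pos e', ← e']; rw [e]; ring
    · simp only [if_pos e, if_neg e']; rw [e]; ring
    · simp only [if_neg e, if_pos e', ← e']; ring
    · simp only [if_neg e, if_neg e']; ring
  have s3 : ∀ d, p.2 (2 * d) = p.1 (d + hh c.n, d) := fun d => by
    have h3 : ¬ d + hh c.n = d := by simpa using c.hh0
    have h4 : d + hh c.n = -(d + hh c.n) - d ↔ d = 0 :=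
      ⟨fun e => three_unit (by linear_combination e - h2), fun e => by
        linear_combination 3 * e + h2⟩
    have h5 : d = -(d + hh c.n) - d ↔ d = hh c.n :=
      ⟨fun e => sub_eq_zero.1 (three_unit (by linear_combination e - 2 * h2)), fun e => by
        linear_combination 3 * e + 2 * h2⟩
    have h6 : 2 * d = 0 ↔ d = 0 ∨ d = hh c.n := by rw [two_mul, H22.add_self_eq_zero_iff hn]
    simp only [hp, h.ev, DD, DD', h3, h4, h5, h6, if_false]
    by_cases e : d = 0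
    · simp [e, c.hh0.symm, mul_assoc]
    · by_cases e' : d = hh c.n
      · simp [e', c.hh0, mul_assoc]
      · simp [e, e']
  obtain ⟨Φ, hΦ, hΦ'⟩ := exists_ext Nat.prime_two c.S_syl (isGen_fn hgs) fun a b e =>
    fn_stable s1 s2 s3 a.2 b.2 e
  · have hv : ∀ a ∈ c.S, ∀ y ∈ C{a}, Odd (orderOf y) → constt {2} (a * y) = a := fun a ha y hy ho =>
      constt_mul_of (c.S_pi.piElt ha) (piElt_odd.2 ho) (mem_C1.1 hy).symm
    have hw : ∀ a ∈ c.S, ∀ y ∈ C{a}, Odd (orderOf y) → Φ (a * y) = fn c p a := fun a ha y hy ho =>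
      hΦ' _ ⟨a, ha⟩ (by rw [hv a ha y hy ho])
    have hΘ := hΦ.add ((isGen_psi M h.sp).indFun.intCast_smul M.d.N.ε)
    refine ⟨_, hΘ, hΘ.classFun, fun g hg => ?_, fun x hx y hy ho => ?_,
      fun j hj hj' y hy ho => ?_, fun i hi y hy ho => ?_⟩ <;>
      simp only [Pi.add_apply, Pi.smul_apply, smul_eq_mul]
    · have e := hw 1 (one_mem _) g (by simp) hg
      rw [one_mul, ← c.E.r_zero, fn_r] at e
      rw [e, ind_psi_zero M hκ fun j hj hc => ?_]
      · simp [hp, DD, DD', hκ, h0]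
      · rw [constt_eq_one (piElt_odd.2 hg), isConj_one_right, c.E.r_eq_one] at hc
        exact hj (congrArg Prod.fst hc)
    · rw [hw _ (c.E.r_mem x) y hy ho, fn_r, ind_psi_zero M hκ fun j hj hc => ?_]
      · simp only [Sing, not_or] at hx
        simp [hp, DD, DD', hx]
      · rw [hv _ (c.E.r_mem x) y hy ho] at hc
        exact hx (sing_of_conj hc.symm)
    · have hj0 : (j : ZMod (2 ^ c.n)) ≠ 0 := fun e =>
        absurd (Nat.le_of_dvd hj ((ZMod.natCast_eq_zero_iff _ _).1 e)) (by omega)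
      have h3 : ¬ (j : ZMod (2 ^ c.n)) = -j - j := fun e => hj0 (three_unit e)
      rw [hw _ (c.E.r_mem _) y hy ho, fn_r, ind_psi_cen M hκ hj0 hy ho]
      have h4 := congrArg (Int.cast : ℤ → ℂ) hz
      simp only [hp, DD, DD', if_neg h3, if_true, Mod.St, Mod.Q, pi] at h4 ⊢
      push_cast at h4 ⊢
      linear_combination (-κ j) * h4 - ((M.d.N.ε : ℂ) * ((Nat.card (MulAction.fixedBy M.d.Ω
        (ap M.κ y)) : ℂ) - 1) - 1) / 2 * h.dif j
    · obtain ⟨k, rfl⟩ := hi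
      rw [om_pow] at hy ⊢
      have h3 : ((k + 1, k) : WA c.n).1 + ((k + 1, k) : WA c.n).2 = 2 * k + 1 := by ring
      rw [hw _ (c.E.s_mem _) y hy ho, fn_s, ind_psi_zero M hκ fun j hj hc => ?_, h3]
      · have h4 : (2 * k + 1 : ZMod (2 ^ c.n)) ≠ 0 := fun e =>
          H22.odd_not_mem_K_pred hn k (e ▸ zero_mem _)
        simp [hp, h4, h.od]
      · rw [hv _ (c.E.s_mem _) y hy ho] at hc
        exact not_conj_odd h3 hc

end H18.WS

namespace H13.W

open H24 Cfsg Subgroup Finset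
open H22 (WR WA Bj hh)
open scoped ComplexConjugate

universe u

variable {G : Type u} [Group G]

theorem spec_exists [Fintype G] {c : WC G} (M : Mod c) (i : Fin 8) :
    ∃ Θ, IsGeneralizedCharacter G Θ ∧ Spec M Θ (Lam c.n i) (The c.n i) :=
  H18.WS.spec_of_gd M (H18.WS.gd8 c.n1 i) (H18.WS.zero8 i).1 (H18.WS.zero8 i).2

end H13.W
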