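import Mathlib
import Cfsg.Agent.H1.WS5

/-!
# Inner products of the generalized characters described by `Spec`
-/

set_option autoImplicit false

namespace H13.W

open H24 Cfsg Subgroup Finset
open H22 (WR WA Bj hh)
open scoped ComplexConjugate

universe u

variable {G : Type u} [Group G]

open H1.WS in
theorem spec_inner [Fintype G] {c : WC G} {M : Mod c} {Θ Θ' : G → ℂ} {Λ Λ' : WA c.n → ℂ}
    {ϑ ϑ' : ℕ → ℂ} (h : Spec M Θ Λ ϑ) (h' : Spec M Θ' Λ' ϑ') (ha : Adm Λ ϑ) (ha' : Adm Λ' ϑ') :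
    classInner Θ Θ' = (6 * (2 ^ c.n) ^ 2 : ℂ)⁻¹ * ∑ x, Λ x * conj (Λ' x) +
      (4 * 2 ^ c.n : ℂ)⁻¹ * ∑ i ∈ range (2 ^ (c.n + 1)), ϑ i * conj (ϑ' i) := by
  classical
  rw [classInner, sum_G c _ (fun g k => by rw [h.cf, h'.cf]) (fun g hg => by
    rw [h.odd g hg, zero_mul]), Dsum h ha 1 (by simp) (fun g => conj (Θ' g))
    (fun k _ g _ => by rw [h'.cf]) (fun x => conj (Λ' x)) (fun i => conj (ϑ' i))
    (fun a => by rw [ha'.rot]) (fun j => by rw [adm_half (n1 c) ha'])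
    (fun j hj y hy ho => by rw [spec_A h' hj hy ho, mu_one]; simp [map_ofNat])
    (fun a h1 h2 y hy ho => by rw [spec_B h' h1 h2 hy ho, mu_one, one_mul])
    (fun j y _ h1 ho => by rw [spec_C h' j h1 ho, mu_one, one_mul]), dl_one, card_G]

open H1.WS in
theorem spec_inner_one [Fintype G] {c : WC G} {M : Mod c} {Θ : G → ℂ} {Λ : WA c.n → ℂ}
    {ϑ : ℕ → ℂ} (h : Spec M Θ Λ ϑ) (ha : Adm Λ ϑ) :
    classInner Θ (fun _ => 1) = (6 * (2 ^ c.n) ^ 2 : ℂ)⁻¹ * ∑ x, Λ x +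
      (4 * 2 ^ c.n : ℂ)⁻¹ * ∑ i ∈ range (2 ^ (c.n + 1)), ϑ i := by
  classical
  have := Dsum h ha 1 (by simp) (fun _ => 1) (fun _ _ _ _ => rfl) (fun _ => 1) (fun _ => 1)
    (fun _ => rfl) (fun _ => rfl) (fun j _ y _ _ => by rw [mu_one]; ring)
    (fun a _ _ y _ _ => by rw [mu_one, one_mul]) (fun j y _ _ _ => by rw [mu_one, one_mul])
  simp only [mul_one] at this
  simp only [classInner, map_one, mul_one]
  rw [sum_G c _ h.cf h.odd, this, dl_one, card_G]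

open H1.WS in
theorem spec_twist_zero [Fintype G] {c : WC G} {M : Mod c} {Θ : G → ℂ} {Λ : WA c.n → ℂ}
    {ϑ : ℕ → ℂ} (h : Spec M Θ Λ ϑ) (ha : Adm Λ ϑ) (lam : M.Γ →* ℂˣ) (h0 : M.d.L0 ≤ lam.ker)
    (h1 : lam ≠ 1) :
    ∑ g ∈ univ.filter (fun g => c.t ∈ zpowers g), (lam (ap M.κ g) : ℂ) * Θ g = 0 := by
  classical
  have := Dsum h ha lam h0 (mu M lam) (fun _ hk _ hg => mu_conj M lam hk hg) (fun _ => 1)
    (fun _ => 1) (fun _ => rfl) (fun _ => rfl)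
    (fun j _ y hy _ => by rw [mu_r M lam h0 _ hy]; ring)
    (fun a _ _ y hy _ => by rw [mu_r M lam h0 _ (KK_le M hy), mul_one])
    (fun j y hy _ _ => by rw [mu_s M lam h0 _ hy, mul_one])
  rw [dl, if_neg h1, zero_mul, zero_mul] at this
  rw [← this]
  exact Finset.sum_congr rfl fun g _ => mul_comm _ _

end H13.W
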