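import Mathlib
import Cfsg.Agent.H20.WX1

/-! WChi: the index formula and the two characters of degree `q² + ε q + 1` (helper20). -/

set_option autoImplicit false

namespace H13.W

open H24 Cfsg Subgroup Finset
open H22 (WR WA Bj hh)

universe u

variable {G : Type u} [Group G]

theorem index_formula [Finite G] {c : WC G} (M : Mod c) :
    (c.H.index : ℤ) = c.k ^ 2 * M.d.N.q ^ 2 * M.F := by
  have := Fintype.ofFinite G
  choose Θ hg hs using spec_exists M
  have h := (H20.WX.core M Θ hg hs).1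
  have hi : (c.H.index : ℚ) ≠ 0 := Nat.cast_ne_zero.2 index_ne_zero_of_finite
  rw [← H20.WX.Q_sq, Mod.F]
  have h2 : (c.H.index : ℚ) = c.k ^ 2 * M.Q ^ 2 * (M.Q ^ 2 + M.Q + 1) := by
    field_simp at h
    linear_combination -h
  exact_mod_cast h2

theorem exists_chi [Finite G] {c : WC G} (M : Mod c) : ∃ fe fo, M.Chi fe fo := by
  have := Fintype.ofFinite G
  choose Θ hg hs using spec_exists M
  obtain ⟨-, fe, fo, -, e, h1, h2, h3, h4, h5⟩ := H20.WX.core M Θ hg hs
  obtain ⟨I, hI⟩ := H17.exists_PM 2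
  refine ⟨fe, fo, fe.2, fo.2, h1, h2, h3, h4, fun g hg o ho => H20.WX.inv_of_sb I (h5 I).1 hg ho,
    fun g hg o ho => H20.WX.inv_of_sb I (h5 I).2 hg ho, fun y hy ho => ?_⟩
  have := H20.WX.spec_t (hs 0) hy ho
  rw [val8 c.hn, e] at this
  rw [show fe.1 (c.t * y) - fo.1 (c.t * y) = _ from this]
  simp [Val8]
  ring

end H13.W
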