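import Mathlib
import Cfsg.Agent.H13.WDefs
import Cfsg.Agent.H22.QD

/-! WCoord: coordinates for the wreathed case (written by lead). -/

set_option autoImplicit false

namespace H13.W

open H24 Cfsg Subgroup
open H22 (WR WA Bj hh sw)

universe u

variable {G : Type u} [Group G]

namespace WCoordAux

theorem six {D : Type*} [Group D] [Finite D] (h : Nat.card D = 6) {m : D} (ho : Odd (orderOf m))
    (h1 : m ≠ 1) (s : D) : m * m * m = 1 ∧ (s * m * s⁻¹ = m ∨ s * m * s⁻¹ * m = 1) := by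
  have h2 : orderOf m ∣ 6 := h ▸ orderOf_dvd_natCard m
  have h3 : orderOf m = 3 := by
    have h4 : orderOf m ≠ 1 := fun e => h1 (orderOf_eq_one_iff.1 e)
    have h5 := Nat.le_of_dvd (by norm_num) h2
    generalize orderOf m = k at *
    interval_cases k <;> first | rfl | omega | (exfalso; revert ho; decide)
  have h4 : m ^ 3 = 1 := h3 ▸ pow_orderOf_eq_one m
  have h4' : m * m * m = 1 := by rw [← h4]; simp [pow_succ]
  have h5 : (zpowers m).index = 2 := by
    have := (zpowers m).card_mul_index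
    rw [Nat.card_zpowers, h3, h] at this; omega
  have := normal_of_index_eq_two h5
  obtain ⟨k, hk⟩ := this.conj_mem m (mem_zpowers m) s
  simp only at hk
  rw [← zpow_mod_orderOf, h3] at hk
  refine ⟨h4', ?_⟩
  rcases (by omega : k % (3 : ℕ) = 0 ∨ k % (3 : ℕ) = 1 ∨ k % (3 : ℕ) = 2) with e | e | e <;>
    rw [e] at hk
  · exact absurd (by simpa using hk.symm) h1
  · left; simpa using hk.symm
  · right; rw [← hk, zpow_two, h4']

/-- change of coordinates -/
def twist {S : Subgroup G} {n : ℕ} (E : WR S n) (T : WA n →+ WA n) (hT : Function.Bijective T)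
    (hs : ∀ a, T (sw n a) = sw n (T a)) : WR S n where
  r a := E.r (T a)
  s a := E.s (T a)
  r_mul_r a b := by rw [E.r_mul_r, map_add]
  r_mul_s a b := by rw [E.r_mul_s, map_add]
  s_mul_r a b := by rw [E.s_mul_r, map_add, hs]
  s_mul_s a b := by rw [E.s_mul_s, add_zero, add_zero, map_add, hs]
  r_injective := E.r_injective.comp hT.1
  r_ne_s a b := E.r_ne_s _ _
  mem_iff g := by
    rw [E.mem_iff]
    refine or_congr ⟨?_, ?_⟩ ⟨?_, ?_⟩
    · rintro ⟨a, rfl⟩; obtain ⟨b, rfl⟩ := hT.2 a; exact ⟨b, rfl⟩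
    · rintro ⟨a, rfl⟩; exact ⟨_, rfl⟩
    · rintro ⟨a, rfl⟩; obtain ⟨b, rfl⟩ := hT.2 a; exact ⟨b, rfl⟩
    · rintro ⟨a, rfl⟩; exact ⟨_, rfl⟩
  σσ := E.σσ
  σc := E.σc

/-- the symmetric matrix -/
def sym {n : ℕ} (p q : ZMod (2 ^ n)) : WA n →+ WA n :=
  AddMonoidHom.mk' (fun a => (p * a.1 + q * a.2, q * a.1 + p * a.2)) fun a b => by
    ext <;> simp <;> ring

theorem sym_bij {n : ℕ} {p q k : ZMod (2 ^ n)} (h : p + q = 2 * k + 1) :
    Function.Bijective (sym p q) := by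
  refine Finite.injective_iff_bijective.1 ((injective_iff_map_eq_zero _).2 fun a ha => ?_)
  have h1 : p * a.1 + q * a.2 = 0 := congrArg Prod.fst ha
  have h2 : q * a.1 + p * a.2 = 0 := congrArg Prod.snd ha
  have u : IsUnit ((2 * k + 1) * (2 * (k - q) + 1)) := (H22.isUnit_odd _).mul (H22.isUnit_odd _)
  have e : (2 * k + 1) * (2 * (k - q) + 1) = p * p - q * q := by
    rw [show p = 2 * k + 1 - q by linear_combination h]; ring
  rw [e] at u
  ext
  · exact u.mul_right_eq_zero.1 (by linear_combination p * h1 - q * h2)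
  · exact u.mul_right_eq_zero.1 (by linear_combination p * h2 - q * h1)

theorem act {S : Subgroup G} {n : ℕ} (E : WR S n) {g : G} {α β γ δ : ZMod (2 ^ n)}
    (h1 : g * E.r (1, 0) * g⁻¹ = E.r (α, β)) (h2 : g * E.r (0, 1) * g⁻¹ = E.r (γ, δ)) (a : WA n) :
    g * E.r a * g⁻¹ = E.r (α * a.1 + γ * a.2, β * a.1 + δ * a.2) := by
  obtain ⟨a, b⟩ := a
  obtain ⟨i, rfl⟩ := ZMod.intCast_surjective a
  obtain ⟨j, rfl⟩ := ZMod.intCast_surjective b
  have : E.r ((i : ZMod (2 ^ n)), (j : ZMod (2 ^ n))) = E.r (1, 0) ^ i * E.r (0, 1) ^ j := by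
    rw [E.r_zpow, E.r_zpow, E.r_mul_r]; congr 1; ext <;> simp
  rw [this, show g * (E.r (1, 0) ^ i * E.r (0, 1) ^ j) * g⁻¹ =
    (g * E.r (1, 0) ^ i * g⁻¹) * (g * E.r (0, 1) ^ j * g⁻¹) by group, ← conj_zpow, ← conj_zpow, h1,
    h2, E.r_zpow, E.r_zpow, E.r_mul_r]
  congr 1; ext <;> simp [mul_comm]

theorem exists_fus [Finite G] {P : Sylow 2 G} {n : ℕ} (hn : 2 ≤ n) (E : WR (P : Subgroup G) n)
    (hP : (P : Subgroup G) ≤ commutator G) :
    ∃ h : G, (∀ j, h * E.r (j, j) = E.r (j, j) * h) ∧ h * E.s 0 * h⁻¹ = E.r (hh n, 0) := by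
  have h1 : 1 ≤ n := by omega
  obtain ⟨V, hV⟩ := E.exists_V (j := 1) 0
  let D : H22.WR.Data P _ V := ⟨n, hn, E, 0, E.isR_rsub ⊤, hV, by simp⟩
  obtain ⟨g, -, hφ, hne⟩ := (D.hasOdd_of_le_commutator hP).2.exists_conj
  obtain ⟨-, a, -, h2, h3⟩ := H22.WR.oddAut_moves h1 hV le_rfl h1 hφ hne
  obtain ⟨c, hc⟩ := E.s_conj (a := a) (b := 0) (by simpa using h2)
  have h3' : g * E.r (hh n, 0) * g⁻¹ = E.s a := h3
  refine ⟨g⁻¹ * (E.r c)⁻¹, fun j => ?_, ?_⟩
  · have h4 : g * E.r (j, j) * g⁻¹ = E.r (j, j) :=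
      (H22.WR.oddAut_fix_center h1 hV le_rfl hφ (j, j) (H22.diag_mem_Bj j)).2
    have h5 := E.r_comm_r c (j, j)
    calc g⁻¹ * (E.r c)⁻¹ * E.r (j, j)
        = g⁻¹ * ((E.r c)⁻¹ * (E.r (j, j) * E.r c)) * (E.r c)⁻¹ := by group
      _ = g⁻¹ * (g * E.r (j, j) * g⁻¹) * (E.r c)⁻¹ := by rw [← h5, h4]; group
      _ = _ := by group
  · rw [← hc, ← h3']; group

end WCoordAux

open WCoordAux

theorem exists_WC [Finite G] (P : Sylow 2 G) (hP : IsWreathed (P : Subgroup G))
    (hG : ∀ H : Subgroup G, H.index ≠ 2) : Nonempty (WC G) := by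
  have hc := H22.sylow_le_commutator_of_no_index_two P hG
  obtain ⟨n, hn, ⟨E⟩⟩ := H22.exists_WR hP
  have h1 : 1 ≤ n := by omega
  obtain ⟨V, hV⟩ := E.exists_V (j := 1) 0
  have hU := E.isR_rsub ⊤
  let D : H22.WR.Data P _ V := ⟨n, hn, E, 0, hU, hV, by simp⟩
  have hO := (D.hasOdd_of_le_commutator hc).1
  have hidx : C[E.rsub ⊤].relIndex N[E.rsub ⊤] = 6 :=
    ((H22.WR.U_index h1 hU).resolve_left fun h => h.2 hO).1
  obtain ⟨g, hg, ho, hgc⟩ := hO
  have ho' : Odd (orderOf g) := Nat.coprime_two_right.1 ho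
  have hφ := H22.oddAut_conj hg ho'
  have hne : ∃ x ∈ E.rsub ⊤, g * x * g⁻¹ ≠ x := by
    by_contra! h
    exact hgc (mem_C'.2 fun x hx => mul_inv_eq_iff_eq_mul.1 (h x hx))
  have fpf := H22.WR.oddAut_U_fixedPointFree h1 hU hφ hne
  have hr : ∀ a, E.r a ∈ E.rsub ⊤ := fun a => (hU.r_mem a).2 trivial
  have hσ : E.s 0 ∈ N[E.rsub ⊤] := H22.WR.le_normalizer_U hU (E.s_mem 0)
  -- the group of order six
  let ψ := (E.rsub ⊤).normalizerMonoidHom
  have hker : ∀ x : N[E.rsub ⊤], ψ.rangeRestrict x = 1 ↔ (x : G) ∈ C[E.rsub ⊤] := fun x => by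
    rw [← MonoidHom.mem_ker, MonoidHom.ker_rangeRestrict, normalizerMonoidHom_ker, mem_subgroupOf]
  have hcard : Nat.card ψ.range = 6 := by
    rw [← index_ker, normalizerMonoidHom_ker]; exact hidx
  obtain ⟨k3, k4⟩ := six hcard (m := ψ.rangeRestrict ⟨g, hg⟩)
    (ho'.of_dvd_nat ((orderOf_map_dvd _ _).trans (by rw [← orderOf_coe])))
    (fun e => hgc ((hker _).1 e)) (ψ.rangeRestrict ⟨_, hσ⟩)
  rw [← map_mul, ← map_mul, hker] at k3
  obtain ⟨⟨α, β⟩, -, e1⟩ := hU.cases (conj_mem hg (hr (1, 0)))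
  obtain ⟨⟨γ, δ⟩, -, e2⟩ := hU.cases (conj_mem hg (hr (0, 1)))
  have M := act E e1 e2
  have cube : ∀ a, E.r a * (g * E.r a * g⁻¹) * (g * (g * E.r a * g⁻¹) * g⁻¹) = 1 := by
    intro a
    refine fpf _ (mul_mem (mul_mem (hr a) (conj_mem hg (hr a))) (conj_mem hg (conj_mem hg (hr a)))) ?_
    have h2 : g * g * g * E.r a * (g * g * g)⁻¹ = E.r a := conj_eq_of_mem_C k3 (hr a)
    have h3 := hU.comm _ (hr a) _
      (mul_mem (conj_mem hg (hr a)) (conj_mem hg (conj_mem hg (hr a))))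
    calc g * (E.r a * (g * E.r a * g⁻¹) * (g * (g * E.r a * g⁻¹) * g⁻¹)) * g⁻¹
        = (g * E.r a * g⁻¹) * (g * (g * E.r a * g⁻¹) * g⁻¹) *
          (g * g * g * E.r a * (g * g * g)⁻¹) := by group
      _ = _ := by rw [h2, ← h3]; group
  have refl : ∀ a, E.s 0 * (g * (E.s 0 * (g * E.r a * g⁻¹) * (E.s 0)⁻¹) * g⁻¹) * (E.s 0)⁻¹ =
      E.r a := by
    have hs : (E.s 0)⁻¹ = E.s 0 := inv_eq_of_mul_eq_one_right (E.s_mul_self_eq_one'.2 (by simp))
    rcases k4 with k | k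
    · exfalso
      rw [← mul_inv_eq_one, ← map_inv, ← map_inv, ← map_mul, ← map_mul, ← map_mul, hker] at k
      have k' : E.s 0 * g * (E.s 0)⁻¹ * g⁻¹ ∈ C[E.rsub ⊤] := k
      have z2 := H22.hh_add_hh h1
      have h2 := conj_eq_of_mem_C k' (conj_mem hg (hr (hh n, hh n)))
      have h0 : (E.s 0)⁻¹ * E.r (hh n, hh n) * E.s 0 = E.r (hh n, hh n) := by
        have := E.s_conj_r 0 (hh n, hh n)
        rw [hs] at this ⊢; exact this
      have h3 : E.s 0 * (g * ((E.s 0)⁻¹ * E.r (hh n, hh n) * E.s 0) * g⁻¹) * (E.s 0)⁻¹ =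
          g * E.r (hh n, hh n) * g⁻¹ := by rw [← h2]; group
      rw [h0, M, E.s_conj_r, E.r_inj] at h3
      have h4 : α * hh n + γ * hh n = β * hh n + δ * hh n := (congrArg Prod.fst h3).symm
      have h5 : α * hh n + γ * hh n ∈ H22.K n 1 := H22.mem_K_one'.2 (by
        linear_combination (α + γ) * z2)
      have h6 := M (hh n, hh n)
      simp only [← h4] at h6
      rcases (H22.mem_K_one h1).1 h5 with h7 | h7 <;> rw [h7] at h6
      · rw [show ((0, 0) : WA n) = 0 from rfl, E.r_zero, conj_eq_one_iff, E.r_eq_one] at h6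
        exact H22.hh_ne_zero h1 (congrArg Prod.fst h6)
      · have := fpf _ (hr _) h6
        rw [E.r_eq_one] at this
        exact H22.hh_ne_zero h1 (congrArg Prod.fst this)
    · rw [← map_inv, ← map_mul, ← map_mul, ← map_mul, hker] at k
      have k' : E.s 0 * g * (E.s 0)⁻¹ * g ∈ C[E.rsub ⊤] := k
      intro a
      have h5 := conj_eq_of_mem_C k' (hr a)
      calc _ = E.s 0 * g * E.s 0 * g * E.r a * (E.s 0 * g * E.s 0 * g)⁻¹ := by group
        _ = _ := by rw [hs] at h5; exact h5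
  simp only [M, E.s_conj_r, E.r_mul_r, E.r_eq_one, E.r_inj, H22.sw_mk] at cube refl
  have c11 := congrArg Prod.fst (cube (1, 0))
  have c12 := congrArg Prod.snd (cube (1, 0))
  have c21 := congrArg Prod.fst (cube (0, 1))
  have c22 := congrArg Prod.snd (cube (0, 1))
  have r11 := congrArg Prod.fst (refl (1, 0))
  have r12 := congrArg Prod.snd (refl (1, 0))
  have r21 := congrArg Prod.fst (refl (0, 1))
  have r22 := congrArg Prod.snd (refl (0, 1))
  simp only [Prod.fst_add, Prod.snd_add, Prod.fst_zero, Prod.snd_zero, mul_one, mul_zero, add_zero,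
    zero_add] at c11 c12 c21 c22 r11 r12 r21 r22
  have main : ∀ p q k : ZMod (2 ^ n), p + q = 2 * k + 1 → α * p + γ * q = -q →
      β * p + δ * q = -p → Nonempty (WC G) := by
    intro p q k hk x1 x2
    let E' := twist E (sym p q) (sym_bij hk) fun a => by
      ext <;> simp [sym, add_comm]
    refine ⟨⟨n, hn, P, E', g, fun a => ?_, exists_fus hn E' hc⟩⟩
    change g * E.r (p * a.1 + q * a.2, q * a.1 + p * a.2) * g⁻¹ =
      E.r (p * a.2 + q * (-a.1 - a.2), q * a.2 + p * (-a.1 - a.2))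
    rw [M, E.r_inj]
    ext
    · simp only
      linear_combination a.1 * x1 + a.2 * (α * x1 + γ * x2 + x1 - p * c11 - q * c21)
    · simp only
      linear_combination a.1 * x2 + a.2 * (β * x1 + δ * x2 + x2 - p * c12 - q * c22)
  rcases H22.even_or_odd (1 - β + -α) with ⟨u, hu⟩ | ⟨u, hu⟩
  · rcases H22.even_or_odd (-δ + (1 - γ)) with ⟨v, hv⟩ | ⟨v, hv⟩
    · exfalso
      let f := ZMod.castHom (dvd_pow_self 2 (by omega : n ≠ 0)) (ZMod 2)
      have a1 := congrArg f hu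
      have a2 := congrArg f hv
      have a3 := congrArg f c11
      have a4 := congrArg f c12
      simp only [map_add, map_sub, map_neg, map_mul, map_one, map_zero, map_ofNat] at a1 a2 a3 a4
      generalize f α = α' at *
      generalize f β = β' at *
      generalize f γ = γ' at *
      generalize f δ = δ' at *
      generalize f u = u' at *
      generalize f v = v' at *
      revert α' β' γ' δ' u' v'
      decide
    · exact main _ _ v hv (by linear_combination -r22) (by linear_combination -r21)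
  · exact main _ _ u hu (by linear_combination -r12) (by linear_combination -r11)

end H13.W
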