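import Mathlib
import Cfsg.Agent.H26.WId0

/-! Wreathed case: identification of `G` once `C(t)` is a central extension of `PGL₂(q)`. -/

set_option autoImplicit false
set_option linter.unusedSectionVars false
set_option linter.unusedVariables false

universe u

namespace H26.WI

open Cfsg H24 Subgroup H4 H13.W
open H22 (WR WA Bj hh sw)

variable {G : Type u} [Group G] [Finite G] {c : WC G}

theorem one_le (c : WC G) : 1 ≤ c.n := le_trans one_le_two c.hn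

theorem r_H (a : WA c.n) : c.E.r a ∈ c.H := mem_C1.2 (c.E.r_comm_r _ _)

theorem s_H (a : WA c.n) : c.E.s a ∈ c.H := mem_C1.2 (c.E.s_comm_r.2 rfl)

theorem P_le_H (c : WC G) : (c.P : Subgroup G) ≤ c.H := fun g hg => by
  rcases c.E.cases hg with ⟨a, rfl⟩ | ⟨a, rfl⟩
  exacts [r_H a, s_H a]

theorem O_le_H (c : WC G) : c.O ≤ c.H := pcore_le _ _

theorem odd_O (c : WC G) : Odd ♯c.O := H3.B71.odd_O _

theorem mem_Z {z : G} : z ∈ c.Z ↔ ∃ j, z = c.E.r (j, j) := by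
  constructor
  · rintro ⟨⟨a, b⟩, h, rfl⟩
    obtain rfl : a = b := H22.mem_Bj_zero.1 h
    exact ⟨a, rfl⟩
  · rintro ⟨j, rfl⟩
    exact ⟨_, H22.diag_mem_Bj j, rfl⟩

theorem r_pow_n (a : WA c.n) : c.E.r a ^ 2 ^ c.n = 1 := by
  rw [c.E.r_pow, c.E.r_eq_one]
  have : ((2 ^ c.n : ℕ) : ZMod (2 ^ c.n)) = 0 := ZMod.natCast_self _
  ext
  · rw [Prod.smul_fst, nsmul_eq_mul, this, zero_mul]; rfl
  · rw [Prod.smul_snd, nsmul_eq_mul, this, zero_mul]; rfl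

theorem C_le_H (c : WC G) : c.O ⊔ c.Z ≤ c.H := sup_le (O_le_H c) fun z hz => by
  obtain ⟨j, rfl⟩ := mem_Z.1 hz
  exact r_H _

theorem eq_one_of_O {o : G} (ho : o ∈ c.O) {k : ℕ} (h : o ^ 2 ^ k = 1) : o = 1 := by
  have h1 := H3.B71.odd_orderOf_of_mem (odd_O c) ho
  rw [← orderOf_eq_one_iff]
  exact Nat.Coprime.eq_one_of_dvd ((Nat.coprime_two_right.2 h1).pow_right k)
    (orderOf_dvd_of_pow_eq_one h)

theorem sqrt_O {o : G} (ho : o ∈ c.O) : ∃ o' ∈ c.O, o' * o' = o := by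
  obtain ⟨k, hk⟩ := H3.B71.odd_orderOf_of_mem (odd_O c) ho
  refine ⟨o ^ (k + 1), pow_mem ho _, ?_⟩
  rw [← pow_add, show k + 1 + (k + 1) = 2 * k + 1 + 1 by ring, ← hk, pow_succ, pow_orderOf_eq_one,
    one_mul]

variable (M : Mod c)

theorem ker_iff {g : G} (hg : g ∈ c.H) : ap M.κ g = 1 ↔ g ∈ c.O ⊔ c.Z := by
  rw [ap_of_mem M.κ hg, M.ker]

theorem pre_bot : pre M.κ ⊥ = c.O ⊔ c.Z := by
  ext g
  rw [mem_pre_bot]
  exact ⟨fun h => (ker_iff M h.1).1 h.2, fun h => ⟨C_le_H c h, (ker_iff M (C_le_H c h)).2 h⟩⟩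

theorem C_le_pre (A : Subgroup M.Γ) : c.O ⊔ c.Z ≤ pre M.κ A := pre_bot M ▸ ker_le_pre _ _

theorem card_pre' (A : Subgroup M.Γ) : ♯(pre M.κ A) = ♯(c.O ⊔ c.Z) * ♯A := by
  rw [card_pre (by rw [MonoidHom.range_eq_top.2 M.surj]; exact le_top), pre_bot]

theorem lift (γ : M.Γ) : ∃ g ∈ c.H, ap M.κ g = γ := by
  obtain ⟨g, rfl⟩ := M.surj γ
  exact ⟨g, g.2, ap_coe _ _⟩

theorem eq_mod {g g' : G} (hg : g ∈ c.H) (hg' : g' ∈ c.H) (e : ap M.κ g = ap M.κ g') :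
    ∃ z ∈ c.O ⊔ c.Z, g = g' * z :=
  ⟨g'⁻¹ * g, (ker_iff M (mul_mem (inv_mem hg') hg)).1 (by
    rw [ap_mul _ (inv_mem hg') hg, ap_inv _ hg', e, inv_mul_cancel]), by group⟩

theorem κ_s (a : WA c.n) : ap M.κ (c.E.s a) = M.d.e ^ (a.1 - a.2).val * M.d.s := by
  rw [← M.κ_r, ← M.κ_σ, WC.σ, ← ap_mul _ (r_H a) (s_H 0), c.E.r_mul_s, add_zero]

theorem κ_u : ap M.κ c.u = M.d.e ^ 2 ^ (c.n - 1) := by
  have := one_le c
  rw [WC.u, M.κ_r, sub_zero, hh, show (2 : ZMod (2 ^ c.n)) ^ (c.n - 1) = ((2 ^ (c.n - 1) : ℕ) : ZMod _) by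
    push_cast; rfl, ZMod.val_natCast_of_lt (Nat.pow_lt_pow_right one_lt_two (by omega))]

theorem val_one' : (1 : ZMod (2 ^ c.n)).val = 1 := by
  have : Fact (1 < 2 ^ c.n) := ⟨Nat.one_lt_two_pow (by have := one_le c; omega)⟩
  exact ZMod.val_one _

theorem κ_ω : ap M.κ (c.E.s (1, 0)) = M.d.e * M.d.s := by
  rw [κ_s, sub_zero, val_one', pow_one]

theorem two (γ : M.Γ) (j : ℕ) (h : γ ^ 2 ^ j = 1) : ∃ (g : M.Γ) (k : ℕ),
    g * γ * g⁻¹ = M.d.e ^ k ∨ g * γ * g⁻¹ = M.d.e ^ k * M.d.s := by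
  let Q := (c.P.subtype (P_le_H c)).mapSurjective M.surj
  have hp : IsPGroup 2 (zpowers γ) := by
    obtain ⟨i, -, hi⟩ := (Nat.dvd_prime_pow Nat.prime_two).1 (orderOf_dvd_of_pow_eq_one h)
    exact IsPGroup.of_card (n := i) (by rw [Nat.card_zpowers, hi])
  obtain ⟨R, hR⟩ := hp.exists_le_sylow
  obtain ⟨g, rfl⟩ := MulAction.exists_smul_eq M.Γ Q R
  have h1 := hR (mem_zpowers γ)
  rw [Sylow.coe_subgroup_smul, mem_pointwise_smul_iff_inv_smul_mem] at h1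
  obtain ⟨x, hx, e⟩ := h1
  have e' : ap M.κ x = g⁻¹ * γ * g⁻¹⁻¹ := by rw [ap_coe, e]; simp
  rcases c.E.cases (g := (x : G)) hx with ⟨a, ha⟩ | ⟨a, ha⟩
  · exact ⟨g⁻¹, _, Or.inl (by rw [← e', ha, M.κ_r])⟩
  · exact ⟨g⁻¹, _, Or.inr (by rw [← e', ha, κ_s])⟩

variable (h1 : c.O ≤ C[c.H])
include M h1

theorem cen {z h : G} (hz : z ∈ c.O ⊔ c.Z) (hh' : h ∈ c.H) : z * h = h * z := by
  refine (mem_centralizer_iff.1 (sup_le h1 (fun z hz => mem_centralizer_iff.2 fun h hh' => ?_) hz)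
    h hh').symm
  have h2 : h * z * h⁻¹ * z⁻¹ ∈ c.O := M.centZ (commutator_mem_commutator hh' hz)
  obtain ⟨j, rfl⟩ := mem_Z.1 hz
  have h3 : Commute (h * c.E.r (j, j) * h⁻¹ * (c.E.r (j, j))⁻¹) (c.E.r (j, j)) :=
    (mem_centralizer_iff.1 (h1 h2) _ (r_H _)).symm
  have h4 := h3.mul_pow (2 ^ c.n)
  rw [inv_mul_cancel_right, conj_pow, r_pow_n, mul_one, mul_one, mul_inv_cancel] at h4
  have := eq_one_of_O h2 h4.symm
  rw [mul_inv_eq_one, mul_inv_eq_iff_eq_mul] at this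
  exact this

theorem Z_le_N : c.Z ≤ N[c.O] := fun z hz => (centralizer_le_normalizer _) (mem_centralizer_iff.2
  fun o ho => cen M h1 (mem_sup_left ho) (C_le_H c (mem_sup_right hz)))

theorem mem_C {z : G} (hz : z ∈ c.O ⊔ c.Z) : ∃ o ∈ c.O, ∃ j, z = o * c.E.r (j, j) := by
  obtain ⟨o, ho, y, hy, rfl⟩ := (mem_sup_of_norm (Z_le_N M h1)).1 hz
  obtain ⟨j, rfl⟩ := mem_Z.1 hy
  exact ⟨o, ho, j, rfl⟩

theorem card_C : ♯(c.O ⊔ c.Z) = ♯c.O * 2 ^ c.n := by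
  rw [card_sup_of_inf (Z_le_N M h1), WC.Z, (c.E.isR_rsub _).card, H22.card_Bj (Nat.zero_le _), add_zero]
  rw [eq_bot_iff]
  rintro z ⟨h2, h3⟩
  obtain ⟨j, rfl⟩ := mem_Z.1 h3
  exact eq_one_of_O h2 (r_pow_n _)

section Tor

variable {A : Subgroup M.Γ} {k : ℕ} {w : G} (hw : w ∈ c.H) (h : Tor A k (ap M.κ w))
include hw h

theorem pre_cyc : ∃ τ ∈ pre M.κ A, ∀ y ∈ pre M.κ A, ∃ j : ℕ, ∃ z ∈ c.O ⊔ c.Z, y = τ ^ j * z := by
  obtain ⟨τ, h2, h3⟩ := h.cyc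
  obtain ⟨τ, hτ, rfl⟩ := lift M τ
  refine ⟨τ, mem_pre.2 ⟨hτ, h2⟩, fun y hy => ?_⟩
  obtain ⟨j, e⟩ := h3 _ (mem_pre.1 hy).2
  exact ⟨j, eq_mod M (mem_pre.1 hy).1 (pow_mem hτ j) (by rw [e, ap_pow _ hτ])⟩

theorem pre_comm {a b : G} (ha : a ∈ pre M.κ A) (hb : b ∈ pre M.κ A) : a * b = b * a := by
  obtain ⟨τ, hτ, h2⟩ := pre_cyc M h1 hw h
  have hτ' := (mem_pre.1 hτ).1
  obtain ⟨i, z, hz, rfl⟩ := h2 a ha
  obtain ⟨j, z', hz', rfl⟩ := h2 b hb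
  have c1 : ∀ i, Commute z (τ ^ i) := fun i => cen M h1 hz (pow_mem hτ' i)
  have c2 : ∀ i, Commute z' (τ ^ i) := fun i => cen M h1 hz' (pow_mem hτ' i)
  exact ((Commute.pow_pow_self τ i j).mul_right (c2 i).symm).mul_left
    ((c1 j).mul_right (cen M h1 hz (C_le_H c hz')))

theorem pre_inv (y : G) (hy : y ∈ pre M.κ A) : y * (w * y * w) ∈ c.O ⊔ c.Z := by
  obtain ⟨h2, h3⟩ := mem_pre.1 hy
  rw [← ker_iff M (mul_mem h2 (mul_mem (mul_mem hw h2) hw)), ap_mul _ h2 (mul_mem (mul_mem hw h2) hw),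
    ap_mul _ (mul_mem hw h2) hw, ap_mul _ hw h2]
  exact h.inv _ h3

theorem pre_norm' (g : G) (hg : g ∈ c.H) (y : G) (hy : y ∈ pre M.κ A) (h2 : y ∉ c.O ⊔ c.Z)
    (e : g * y * g⁻¹ ∈ pre M.κ A) : g ∈ pre M.κ A ∨ g * w ∈ pre M.κ A := by
  obtain ⟨h3, h4⟩ := mem_pre.1 hy
  have := h.norm (ap M.κ g) _ h4 (fun e => h2 ((ker_iff M h3).1 e))
    (by rw [← ap_conj _ hg h3]; exact (mem_pre.1 e).2)
  exact this.imp (fun h => mem_pre.2 ⟨hg, h⟩) fun h =>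
    mem_pre.2 ⟨mul_mem hg hw, by rw [ap_mul _ hg hw]; exact h⟩

theorem pre_cent {y₀ : G} (h0 : y₀ ∈ pre M.κ A) (h0' : ap M.κ y₀ ≠ 1)
    (h0'' : ap M.κ y₀ * ap M.κ y₀ = 1) (hne : w * y₀ ≠ y₀ * w) (y : G) (hy : y ∈ pre M.κ A)
    (h2 : y ∉ c.O ⊔ c.Z) (g : G) (hg : g ∈ c.H) (e : g * y = y * g) : g ∈ pre M.κ A := by
  refine (pre_norm' M h1 hw h g hg y hy h2 (by rw [e]; simpa using hy)).resolve_right fun h3 => ?_
  obtain ⟨h4, h5⟩ := mem_pre.1 hy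
  have h6 : w * y = y * w := by
    have := pre_comm M h1 hw h h3 hy
    calc w * y = g⁻¹ * (g * w * y) := by group
      _ = g⁻¹ * (y * g) * w := by rw [this]; group
      _ = _ := by rw [← e]; group
  have h7 : ap M.κ y * ap M.κ y = 1 := by
    have := h.inv _ h5
    rwa [← ap_mul _ hw h4, h6, ap_mul _ h4 hw, mul_assoc, h.w_sq, mul_one] at this
  obtain ⟨z, hz, rfl⟩ := eq_mod M h4 (mem_pre.1 h0).1
    (h.uniq h5 (mem_pre.1 h0).2 (fun e => h2 ((ker_iff M h4).1 e)) h0' h7 h0'')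
  apply hne
  have := cen M h1 hz hw
  calc w * y₀ = w * (y₀ * z) * z⁻¹ := by group
    _ = y₀ * (z * w) * z⁻¹ := by rw [h6]; group
    _ = _ := by rw [this]; group

end Tor

variable (h3 : ♯c.O ∣ M.d.m')
include h3

theorem cZ : ∃ d, Odd d ∧ d * ♯(c.O ⊔ c.Z) = M.d.N.m := by
  obtain ⟨d, hd⟩ := h3
  exact ⟨d, (Nat.odd_mul.1 (hd ▸ M.d.odd_m')).2, by rw [card_C M h1, M.d.hm, hd]; ring⟩

theorem cop_p : (♯(c.O ⊔ c.Z)).Coprime M.d.N.p := by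
  obtain ⟨d, -, hd⟩ := cZ M h1 h3
  exact ((Nat.Prime.coprime_iff_not_dvd M.d.N.hp).2 fun h =>
    M.d.N.p_not_dvd_m (hd ▸ h.mul_left d)).symm

omit h1 h3 in
theorem pow_C {z : G} (hz : z ∈ c.O ⊔ c.Z) : z ^ ♯(c.O ⊔ c.Z) = 1 :=
  congrArg Subtype.val (pow_card_eq_one' (G := ↥(c.O ⊔ c.Z)) (x := ⟨z, hz⟩))

theorem eq_of_p {g g' : G} (hg : g ∈ c.H) (hg' : g' ∈ c.H) (hp : g ^ M.d.N.p = 1)
    (hp' : g' ^ M.d.N.p = 1) (e : ap M.κ g = ap M.κ g') : g = g' := by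
  obtain ⟨z, hz, rfl⟩ := eq_mod M hg hg' e
  rw [(show Commute g' z from (cen M h1 hz hg').symm).mul_pow, hp', one_mul] at hp
  have := Nat.dvd_gcd (orderOf_dvd_of_pow_eq_one (pow_C M hz)) (orderOf_dvd_of_pow_eq_one hp)
  rw [(cop_p M h1 h3).gcd_eq_one, Nat.dvd_one, orderOf_eq_one_iff] at this
  rw [this, mul_one]

theorem lift_p {γ : M.Γ} (h : γ ^ M.d.N.p = 1) : ∃ g ∈ c.H, ap M.κ g = γ ∧ g ^ M.d.N.p = 1 := by
  obtain ⟨g, hg, rfl⟩ := lift M γ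
  obtain ⟨a, -, ha⟩ := Nat.exists_mul_mod_eq_one_of_coprime (cop_p M h1 h3) M.d.N.hp.one_lt
  refine ⟨g ^ (♯(c.O ⊔ c.Z) * a), pow_mem hg _, ?_, ?_⟩
  · rw [ap_pow _ hg, ← Nat.div_add_mod (♯(c.O ⊔ c.Z) * a) M.d.N.p, ha, pow_add, pow_mul, h]; simp
  · rw [← pow_mul, mul_comm, pow_mul, pow_mul, pow_C M ((ker_iff M (pow_mem hg _)).1
      (by rw [ap_pow _ hg, h])), one_pow]

theorem conj_p {g x y : G} (hg : g ∈ c.H) (hx : x ∈ c.H) (hy : y ∈ c.H) (hp : x ^ M.d.N.p = 1)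
    (hp' : y ^ M.d.N.p = 1) (e : ap M.κ g * ap M.κ x * (ap M.κ g)⁻¹ = ap M.κ y) :
    g * x * g⁻¹ = y :=
  eq_of_p M h1 h3 (mul_mem (mul_mem hg hx) (inv_mem hg)) hy (by rw [conj_pow, hp]; group) hp'
    (by rw [ap_conj _ hg hx, e])

theorem exists_X {A X : Subgroup M.Γ} (h : XD A X M.d.N.p M.d.N.q) :
    ∃ Y : Subgroup G, (∀ g, g ∈ Y ↔ g ∈ c.H ∧ ap M.κ g ∈ X ∧ g ^ M.d.N.p = 1) ∧ ♯Y = M.d.N.q ∧
      ∀ x ∈ Y, ∀ y ∈ Y, x * y = y * x := by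
  have hc : ∀ x y : G, x ∈ c.H ∧ ap M.κ x ∈ X ∧ x ^ M.d.N.p = 1 →
      y ∈ c.H ∧ ap M.κ y ∈ X ∧ y ^ M.d.N.p = 1 → x * y = y * x := fun x y hx hy => by
    rw [← mul_inv_eq_iff_eq_mul]
    exact conj_p M h1 h3 hx.1 hy.1 hy.1 hy.2.2 hy.2.2 (by rw [h.comm _ hx.2.1 _ hy.2.1]; group)
  let Y : Subgroup G :=
    { carrier := {g | g ∈ c.H ∧ ap M.κ g ∈ X ∧ g ^ M.d.N.p = 1}
      one_mem' := ⟨one_mem _, by simp, one_pow _⟩
      mul_mem' := fun {x y} hx hy => ⟨mul_mem hx.1 hy.1,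
        by rw [ap_mul _ hx.1 hy.1]; exact mul_mem hx.2.1 hy.2.1,
        by rw [(show Commute x y from hc x y hx hy).mul_pow, hx.2.2, hy.2.2, one_mul]⟩
      inv_mem' := fun {x} hx => ⟨inv_mem hx.1, by rw [ap_inv _ hx.1]; exact inv_mem hx.2.1,
        by rw [inv_pow, hx.2.2, inv_one]⟩ }
  refine ⟨Y, fun g => Iff.rfl, ?_, fun x hx y hy => hc x y hx hy⟩
  rw [← h.card]
  refine Nat.card_eq_of_bijective (fun y => ⟨ap M.κ y, y.2.2.1⟩) ⟨fun x y e => ?_, fun x => ?_⟩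
  · exact Subtype.ext (eq_of_p M h1 h3 x.2.1 y.2.1 x.2.2.2 y.2.2.2 (congrArg Subtype.val e))
  · obtain ⟨g, hg, e, hp⟩ := lift_p M h1 h3 (h.pow _ x.2)
    exact ⟨⟨g, hg, e ▸ x.2, hp⟩, Subtype.ext e⟩

omit M h1 h3 in
theorem ω_sq : c.E.s (1, 0) * c.E.s (1, 0) = c.E.r (1, 1) := by
  rw [c.E.s_mul_self]; simp

omit M h1 h3 in
theorem orderOf_ω : orderOf (c.E.s (1, 0)) = 2 ^ (c.n + 1) := by
  have hn := one_le c
  refine orderOf_eq_prime_pow ?_ (by rw [pow_succ', pow_mul, pow_two, ω_sq, r_pow_n])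
  have e2 : 2 ^ c.n = 2 * 2 ^ (c.n - 1) := by rw [← pow_succ']; congr 1; omega
  have e3 : c.E.s (1, 0) ^ 2 ^ c.n = c.E.s (1, 0) ^ (2 * 2 ^ (c.n - 1)) := congrArg _ e2
  rw [e3, pow_mul, pow_two, ω_sq, c.E.r_pow, c.E.r_eq_one]
  intro h
  have := congrArg Prod.fst h
  rw [Prod.smul_fst, nsmul_eq_mul, mul_one] at this
  exact H22.hh_ne_zero hn (by rw [hh]; exact_mod_cast this)

theorem cyc_W (h2 : Cyc c.O) {W : Subgroup M.Γ} (h : Tor W M.d.N.n (ap M.κ c.u))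
    (he : M.d.e * M.d.s ∈ W) : ∃ ω ∈ pre M.κ W, ∀ y ∈ pre M.κ W, ∃ k : ℕ, y = ω ^ k := by
  have hu : c.u ∈ c.H := r_H _
  have hω : c.E.s (1, 0) ∈ pre M.κ W := mem_pre.2 ⟨s_H _, by rw [κ_ω]; exact he⟩
  obtain ⟨o, ho, eo⟩ := h2.exists_gen
  have ho' : orderOf o = ♯c.O := by rw [← eo, Nat.card_zpowers]
  have hoW := C_le_pre M W (mem_sup_left ho)
  obtain ⟨n', hn'⟩ := even_iff_two_dvd.1 M.d.N.n_even
  have hodd : Odd n' := Nat.not_even_iff_odd.1 fun ⟨a, ha⟩ =>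
    not_four_dvd_n c.hn M.d ⟨a, by rw [hn', ha]; ring⟩
  have hcop : (♯(c.O ⊔ c.Z)).Coprime n' := by
    obtain ⟨d, -, hd⟩ := cZ M h1 h3
    refine Nat.coprime_of_dvd fun r hr a b => ?_
    have := M.d.N.eq_two_of_dvd hr (hd ▸ a.mul_left d) (hn' ▸ b.mul_left 2)
    subst this
    exact hodd.not_two_dvd_nat b
  obtain ⟨β, hβ, hβo⟩ := h.exists_order (d := n') (hn' ▸ dvd_mul_left _ _)
  obtain ⟨β, hb, rfl⟩ := lift M β
  have hγ : β ^ ♯(c.O ⊔ c.Z) ∈ pre M.κ W := pow_mem (mem_pre.2 ⟨hb, hβ⟩) _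
  have hγo : orderOf (β ^ ♯(c.O ⊔ c.Z)) = n' := by
    refine Nat.dvd_antisymm (orderOf_dvd_of_pow_eq_one ?_) ?_
    · rw [← pow_mul, mul_comm, pow_mul]
      exact pow_C M ((ker_iff M (pow_mem hb _)).1 (by rw [ap_pow _ hb, ← hβo, pow_orderOf_eq_one]))
    · have := orderOf_ap_dvd M.κ (pow_mem hb ♯(c.O ⊔ c.Z))
      rwa [ap_pow _ hb, Nat.Coprime.orderOf_pow (hβo ▸ hcop.symm), hβo] at this
  have e1 : orderOf (c.E.s (1, 0) * o) = 2 ^ (c.n + 1) * ♯c.O := by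
    rw [(show Commute _ o from pre_comm M h1 hu h hω hoW).orderOf_mul_eq_mul_orderOf_of_coprime,
      orderOf_ω, ho']
    rw [orderOf_ω, ho']
    exact (Nat.coprime_two_left.2 (odd_O c)).pow_left _
  have hζ := mul_mem (mul_mem hω hoW) hγ
  have e2 : zpowers (c.E.s (1, 0) * o * β ^ ♯(c.O ⊔ c.Z)) = pre M.κ W := by
    refine eq_of_le_of_card_ge (zpowers_le.2 hζ) (le_of_eq ?_)
    rw [Nat.card_zpowers, (show Commute _ _ from pre_comm M h1 hu h (mul_mem hω hoW)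
      hγ).orderOf_mul_eq_mul_orderOf_of_coprime, e1, hγo, card_pre', h.card, card_C M h1, hn']
    · ring
    · rw [e1, hγo]
      rw [card_C M h1] at hcop
      exact Nat.Coprime.mul_left ((Nat.coprime_two_left.2 hodd).pow_left _)
        (Nat.Coprime.coprime_mul_right hcop)
  refine ⟨_, hζ, fun y hy => ?_⟩
  rw [← e2, ← mem_powers_iff_mem_zpowers] at hy
  obtain ⟨k, rfl⟩ := hy
  exact ⟨k, rfl⟩

omit h3 in
theorem onto_aux {K : Subgroup G} {w : G} (hw : w ∈ c.H) (hw2 : w * w = 1) (hK : c.O ⊔ c.Z ≤ K)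
    (h : ∀ j, ∃ y ∈ K, y ∈ c.H ∧ y * (w * y * w) = c.E.r (j, j)) (z : G) (hz : z ∈ c.O ⊔ c.Z) :
    ∃ y ∈ K, y * (w * y * w) = z := by
  obtain ⟨o, ho, j, rfl⟩ := mem_C M h1 hz
  obtain ⟨o, ho', rfl⟩ := sqrt_O ho
  obtain ⟨y, hy, hy', e⟩ := h j
  have c1 : ∀ g ∈ c.H, g * o = o * g := fun g hg => (cen M h1 (mem_sup_left ho') hg).symm
  refine ⟨o * y, mul_mem (hK (mem_sup_left ho')) hy, ?_⟩
  rw [← e]
  calc o * y * (w * (o * y) * w) = o * (y * w * o) * y * w := by group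
    _ = _ := by rw [c1 _ (mul_mem hy' hw)]; group

theorem exists_GD (h0 : M.d.L0 = ⊤) (h2 : Cyc c.O) {W X S : Subgroup M.Γ} {τ : M.Γ}
    (hτ : τ ∈ M.d.T) (hT : Tor M.d.T M.d.N.m (τ * M.d.s * τ⁻¹))
    (hW : Tor W M.d.N.n (M.d.e ^ 2 ^ (c.n - 1))) (he : M.d.e * M.d.s ∈ W)
    (hS : (M.d.N.ε = 1 ∧ S = M.d.T) ∨ (M.d.N.ε = -1 ∧ S = W)) (hX : XD S X M.d.N.p M.d.N.q) :
    ∃ D : GD G M.d.N, D.Full ∧ D.T = pre M.κ M.d.T ∧ D.w ∈ c.H ∧ ap M.κ D.w = τ * M.d.s * τ⁻¹ ∧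
      ∀ g, g ∈ D.X ↔ g ∈ c.H ∧ ap M.κ g ∈ X ∧ g ^ M.d.N.p = 1 := by
  have hn := one_le c
  obtain ⟨τ, hτH, rfl⟩ := lift M τ
  obtain ⟨Y, hY, cY, hYc⟩ := exists_X M h1 h3 hX
  have hσ : c.σ ∈ c.H := s_H _
  have hu : c.u ∈ c.H := r_H _
  have hw : τ * c.σ * τ⁻¹ ∈ c.H := mul_mem (mul_mem hτH hσ) (inv_mem hτH)
  have ew : ap M.κ (τ * c.σ * τ⁻¹) = ap M.κ τ * M.d.s * (ap M.κ τ)⁻¹ := by
    rw [ap_conj _ hτH hσ, M.κ_σ]
  have hσ2 : c.σ * c.σ = 1 := c.E.s_mul_self_eq_one'.2 (by simp)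
  have hw2 : τ * c.σ * τ⁻¹ * (τ * c.σ * τ⁻¹) = 1 := by
    calc τ * c.σ * τ⁻¹ * (τ * c.σ * τ⁻¹) = τ * (c.σ * c.σ) * τ⁻¹ := by group
      _ = 1 := by rw [hσ2]; group
  have hu2 : c.u * c.u = 1 := c.E.r_mul_self_eq_one.2 (by simp [H22.hh_add_hh hn])
  rw [← ew] at hT
  rw [← κ_u] at hW
  have hτT : τ ∈ pre M.κ M.d.T := mem_pre.2 ⟨hτH, hτ⟩
  have hr : ∀ a, c.E.r a ∈ pre M.κ M.d.T := fun a =>
    mem_pre.2 ⟨r_H a, by rw [M.κ_r]; exact pow_mem M.d.e_mem _⟩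
  have hwr : ∀ a, τ * c.σ * τ⁻¹ * c.E.r a * (τ * c.σ * τ⁻¹) = c.E.r (sw _ a) := fun a => by
    have e1 := pre_comm M h1 hw hT hτT (hr a)
    have e2 := pre_comm M h1 hw hT hτT (hr (sw _ a))
    have e3 : c.σ * c.E.r a * c.σ = c.E.r (sw _ a) := by
      have h' : c.E.s 0 * c.E.s 0 = 1 := hσ2
      rw [← c.E.s_conj_r 0 a, WC.σ, inv_eq_of_mul_eq_one_right h']
    calc τ * c.σ * τ⁻¹ * c.E.r a * (τ * c.σ * τ⁻¹) = τ * c.σ * τ⁻¹ * (c.E.r a * τ) * c.σ * τ⁻¹ := by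
          group
      _ = τ * (c.σ * c.E.r a * c.σ) * τ⁻¹ := by rw [← e1]; group
      _ = _ := by rw [e3, e2]; group
  have hω : c.E.s (1, 0) ∈ pre M.κ W := mem_pre.2 ⟨s_H _, by rw [κ_ω]; exact he⟩
  have hSp : (M.d.N.ε = 1 ∧ pre M.κ S = pre M.κ M.d.T) ∨ (M.d.N.ε = -1 ∧ pre M.κ S = pre M.κ W) :=
    hS.imp (fun h => ⟨h.1, by rw [h.2]⟩) fun h => ⟨h.1, by rw [h.2]⟩
  have hne : ∀ x ∈ Y, x ≠ 1 → ap M.κ x ≠ 1 := fun x hx hx1 e => hx1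
    (eq_of_p M h1 h3 ((hY x).1 hx).1 (one_mem _) ((hY x).1 hx).2.2 (one_pow _) (by rw [e, ap_one]))
  have hup : ∀ γ ∈ X, ∃ x ∈ Y, ap M.κ x = γ := fun γ hγ => by
    obtain ⟨g, hg, e, hp⟩ := lift_p M h1 h3 (hX.pow _ hγ)
    exact ⟨g, (hY g).2 ⟨hg, e ▸ hγ, hp⟩, e⟩
  refine ⟨{
    H := c.H, Z := c.O ⊔ c.Z, T := pre M.κ M.d.T, W := pre M.κ W, X := Y, S := pre M.κ S
    t := c.t, u := c.u, w := τ * c.σ * τ⁻¹, v := c.u
    hS := hSp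
    cZ := cZ M h1 h3
    cT := by rw [card_pre', hT.card]
    cW := by rw [card_pre', hW.card]
    cX := cY
    cH := by rw [← M.d.card_L0, h0, ← card_pre', pre_top]
    Z_le_T := C_le_pre M _
    Z_le_W := C_le_pre M _
    T_le := pre_le _ _
    W_le := pre_le _ _
    X_le := fun x hx => ((hY x).1 hx).1
    Z_comm := fun z hz h hh' => cen M h1 hz hh'
    t_mem := mem_sup_right (mem_Z.2 ⟨_, rfl⟩)
    t_ne := fun e => H22.hh_ne_zero hn (congrArg Prod.fst (c.E.r_eq_one.1 e))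
    t_sq := c.E.r_mul_self_eq_one.2 (by simp [H22.hh_add_hh hn])
    cycT := pre_cyc M h1 hw hT
    cycW := cyc_W M h1 h3 h2 hW he
    X_comm := hYc
    X_pow := fun x hx => ((hY x).1 hx).2.2
    cent_T := pre_cent M h1 hw hT (y₀ := c.u) (hr _) (by rw [κ_u]; exact u_ne M.d c.hn)
      (by rw [κ_u]; exact u_sq M.d c.hn) fun e => by
        have := hwr (hh c.n, 0)
        rw [← WC.u, e, mul_assoc, hw2, mul_one, WC.u, c.E.r_inj] at this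
        exact H22.hh_ne_zero hn (congrArg Prod.fst this)
    cent_W := pre_cent M h1 hu hW hω (by
        rw [κ_ω]; exact fun e => M.d.s_not (by
          rw [← mul_mem_cancel_left M.d.e_mem, e]; exact one_mem _))
      (by rw [κ_ω]; simpa using es_sq M.d 1) fun e =>
        H22.hh_ne_zero hn (congrArg Prod.snd (c.E.r_comm_s.1 e))
    cent_X := fun x hx hx1 g hg e => by
      obtain ⟨x', hx', e'⟩ := hup _ (hX.cent _ ((hY x).1 hx).2.1 (hne x hx hx1) (ap M.κ g)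
        (by rw [← ap_mul _ hg ((hY x).1 hx).1, e, ap_mul _ ((hY x).1 hx).1 hg]))
      obtain ⟨z, hz, rfl⟩ := eq_mod M hg ((hY x').1 hx').1 e'.symm
      exact ⟨z, hz, x', hx', (cen M h1 hz ((hY x').1 hx').1).symm⟩
    u_mem := hr _
    u_not := fun e => u_ne M.d c.hn (by rw [← κ_u]; exact (ker_iff M hu).2 e)
    u_sq := hu2
    w_mem := hw
    w_not := fun e => hT.w_not (mem_pre.1 e).2
    w_sq := hw2
    w_inv := pre_inv M h1 hw hT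
    w_onto := onto_aux M h1 hw hw2 (C_le_pre M _) fun j =>
      ⟨c.E.r (j, 0), hr _, r_H _, by rw [hwr, c.E.r_mul_r]; simp⟩
    norm_T := pre_norm' M h1 hw hT
    v_mem := hu
    v_not := fun e => hW.w_not (mem_pre.1 e).2
    v_sq := hu2
    v_inv := pre_inv M h1 hu hW
    v_onto := onto_aux M h1 hu hu2 (C_le_pre M _) fun j => ?_
    norm_W := pre_norm' M h1 hu hW
    S_norm := fun s hs x hx => by
      obtain ⟨a1, a2, a3⟩ := (hY x).1 hx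
      obtain ⟨b1, b2⟩ := mem_pre.1 hs
      exact (hY _).2 ⟨mul_mem (mul_mem b1 a1) (inv_mem b1),
        by rw [ap_conj _ b1 a1]; exact hX.snorm _ b2 _ a2, by rw [conj_pow, a3]; group⟩
    norm_X := fun g hg x hx hx1 e => by
      obtain ⟨x', hx', s, hs, e'⟩ := hX.norm (ap M.κ g) _ ((hY x).1 hx).2.1 (hne x hx hx1)
        (by rw [← ap_conj _ hg ((hY x).1 hx).1]; exact ((hY _).1 e).2.1)
      obtain ⟨x', hx'', rfl⟩ := hup _ hx'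
      have a1 := ((hY x').1 hx'').1
      exact ⟨x', hx'', x'⁻¹ * g, mem_pre.2 ⟨mul_mem (inv_mem a1) hg,
        by rw [ap_mul _ (inv_mem a1) hg, ap_inv _ a1, e', inv_mul_cancel_left]; exact hs⟩, by group⟩ },
    fun g hg => mem_C1.2 hg, rfl, hw, ew, hY⟩
  have hZ : ∀ i, c.E.r (i, i) ∈ pre M.κ W := fun i => C_le_pre M W (mem_sup_right (mem_Z.2 ⟨i, rfl⟩))
  have e2 := H22.hh_add_hh hn
  rcases H22.even_or_odd j with ⟨i, rfl⟩ | ⟨i, rfl⟩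
  · refine ⟨c.E.r (i, i), hZ i, r_H _, ?_⟩
    simp only [WC.u, c.E.r_mul_r, c.E.r_inj, Prod.mk_add_mk, Prod.mk.injEq]
    constructor
    · linear_combination e2
    · ring
  · obtain ⟨a, ha⟩ : ∃ a : ZMod (2 ^ c.n), hh c.n = 2 * a := ⟨_, (H22.two_mul_qq c.hn).symm⟩
    refine ⟨c.E.r (i - a, i - a) * c.E.s (1, 0), mul_mem (hZ _) hω, mul_mem (r_H _) (s_H _), ?_⟩
    simp only [WC.u, c.E.r_mul_s, c.E.s_mul_r, c.E.s_mul_s, c.E.r_inj, H22.sw_mk, Prod.mk_add_mk,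
      Prod.mk.injEq, add_zero]
    constructor
    · linear_combination ha
    · linear_combination ha

theorem exists_P {D : GD G M.d.N} {X : Subgroup M.Γ} (hT : D.T = pre M.κ M.d.T) (hw : D.w ∈ c.H)
    (hX : ∀ g, g ∈ D.X ↔ g ∈ c.H ∧ ap M.κ g ∈ X ∧ g ^ M.d.N.p = 1) (hp : ∀ x ∈ X, x ^ M.d.N.p = 1)
    {F : Type*} [Field F] {x : F → M.Γ} (h : RD M.d.T X (ap M.κ D.w) x) : Nonempty (GL2P D F) := by
  choose y hy ey py using fun a => lift_p M h1 h3 (hp (x a) ((h.mem _).2 ⟨a, rfl⟩))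
  have hyX : ∀ a, y a ∈ D.X := fun a => (hX _).2 ⟨hy a, ey a ▸ (h.mem _).2 ⟨a, rfl⟩, py a⟩
  have add : ∀ a b, y (a + b) = y a * y b := fun a b =>
    eq_of_p M h1 h3 (hy _) (mul_mem (hy a) (hy b)) (py _) (D.X_pow _ (mul_mem (hyX a) (hyX b)))
      (by rw [ap_mul _ (hy a) (hy b), ey, ey, ey, h.add])
  have zero : y 0 = 1 := by simpa using add 0 0
  have neg : ∀ a, y (-a) = (y a)⁻¹ := fun a =>
    eq_inv_of_mul_eq_one_left (by rw [← add, neg_add_cancel, zero])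
  have hz : ∀ a, D.w * y a * D.w ∈ c.H := fun a => mul_mem (mul_mem hw (hy a)) hw
  have ez : ∀ a, ap M.κ (D.w * y a * D.w) = ap M.κ D.w * x a * ap M.κ D.w := fun a => by
    rw [ap_mul _ (mul_mem hw (hy a)) hw, ap_mul _ hw (hy a), ey]
  have pz : ∀ a, (D.w * y a * D.w) ^ M.d.N.p = 1 := fun a => by
    have := conj_pow (a := D.w) (b := y a) (i := M.d.N.p)
    rw [py, D.w_inv'] at this
    rw [this, mul_one, D.w_sq]
  have act : ∀ τ ∈ c.H, ∀ k : F, (∀ a, ap M.κ τ * x a * (ap M.κ τ)⁻¹ = x (k * a)) →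
      (∀ a, ap M.κ τ * (ap M.κ D.w * x a * ap M.κ D.w) * (ap M.κ τ)⁻¹ =
        ap M.κ D.w * x (k⁻¹ * a) * ap M.κ D.w) → (∀ a, τ * y a * τ⁻¹ = y (k * a)) ∧
      ∀ a, τ * (D.w * y a * D.w) * τ⁻¹ = D.w * y (k⁻¹ * a) * D.w := fun τ hτ k a1 a2 =>
    ⟨fun a => conj_p M h1 h3 hτ (hy _) (hy _) (py _) (py _) (by rw [ey, ey, a1]),
      fun a => conj_p M h1 h3 hτ (hz _) (hz _) (pz _) (pz _) (by rw [ez, ez, a2])⟩
  set n : F → G := fun r => y r * (D.w * y (-r⁻¹) * D.w) * y r with hn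
  have n_mem : ∀ r, r ≠ 0 → n r * D.w ∈ D.T := fun r hr => by
    rw [hT]
    refine mem_pre.2 ⟨mul_mem (mul_mem (mul_mem (hy _) (hz _)) (hy _)) hw, ?_⟩
    rw [ap_mul _ (mul_mem (mul_mem (hy _) (hz _)) (hy _)) hw, ap_mul _ (mul_mem (hy _) (hz _)) (hy _),
      ap_mul _ (hy _) (hz _), ez, ey]
    exact h.n_mem r hr
  have n_neg : ∀ r, n (-r) = (n r)⁻¹ := fun r => by
    simp only [hn, inv_neg, neg_neg, neg, mul_inv_rev, inv_inv, D.w_inv', mul_assoc]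
  have key : ∀ r s, r ≠ 0 → s ≠ 0 → n r * (n 1)⁻¹ * (n s * (n 1)⁻¹) = n (r * s) * (n 1)⁻¹ := by
    intro r s hr hs
    obtain ⟨τ, hτ, a1, a2⟩ := h.surj s hs
    obtain ⟨τ, hτH, rfl⟩ := lift M τ
    obtain ⟨b1, b2⟩ := act τ hτH s a1 a2
    have b3 : ∀ a, τ * n a * τ⁻¹ = n (s * a) := fun a => by
      calc τ * n a * τ⁻¹ = τ * y a * τ⁻¹ * (τ * (D.w * y (-a⁻¹) * D.w) * τ⁻¹) * (τ * y a * τ⁻¹) := by
            simp only [hn]; group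
        _ = _ := by rw [b1, b2, mul_neg, ← mul_inv]
    have b4 : n r * (n 1)⁻¹ ∈ D.T := by
      simpa [mul_assoc] using mul_mem (n_mem r hr) (inv_mem (n_mem 1 one_ne_zero))
    have b5 := D.T_comm τ (hT ▸ mem_pre.2 ⟨hτH, hτ⟩) _ b4
    have b6 : n r * (n 1)⁻¹ = n (s * r) * (n (s * 1))⁻¹ := by
      rw [← b3, ← b3]
      calc n r * (n 1)⁻¹ = τ * (n r * (n 1)⁻¹) * τ⁻¹ := by rw [b5]; group
        _ = _ := by group
    rw [b6, mul_one, mul_comm s r]; group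
  have n1 : y (-1) * (D.w * y 1 * D.w) * y (-1) = (n 1)⁻¹ := by
    rw [← n_neg]; simp [hn]
  refine ⟨⟨y, add, fun g => ⟨fun hg => ?_, ?_⟩, fun a e => h.inj a (by rw [← ey, e, ap_one]), n_mem,
    fun r s hr hs => ?_, fun τ hτ => ?_⟩⟩
  · obtain ⟨a1, a2, a3⟩ := (hX g).1 hg
    obtain ⟨a, e⟩ := (h.mem _).1 a2
    exact ⟨a, eq_of_p M h1 h3 a1 (hy a) a3 (py a) (by rw [e, ey])⟩
  · rintro ⟨a, rfl⟩
    exact hyX a
  · rw [n1]; exact key r s hr hs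
  · rw [hT] at hτ
    obtain ⟨k, hk, a1, a2⟩ := h.act _ (mem_pre.1 hτ).2
    exact ⟨k, hk, act τ (mem_pre.1 hτ).1 k a1 a2⟩

end H26.WI

namespace H13.W

open H24 Cfsg Subgroup H26.WI

variable {G : Type u} [Group G]

theorem concl_of_central [Finite G] [IsSimpleGroup G] {c : WC G} (M : Mod c) (h0 : M.d.L0 = ⊤)
    (h1 : c.O ≤ C[c.H]) (h2 : Cyc c.O) (h3 : ♯c.O ∣ M.d.m') : Concl G := by
  obtain ⟨W, X, τ, hτ, hT, hW, he, h⟩ := align c.hn M.d h0 (two M)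
  rcases h with ⟨hε, hX, F, _, _, hq, x, hR⟩ | ⟨hε, hX⟩
  · obtain ⟨D, h, a1, a2, a3, a4⟩ := exists_GD M h1 h3 h0 h2 hτ hT hW he (Or.inl ⟨hε, rfl⟩) hX
    obtain ⟨P⟩ := exists_P M h1 h3 a1 a2 a4 hX.pow (a3 ▸ hR)
    rcases h.cfg.psl3 hε hq P h.cfg.dvd_three with e | e
    · exact Or.inl ⟨F, inferInstance, inferInstance, hq ▸ M.d.N.q_odd, e⟩
    · exact Or.inr (Or.inr ⟨inferInstance, e⟩)
  · obtain ⟨D, h, -⟩ := exists_GD M h1 h3 h0 h2 hτ hT hW he (Or.inr ⟨hε, rfl⟩) hX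
    have : Fact M.d.N.p.Prime := ⟨M.d.N.hp⟩
    let F := GaloisField M.d.N.p (M.d.N.f * 2)
    let _ : Fintype F := Fintype.ofFinite F
    have hF : Fintype.card F = M.d.N.q ^ 2 := by
      rw [← Nat.card_eq_fintype_card, GaloisField.card _ _ (by have := M.d.N.f_pos; omega), pow_mul,
        ← M.d.N.hq]
    have hg := h.cfg.g_list h.cfg.dvd_three
    rw [hε] at hg
    refine Or.inr (Or.inl ⟨F, inferInstance, inferInstance, M.d.N.q, hF, M.d.N.q_odd,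
      h.cfg.psu hε h.cfg.dvd_three (h.cfg.cent_W' h.cfg.dvd_three) ?_ F hF⟩)
    rcases hg with e | e | e
    exacts [Or.inl (by rw [e]; ring), Or.inr (Or.inl (by rw [e]; ring)), Or.inr (Or.inr e.2)]

end H13.W
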