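import Mathlib
import Cfsg.Agent.H0.WM3
import Cfsg.Agent.H14.WDet
import Cfsg.Agent.H22.WRho

/-! The structure of the centraliser of an involution (wreathed case). -/

set_option autoImplicit false

namespace H13.W

open H24 Cfsg Subgroup
open H22 (WR WA Bj hh)

universe u

variable {G : Type u} [Group G]

theorem exists_Mod [Finite G] (c : WC G) : Nonempty (Mod c) := by
  obtain ⟨F, _, _, _, h2, D, ρ, h1, h3, h4, h5, h6⟩ := c.exists_rho
  obtain ⟨det, d1, d2⟩ := c.exists_det
  let E : H0.WM.Emb ρ.range F :=
    { j := ρ.range.subtype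
      inj := ρ.range.subtype_injective
      ι := SemidirectProduct.inl.codRestrict _ h1
      jι := fun _ => rfl
      odd := by
        rw [relIndex] at h3
        convert h3 using 2
        ext x
        exact ⟨fun ⟨y, hy⟩ => ⟨y, congrArg Subtype.val hy⟩, fun ⟨y, hy⟩ => ⟨y, Subtype.ext hy⟩⟩ }
  have key : ∀ x, ((ap ρ.rangeRestrict x : ρ.range) : H16.PGa F) = ap ρ x := fun x => by
    unfold ap; split_ifs <;> rfl
  exact ⟨{
    Γ := ρ.range
    d := E.pd h2 D
    κ := ρ.rangeRestrict
    surj := ρ.rangeRestrict_surjective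
    ker := fun x => by rw [← h4, Subtype.ext_iff]; rfl
    κ_r := fun a => Subtype.ext (by rw [key, h5, map_pow]; rfl)
    κ_σ := Subtype.ext (by rw [key, h6]; rfl)
    det := det
    det_r := d1
    det_σ := d2
    centZ := c.centZ
    roots := E.roots h2 D }⟩

end H13.W
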