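import Mathlib
import Cfsg.Agent.H13.WChi
import Cfsg.Agent.H23.WR2

/-! Wreathed case: a large stabiliser on an abelian section. -/

set_option autoImplicit false

namespace H13.W

open H24 Cfsg Subgroup Finset
open H22 (WR WA Bj hh)
open scoped ComplexConjugate

universe u

variable {G : Type u} [Group G]

theorem exists_big_stab [Finite G] [IsSimpleGroup G] {c : WC G} (M : Mod c) (hε : M.d.N.ε = 1)
    {A H₁ : Subgroup G} (hA : Odd ♯A) (hab : Abl A) (hne : A ≠ ⊥) (hN : c.H ≤ N[A])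
    (ht : A ⊓ c.H = ⊥) (hu : A ⊓ C{c.u} ≤ O[{2}ᶜ, C{c.u}]) (hH : H₁ ≤ c.H) :
    ∃ A' < A, ∃ J ≤ H₁, Odd ♯J ∧ ⁅A, J⁆ ≤ A' ∧ ♯H₁ ≤ ♯J * (M.d.N.q ^ 2 - 1) := by
  have := Fintype.ofFinite G
  obtain ⟨fe, fo, h⟩ := exists_chi M
  exact H23.WR.big_stab M hε h hA hab hne hN ht hu hH

end H13.W
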