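import Mathlib
import Cfsg.Agent.H13.WChi
import Cfsg.Agent.H13.WSpecClass
import Cfsg.Agent.H23.WR3

/-! Wreathed case: rooted sections are trivial below. -/

set_option autoImplicit false

namespace H13.W

open H24 Cfsg Subgroup Finset
open H22 (WR WA Bj hh)
open scoped ComplexConjugate

universe u

variable {G : Type u} [Group G]

theorem rooted_eq_bot [Finite G] [IsSimpleGroup G] {c : WC G} (M : Mod c) (hε : M.d.N.ε = 1)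
    {A₀ A₁ : Subgroup G} (hp : IsPi {M.d.N.p} A₁) (h01 : A₀ ≤ A₁) (hN0 : c.H ≤ N[A₀])
    (hN1 : c.H ≤ N[A₁]) (hab : ⁅A₁, A₁⁆ ≤ A₀) (ht : A₁ ⊓ c.H ≤ A₀ ⊓ c.O)
    (h0 : A₀ ⊓ C{c.u} ≤ O[{2}ᶜ, C{c.u}]) (h1 : ¬ A₁ ⊓ C{c.u} ≤ O[{2}ᶜ, C{c.u}]) : A₀ = ⊥ := by
  have := Fintype.ofFinite G
  obtain ⟨fe, fo, h⟩ := exists_chi M
  exact H23.WR.rooted M hε h (index_cent_u M) hp h01 hN0 hN1 hab ht h0 h1

end H13.W
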