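import Mathlib
import Cfsg.Agent.H20.WX3

/-! WTwist: no field automorphisms (helper20). -/

set_option autoImplicit false

namespace H13.W

open H24 H26 Cfsg Subgroup Finset H4 H20.WX H13.Dih
open H22 (WR WA Bj hh)
open scoped ComplexConjugate

universe u

variable {G : Type u} [Group G]

theorem L0_eq_top [Finite G] [IsSimpleGroup G] {c : WC G} (M : Mod c)
    (h : ∀ y ∈ c.H ⊓ C{c.u}, ap M.κ (c.w * y * c.w⁻¹) * (ap M.κ y)⁻¹ ∈ M.d.L0) :
    M.d.L0 = ⊤ := by
  classical
  have := Fintype.ofFinite G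
  by_contra hne
  have hN := M.d.L0_nml
  obtain ⟨lam, h0, h1⟩ : ∃ lam : M.Γ →* ℂˣ, M.d.L0 ≤ lam.ker ∧ lam ≠ 1 := by
    obtain ⟨γ, hγ⟩ : ∃ γ, γ ∉ M.d.L0 := by
      by_contra hc
      push Not at hc
      exact hne (eq_top_iff.2 fun x _ => hc x)
    letI : CommGroup (M.Γ ⧸ M.d.L0) := { (inferInstance : Group (M.Γ ⧸ M.d.L0)) with
      mul_comm := by
        rintro ⟨a⟩ ⟨b⟩
        refine QuotientGroup.eq.2 ?_
        have := M.d.L_le (M.d.comm_le (commutator_mem_commutator (mem_top b⁻¹) (mem_top a⁻¹)))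
        simpa [commutatorElement_def, mul_assoc] using this }
    obtain ⟨φ, hφ⟩ := CommGroup.exists_apply_ne_one_of_hasEnoughRootsOfUnity (M.Γ ⧸ M.d.L0) ℂ
      (a := (γ : M.Γ ⧸ M.d.L0)) (fun h => hγ ((QuotientGroup.eq_one_iff γ).1 h))
    refine ⟨φ.comp (QuotientGroup.mk' _), fun x hx => ?_, fun e => hφ (DFunLike.congr_fun e γ)⟩
    rw [MonoidHom.mem_ker, MonoidHom.comp_apply, QuotientGroup.mk'_apply,
      (QuotientGroup.eq_one_iff x).2 hx, map_one]
  set μ : c.H →* ℂˣ := lam.comp M.κ with hμ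
  have hap : ∀ g, ap μ g = lam (ap M.κ g) := fun g => by
    by_cases hg : g ∈ c.H
    · rw [ap_of_mem _ hg, ap_of_mem _ hg]; rfl
    · rw [ap, ap, dif_neg hg, dif_neg hg, map_one]
  have hw : ∀ y ∈ c.D, ap μ (c.w * y * c.w⁻¹) = ap μ y := fun y hy => by
    have := h0 (h y hy)
    rw [MonoidHom.mem_ker, map_mul, map_inv, mul_inv_eq_one] at this
    rw [hap, hap, this]
  have h2 : ∀ a ∈ c.H, a * a = 1 → ap μ a = 1 := fun a ha haa => by
    have e1 : ap μ a * ap μ a = 1 := by rw [← ap_mul _ ha ha, haa, ap_one]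
    have e2 : ap μ a ^ M.d.L0.index = 1 := by
      rw [hap, ← map_pow]; exact h0 (M.d.L0.pow_index_mem _)
    obtain ⟨k, hk⟩ := M.d.odd_index
    rwa [hk, pow_succ, pow_mul, sq, e1, one_pow, one_mul] at e2
  choose Θ hg hs using spec_exists M
  have hρ := (core M Θ hg hs).1
  obtain ⟨a1, a2, a3, a4, -⟩ := lat_spec M Θ hs
  have ht : ¬ Odd (orderOf c.t) := by rw [c.ht]; decide
  have hg' := fun i => tw_gen hw (hg i) (hs i).odd
  obtain ⟨v, hv, -, hL⟩ := lat_of c M.Q (fun i => tw μ * Θ i) hg'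
    (fun i j => by
      rw [← a1, classInner_def, classInner_def]
      congr 1
      refine Finset.sum_congr rfl fun g _ => ?_
      by_cases hg : Odd (orderOf g)
      · simp [(hs i).odd g hg]
      · simp only [Pi.mul_apply, map_mul]
        linear_combination Θ i g * conj (Θ j g) * tw_norm (μ := μ) hg)
    (fun i => by simp [a2])
    (fun i => by
      rw [Pi.mul_apply, tw_H hw c.t_mem_H ht, h2 _ c.t_mem_H (sq_of c.ht), a3]; simp)
    (fun i => by
      rw [← a4]
      refine Finset.sum_congr rfl fun a ha => Finset.sum_congr rfl fun b hb => ?_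
      obtain ⟨x, rfl⟩ := isConj_iff.1 (H5.mem_cl.1 ha)
      obtain ⟨y, rfl⟩ := isConj_iff.1 (H5.mem_cl.1 hb)
      by_cases hg : Odd (orderOf (x * c.t * x⁻¹ * (y * c.t * y⁻¹)))
      · simp [(hs i).odd _ hg]
      · rw [Pi.mul_apply, tw_prod hw h2 (two_conj c.ht x) (two_conj c.ht y) hg, one_mul])
  obtain ⟨χ, hχ1, hχ2⟩ := hL.twisted (Q_mod M) (Q_ne_one M) hρ
  have hχ : χ.1 1 = 1 := by rw [dg_eq, hχ1, Int.cast_one]
  obtain ⟨ν, hν⟩ := χ.2.isCharacter.exists_linear hχ
  have hν1 : χ.1 = fun _ => 1 := by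
    rcases ν.normal_ker.eq_bot_or_eq_top with e | e
    · exfalso
      have := (ν.ker_eq_bot_iff.1 e) (a₁ := c.σ * c.u * c.σ⁻¹) (a₂ := c.u) (by
        rw [map_mul, map_mul, map_inv, mul_comm (ν c.σ), mul_inv_cancel_right])
      rw [c.σ_u] at this
      exact ne_one_of c.ht (by simpa using this)
    · ext g
      have : ν g = 1 := by rw [← MonoidHom.mem_ker, e]; trivial
      rw [hν]; simp [this]
  apply hχ2
  have e := hv 4 χ
  rw [hν1, classInner_def] at e
  simp only [map_one, mul_one] at e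
  rw [sum_D c (hg' 4).classFun (fun g hg => by simp [(hs 4).odd g hg]), mul_zero] at e
  · exact_mod_cast e.symm
  · rw [← spec_twist_zero (hs 4) (adm8 c.hn 4) lam h0 h1]
    refine Finset.sum_congr (by congr) fun g hg => ?_
    have hg := (Finset.mem_filter.1 hg).2
    have := tw_eq (μ := μ) (g := g) (x := 1) (by simpa using hg)
    rw [Pi.mul_apply, this, hap]
    simp

end H13.W
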