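import Mathlib
import Cfsg.Agent.H20.WX2

/-! WZero: a subgroup containing `S`, `w` and covering `H / O` has trivial core (helper20). -/

set_option autoImplicit false

namespace H13.W

open H24 Cfsg Subgroup Finset H4
open H22 (WR WA Bj hh)

universe u

variable {G : Type u} [Group G]

theorem core_eq_bot [Finite G] [IsSimpleGroup G] {c : WC G} (M : Mod c) {X : Subgroup G}
    (hS : c.S ≤ X) {w' : G} (hw : w' ∈ X) (hw' : w' * c.w⁻¹ ∈ C[c.E0])
    (hcov : c.H ≤ (X ⊓ c.H) ⊔ c.O) : O[{2}ᶜ, X] = ⊥ := by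
  have := Fintype.ofFinite G
  have := Fintype.ofFinite X
  have hf := H20.WX.sub_fus M hS hcov
  choose Θ hg hs using spec_exists M
  obtain ⟨-, fe, fo, -, e, -, h2, -⟩ := H20.WX.core M Θ hg hs
  obtain ⟨-, fe', fo', hne, e', -, h2', -, -, h5⟩ := H20.WX.core
    (H20.WX.subMod (hS := hS) (hw := hw) (hw' := hw') (hf := hf) M hcov) (fun i (x : X) => Θ i x)
    (fun i => (hg i).restrict X) (fun i => H20.WX.sub_spec hcov (hs i))
  have e2 : (fun x : X => fo.1 x) = (fun x : X => fe.1 x) - fe'.1 + fo'.1 := by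
    ext x
    have a := congrFun e x
    have b := congrFun e' x
    simp only [Pi.sub_apply, Pi.add_apply] at a b ⊢
    linear_combination a - b
  have e3 : (fun x : X => fo.1 x) = fo'.1 := by
    refine (fo.2.isCharacter.restrict X).eq_of_inner_ne_zero_of_degree fo'.2 ?_ (h2.trans h2'.symm)
    obtain ⟨m, hm⟩ := (fe.2.isCharacter.restrict X).inner_nat fo'.2.isCharacter
    rw [e2, classInner_add_left, classInner_sub_left, hm, fo'.2.inner_self,
      fe'.2.inner_of_ne fo'.2 (fun h => hne (Subtype.ext h)), sub_zero]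
    exact_mod_cast Nat.succ_ne_zero m
  obtain ⟨I, hI⟩ := H17.exists_PM 2
  have hn : (O[{2}ᶜ, X].subgroupOf X).Normal := (pcore_nml _ _).normal
  refine eq_bot_iff.2 fun g hg => ?_
  have hk := H17.SB.ker (p := 2) (N := O[{2}ᶜ, X].subgroupOf X) (M := I) (χ := irrOne _) (ψ := fo')
    (by
      rw [card_subgroupOf_of_le (pcore_le _ _)]
      exact (Dih.isPi_odd.1 (pcore_pi _ _)).not_two_dvd_nat) (h5 I).2 (fun _ _ => rfl)
    ⟨g, pcore_le _ _ hg⟩ hg
  rw [← e3] at hk
  refine H20.WX.eq_one_of_simple (χ := fo) ?_ hk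
  rw [h2]
  exact_mod_cast (H20.WX.F_pos M).ne'

end H13.W
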