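import Mathlib
import Cfsg.Agent.H13.WB4
import Cfsg.Agent.H13.WCoord
import Cfsg.Agent.H13.WMod
import Cfsg.Agent.H13.WId
import Cfsg.Agent.H13.WChi
import Cfsg.Agent.H13.WZero
import Cfsg.Agent.H13.WTwist
import Cfsg.Agent.H13.WRoot
import Cfsg.Agent.H13.WOrb

/-! Simple groups with wreathed Sylow 2-subgroups: assembly. -/

set_option autoImplicit false
set_option linter.unusedSectionVars false
set_option linter.style.haveILetI false

namespace H13.W

open H24 H26 Cfsg Subgroup H13.Dih

universe u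

variable {G : Type u} [Group G] [Finite G] [IsSimpleGroup G]

theorem index_ne_two (P : Sylow 2 G) (hP : IsWreathed (P : Subgroup G)) (H : Subgroup G) :
    H.index ≠ 2 := fun h => by
  rcases (normal_of_index_eq_two h).eq_bot_or_eq_top with rfl | rfl
  · rw [index_bot] at h
    obtain ⟨n, hn, ⟨E⟩⟩ := H22.exists_WR hP
    have h1 := card_le (le_top (a := (P : Subgroup G)))
    rw [card_top, h, H22.WR.card E] at h1
    have := Nat.pow_le_pow_right (show 0 < 2 by norm_num) (show 2 ≤ 2 * n + 1 by omega)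
    omega
  · simp at h

theorem hyp_of (hI : IH.{u} (Nat.card G)) {c : WC G} (M : Mod c) : Hyp M :=
  ⟨inferInstance, hI, index_formula M, fun _ h1 _ h2 h3 h4 => core_eq_bot M h1 h2 h3 h4, L0_eq_top M,
    fun h _ _ => rooted_eq_bot M h, fun h _ _ => exists_big_stab M h⟩

theorem ih_all (m : ℕ) : IH.{u} m := by
  induction m with
  | zero => exact fun _ _ _ _ h => absurd h (Nat.not_lt_zero _)
  | succ m ih =>
    intro L _ _ _ hL P hP
    rcases (Nat.lt_succ_iff.1 hL).lt_or_eq with h | rfl
    · exact ih L h P hP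
    obtain ⟨c⟩ := exists_WC P hP (index_ne_two P hP)
    obtain ⟨M⟩ := exists_Mod c
    exact (hyp_of ih M).kp (hyp_of ih M).O_le_C

theorem main (P : Sylow 2 G) (hP : IsWreathed (P : Subgroup G)) : Concl G := by
  obtain ⟨c⟩ := exists_WC P hP (index_ne_two P hP)
  obtain ⟨M⟩ := exists_Mod c
  have h := hyp_of (ih_all _) M
  exact concl_of_central M (h.L0_eq_top h.O_le_C) (h.O_central h.O_le_C) (h.cyc_O h.O_le_C)
    (h.card_O_dvd h.O_le_C)

end H13.W
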