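import Mathlib
import Cfsg.Agent.H18.XZb
import Cfsg.Agent.H6.XZB
import Cfsg.Agent.H29.Group

/-!
Relator engine for S1763: letters are elements of the Sylow model, the involution `t`, or odd
order elements of `C(z)` with known action.
-/

set_option autoImplicit false
set_option linter.unusedSectionVars false
set_option linter.unusedVariables false

namespace H13
namespace ZR

open Subgroup H24 H15 H15.XP Module H6.XS H6.XS.ZA H29

/-- data of a letter: `kind` 0 = element `cd` of `S` with inverse `ic`, 1 = `t`, 2 = element of odd order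
`n`; `M` = action on `Q`; `W` = images of the `y^w` (unknown if `≥ 4096`) -/
structure Lt where
  kind : ℕ
  cd : ℕ
  ic : ℕ
  M : List ℕ
  n : ℕ
  W : List ℕ

def d0 : Lt := ⟨0, 0, 0, idM, 1, []⟩

/-- conjugation of a code by a letter; `≥ 4096` means failure -/
def step (T : SD) (l : Lt) (b : ℕ) : ℕ :=
  if b < 4096 then
    if l.kind = 0 then T.sm (T.sm l.cd b) l.ic
    else if l.kind = 1 then (if b % 256 < 128 then T.tm b else 4096)
    else if l.W.getD (b / 512) 4096 < 4096 then T.sm (au l.M (b % 512)) (l.W.getD (b / 512) 4096) else 4096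
  else 4096

def chase (T : SD) (L : List Lt) : List ℕ → ℕ → ℕ
  | [], b => b
  | i :: w, b => step T (L.getD i d0) (chase T L w b)

/-- the code of a word in letters of kind 0 -/
def cw (T : SD) (L : List Lt) : List ℕ → ℕ
  | [] => 0
  | i :: w => if (L.getD i d0).kind = 0 ∧ cw T L w < 4096 then T.sm (L.getD i d0).cd (cw T L w) else 4096

/-- the action on `Q` -/
def actW (L : List Lt) : List ℕ → List ℕ
  | [] => idM
  | i :: w => (actW L w).map (au (L.getD i d0).M)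

def noT (L : List Lt) (w : List ℕ) : Bool := w.all fun i => (L.getD i d0).kind != 1

/-- the facts on the model that are used -/
def TOK (T : SD) : Prop := (∀ w < 8, bt T.cc w = 0) ∧ (∀ w < 8, ∀ w' < 8, T.R.getD w [] = T.R.getD w' [] → w = w') ∧
  T.p0 < 4096

instance (T : SD) : Decidable (TOK T) := inferInstanceAs (Decidable (_ ∧ _ ∧ _))

theorem sm_lt (T : SD) {a b : ℕ} (ha : a < 4096) (hb : b < 4096) : T.sm a b < 4096 := by
  have h1 : a / 512 ^^^ b / 512 < 2 ^ 3 := Nat.xor_lt_two_pow (by omega) (by omega)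
  have := qm_lt (qm (a % 512) (T.aw (a / 512) (b % 512))) (bt T.cc (8 * (a / 512) + b / 512))
  unfold SD.sm
  omega

theorem sm_split {T : SD} (hT : TOK T) {n w : ℕ} (hn : n < 512) (hw : w < 8) : T.sm n (512 * w) = n + 512 * w := by
  have e1 : n / 512 = 0 := by omega
  have e2 : 512 * w / 512 = w := by omega
  have e3 : 512 * w % 512 = 0 := by omega
  have e4 : n % 512 = n := by omega
  have e5 : T.aw 0 0 = 0 := rfl
  unfold SD.sm
  rw [e1, e2, e3, e4, e5, qm_zero n hn, Nat.mul_zero, Nat.zero_add, hT.1 w hw, qm_zero n hn, Nat.zero_xor]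

variable {G : Type*} [Group G] [Finite G] {D : Set G} {Q : G → Subgroup G} {z : G}
variable {V : Type*} [AddCommGroup V] [Module (ZMod 2) V] [Finite V]
variable {F : Fr z (Q z) V} {E : V → Submodule (ZMod 2) V} {R : V → Subgroup (ofQuad F.q).Isom}
variable {c : ℕ → V} {T : SD} {ψ : ℕ → G} {t : G}

/-- the element `x` is described by `l` -/
structure OKL (z : G) (T : SD) (ψ : ℕ → G) (t : G) (l : Lt) (x : G) : Prop where
  k0 : l.kind = 0 → x = ψ l.cd ∧ l.cd < 4096 ∧ l.ic < 4096 ∧ T.sm l.cd l.ic = 0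
  k1 : l.kind = 1 → x = t
  ac : l.kind ≠ 1 → x ∈ C{z} ∧ Ac ψ x l.M
  od : l.kind = 2 → Odd l.n ∧ x ^ l.n = 1
  wt : l.kind ≠ 0 → l.kind ≠ 1 → ∀ w < 8, l.W.getD w 4096 < 4096 → x * ψ (512 * w) * x⁻¹ = ψ (l.W.getD w 4096)

/-- the standing hypotheses -/
structure Bs (D : Set G) (Q : G → Subgroup G) {z : G} (F : Fr z (Q z) V) (c : ℕ → V) (T : SD)
    (ψ : ℕ → G) (t : G) : Prop where
  sit : Sit D Q 4
  mem : z ∈ D
  cd : Cd F.q c
  sb : SB D Q F c T ψ t
  tok : TOK T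

namespace Bs

variable (h : Bs D Q F c T ψ t)
include h

theorem one : ψ 0 = 1 := lf_one h.sb.lf

theorem split {b : ℕ} (hb : b < 4096) : ψ b = ψ (b % 512) * ψ (512 * (b / 512)) := by
  rw [← h.sb.mul _ (by omega) _ (by omega), sm_split h.tok (by omega) (by omega), Nat.mod_add_div]

theorem inv_eq {a b : ℕ} (ha : a < 4096) (hb : b < 4096) (e : T.sm a b = 0) : (ψ a)⁻¹ = ψ b :=
  inv_eq_of_mul_eq_one_right (by rw [← h.sb.mul a ha b hb, e, h.one])

theorem rp {b : ℕ} (hb : b < 4096) : Rp c (F.ρ ⟨ψ b, h.sb.cz b hb⟩) (T.R.getD (b / 512) []) := by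
  have e : (⟨ψ b, h.sb.cz b hb⟩ : C{z}) = ⟨ψ (b % 512), h.sb.cz _ (by omega)⟩ *
      ⟨ψ (512 * (b / 512)), h.sb.cz _ (by omega)⟩ := Subtype.ext (h.split hb)
  rw [e, map_mul, (F.ker _).2 (h.sb.lf.mem _ (by omega)), one_mul]
  exact h.sb.rp _ (by omega) _ rfl

theorem inj {a b : ℕ} (ha : a < 4096) (hb : b < 4096) (e : ψ a = ψ b) : a = b := by
  have h1 := h.rp ha
  have h2 := h.rp hb
  simp only [e] at h1
  have e1 := h.tok.2.1 _ (by omega) _ (by omega) (h.cd.uniq h1 h2)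
  rw [h.split ha, h.split hb, e1, mul_left_inj] at e
  have := h.sb.lf.inj h.sit h.mem h.cd (by omega) (by omega) e
  omega

theorem z_ne : z ≠ 1 := fun e => by
  have := h.inj (a := 256) (b := 0) (by norm_num) (by norm_num) (by rw [h.sb.lf.zz, h.one, e])
  omega

theorem step_ok {l : Lt} {x : G} (o : OKL z T ψ t l x) {b : ℕ} (hs : step T l b < 4096) :
    b < 4096 ∧ x * ψ b * x⁻¹ = ψ (step T l b) := by
  unfold step at hs ⊢
  split_ifs at hs ⊢ with h1 h2 h3 h4 h5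
  · obtain ⟨rfl, e1, e2, e3⟩ := o.k0 h2
    exact ⟨h1, by rw [h.sb.mul _ (sm_lt T e1 h1) _ e2, h.sb.mul _ e1 _ h1, h.inv_eq e1 e2 e3]⟩
  · rw [o.k1 h3, inv_eq_of_mul_eq_one_right h.sb.tt]
    exact ⟨h1, h.sb.cj b h1 h4⟩
  · omega
  · refine ⟨h1, ?_⟩
    rw [h.sb.mul _ ((au_lt _ _).trans (by norm_num)) _ h5, ← o.wt h2 h3 _ (by omega) h5,
      ← (o.ac h3).2.2 _ (Nat.mod_lt _ (by norm_num)), h.split h1]
    group
  · omega
  · omega

theorem okS {a b : ℕ} {M : List ℕ} (e : (decide (a < 4096) && decide (b < 4096) && T.sm a b == 0 && decide (AOK M) &&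
    (List.range 8).all fun i => T.sm (T.sm a (2 ^ i)) b == M.getD i 0) = true) :
    OKL z T ψ t ⟨0, a, b, M, 1, []⟩ (ψ a) := by
  simp only [Bool.and_eq_true, decide_eq_true_eq, beq_iff_eq, List.all_eq_true, List.mem_range] at e
  obtain ⟨⟨⟨⟨ha, hb⟩, e1⟩, e2⟩, e3⟩ := e
  refine ⟨fun _ => ⟨rfl, ha, hb, e1⟩, fun e => by simp at e, fun _ => ⟨h.sb.cz a ha, h.sb.lf.ac (h.sb.cz a ha) e2
    fun i hi => ?_⟩, fun e => by simp at e, fun e => absurd rfl e⟩
  have := (pow_lt hi).trans (by norm_num : 256 < 4096)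
  rw [← e3 i hi, h.sb.mul _ (sm_lt T ha this) _ hb, h.sb.mul _ ha _ this, h.inv_eq ha hb e1]

theorem okT : OKL z T ψ t ⟨1, 0, 0, [], 1, []⟩ t :=
  ⟨fun e => by simp at e, fun _ => rfl, fun e => absurd rfl e, fun e => by simp at e, fun _ e => absurd rfl e⟩

theorem ok0 : OKL z T ψ t d0 1 :=
  ⟨fun _ => ⟨h.one.symm, by decide, by decide, sm_split h.tok (n := 0) (w := 0) (by norm_num) (by norm_num)⟩,
    fun e => by simp [d0] at e, fun _ => ⟨one_mem _, Ac.one ψ⟩, fun e => by simp [d0] at e, fun e => absurd rfl e⟩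

/-- elements of odd order with the same action -/
theorem eq_of_ac {x y : G} {k k' : ℕ} (hx : x ∈ C{z}) (hy : y ∈ C{z}) (a : Ac ψ (x * y) idM) (hk : Odd k)
    (hk' : Odd k') (e : x ^ k = 1) (e' : y ^ k' = 1) : x * y = 1 := by
  rcases a.eq_or (Ac.one ψ) h.sit h.mem h.cd h.sb.lf with q | q
  · exact q
  · rw [mul_one, ← eq_mul_inv_iff_mul_eq] at q
    have cm : Commute z y⁻¹ := (mem_C1.1 (inv_mem hy)).symm
    have := congrArg (· ^ (k * k')) q
    simp only [cm.mul_pow, inv_pow] at this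
    rw [pow_mul, e, one_pow, z_pow_odd h.sit h.mem (hk.mul hk'), mul_comm k, pow_mul, e', one_pow, inv_one,
      mul_one] at this
    exact absurd this.symm h.z_ne

/-- action of the code `a` with inverse `b` -/
def mS (T : SD) (a b : ℕ) : List ℕ := idM.map fun n => T.sm (T.sm a n) b

/-- the check of an entry of `W`: `k` with inverse `k'` commutes with the letter -/
def wB (T : SD) (M N : List ℕ) (w x : ℕ) (k : ℕ × ℕ) : Bool :=
  decide (k.1 < 4096) && decide (k.2 < 4096) && T.sm k.1 k.2 == 0 && T.sm k.2 k.1 == 0 && decide (AOK (mS T k.1 k.2)) &&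
    decide (AOK (mS T k.2 k.1)) && k.1 / 512 == w &&
    ((N.map (au (mS T k.2 k.1))).map (au M)).map (au (mS T k.1 k.2)) == idM && T.sm (au M (k.1 % 512)) x == k.1

theorem acS {a b : ℕ} (ha : a < 4096) (hb : b < 4096) (e : T.sm a b = 0) (o : AOK (mS T a b)) :
    Ac ψ (ψ a) (mS T a b) := by
  refine h.sb.lf.ac (h.sb.cz a ha) o fun i hi => ?_
  have := (pow_lt hi).trans (by norm_num : 256 < 4096)
  have e3 : (mS T a b).getD i 0 = T.sm (T.sm a (2 ^ i)) b := by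
    interval_cases i <;> rfl
  rw [e3, h.sb.mul _ (sm_lt T ha this) _ hb, h.sb.mul _ ha _ this, h.inv_eq ha hb e]

theorem okO {x : G} {M N W : List ℕ} {n : ℕ} (K : List (ℕ × ℕ)) (hx : x ∈ C{z}) (a : Ac ψ x M) (e : x ^ n = 1)
    (ck : (n % 2 == 1 && decide (AOK N) && N.map (au M) == idM && (List.range 8).all fun w =>
      decide (4096 ≤ W.getD w 4096) || K.any (wB T M N w (W.getD w 4096))) = true) :
    OKL z T ψ t ⟨2, 0, 0, M, n, W⟩ x := by
  simp only [Bool.and_eq_true, decide_eq_true_eq, beq_iff_eq, List.all_eq_true, List.mem_range, Bool.or_eq_true,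
    List.any_eq_true] at ck
  obtain ⟨⟨⟨hn, hN⟩, e1⟩, e2⟩ := ck
  have od : Odd n := Nat.odd_iff.2 hn
  refine ⟨fun e => by simp at e, fun e => by simp at e, fun _ => ⟨hx, a⟩, fun _ => ⟨od, e⟩, fun _ _ w hw hW => ?_⟩
  obtain ⟨k, -, q⟩ := (e2 w hw).resolve_left (not_le.2 hW)
  simp only [wB, Bool.and_eq_true, decide_eq_true_eq, beq_iff_eq] at q
  obtain ⟨⟨⟨⟨⟨⟨⟨⟨q1, q2⟩, q3⟩, q4⟩, q5⟩, q6⟩, q7⟩, q8⟩, q9⟩ := q
  have c1 := h.sb.cz _ q1
  have c2 := h.sb.cz _ q2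
  have a1 := (h.acS q1 q2 q3 q5).mul (a.mul ((h.acS q2 q1 q4 q6).mul (a.inv h.sb.lf hx hN e1) h.sb.lf c2
    (inv_mem hx)) h.sb.lf hx (mul_mem c2 (inv_mem hx))) h.sb.lf c1 (mul_mem hx (mul_mem c2 (inv_mem hx)))
  rw [q8, ← h.inv_eq q1 q2 q3, ← mul_assoc, ← mul_assoc] at a1
  have a2 := h.eq_of_ac (mul_mem (mul_mem c1 hx) (inv_mem c1)) (inv_mem hx) a1 od od
    (by rw [conj_pow, e]; simp) (by rw [inv_pow, e, inv_one])
  have a3 : x * ψ k.1 * x⁻¹ = ψ k.1 := by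
    calc _ = (ψ k.1 * x * (ψ k.1)⁻¹ * x⁻¹)⁻¹ * ψ k.1 := by group
      _ = _ := by rw [a2, inv_one, one_mul]
  have a4 := a.2 _ (Nat.mod_lt k.1 (by norm_num : 0 < 512))
  have a5 := h.sb.mul _ ((au_lt M (k.1 % 512)).trans (by norm_num)) _ hW
  rw [q9, ← a4, ← a3, h.split q1, q7] at a5
  apply mul_left_cancel (a := x * ψ (k.1 % 512) * x⁻¹)
  simp only [] at a5 ⊢
  rw [← a5]; group

end Bs

/-- the letters `f` are described by `L` -/
structure Env (D : Set G) (Q : G → Subgroup G) {z : G} (F : Fr z (Q z) V) (c : ℕ → V) (T : SD)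
    (ψ : ℕ → G) (t : G) (L : List Lt) (iv : ℕ → ℕ) (f : ℕ → G) : Prop extends Bs D Q F c T ψ t where
  ok : ∀ i, OKL z T ψ t (L.getD i d0) (f i)
  iv : IvOK f iv

theorem Bs.ok_get (h : Bs D Q F c T ψ t) {L : List Lt} {xs : List G} (a : List.Forall₂ (OKL z T ψ t) L xs) :
    ∀ i, OKL z T ψ t (L.getD i d0) (xs.getD i 1) := by
  induction a with
  | nil => exact fun _ => h.ok0
  | cons a _ ih => intro i; cases i with
    | zero => exact a
    | succ i => exact ih i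

/-- relators `h w h⁻¹ w'` with `w`, `w'` in `S` -/
noncomputable def ck1 (T : SD) (L : List Lt) (iv : ℕ → ℕ) (r : List ℕ) (i j : ℕ) : Bool :=
  r == r.take i ++ ((r.drop i).take j ++ (invW iv (r.take i) ++ r.drop (2 * i + j))) &&
    decide (chase T L (r.take i) (cw T L ((r.drop i).take j)) < 4096) && decide (cw T L (r.drop (2 * i + j)) < 4096) &&
    T.sm (chase T L (r.take i) (cw T L ((r.drop i).take j))) (cw T L (r.drop (2 * i + j))) == 0

/-- relators `h a h⁻¹ q u q⁻¹` with `a`, `u` of odd order -/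
noncomputable def ck2 (L : List Lt) (iv : ℕ → ℕ) (r : List ℕ) (i j : ℕ) : Bool :=
  r == (r.take i ++ r.getD i 0 :: invW iv (r.take i)) ++ ((r.drop (2 * i + 1)).take j ++
      r.getD (2 * i + 1 + j) 0 :: invW iv ((r.drop (2 * i + 1)).take j)) &&
    (L.getD (r.getD i 0) d0).kind == 2 && (L.getD (r.getD (2 * i + 1 + j) 0) d0).kind == 2 && noT L r &&
    actW L r == idM

/-- the order of an odd letter -/
def ck3 (L : List Lt) (r : List ℕ) : Bool :=
  (L.getD (r.getD 0 0) d0).kind == 2 && r == List.replicate (L.getD (r.getD 0 0) d0).n (r.getD 0 0)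

/-- the cube relation -/
def ck4 (T : SD) (L : List Lt) (r : List ℕ) : Bool :=
  r == [7, 12, 7, 12, 7, 12] ++ r.drop 6 && (L.getD 7 d0).kind == 0 && (L.getD 7 d0).cd == 128 &&
    (L.getD 12 d0).kind == 1 && decide (cw T L (r.drop 6) < 4096) && T.sm T.p0 (cw T L (r.drop 6)) == 0

/-- `g ^ n` centralises `Y` and `g` has no fixed point on `Z#` -/
def ck5 (T : SD) (L : List Lt) (Y Z r : List ℕ) (i n : ℕ) : Bool :=
  r == (List.replicate n (r.take i)).flatten && (Y.all fun y => decide (y < 4096) && chase T L r y == y) &&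
    Z.all fun a => a == 0 || (decide (chase T L (r.take i) a < 4096) && chase T L (r.take i) a != a)

/-- the centraliser of `ψ Y` lies in `ψ Z` -/
def Cn (ψ : ℕ → G) (Y Z : List ℕ) : Prop := ∀ e : G, (∀ y ∈ Y, e * ψ y * e⁻¹ = ψ y) → ∃ a ∈ Z, e = ψ a

noncomputable def ck (T : SD) (L : List Lt) (iv : ℕ → ℕ) (YZ : List (List ℕ × List ℕ)) (r : List ℕ)
    (p : ℕ × ℕ × ℕ × ℕ) : Bool :=
  if p.1 = 1 then ck1 T L iv r p.2.1 p.2.2.1 else if p.1 = 2 then ck2 L iv r p.2.1 p.2.2.1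
  else if p.1 = 3 then ck3 L r else if p.1 = 4 then ck4 T L r
  else YZ[p.2.2.2]?.any fun yz => ck5 T L yz.1 yz.2 r p.2.1 p.2.2.1

noncomputable def ckA (T : SD) (L : List Lt) (iv : ℕ → ℕ) (YZ : List (List ℕ × List ℕ)) :
    List (List ℕ) → List (ℕ × ℕ × ℕ × ℕ) → Bool
  | [], _ => true
  | _ :: _, [] => false
  | r :: R, p :: P => ck T L iv YZ r p && ckA T L iv YZ R P

namespace Env

variable {L : List Lt} {iv : ℕ → ℕ} {f : ℕ → G} (h : Env D Q F c T ψ t L iv f)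
include h

theorem chase_ok : ∀ (w : List ℕ) {b : ℕ}, chase T L w b < 4096 →
    b < 4096 ∧ ev f w * ψ b * (ev f w)⁻¹ = ψ (chase T L w b)
  | [], b, hb => ⟨hb, by simp [chase]⟩
  | i :: w, b, hb => by
    obtain ⟨h1, h2⟩ := h.step_ok (h.ok i) hb
    obtain ⟨h3, h4⟩ := chase_ok w h1
    refine ⟨h3, ?_⟩
    rw [chase, ← h2, ← h4, ev_cons]; group

theorem cw_ok : ∀ (w : List ℕ), cw T L w < 4096 → ev f w = ψ (cw T L w)
  | [], _ => h.one.symm
  | i :: w, hb => by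
    unfold cw at hb ⊢
    split_ifs at hb ⊢ with h1
    · obtain ⟨e, e1, -⟩ := (h.ok i).k0 h1.1
      rw [ev_cons, cw_ok w h1.2, e, h.sb.mul _ e1 _ h1.2]
    · omega

theorem act_ok : ∀ (w : List ℕ), noT L w = true → ev f w ∈ C{z} ∧ Ac ψ (ev f w) (actW L w)
  | [], _ => ⟨one_mem _, Ac.one ψ⟩
  | i :: w, hb => by
    simp only [noT, List.all_cons, Bool.and_eq_true, bne_iff_ne] at hb
    obtain ⟨h1, h2⟩ := act_ok w hb.2
    obtain ⟨h3, h4⟩ := (h.ok i).ac hb.1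
    exact ⟨mul_mem h3 h1, h4.mul h2 h.sb.lf h3 h1⟩

theorem ck1_ok {r : List ℕ} {i j : ℕ} (e : ck1 T L iv r i j = true) : ev f r = 1 := by
  simp only [ck1, Bool.and_eq_true, decide_eq_true_eq, beq_iff_eq] at e
  obtain ⟨⟨⟨e1, e2⟩, e3⟩, e4⟩ := e
  obtain ⟨h1, h2⟩ := h.chase_ok _ e2
  rw [e1, ev_append, ev_append, ev_append, ev_invW h.iv, h.cw_ok _ h1, h.cw_ok _ e3, ← mul_assoc, ← mul_assoc, h2,
    ← h.sb.mul _ e2 _ e3, e4, h.one]

theorem ck2_ok {r : List ℕ} {i j : ℕ} (e : ck2 L iv r i j = true) : ev f r = 1 := by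
  simp only [ck2, Bool.and_eq_true, beq_iff_eq] at e
  obtain ⟨⟨⟨⟨e1, e2⟩, e3⟩, e4⟩, e5⟩ := e
  generalize r.take i = u, r.getD i 0 = a, (r.drop (2 * i + 1)).take j = q, r.getD (2 * i + 1 + j) 0 = b at *
  obtain ⟨-, h2⟩ := h.act_ok r e4
  rw [e5] at h2
  rw [e1, noT, List.all_append, Bool.and_eq_true] at e4
  rw [e1, ev_append] at h2 ⊢
  obtain ⟨o1, p1⟩ := (h.ok a).od e2
  obtain ⟨o2, p2⟩ := (h.ok b).od e3
  refine h.eq_of_ac (h.act_ok _ e4.1).1 (h.act_ok _ e4.2).1 h2 o1 o2 ?_ ?_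
  · rw [ev_append, ev_cons, ev_invW h.iv, ← mul_assoc, conj_pow, p1]; simp
  · rw [ev_append, ev_cons, ev_invW h.iv, ← mul_assoc, conj_pow, p2]; simp

theorem ck3_ok {r : List ℕ} (e : ck3 L r = true) : ev f r = 1 := by
  simp only [ck3, Bool.and_eq_true, beq_iff_eq] at e
  rw [e.2, ev_replicate]
  exact ((h.ok _).od e.1).2

theorem ck4_ok {r : List ℕ} (e : ck4 T L r = true) : ev f r = 1 := by
  simp only [ck4, Bool.and_eq_true, decide_eq_true_eq, beq_iff_eq] at e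
  obtain ⟨⟨⟨⟨⟨e1, e2⟩, e3⟩, e4⟩, e5⟩, e6⟩ := e
  have h1 := ((h.ok 7).k0 e2).1
  have h2 := (h.ok 12).k1 e4
  rw [e3] at h1
  rw [e1, ev_append, h.cw_ok _ e5, ← h.one, ← e6, h.sb.mul _ h.tok.2.2 _ e5, ← h.sb.cube]
  simp only [ev_cons, ev_nil, h1, h2, pow_succ, pow_zero, one_mul, mul_one, mul_assoc]

omit h in
theorem ev_rep (w : List ℕ) : ∀ n, ev f (List.replicate n w).flatten = ev f w ^ n
  | 0 => by simp
  | n + 1 => by rw [List.replicate_succ, List.flatten_cons, ev_append, ev_rep w n, pow_succ']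

theorem ck5_ok {Y Z r : List ℕ} {i n : ℕ} (hc : Cn ψ Y Z) (e : ck5 T L Y Z r i n = true) : ev f r = 1 := by
  simp only [ck5, Bool.and_eq_true, decide_eq_true_eq, beq_iff_eq, List.all_eq_true, Bool.or_eq_true,
    bne_iff_ne] at e
  obtain ⟨⟨e1, e2⟩, e3⟩ := e
  obtain ⟨a, ha, e4⟩ := hc (ev f r) fun y hy => by
    have := (h.chase_ok r (b := y) (by rw [(e2 y hy).2]; exact (e2 y hy).1)).2
    rwa [(e2 y hy).2] at this
  rcases e3 a ha with q | ⟨q1, q2⟩
  · rw [e4, q, h.one]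
  obtain ⟨h1, h2⟩ := h.chase_ok _ q1
  refine absurd (h.inj q1 h1 ?_) q2
  rw [← h2, ← e4]
  generalize r.take i = g at *
  rw [e1, ev_rep, ← pow_succ', pow_succ, mul_inv_cancel_right]

theorem ckA_ok {YZ : List (List ℕ × List ℕ)} (hc : ∀ p ∈ YZ, Cn ψ p.1 p.2) : ∀ {R : List (List ℕ)}
    {P : List (ℕ × ℕ × ℕ × ℕ)}, ckA T L iv YZ R P = true → ∀ r ∈ R, ev f r = 1
  | [], _, _ => fun _ hr => absurd hr List.not_mem_nil
  | _ :: _, [], e => absurd e Bool.false_ne_true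
  | r :: R, p :: P, e => by
    rw [ckA, Bool.and_eq_true] at e
    refine List.forall_mem_cons.2 ⟨?_, ckA_ok hc e.2⟩
    have e1 := e.1
    unfold ck at e1
    split_ifs at e1
    · exact h.ck1_ok e1
    · exact h.ck2_ok e1
    · exact h.ck3_ok e1
    · exact h.ck4_ok e1
    · obtain ⟨yz, h1, h2⟩ := (Option.any_eq_true _ _).1 e1
      exact h.ck5_ok (hc yz (List.mem_of_getElem? h1)) h2

end Env

end ZR
end H13
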