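import Mathlib
import Cfsg.Agent.H13.ZR1

/-!
Relator engine for S1763, part 2: centralisers, odd letters, generation.
-/

set_option autoImplicit false
set_option linter.unusedSectionVars false
set_option linter.unusedVariables false

namespace H13
namespace ZR

open Subgroup H24 H15 H15.XP Module H6.XS H6.XS.ZA H29

variable {G : Type*} [Group G] [Finite G] {D : Set G} {Q : G → Subgroup G} {z : G}
variable {V : Type*} [AddCommGroup V] [Module (ZMod 2) V] [Finite V]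
variable {F : Fr z (Q z) V} {E : V → Submodule (ZMod 2) V} {R : V → Subgroup (ofQuad F.q).Isom}
variable {c : ℕ → V} {T : SD} {ψ : ℕ → G} {t : G}

/-- the isometry is one of the `R[w]`, or does not preserve `S` -/
def leaf (T : SD) (S ws ms : List ℕ) (l : List (ℕ × ℕ)) : Bool :=
  l.length == 8 && ((ws.any fun w => (List.range 8).all fun i => app (l.map Prod.fst) (ms.getD i 0) == 2 ^ i &&
      app (l.map Prod.snd) (ms.getD i 0) == app (T.R.getD w []) (2 ^ i)) ||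
    (List.range 256).any fun m => S.contains (app (l.map Prod.fst) m) && !S.contains (app (l.map Prod.snd) m))

def ckC (T : SD) (S Y Z B bs ws ms : List ℕ) : Bool :=
  Y.contains 256 && (Y.all fun y => decide (y < 4096)) && (B.all fun y => Y.contains y && decide (y < 512)) &&
    (bs.all fun b => decide (b < 256)) && (ws.all fun w => decide (w < 8)) &&
    go (leaf T S ws ms) (bs.map fun b => (b, List.range 256)) (B.map fun y => (y % 256, y % 256)) &&
    ws.all fun w => (List.range 512).all fun n =>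
      (Y.any fun y => T.sm (n + 512 * w) y != T.sm y (n + 512 * w)) || Z.contains (n + 512 * w)

theorem Bs.cn (h : Bs D Q F c T ψ t) (hv : VD F.ρ.range (F.VV D) E R 4) {S Y Z B bs ws ms : List ℕ}
    (hS : ∀ a < 256, c a ∈ F.VV D ↔ a ∈ S) (e : ckC T S Y Z B bs ws ms = true) : Cn ψ Y Z := by
  simp only [ckC, Bool.and_eq_true, decide_eq_true_eq, List.all_eq_true, List.contains_iff_mem, List.mem_range,
    Bool.or_eq_true, List.any_eq_true, bne_iff_ne] at e
  obtain ⟨⟨⟨⟨⟨⟨e1, e2⟩, e3⟩, e4⟩, e5⟩, e6⟩, e7⟩ := e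
  intro g hg
  have gz : g ∈ C{z} := mem_C1_iff_conj.2 (by simpa only [h.sb.lf.zz] using hg 256 e1)
  obtain ⟨l, -, l1, l2⟩ := h.cd.go (h := F.ρ ⟨g, gz⟩) _ _ (fun b' hb' => by
      obtain ⟨b, hb, e⟩ := List.mem_map.1 hb'
      obtain ⟨m, hm, em⟩ := h.cd.surj ((F.ρ ⟨g, gz⟩).1 (c b))
      rw [← e]
      dsimp only
      exact ⟨e4 b hb, m, List.mem_range.2 hm, hm, em.symm⟩)
    (fun p hp => by
      obtain ⟨y, hy, rfl⟩ := List.mem_map.1 hp
      refine ⟨Nat.mod_lt _ (by norm_num), Nat.mod_lt _ (by norm_num), ?_⟩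
      rw [← h.sb.lf.pi y (e3 y hy).2, F.ρ_π _ _ (h.sb.lf.mem y (e3 y hy).2)]
      exact congrArg F.π (hg y (e3 y hy).1)) e6
  have lin := h.cd.lin l l1
  simp only [leaf, Bool.and_eq_true, Bool.or_eq_true, beq_iff_eq, List.any_eq_true, List.all_eq_true,
    List.mem_range, List.contains_iff_mem, Bool.not_eq_true', ← Bool.not_eq_true] at l2
  obtain ⟨l3, ⟨w, hw, q⟩ | ⟨m, -, q1, q2⟩⟩ := l2
  · have w8 := e5 w hw
    have r1 := h.sb.rp w w8 ⟨_, h.sb.cz (512 * w) (by omega)⟩ rfl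
    have r2 : Rp c (F.ρ ⟨g, gz⟩) (T.R.getD w []) := h.cd.rp r1.1 fun i hi => by
      rw [← (q i hi).2, ← lin, (q i hi).1]
    have r3 : g * (ψ (512 * w))⁻¹ ∈ Q z := (F.ker (⟨g, gz⟩ * ⟨_, h.sb.cz (512 * w) (by omega)⟩⁻¹)).1 (by
      rw [map_mul, map_inv, h.cd.ext r2 r1, mul_inv_cancel])
    obtain ⟨n, hn, en⟩ := h.sb.lf.surj h.sit h.mem h.cd r3
    have eg : g = ψ (n + 512 * w) := by
      rw [← sm_split h.tok hn w8, h.sb.mul _ (by omega) _ (by omega), en, inv_mul_cancel_right]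
    refine ⟨_, (e7 w hw n hn).resolve_left ?_, eg⟩
    rintro ⟨y, hy, ne⟩
    have a4 : n + 512 * w < 4096 := by omega
    refine ne (h.inj (sm_lt T a4 (e2 y hy)) (sm_lt T (e2 y hy) a4) ?_)
    rw [h.sb.mul _ a4 _ (e2 y hy), h.sb.mul _ (e2 y hy) _ a4, ← eg]
    exact mul_inv_eq_iff_eq_mul.1 (hg y hy)
  · have m1 : MOK (l.map Prod.fst) := ⟨by rw [List.length_map, l3], fun x hx => by
      obtain ⟨p, hp, rfl⟩ := List.mem_map.1 hx; exact (l1 p hp).1⟩
    have m2 : MOK (l.map Prod.snd) := ⟨by rw [List.length_map, l3], fun x hx => by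
      obtain ⟨p, hp, rfl⟩ := List.mem_map.1 hx; exact (l1 p hp).2.1⟩
    refine absurd ((hS _ (app_lt m2 m)).1 ?_) q2
    rw [← lin]
    exact hv.inv _ ⟨_, rfl⟩ _ ((hS _ (app_lt m1 m)).2 q1)

theorem Bs.exists_odd (h : Bs D Q F c T ψ t) {Ms : List (List ℕ)}
    (hK : ∀ M ∈ Ms, ∃ y ∈ F.ρ.range, Rp c y M) (w M : List ℕ) (n : ℕ)
    (e : (decide (AOK M) && M.map (· % 256) == evM Ms w && n % 2 == 1 &&
      (List.map (au M))^[n] idM == idM) = true) : ∃ a ∈ C{z}, Ac ψ a M ∧ a ^ n = 1 := by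
  simp only [Bool.and_eq_true, decide_eq_true_eq, beq_iff_eq] at e
  obtain ⟨⟨⟨e1, e2⟩, e3⟩, e4⟩ := e
  obtain ⟨_, ⟨k, rfl⟩, hk⟩ := h.cd.evM hK w
  obtain ⟨x, hx, a⟩ := h.sb.lf.exists_ac h.sit h.mem h.cd k e1 (e2 ▸ hk)
  obtain ⟨m, hm, rfl⟩ := h.sb.lf.surj h.sit h.mem h.cd hx
  have hc : ψ m * k ∈ C{z} := mul_mem (h.sb.cz m (by omega)) k.2
  obtain ⟨b, hb, a1, a2⟩ := a.exists_odd h.sit h.mem h.cd h.sb.lf hc (Nat.odd_iff.2 e3) e4
  refine ⟨b, ?_, a1, a2⟩
  rcases hb with rfl | rfl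
  · exact hc
  · exact mul_mem (self_mem_C1 z) hc

/-- the matrices of the groups `R` at the points of a case lie in `H` -/
theorem pts_mem {d : Dat} (h : FC D Q z F E R c d) :
    ∀ M ∈ (d.pts.map Pt.R).flatten, ∃ y ∈ F.ρ.range, Rp c y M := fun M hM => by
  obtain ⟨_, hl, hM⟩ := List.mem_flatten.1 hM
  obtain ⟨p, hp, rfl⟩ := List.mem_map.1 hl
  obtain ⟨h1, h2⟩ := h.cs.pt p hp
  obtain ⟨y, hy, e⟩ := h2.toR M hM
  exact ⟨y, h.vd.le _ ((h.cs.memS _ h2.lt).2 h1) hy, e⟩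

theorem ivOK_of (xs : List G) (l : List ℕ) (hl : xs.length ≤ l.length)
    (e : ∀ i < l.length, xs.getD (l.getD i i) 1 = (xs.getD i 1)⁻¹) : IvOK (fun i => xs.getD i 1) (ivOf l) := by
  intro i
  simp only [ivOf, nth_eq]
  by_cases hi : i < l.length
  · exact e i hi
  · rw [List.getD_eq_default _ _ (not_lt.1 hi), List.getD_eq_default _ _ (hl.trans (not_lt.1 hi)), inv_one]

namespace Env

variable {L : List Lt} {iv : ℕ → ℕ} {f : ℕ → G} (h : Env D Q F c T ψ t L iv f) {X : Subgroup G} {I : List ℕ}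
include h

theorem Q_le (e : ((List.range 9).all fun i => I.contains i && cw T L [i] == 2 ^ i) = true) : Q z ≤ gen f I := by
  simp only [Bool.and_eq_true, beq_iff_eq, List.all_eq_true, List.mem_range, List.contains_iff_mem] at e
  have m : ∀ i < 9, ψ (2 ^ i) ∈ gen f I := fun i hi => by
    have := h.cw_ok [i] (by rw [(e i hi).2]; exact Nat.pow_lt_pow_right (by norm_num) (by omega : i < 12))
    rw [← (e i hi).2, ← this]
    exact ev_mem_gen fun j hj => by rw [List.mem_singleton.1 hj]; exact (e i hi).1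
  intro x hx
  obtain ⟨n, hn, rfl⟩ := h.sb.lf.surj h.sit h.mem h.cd hx
  rw [lf_pw h.sb.lf hn]
  refine pw_mem _ (fun g hg => ?_) _
  simp only [idM, List.map_cons, List.map_nil, List.cons_append, List.nil_append, List.mem_cons, List.not_mem_nil,
    or_false] at hg
  rcases hg with rfl | rfl | rfl | rfl | rfl | rfl | rfl | rfl | rfl
  exacts [m 0 (by norm_num), m 1 (by norm_num), m 2 (by norm_num), m 3 (by norm_num), m 4 (by norm_num),
    m 5 (by norm_num), m 6 (by norm_num), m 7 (by norm_num), h.sb.lf.zz ▸ m 8 (by norm_num)]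

theorem R_le {p : Pt} (hp : At c E R p) (Ws : List (List ℕ)) (e : (p.R.all fun M => Ws.any fun w =>
    (w.all fun i => I.contains i) && noT L w && (actW L w).map (· % 256) == M) = true) :
    R (c p.u) ≤ F.img (gen f I) := by
  simp only [Bool.and_eq_true, beq_iff_eq, List.all_eq_true, List.any_eq_true, List.contains_iff_mem] at e
  intro y hy
  obtain ⟨M, hM, r⟩ := hp.ofR y hy
  obtain ⟨w, -, ⟨e1, e2⟩, e3⟩ := e M hM
  obtain ⟨h1, h2⟩ := h.act_ok w e2
  exact ⟨⟨_, h1⟩, ev_mem_gen e1, h.cd.ext (e3 ▸ h2.rp h.cd h.sb.lf h1) r⟩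

theorem ex_t (e : (I.contains 12 && (L.getD 12 d0).kind == 1) = true) :
    ∃ v ∈ Q z, F.π v = c 1 ∧ ∃ t ∈ gen f I, t ∈ Q v ∧ t ∉ C{z} := by
  simp only [Bool.and_eq_true, beq_iff_eq, List.contains_iff_mem] at e
  refine ⟨ψ 1, h.sb.lf.mem 1 (by norm_num), h.sb.lf.pi 1 (by norm_num), t, ?_, h.sb.tQ, h.sb.tz⟩
  rw [← (h.ok 12).k1 e.2]
  exact subset_closure ⟨12, e.1, rfl⟩

end Env

end ZR
end H13
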