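import Mathlib
import Cfsg.Agent.H13.ZR2

/-!
Relator engine for S1763, part 3: pairs of odd letters, lists of letters.
-/

set_option autoImplicit false
set_option linter.unusedSectionVars false
set_option linter.unusedVariables false

namespace H13
namespace ZR

open Subgroup H24 H15 H15.XP Module H6.XS H6.XS.ZA H29

variable {G : Type*} [Group G] [Finite G] {D : Set G} {Q : G → Subgroup G} {z : G}
variable {V : Type*} [AddCommGroup V] [Module (ZMod 2) V] [Finite V]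
variable {F : Fr z (Q z) V} {E : V → Submodule (ZMod 2) V} {R : V → Subgroup (ofQuad F.q).Isom}
variable {c : ℕ → V} {T : SD} {ψ : ℕ → G} {t : G}

/-- the check of `okO` -/
def oB (T : SD) (M N W : List ℕ) (n : ℕ) (K : List (ℕ × ℕ)) : Bool :=
  n % 2 == 1 && decide (AOK N) && N.map (au M) == idM && (List.range 8).all fun w =>
    decide (4096 ≤ W.getD w 4096) || K.any (Bs.wB T M N w (W.getD w 4096))

theorem Bs.ok_pair (h : Bs D Q F c T ψ t) {a : G} {M N W W' : List ℕ} {n : ℕ} (K : List (ℕ × ℕ)) (hx : a ∈ C{z})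
    (ac : Ac ψ a M) (e : a ^ n = 1) (ck : (oB T M N W n K && oB T N M W' n K) = true) :
    OKL z T ψ t ⟨2, 0, 0, M, n, W⟩ a ∧ OKL z T ψ t ⟨2, 0, 0, N, n, W'⟩ a⁻¹ := by
  rw [Bool.and_eq_true] at ck
  have e1 := ck.1
  simp only [oB, Bool.and_eq_true, decide_eq_true_eq, beq_iff_eq] at e1
  exact ⟨h.okO K hx ac e ck.1, h.okO K (inv_mem hx) (ac.inv h.sb.lf hx e1.1.1.2 e1.1.2) (by rw [inv_pow, e, inv_one]) ck.2⟩

/-- an odd letter and its inverse -/
theorem Bs.exists_pair (h : Bs D Q F c T ψ t) {Ms : List (List ℕ)} (hK : ∀ M ∈ Ms, ∃ y ∈ F.ρ.range, Rp c y M)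
    (w M N W W' : List ℕ) (n : ℕ) (K : List (ℕ × ℕ))
    (e : ((decide (AOK M) && M.map (· % 256) == evM Ms w && n % 2 == 1 && (List.map (au M))^[n] idM == idM) &&
      (oB T M N W n K && oB T N M W' n K)) = true) :
    ∃ a, OKL z T ψ t ⟨2, 0, 0, M, n, W⟩ a ∧ OKL z T ψ t ⟨2, 0, 0, N, n, W'⟩ a⁻¹ := by
  rw [Bool.and_eq_true] at e
  obtain ⟨a, h1, h2, h3⟩ := h.exists_odd hK w M n e.1
  exact ⟨a, h.ok_pair K h1 h2 h3 e.2⟩

/-- letters in `S` given by the pairs code, code of the inverse -/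
def sL (T : SD) (l : List (ℕ × ℕ)) : List Lt := l.map fun p => ⟨0, p.1, p.2, Bs.mS T p.1 p.2, 1, []⟩

theorem Bs.ok_sL (h : Bs D Q F c T ψ t) : ∀ l : List (ℕ × ℕ), (l.all fun p => decide (p.1 < 4096) &&
    decide (p.2 < 4096) && T.sm p.1 p.2 == 0 && decide (AOK (Bs.mS T p.1 p.2))) = true →
    List.Forall₂ (OKL z T ψ t) (sL T l) (l.map fun p => ψ p.1)
  | [], _ => .nil
  | p :: l, e => by
    rw [List.all_cons, Bool.and_eq_true] at e
    have e1 := e.1
    simp only [Bool.and_eq_true, decide_eq_true_eq, beq_iff_eq] at e1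
    obtain ⟨⟨⟨q1, q2⟩, q3⟩, q4⟩ := e1
    exact .cons ⟨fun _ => ⟨rfl, q1, q2, q3⟩, fun e => by simp at e, fun _ => ⟨h.sb.cz _ q1, h.acS q1 q2 q3 q4⟩,
      fun e => by simp at e, fun e => absurd rfl e⟩ (h.ok_sL l e.2)

/-- inverse letters: only the odd letters need an argument -/
theorem Bs.ivOK (h : Bs D Q F c T ψ t) {L : List Lt} {xs : List G} (a : List.Forall₂ (OKL z T ψ t) L xs)
    (l J : List ℕ) (e : (L.length == l.length && (List.range l.length).all fun i => J.contains i ||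
      ((L.getD i d0).kind == 0 && (L.getD (l.getD i i) d0).kind == 0 && (L.getD (l.getD i i) d0).cd == (L.getD i d0).ic) ||
      ((L.getD i d0).kind == 1 && l.getD i i == i)) = true)
    (hJ : ∀ i ∈ J, xs.getD (l.getD i i) 1 = (xs.getD i 1)⁻¹) : IvOK (fun i => xs.getD i 1) (ivOf l) := by
  simp only [Bool.and_eq_true, Bool.or_eq_true, beq_iff_eq, List.all_eq_true, List.mem_range,
    List.contains_iff_mem] at e
  refine ivOK_of xs l (by rw [← a.length_eq, e.1]) fun i hi => ?_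
  rcases e.2 i hi with (q | ⟨⟨q1, q2⟩, q3⟩) | ⟨q1, q2⟩
  · exact hJ i q
  · obtain ⟨p1, p2, p3, p4⟩ := (h.ok_get a i).k0 q1
    rw [((h.ok_get a _).k0 q2).1, p1, q3, h.inv_eq p2 p3 p4]
  · rw [q2, (h.ok_get a i).k1 q1, inv_eq_of_mul_eq_one_right h.sb.tt]

end ZR
end H13
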