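import Mathlib
import Cfsg.Agent.H13.ZR3

/-!
Relator engine for S1763, part 4: an odd letter `σ` fixing `v`.
-/

set_option autoImplicit false
set_option linter.unusedSectionVars false
set_option linter.unusedVariables false

namespace H13
namespace ZR

open Subgroup H24 H15 H15.XP Module H6.XS H6.XS.ZA H29

variable {G : Type*} [Group G] [Finite G] {D : Set G} {Q : G → Subgroup G} {z : G}
variable {V : Type*} [AddCommGroup V] [Module (ZMod 2) V] [Finite V]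
variable {F : Fr z (Q z) V} {E : V → Submodule (ZMod 2) V} {R : V → Subgroup (ofQuad F.q).Isom}
variable {c : ℕ → V} {T : SD} {ψ : ℕ → G} {t : G}

/-- no element of `C(z)` conjugates `ψ p.1` to `ψ p.2` for all `p ∈ B` -/
def ckN (T : SD) (S : List ℕ) (B : List (ℕ × ℕ)) (bs ws ms : List ℕ) : Bool :=
  (B.all fun p => decide (p.1 < 512) && decide (p.2 < 512)) &&
    (bs.all fun b => decide (b < 256)) && (ws.all fun w => decide (w < 8)) &&
    go (leaf T S ws ms) (bs.map fun b => (b, List.range 256)) (B.map fun p => (p.1 % 256, p.2 % 256)) &&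
    ws.all fun w => (List.range 512).all fun n =>
      B.any fun p => T.sm (n + 512 * w) p.1 != T.sm p.2 (n + 512 * w)

theorem Bs.cnN (h : Bs D Q F c T ψ t) (hv : VD F.ρ.range (F.VV D) E R 4) {S bs ws ms : List ℕ} {B : List (ℕ × ℕ)}
    (hS : ∀ a < 256, c a ∈ F.VV D ↔ a ∈ S) (e : ckN T S B bs ws ms = true) {g : G} (gz : g ∈ C{z})
    (hg : ∀ p ∈ B, g * ψ p.1 * g⁻¹ = ψ p.2) : False := by
  simp only [ckN, Bool.and_eq_true, decide_eq_true_eq, List.all_eq_true, List.mem_range,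
    List.any_eq_true, bne_iff_ne] at e
  obtain ⟨⟨⟨⟨e3, e4⟩, e5⟩, e6⟩, e7⟩ := e
  obtain ⟨l, -, l1, l2⟩ := h.cd.go (h := F.ρ ⟨g, gz⟩) _ _ (fun b' hb' => by
      obtain ⟨b, hb, e⟩ := List.mem_map.1 hb'
      obtain ⟨m, hm, em⟩ := h.cd.surj ((F.ρ ⟨g, gz⟩).1 (c b))
      rw [← e]
      dsimp only
      exact ⟨e4 b hb, m, List.mem_range.2 hm, hm, em.symm⟩)
    (fun p hp => by
      obtain ⟨y, hy, rfl⟩ := List.mem_map.1 hp
      refine ⟨Nat.mod_lt _ (by norm_num), Nat.mod_lt _ (by norm_num), ?_⟩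
      rw [← h.sb.lf.pi _ (e3 y hy).1, ← h.sb.lf.pi _ (e3 y hy).2, F.ρ_π _ _ (h.sb.lf.mem _ (e3 y hy).1)]
      exact congrArg F.π (hg y hy)) e6
  have lin := h.cd.lin l l1
  simp only [leaf, Bool.and_eq_true, Bool.or_eq_true, beq_iff_eq, List.any_eq_true, List.all_eq_true,
    List.mem_range, List.contains_iff_mem, Bool.not_eq_true', ← Bool.not_eq_true] at l2
  obtain ⟨l3, ⟨w, hw, q⟩ | ⟨m, -, q1, q2⟩⟩ := l2
  · have w8 := e5 w hw
    have r1 := h.sb.rp w w8 ⟨_, h.sb.cz (512 * w) (by omega)⟩ rfl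
    have r2 : Rp c (F.ρ ⟨g, gz⟩) (T.R.getD w []) := h.cd.rp r1.1 fun i hi => by
      rw [← (q i hi).2, ← lin, (q i hi).1]
    have r3 : g * (ψ (512 * w))⁻¹ ∈ Q z := (F.ker (⟨g, gz⟩ * ⟨_, h.sb.cz (512 * w) (by omega)⟩⁻¹)).1 (by
      rw [map_mul, map_inv, h.cd.ext r2 r1, mul_inv_cancel])
    obtain ⟨n, hn, en⟩ := h.sb.lf.surj h.sit h.mem h.cd r3
    have eg : g = ψ (n + 512 * w) := by
      rw [← sm_split h.tok hn w8, h.sb.mul _ (by omega) _ (by omega), en, inv_mul_cancel_right]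
    obtain ⟨y, hy, ne⟩ := e7 w hw n hn
    have a4 : n + 512 * w < 4096 := by omega
    have y1 : y.1 < 4096 := (e3 y hy).1.trans (by norm_num)
    have y2 : y.2 < 4096 := (e3 y hy).2.trans (by norm_num)
    refine ne (h.inj (sm_lt T a4 y1) (sm_lt T y2 a4) ?_)
    rw [h.sb.mul _ a4 _ y1, h.sb.mul _ y2 _ a4, ← eg]
    exact mul_inv_eq_iff_eq_mul.1 (hg y hy)
  · have m1 : MOK (l.map Prod.fst) := ⟨by rw [List.length_map, l3], fun x hx => by
      obtain ⟨p, hp, rfl⟩ := List.mem_map.1 hx; exact (l1 p hp).1⟩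
    have m2 : MOK (l.map Prod.snd) := ⟨by rw [List.length_map, l3], fun x hx => by
      obtain ⟨p, hp, rfl⟩ := List.mem_map.1 hx; exact (l1 p hp).2.1⟩
    refine absurd ((hS _ (app_lt m2 m)).1 ?_) q2
    rw [← lin]
    exact hv.inv _ ⟨_, rfl⟩ _ ((hS _ (app_lt m1 m)).2 q1)

theorem Bs.pr_cj (h : Bs D Q F c T ψ t) {x : G} : ∀ {l l' : List ℕ},
    List.Forall₂ (fun a b => a < 4096 ∧ b < 4096 ∧ x * ψ a * x⁻¹ = ψ b) l l' →
    ∀ n, T.pr l n < 4096 ∧ T.pr l' n < 4096 ∧ x * ψ (T.pr l n) * x⁻¹ = ψ (T.pr l' n)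
  | _, _, .nil, n => by simp [SD.pr, h.one]
  | _, _, .cons ⟨h1, h2, h3⟩ a, n => by
    obtain ⟨i1, i2, i3⟩ := Bs.pr_cj h a (n / 2)
    unfold SD.pr
    split_ifs
    · exact ⟨sm_lt T h1 i1, sm_lt T h2 i2, by rw [h.sb.mul _ h1 _ i1, h.sb.mul _ h2 _ i2, ← h3, ← i3, conj_mul]⟩
    · exact ⟨i1, i2, i3⟩

/-- the inverse of an odd letter -/
theorem Bs.ok_inv (h : Bs D Q F c T ψ t) {x : G} {M N W W' : List ℕ} {n : ℕ} (o : OKL z T ψ t ⟨2, 0, 0, M, n, W⟩ x)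
    (ck : (decide (AOK N) && N.map (au M) == idM && (List.range 8).all fun w => decide (4096 ≤ W'.getD w 4096) ||
      step T ⟨2, 0, 0, M, n, W⟩ (W'.getD w 4096) == 512 * w) = true) : OKL z T ψ t ⟨2, 0, 0, N, n, W'⟩ x⁻¹ := by
  simp only [Bool.and_eq_true, decide_eq_true_eq, beq_iff_eq, List.all_eq_true, List.mem_range,
    Bool.or_eq_true] at ck
  obtain ⟨h1, h2⟩ := o.ac (by simp)
  obtain ⟨h3, h4⟩ := o.od rfl
  refine ⟨fun e => by simp at e, fun e => by simp at e, fun _ => ⟨inv_mem h1, h2.inv h.sb.lf h1 ck.1.1 ck.1.2⟩,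
    fun _ => ⟨h3, by rw [inv_pow, h4, inv_one]⟩, fun _ _ w hw hW => ?_⟩
  have e := (ck.2 w hw).resolve_left (not_le.2 hW)
  have := (h.step_ok o (b := W'.getD w 4096) (by rw [e]; omega)).2
  rw [e] at this
  simp only [] at this ⊢
  rw [← this]; group

/-- `b` with inverse `b'` acts on `Q` as `σ y σ⁻¹`, `y'` the inverse of `y` -/
def sB (T : SD) (M N : List ℕ) (y y' b b' : ℕ) : Bool :=
  decide (y < 4096) && decide (y' < 4096) && decide (b < 4096) && decide (b' < 4096) && T.sm y y' == 0 &&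
    T.sm b b' == 0 && decide (AOK (Bs.mS T y y')) && decide (AOK (Bs.mS T b b')) &&
    (N.map (au (Bs.mS T y y'))).map (au M) == Bs.mS T b b'

theorem Bs.sgn (h : Bs D Q F c T ψ t) {x : G} {M N : List ℕ} (hx : x ∈ C{z}) (a : Ac ψ x M) (a' : Ac ψ x⁻¹ N)
    {y y' b b' : ℕ} (e : sB T M N y y' b b' = true) :
    ∃ s ∈ [b, T.sm 256 b], y < 4096 ∧ s < 4096 ∧ x * ψ y * x⁻¹ = ψ s := by
  simp only [sB, Bool.and_eq_true, decide_eq_true_eq, beq_iff_eq] at e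
  obtain ⟨⟨⟨⟨⟨⟨⟨⟨q1, q2⟩, q3⟩, q4⟩, q5⟩, q6⟩, q7⟩, q8⟩, q9⟩ := e
  have c1 := h.sb.cz _ q1
  have a1 := a.mul ((h.acS q1 q2 q5 q7).mul a' h.sb.lf c1 (inv_mem hx)) h.sb.lf hx (mul_mem c1 (inv_mem hx))
  rw [q9, ← mul_assoc] at a1
  rcases a1.eq_or (h.acS q3 q4 q6 q8) h.sit h.mem h.cd h.sb.lf with q | q
  · exact ⟨b, by simp, q1, q3, q⟩
  · exact ⟨T.sm 256 b, by simp, q1, sm_lt T (by norm_num) q3, by rw [h.sb.mul _ (by norm_num) _ q3, h.sb.lf.zz, q]⟩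

/-- the table of `σ` from the images of `y1, y2, y3` -/
def wT (T : SD) (s : List ℕ) : List ℕ := (List.range 8).map (T.pr s)

def lT : Lt := ⟨1, 0, 0, [], 1, []⟩

/-- the signs `s` are impossible: `t σ t σ⁻¹` centralises `z` -/
def sK (T : SD) (S M : List ℕ) (n : ℕ) (ws ms s : List ℕ) : Bool :=
  let l : Lt := ⟨2, 0, 0, M, n, wT T s⟩
  step T lT (step T l (step T lT 256)) == 256 &&
    ckN T S ((idM.take 7).map fun y => (step T l y, step T lT (step T l (step T lT y)))) [128] ws ms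

theorem Bs.sigma (h : Bs D Q F c T ψ t) (hv : VD F.ρ.range (F.VV D) E R 4) {S : List ℕ}
    (hS : ∀ a < 256, c a ∈ F.VV D ↔ a ∈ S) {x : G} {M N W : List ℕ} {n : ℕ} (hx : x ∈ C{z}) (a : Ac ψ x M)
    (e : x ^ n = 1) (y1 y2 y3 b1 b1' b2 b2' b3 b3' : ℕ) (ws ms : List ℕ)
    (ck : (n % 2 == 1 && decide (AOK N) && N.map (au M) == idM && sB T M N 512 y1 b1 b1' && sB T M N 1024 y2 b2 b2' &&
      sB T M N 2048 y3 b3 b3' && ((List.range 8).all fun w => T.pr [512, 1024, 2048] w == 512 * w) &&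
      [b1, T.sm 256 b1].all fun s1 => [b2, T.sm 256 b2].all fun s2 => [b3, T.sm 256 b3].all fun s3 =>
        wT T [s1, s2, s3] == W || sK T S M n ws ms [s1, s2, s3]) = true) : OKL z T ψ t ⟨2, 0, 0, M, n, W⟩ x := by
  simp only [Bool.and_eq_true, decide_eq_true_eq, beq_iff_eq, List.all_eq_true, List.mem_range,
    Bool.or_eq_true] at ck
  obtain ⟨⟨⟨⟨⟨⟨⟨q1, q2⟩, q3⟩, q4⟩, q5⟩, q6⟩, q7⟩, q8⟩ := ck
  have a' := a.inv h.sb.lf hx q2 q3
  obtain ⟨s1, m1, p1⟩ := h.sgn hx a a' q4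
  obtain ⟨s2, m2, p2⟩ := h.sgn hx a a' q5
  obtain ⟨s3, m3, p3⟩ := h.sgn hx a a' q6
  have o : OKL z T ψ t ⟨2, 0, 0, M, n, wT T [s1, s2, s3]⟩ x := by
    refine ⟨fun e => by simp at e, fun e => by simp at e, fun _ => ⟨hx, a⟩, fun _ => ⟨Nat.odd_iff.2 q1, e⟩,
      fun _ _ w hw _ => ?_⟩
    have := (h.pr_cj (.cons p1 (.cons p2 (.cons p3 .nil))) w).2.2
    rw [q7 w hw] at this
    rw [this, wT]
    simp [List.getD_eq_getElem?_getD, hw]
  rcases q8 s1 m1 s2 m2 s3 m3 with q | q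
  · exact q ▸ o
  exfalso
  simp only [sK, Bool.and_eq_true, beq_iff_eq] at q
  generalize (⟨2, 0, 0, M, n, wT T [s1, s2, s3]⟩ : Lt) = l at o q
  have k : ∀ y, step T lT (step T l (step T lT y)) < 4096 →
      t * x * t * ψ y * (t * x * t)⁻¹ = ψ (step T lT (step T l (step T lT y))) := fun y hy => by
    obtain ⟨k1, k2⟩ := h.step_ok (l := lT) h.okT hy
    obtain ⟨k3, k4⟩ := h.step_ok o k1
    rw [← k2, ← k4, ← (h.step_ok (l := lT) h.okT k3).2]; group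
  have k0 := k 256 (by rw [q.1]; norm_num)
  rw [q.1, h.sb.lf.zz] at k0
  have q' := q.2
  refine h.cnN hv hS q' (g := t * x * t * x⁻¹) (mul_mem (mem_C1_iff_conj.2 k0) (inv_mem hx)) fun p hp => ?_
  simp only [ckN, Bool.and_eq_true, List.all_eq_true, decide_eq_true_eq] at q'
  obtain ⟨k1, k2⟩ := q'.1.1.1.1 p hp
  obtain ⟨y, -, rfl⟩ := List.mem_map.1 hp
  rw [← k y (k2.trans (by norm_num)), ← (h.step_ok o (k1.trans (by norm_num))).2]; group

/-- relators `[s, w]` with `s` of odd order -/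
noncomputable def ck6 (T : SD) (L : List Lt) (iv : ℕ → ℕ) (Y Z r : List ℕ) (s j : ℕ) : Bool :=
  r == s :: ((r.drop 1).take j ++ iv s :: invW iv ((r.drop 1).take j)) && (L.getD s d0).kind == 2 &&
    (Y.all fun y => decide (y < 4096) && chase T L r y == y) &&
    Z.all fun a => decide (a < 4096) && step T (L.getD s d0) a == a && T.sm a a == 0

noncomputable def ckB (T : SD) (L : List Lt) (iv : ℕ → ℕ) (YZ : List (List ℕ × List ℕ)) :
    List (List ℕ) → List (ℕ × ℕ × ℕ × ℕ) → Bool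
  | [], _ => true
  | _ :: _, [] => false
  | r :: R, p :: P => (if p.1 = 6 then YZ[p.2.2.2]?.any fun yz => ck6 T L iv yz.1 yz.2 r p.2.1 p.2.2.1
      else ck T L iv YZ r p) && ckB T L iv YZ R P

namespace Env

variable {L : List Lt} {iv : ℕ → ℕ} {f : ℕ → G} (h : Env D Q F c T ψ t L iv f)
include h

theorem ck6_ok {Y Z r : List ℕ} {s j : ℕ} (hc : Cn ψ Y Z) (e : ck6 T L iv Y Z r s j = true) : ev f r = 1 := by
  simp only [ck6, Bool.and_eq_true, decide_eq_true_eq, beq_iff_eq, List.all_eq_true] at e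
  obtain ⟨⟨⟨e1, e2⟩, e3⟩, e4⟩ := e
  obtain ⟨a, ha, e5⟩ := hc (ev f r) fun y hy => by
    have := (h.chase_ok r (b := y) (by rw [(e3 y hy).2]; exact (e3 y hy).1)).2
    rwa [(e3 y hy).2] at this
  obtain ⟨⟨a1, a2⟩, a3⟩ := e4 a ha
  have a4 := (h.step_ok (h.ok s) (b := a) (by rw [a2]; exact a1)).2
  have a5 := h.sb.mul a a1 a a1
  rw [a2] at a4
  rw [a3, h.one] at a5
  obtain ⟨⟨m, hm⟩, o⟩ := (h.ok s).od e2
  rw [e5]
  generalize (r.drop 1).take j = w at e1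
  rw [e1, ev_cons, ev_append, ev_cons, ev_invW h.iv, h.iv] at e5
  generalize ev f w = u, f s = x, ψ a = b at *
  have k : ∀ i : ℕ, x ^ i * u * (x ^ i)⁻¹ = b ^ i * u := fun i => by
    induction i with
    | zero => simp
    | succ i ih =>
      calc _ = x * (x ^ i * u * (x ^ i)⁻¹) * x⁻¹ := by rw [pow_succ']; group
        _ = (x * b * x⁻¹) ^ i * (x * (u * (x⁻¹ * u⁻¹))) * u := by rw [ih, conj_pow]; group
        _ = _ := by rw [a4, e5, pow_succ]
  have := k (L.getD s d0).n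
  rw [o, hm, pow_succ, pow_mul, pow_two, ← a5] at this
  simpa using this.symm

theorem ckB_ok {YZ : List (List ℕ × List ℕ)} (hc : ∀ p ∈ YZ, Cn ψ p.1 p.2) : ∀ {R : List (List ℕ)}
    {P : List (ℕ × ℕ × ℕ × ℕ)}, ckB T L iv YZ R P = true → ∀ r ∈ R, ev f r = 1
  | [], _, _ => fun _ hr => absurd hr List.not_mem_nil
  | _ :: _, [], e => absurd e Bool.false_ne_true
  | r :: R, p :: P, e => by
    rw [ckB, Bool.and_eq_true] at e
    refine List.forall_mem_cons.2 ⟨?_, ckB_ok hc e.2⟩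
    have e1 := e.1
    split_ifs at e1
    · obtain ⟨yz, h1, h2⟩ := (Option.any_eq_true _ _).1 e1
      exact h.ck6_ok (hc yz (List.mem_of_getElem? h1)) h2
    · exact h.ckA_ok hc (R := [r]) (P := [p]) (by rw [ckA, e1]; rfl) r (List.mem_singleton_self r)

end Env

end ZR
end H13
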