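import Mathlib
import Cfsg.Agent.H13.ZR4
import Cfsg.Agent.H6.XZA

/-!
S1763, case 15: the relations of the presentation `P15` hold.
-/

set_option autoImplicit false
set_option linter.unusedSectionVars false
set_option linter.unusedVariables false

namespace H13
namespace ZR
namespace Z15

open Subgroup H24 H15 H15.XP Module H6.XS H6.XS.ZA H29

def ivl : List ℕ := [0, 1, 2, 3, 4, 5, 6, 7, 8, 9, 10, 11, 12, 14, 13, 16, 15, 18, 17]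

def rels : List (List ℕ) := [[1, 0, 1, 0], [2, 0, 2, 0], [2, 1, 2, 1], [3, 0, 3, 0], [3, 1, 3, 1], [3, 2, 3, 2], [4,
  0, 4, 0], [4, 1, 4, 8, 1], [4, 2, 4, 2], [4, 3, 4, 3], [5, 0, 5, 0], [5, 1, 5, 1], [5, 2, 5, 8, 2], [5, 3, 5, 3],
  [5, 4, 5, 4], [6, 0, 6, 0], [6, 1, 6, 1], [6, 2, 6, 2], [6, 3, 6, 8, 3], [6, 4, 6, 4], [6, 5, 6, 5], [7, 0, 7, 8,
  0], [7, 1, 7, 1], [7, 2, 7, 2], [7, 3, 7, 3], [7, 4, 7, 4], [7, 5, 7, 5], [7, 6, 7, 6], [8, 0, 8, 0], [8, 1, 8,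
  1], [8, 2, 8, 2], [8, 3, 8, 3], [8, 4, 8, 4], [8, 5, 8, 5], [8, 6, 8, 6], [8, 7, 8, 7], [9, 0, 9, 0], [9, 1, 9, 1,
  0], [9, 2, 9, 2], [9, 3, 9, 3], [9, 4, 9, 4], [9, 5, 9, 5, 3], [9, 6, 9, 6, 2], [9, 7, 9, 7, 4], [9, 8, 9, 8],
  [10, 0, 10, 0], [10, 1, 10, 1], [10, 2, 10, 2, 0], [10, 3, 10, 3], [10, 4, 10, 4, 3], [10, 5, 10, 5], [10, 6, 10,
  6, 1], [10, 7, 10, 7, 5], [10, 8, 10, 8], [10, 9, 10, 9], [11, 0, 11, 0], [11, 1, 11, 1], [11, 2, 11, 2], [11, 3,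
  11, 3, 0], [11, 4, 11, 4, 2, 0], [11, 5, 11, 5, 1, 0], [11, 6, 11, 6], [11, 7, 11, 7, 6, 2, 1], [11, 8, 11, 8],
  [11, 9, 11, 9, 0], [11, 10, 11, 10, 0], [12, 0, 12, 0], [12, 1, 12, 1], [12, 2, 12, 2], [12, 3, 12, 3], [12, 4,
  12, 9, 4, 3], [12, 5, 12, 10, 5, 3], [12, 6, 12, 11, 6, 2, 1], [12, 8, 12, 8, 0], [12, 9, 12, 9], [12, 10, 12,
  10], [12, 11, 12, 11], [7, 12, 7, 12, 7, 12], [13, 13, 13], [13, 0, 14, 0], [13, 1, 14, 2, 1], [13, 2, 14, 1],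
  [13, 3, 14, 3], [13, 4, 14, 5], [13, 5, 14, 5, 4, 3], [13, 6, 14, 6, 1], [13, 7, 14, 7], [13, 8, 14, 8], [13, 9,
  14, 10], [13, 10, 14, 10, 9], [13, 11, 14, 11, 1], [13, 12, 14, 12], [15, 15, 15], [15, 0, 16, 6, 2, 1], [15, 1,
  16, 6], [15, 2, 16, 2], [15, 3, 16, 7], [15, 4, 16, 7, 4, 3], [15, 5, 16, 5, 4], [15, 6, 16, 2, 1, 0], [15, 7, 16,
  7, 4], [15, 8, 16, 8], [9, 15, 9, 15], [15, 9, 13, 9, 16, 13], [17, 17, 17], [17, 0, 18, 3], [17, 1, 18, 5, 3],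
  [17, 2, 18, 4, 3], [17, 3, 18, 3, 0], [17, 4, 18, 8, 4, 2, 0], [17, 5, 18, 8, 5, 1, 0], [17, 6, 18, 7, 5, 4], [17,
  7, 18, 7, 6, 2, 1], [17, 8, 18, 8], [17, 13, 18, 14], [15, 17, 16, 18], [9, 17, 9, 18], [10, 17, 10, 18], [11, 17,
  11, 1, 2, 17, 2, 1], [11, 15, 11, 1, 16, 1], [12, 6, 17, 12, 6, 17, 12, 6, 17, 12, 6, 17, 12, 6, 17, 12, 6, 17,
  12, 6, 17], [12, 6, 17, 12, 17, 12, 6, 17, 12, 17, 12, 6, 17, 12, 17, 12, 6, 17, 12, 17, 12, 6, 17, 12, 17, 12, 6,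
  17, 12, 17, 12, 6, 17, 12, 17], [12, 5, 15, 12, 5, 15, 12, 5, 15, 12, 5, 15, 12, 5, 15, 12, 5, 15, 12, 5, 15, 12,
  5, 15, 12, 5, 15]]

def hints : List (ℕ × ℕ × ℕ × ℕ) := [(1, 0, 0, 0), (1, 0, 0, 0), (1, 0, 0, 0), (1, 0, 0, 0), (1, 0, 0, 0), (1, 0, 0,
  0), (1, 0, 0, 0), (1, 0, 0, 0), (1, 0, 0, 0), (1, 0, 0, 0), (1, 0, 0, 0), (1, 0, 0, 0), (1, 0, 0, 0), (1, 0, 0,
  0), (1, 0, 0, 0), (1, 0, 0, 0), (1, 0, 0, 0), (1, 0, 0, 0), (1, 0, 0, 0), (1, 0, 0, 0), (1, 0, 0, 0), (1, 0, 0,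
  0), (1, 0, 0, 0), (1, 0, 0, 0), (1, 0, 0, 0), (1, 0, 0, 0), (1, 0, 0, 0), (1, 0, 0, 0), (1, 0, 0, 0), (1, 0, 0,
  0), (1, 0, 0, 0), (1, 0, 0, 0), (1, 0, 0, 0), (1, 0, 0, 0), (1, 0, 0, 0), (1, 0, 0, 0), (1, 0, 0, 0), (1, 0, 0,
  0), (1, 0, 0, 0), (1, 0, 0, 0), (1, 0, 0, 0), (1, 0, 0, 0), (1, 0, 0, 0), (1, 0, 0, 0), (1, 0, 0, 0), (1, 0, 0,
  0), (1, 0, 0, 0), (1, 0, 0, 0), (1, 0, 0, 0), (1, 0, 0, 0), (1, 0, 0, 0), (1, 0, 0, 0), (1, 0, 0, 0), (1, 0, 0,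
  0), (1, 0, 0, 0), (1, 0, 0, 0), (1, 0, 0, 0), (1, 0, 0, 0), (1, 0, 0, 0), (1, 0, 0, 0), (1, 0, 0, 0), (1, 0, 0,
  0), (1, 0, 0, 0), (1, 0, 0, 0), (1, 0, 0, 0), (1, 0, 0, 0), (1, 1, 1, 0), (1, 1, 1, 0), (1, 1, 1, 0), (1, 1, 1,
  0), (1, 1, 1, 0), (1, 1, 1, 0), (1, 1, 1, 0), (1, 1, 1, 0), (1, 1, 1, 0), (1, 1, 1, 0), (1, 1, 1, 0), (4, 0, 0,
  0), (3, 0, 0, 0), (2, 0, 1, 0), (1, 1, 1, 0), (1, 1, 1, 0), (2, 0, 1, 0), (1, 1, 1, 0), (1, 1, 1, 0), (1, 1, 1,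
  0), (2, 0, 1, 0), (2, 0, 1, 0), (1, 1, 1, 0), (1, 1, 1, 0), (1, 1, 1, 0), (6, 13, 1, 0), (3, 0, 0, 0), (1, 1, 1,
  0), (1, 1, 1, 0), (2, 0, 1, 0), (1, 1, 1, 0), (1, 1, 1, 0), (1, 1, 1, 0), (1, 1, 1, 0), (1, 1, 1, 0), (2, 0, 1,
  0), (2, 1, 0, 0), (2, 2, 0, 0), (3, 0, 0, 0), (1, 1, 1, 0), (1, 1, 1, 0), (1, 1, 1, 0), (1, 1, 1, 0), (1, 1, 1,
  0), (1, 1, 1, 0), (1, 1, 1, 0), (1, 1, 1, 0), (2, 0, 1, 0), (2, 0, 1, 0), (2, 0, 1, 0), (2, 1, 0, 0), (2, 1, 0,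
  0), (2, 1, 2, 0), (2, 1, 1, 0), (5, 3, 7, 1), (5, 5, 7, 1), (5, 3, 9, 2)]

def sl : List (ℕ × ℕ) := [(1, 1), (2, 2), (4, 4), (8, 8), (16, 16), (32, 32), (64, 64), (128, 128), (256, 256),
  (512, 512), (1024, 1024), (2048, 2048)]

def L : List Lt := sL s3 sl ++ lT :: ([⟨2, 0, 0, [1, 6, 2, 8, 32, 56, 66, 128], 3, [0, 1024, 1536, 512, 2050, 3074,
  3587, 2563]⟩, ⟨2, 0, 0, [1, 4, 6, 8, 56, 16, 68, 128], 3, [0, 1536, 512, 1024, 2052, 3589, 2564, 3077]⟩, ⟨2, 0, 0,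
  [70, 64, 4, 128, 152, 48, 7, 144], 3, [0, 4096, 4096, 4096, 2114, 4096, 4096, 4096]⟩, ⟨2, 0, 0, [67, 7, 4, 144,
  136, 168, 2, 8], 3, [0, 4096, 4096, 4096, 2053, 4096, 4096, 4096]⟩, ⟨2, 0, 0, [8, 40, 24, 9, 277, 291, 176, 198],
  3, [0, 512, 1024, 1536, 4096, 4096, 4096, 4096]⟩, ⟨2, 0, 0, [9, 298, 284, 1, 5, 3, 496, 70], 3, [0, 512, 1024,
  1536, 4096, 4096, 4096, 4096]⟩])

def YZ : List (List ℕ × List ℕ) := [([256, 1, 2, 4, 8, 16, 32, 64], [0, 1, 256, 257]), ([256, 1, 2, 4, 8, 16, 32,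
  512, 1024], [0, 1, 8, 9, 256, 257, 264, 265]), ([256, 1, 2, 4, 64, 2048], [0, 1, 2, 3, 4, 5, 6, 7, 64, 65, 66, 67,
  68, 69, 70, 71, 256, 257, 258, 259, 260, 261, 262, 263, 320, 321, 322, 323, 324, 325, 326, 327, 2048, 2049, 2050,
  2051, 2052, 2053, 2054, 2055, 2112, 2113, 2114, 2115, 2116, 2117, 2118, 2119, 2304, 2305, 2306, 2307, 2308, 2309,
  2310, 2311, 2368, 2369, 2370, 2371, 2372, 2373, 2374, 2375])]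

theorem ckR : ckB s3 L (ivOf ivl) YZ rels hints = true := by decide +kernel

variable {G : Type*} [Group G] [Finite G] {D : Set G} {Q : G → Subgroup G} {z : G}
variable {V : Type*} [AddCommGroup V] [Module (ZMod 2) V] [Finite V]
variable {F : Fr z (Q z) V} {E : V → Submodule (ZMod 2) V} {R : V → Subgroup (ofQuad F.q).Isom}
variable {c : ℕ → V}

theorem main (h : FC D Q z F E R c d15) : ∃ (ψ : ℕ → G) (t : G) (f : ℕ → G),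
    Env D Q F c s3 ψ t L (ivOf ivl) f ∧ (∀ r ∈ rels, ev f r = 1) ∧
    Q z ≤ gen f (List.range 19) ∧ R (c 1) ≤ F.img (gen f (List.range 19)) ∧
    R (c 128) ≤ F.img (gen f (List.range 19)) ∧
    ∃ v ∈ Q z, F.π v = c 1 ∧ ∃ t ∈ gen f (List.range 19), t ∈ Q v ∧ t ∉ C{z} := by
  have p1 := (h.cs.pt _ (List.mem_cons_self ..)).2
  have p2 := (h.cs.pt _ (List.mem_cons_of_mem _ (List.mem_cons_self ..))).2
  obtain ⟨ψ, t, sb⟩ := h.sit.sb3 h.mem h.vd h.lift h.cs.cd ((h.cs.memS 1 (by norm_num)).2 (by decide)) p1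
  have b : Bs D Q F c s3 ψ t := ⟨h.sit, h.mem, h.cs.cd, sb, by decide⟩
  obtain ⟨a0, c0, m0, e0⟩ := b.exists_odd (pts_mem h) [12, 3, 14, 1] [1, 6, 2, 8, 32, 56, 66, 128] 3
    (by decide +kernel)
  have o0 := b.sigma h.vd h.cs.memS (N := [1, 4, 6, 8, 56, 16, 68, 128]) (W := [0, 1024, 1536, 512, 2050, 3074,
    3587, 2563]) c0 m0 e0 512 1024 2048 1024 1024 1536 1536 2050 2050 [] [2, 8, 12, 16, 112, 32, 136, 1]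
    (by decide +kernel)
  have i0 := b.ok_inv (N := [1, 4, 6, 8, 56, 16, 68, 128]) (W' := [0, 1536, 512, 1024, 2052, 3589, 2564, 3077]) o0
    (by decide +kernel)
  obtain ⟨a1, o1, i1⟩ := b.exists_pair (pts_mem h) [1, 12] [70, 64, 4, 128, 152, 48, 7, 144] [67, 7, 4, 144, 136,
    168, 2, 8] [0, 4096, 4096, 4096, 2114, 4096, 4096, 4096] [0, 4096, 4096, 4096, 2053, 4096, 4096, 4096] 3 [(0,
    0), (2050, 2050)] (by decide +kernel)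
  obtain ⟨a2, o2, i2⟩ := b.exists_pair (pts_mem h) [4, 9] [8, 40, 24, 9, 277, 291, 176, 198] [9, 298, 284, 1, 5, 3,
    496, 70] [0, 512, 1024, 1536, 4096, 4096, 4096, 4096] [0, 512, 1024, 1536, 4096, 4096, 4096, 4096] 3 [(0, 0),
    (512, 512), (1024, 1024), (1536, 1536)] (by decide +kernel)
  have a : List.Forall₂ (OKL z s3 ψ t) L (sl.map (fun p => ψ p.1) ++ t :: [a0, a0⁻¹, a1, a1⁻¹, a2, a2⁻¹]) :=
    List.rel_append (b.ok_sL sl (by decide +kernel)) (.cons b.okT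
      (.cons o0 (.cons i0 (.cons o1 (.cons i1 (.cons o2 (.cons i2 .nil)))))))
  have e : Env D Q F c s3 ψ t L (ivOf ivl) _ := ⟨b, b.ok_get a, b.ivOK a ivl [13, 14, 15, 16, 17, 18]
    (by decide +kernel) (by
      simp only [List.forall_mem_cons, List.not_mem_nil, false_imp_iff, implies_true, and_true]
      exact ⟨rfl, (inv_inv _).symm, rfl, (inv_inv _).symm, rfl, (inv_inv _).symm⟩)⟩
  refine ⟨ψ, t, _, e, e.ckB_ok (fun p hp => ?_) ckR, e.Q_le (by decide +kernel),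
    e.R_le p1 [[], [9], [10], [10, 9], [11], [11, 9], [11, 10], [11, 10, 9]] (by decide +kernel),
    e.R_le p2 [[], [18, 11], [15, 10, 16], [18, 15, 10, 16, 11], [16, 9], [18, 16, 11, 9], [10, 15, 13, 9], [18, 10,
      15, 13, 11, 9]] (by decide +kernel), e.ex_t (by decide +kernel)⟩
  simp only [YZ, List.mem_cons, List.not_mem_nil, or_false] at hp
  rcases hp with rfl | rfl | rfl
  · exact b.cn h.vd h.cs.memS (B := [1, 2, 4, 8, 16, 32, 64]) (bs := [128]) (ws := [0]) (ms := [2, 4, 8, 16, 32, 64,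
      128, 1]) (by decide +kernel)
  · exact b.cn h.vd h.cs.memS (B := [1, 2, 4, 8, 16, 32]) (bs := [64, 128]) (ws := [0]) (ms := [4, 8, 16, 32, 64,
      128, 2, 1]) (by decide +kernel)
  · exact b.cn h.vd h.cs.memS (B := [1, 2, 4, 64]) (bs := [8, 16, 32, 128]) (ws := [0, 4]) (ms := [16, 32, 64, 8, 4,
      2, 128, 1]) (by decide +kernel)

variable {ψ : ℕ → G} {t : G} {f : ℕ → G} (h : Env D Q F c s3 ψ t L (ivOf ivl) f)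
include h

theorem low : ∀ i < 12, f i = ψ (2 ^ i) := fun i hi => by
  interval_cases i <;> exact ((h.ok _).k0 rfl).1

theorem tt : f 12 = t := (h.ok 12).k1 rfl

theorem od13 : f 13 ∈ C{z} ∧ Ac ψ (f 13) [1, 6, 2, 8, 32, 56, 66, 128] ∧ f 13 ^ 3 = 1 :=
  ⟨((h.ok 13).ac (by decide)).1, ((h.ok 13).ac (by decide)).2, ((h.ok 13).od rfl).2⟩

theorem od15 : f 15 ∈ C{z} ∧ Ac ψ (f 15) [70, 64, 4, 128, 152, 48, 7, 144] ∧ f 15 ^ 3 = 1 :=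
  ⟨((h.ok 15).ac (by decide)).1, ((h.ok 15).ac (by decide)).2, ((h.ok 15).od rfl).2⟩

theorem od17 : f 17 ∈ C{z} ∧ Ac ψ (f 17) [8, 40, 24, 9, 277, 291, 176, 198] ∧ f 17 ^ 3 = 1 :=
  ⟨((h.ok 17).ac (by decide)).1, ((h.ok 17).ac (by decide)).2, ((h.ok 17).od rfl).2⟩

end Z15
end ZR
end H13
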