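import Mathlib
import Cfsg.Agent.H13.ZR3
import Cfsg.Agent.H6.XZA

/-!
S1763, case 81: the relations of the presentation `P81` hold.
-/

set_option autoImplicit false
set_option linter.unusedSectionVars false
set_option linter.unusedVariables false

namespace H13
namespace ZR
namespace Z81

open Subgroup H24 H15 H15.XP Module H6.XS H6.XS.ZA H29

def ivl : List ℕ := [0, 1, 2, 3, 4, 5, 6, 7, 8, 9, 10, 11, 12, 14, 13, 16, 15, 18, 17, 20, 19]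

def rels : List (List ℕ) := [[1, 0, 1, 0], [2, 0, 2, 0], [2, 1, 2, 1], [3, 0, 3, 0], [3, 1, 3, 1], [3, 2, 3, 2], [4,
  0, 4, 0], [4, 1, 4, 8, 1], [4, 2, 4, 2], [4, 3, 4, 3], [5, 0, 5, 0], [5, 1, 5, 1], [5, 2, 5, 8, 2], [5, 3, 5, 3],
  [5, 4, 5, 4], [6, 0, 6, 0], [6, 1, 6, 1], [6, 2, 6, 2], [6, 3, 6, 8, 3], [6, 4, 6, 4], [6, 5, 6, 5], [7, 0, 7, 8,
  0], [7, 1, 7, 1], [7, 2, 7, 2], [7, 3, 7, 3], [7, 4, 7, 4], [7, 5, 7, 5], [7, 6, 7, 6], [8, 0, 8, 0], [8, 1, 8,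
  1], [8, 2, 8, 2], [8, 3, 8, 3], [8, 4, 8, 4], [8, 5, 8, 5], [8, 6, 8, 6], [8, 7, 8, 7], [9, 0, 9, 0], [9, 1, 9, 1,
  0], [9, 2, 9, 2], [9, 3, 9, 3], [9, 4, 9, 4], [9, 5, 9, 5, 3], [9, 6, 9, 6, 2], [9, 7, 9, 7, 4], [9, 8, 9, 8],
  [10, 0, 10, 0], [10, 1, 10, 1], [10, 2, 10, 2, 0], [10, 3, 10, 3], [10, 4, 10, 4, 3], [10, 5, 10, 5], [10, 6, 10,
  6, 1], [10, 7, 10, 7, 5], [10, 8, 10, 8], [10, 9, 10, 9], [11, 0, 11, 0], [11, 1, 11, 1], [11, 2, 11, 2], [11, 3,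
  11, 3, 0], [11, 4, 11, 4, 2], [11, 5, 11, 5, 1], [11, 6, 11, 6], [11, 7, 11, 7, 6], [11, 8, 11, 8], [11, 9, 11,
  9], [11, 10, 11, 10], [13, 13, 13], [13, 0, 14, 3], [13, 1, 14, 5, 0], [13, 2, 14, 4, 0], [13, 3, 14, 3, 0], [13,
  4, 14, 4, 3, 2, 0], [13, 5, 14, 5, 3, 1, 0], [13, 6, 14, 7, 2, 1], [13, 7, 14, 7, 6, 5, 4, 2, 1], [13, 8, 14, 8],
  [15, 15, 15], [15, 0, 16, 8, 3, 2, 1], [15, 1, 16, 6, 5, 1, 0], [15, 2, 16, 6, 4, 2, 0], [15, 3, 16, 8, 5, 4, 3,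
  0], [15, 4, 16, 8, 7, 3, 2], [15, 5, 16, 8, 7, 3, 1], [15, 6, 16, 7, 2, 1], [15, 7, 16, 8, 7, 6, 5, 4], [15, 8,
  16, 8], [17, 17, 17], [17, 0, 18, 2, 0], [17, 1, 18, 8, 6, 1, 0], [17, 2, 18, 0], [17, 3, 18, 4, 3, 0], [17, 4,
  18, 3, 2, 0], [17, 5, 18, 7, 5, 3, 1], [17, 6, 18, 8, 2, 1, 0], [17, 7, 18, 8, 6, 5, 4, 3, 1], [17, 8, 18, 8],
  [19, 19, 19], [19, 0, 20, 1, 0], [19, 1, 20, 0], [19, 2, 20, 8, 6, 2, 0], [19, 3, 20, 5, 3, 0], [19, 4, 20, 7, 4,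
  3, 2], [19, 5, 20, 3, 1, 0], [19, 6, 20, 8, 2, 1, 0], [19, 7, 20, 8, 6, 5, 4, 3, 2], [19, 8, 20, 8], [15, 13, 16,
  14], [17, 13, 18, 14], [17, 15, 18, 16], [19, 13, 20, 14], [19, 15, 20, 16], [19, 17, 20, 18], [9, 13, 9, 0, 14,
  0], [10, 13, 10, 0, 14, 0], [11, 13, 11, 13], [9, 15, 9, 0, 15, 0], [10, 15, 10, 0, 15, 0], [11, 15, 11, 15], [9,
  17, 9, 0, 18, 0], [10, 17, 10, 0, 17, 0], [11, 17, 11, 18], [9, 19, 9, 0, 19, 0], [10, 19, 10, 0, 20, 0], [11, 19,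
  11, 20], [12, 0, 12, 0], [12, 1, 12, 1], [12, 2, 12, 2], [12, 3, 12, 3], [12, 4, 12, 9, 4], [12, 5, 12, 10, 5],
  [12, 6, 12, 11, 6], [12, 8, 12, 8, 0], [12, 9, 12, 9], [12, 10, 12, 10], [12, 11, 12, 11], [7, 12, 7, 12, 7, 12],
  [12, 6, 13, 12, 6, 13, 12, 6, 13, 12, 6, 13, 12, 6, 13, 12, 6, 13, 12, 6, 13], [12, 6, 13, 12, 13, 12, 6, 13, 12,
  13, 12, 6, 13, 12, 13, 12, 6, 13, 12, 13, 12, 6, 13, 12, 13, 12, 6, 13, 12, 13, 12, 6, 13, 12, 13], [12, 4, 15,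
  12, 4, 15, 12, 4, 15, 12, 4, 15, 12, 4, 15, 12, 4, 15, 12, 4, 15], [12, 4, 15, 12, 16, 12, 4, 15, 12, 16, 12, 4,
  15, 12, 16, 12, 4, 15, 12, 16, 12, 4, 15, 12, 16, 12, 4, 15, 12, 16, 12, 4, 15, 12, 16], [12, 5, 17, 12, 5, 17,
  12, 5, 17, 12, 5, 17, 12, 5, 17, 12, 5, 17, 12, 5, 17], [12, 5, 17, 12, 17, 12, 5, 17, 12, 17, 12, 5, 17, 12, 17,
  12, 5, 17, 12, 17, 12, 5, 17, 12, 17, 12, 5, 17, 12, 17, 12, 5, 17, 12, 17], [12, 4, 19, 12, 4, 19, 12, 4, 19, 12,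
  4, 19, 12, 4, 19, 12, 4, 19, 12, 4, 19], [12, 4, 19, 12, 19, 12, 4, 19, 12, 19, 12, 4, 19, 12, 19, 12, 4, 19, 12,
  19, 12, 4, 19, 12, 19, 12, 4, 19, 12, 19, 12, 4, 19, 12, 19]]

def hints : List (ℕ × ℕ × ℕ × ℕ) := [(1, 0, 0, 0), (1, 0, 0, 0), (1, 0, 0, 0), (1, 0, 0, 0), (1, 0, 0, 0), (1, 0, 0,
  0), (1, 0, 0, 0), (1, 0, 0, 0), (1, 0, 0, 0), (1, 0, 0, 0), (1, 0, 0, 0), (1, 0, 0, 0), (1, 0, 0, 0), (1, 0, 0,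
  0), (1, 0, 0, 0), (1, 0, 0, 0), (1, 0, 0, 0), (1, 0, 0, 0), (1, 0, 0, 0), (1, 0, 0, 0), (1, 0, 0, 0), (1, 0, 0,
  0), (1, 0, 0, 0), (1, 0, 0, 0), (1, 0, 0, 0), (1, 0, 0, 0), (1, 0, 0, 0), (1, 0, 0, 0), (1, 0, 0, 0), (1, 0, 0,
  0), (1, 0, 0, 0), (1, 0, 0, 0), (1, 0, 0, 0), (1, 0, 0, 0), (1, 0, 0, 0), (1, 0, 0, 0), (1, 0, 0, 0), (1, 0, 0,
  0), (1, 0, 0, 0), (1, 0, 0, 0), (1, 0, 0, 0), (1, 0, 0, 0), (1, 0, 0, 0), (1, 0, 0, 0), (1, 0, 0, 0), (1, 0, 0,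
  0), (1, 0, 0, 0), (1, 0, 0, 0), (1, 0, 0, 0), (1, 0, 0, 0), (1, 0, 0, 0), (1, 0, 0, 0), (1, 0, 0, 0), (1, 0, 0,
  0), (1, 0, 0, 0), (1, 0, 0, 0), (1, 0, 0, 0), (1, 0, 0, 0), (1, 0, 0, 0), (1, 0, 0, 0), (1, 0, 0, 0), (1, 0, 0,
  0), (1, 0, 0, 0), (1, 0, 0, 0), (1, 0, 0, 0), (1, 0, 0, 0), (3, 0, 0, 0), (1, 1, 1, 0), (1, 1, 1, 0), (1, 1, 1,
  0), (1, 1, 1, 0), (1, 1, 1, 0), (1, 1, 1, 0), (1, 1, 1, 0), (1, 1, 1, 0), (2, 0, 1, 0), (3, 0, 0, 0), (1, 1, 1,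
  0), (1, 1, 1, 0), (1, 1, 1, 0), (1, 1, 1, 0), (1, 1, 1, 0), (1, 1, 1, 0), (1, 1, 1, 0), (1, 1, 1, 0), (2, 0, 1,
  0), (3, 0, 0, 0), (1, 1, 1, 0), (1, 1, 1, 0), (1, 1, 1, 0), (1, 1, 1, 0), (1, 1, 1, 0), (1, 1, 1, 0), (1, 1, 1,
  0), (1, 1, 1, 0), (2, 0, 1, 0), (3, 0, 0, 0), (1, 1, 1, 0), (1, 1, 1, 0), (1, 1, 1, 0), (1, 1, 1, 0), (1, 1, 1,
  0), (1, 1, 1, 0), (1, 1, 1, 0), (1, 1, 1, 0), (2, 0, 1, 0), (2, 0, 1, 0), (2, 0, 1, 0), (2, 0, 1, 0), (2, 0, 1,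
  0), (2, 0, 1, 0), (2, 0, 1, 0), (2, 1, 1, 0), (2, 1, 1, 0), (2, 1, 0, 0), (2, 1, 1, 0), (2, 1, 1, 0), (2, 1, 0,
  0), (2, 1, 1, 0), (2, 1, 1, 0), (2, 1, 0, 0), (2, 1, 1, 0), (2, 1, 1, 0), (2, 1, 0, 0), (1, 1, 1, 0), (1, 1, 1,
  0), (1, 1, 1, 0), (1, 1, 1, 0), (1, 1, 1, 0), (1, 1, 1, 0), (1, 1, 1, 0), (1, 1, 1, 0), (1, 1, 1, 0), (1, 1, 1,
  0), (1, 1, 1, 0), (4, 0, 0, 0), (5, 3, 7, 0), (5, 5, 7, 0), (5, 3, 7, 1), (5, 5, 7, 1), (5, 3, 7, 2), (5, 5, 7,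
  2), (5, 3, 7, 3), (5, 5, 7, 3)]

def sl : List (ℕ × ℕ) := [(1, 1), (2, 2), (4, 4), (8, 8), (16, 16), (32, 32), (64, 64), (128, 128), (256, 256),
  (512, 512), (1024, 1024), (2048, 2048)]

def L : List Lt := sL s1 sl ++ [⟨1, 0, 0, [], 1, []⟩, ⟨2, 0, 0, [8, 33, 17, 9, 29, 43, 134, 246], 3, [0, 521, 1033,
  1536, 4096, 4096, 4096, 4096]⟩, ⟨2, 0, 0, [9, 35, 21, 1, 13, 11, 198, 374], 3, [0, 520, 1032, 1536, 4096, 4096,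
  4096, 4096]⟩, ⟨2, 0, 0, [270, 99, 85, 313, 396, 394, 134, 496], 3, [0, 4096, 4096, 1536, 4096, 2831, 3343, 4096]⟩,
  ⟨2, 0, 0, [271, 97, 81, 305, 156, 170, 198, 112], 3, [0, 4096, 4096, 1536, 4096, 2830, 3342, 4096]⟩, ⟨2, 0, 0, [5,
  323, 1, 25, 13, 170, 263, 378], 3, [0, 516, 4096, 4096, 2048, 2564, 4096, 4096]⟩, ⟨2, 0, 0, [4, 321, 5, 17, 29,
  394, 71, 250], 3, [0, 517, 4096, 4096, 2048, 2565, 4096, 4096]⟩, ⟨2, 0, 0, [3, 1, 325, 41, 156, 11, 263, 380], 3,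
  [0, 4096, 1026, 4096, 2048, 4096, 3074, 4096]⟩, ⟨2, 0, 0, [2, 3, 321, 33, 396, 43, 71, 252], 3, [0, 4096, 1027,
  4096, 2048, 4096, 3075, 4096]⟩]

def YZ : List (List ℕ × List ℕ) := [([256, 1, 2, 4, 8, 16, 32, 512, 1024], [0, 1, 8, 9, 256, 257, 264, 265]), ([256,
  1, 2, 4, 8, 48, 80, 1536, 2560], [0, 1, 14, 15, 256, 257, 270, 271]), ([256, 1, 2, 4, 8, 16, 64, 512, 2048], [0,
  1, 4, 5, 256, 257, 260, 261]), ([256, 1, 2, 4, 8, 32, 64, 1024, 2048], [0, 1, 2, 3, 256, 257, 258, 259])]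

theorem ckR : ckA s1 L (ivOf ivl) YZ rels hints = true := by decide +kernel

variable {G : Type*} [Group G] [Finite G] {D : Set G} {Q : G → Subgroup G} {z : G}
variable {V : Type*} [AddCommGroup V] [Module (ZMod 2) V] [Finite V]
variable {F : Fr z (Q z) V} {E : V → Submodule (ZMod 2) V} {R : V → Subgroup (ofQuad F.q).Isom}
variable {c : ℕ → V}

theorem main (h : FC D Q z F E R c d81) : ∃ (ψ : ℕ → G) (t : G) (f : ℕ → G),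
    Env D Q F c s1 ψ t L (ivOf ivl) f ∧ (∀ r ∈ rels, ev f r = 1) ∧
    Q z ≤ gen f (List.range 21) ∧ R (c 1) ≤ F.img (gen f (List.range 21)) ∧
    R (c 128) ≤ F.img (gen f (List.range 21)) ∧
    ∃ v ∈ Q z, F.π v = c 1 ∧ ∃ t ∈ gen f (List.range 21), t ∈ Q v ∧ t ∉ C{z} := by
  have p1 := (h.cs.pt _ (List.mem_cons_self ..)).2
  have p2 := (h.cs.pt _ (List.mem_cons_of_mem _ (List.mem_cons_self ..))).2
  obtain ⟨ψ, t, sb⟩ := h.sit.sb1 h.mem h.vd h.lift h.cs.cd ((h.cs.memS 1 (by norm_num)).2 (by decide)) p1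
  have b : Bs D Q F c s1 ψ t := ⟨h.sit, h.mem, h.cs.cd, sb, by decide⟩
  obtain ⟨a0, o0, i0⟩ := b.exists_pair (pts_mem h) [4, 9, 4, 9] [8, 33, 17, 9, 29, 43, 134, 246] [9, 35, 21, 1, 13,
    11, 198, 374] [0, 521, 1033, 1536, 4096, 4096, 4096, 4096] [0, 520, 1032, 1536, 4096, 4096, 4096, 4096] 3 [(0,
    0), (513, 513), (1025, 1025), (1536, 1536)] (by decide +kernel)
  obtain ⟨a1, o1, i1⟩ := b.exists_pair (pts_mem h) [1, 12, 1, 12] [270, 99, 85, 313, 396, 394, 134, 496] [271, 97,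
    81, 305, 156, 170, 198, 112] [0, 4096, 4096, 1536, 4096, 2831, 3343, 4096] [0, 4096, 4096, 1536, 4096, 2830,
    3342, 4096] 3 [(0, 0), (1536, 1536), (2561, 2561), (3073, 3073)] (by decide +kernel)
  obtain ⟨a2, o2, i2⟩ := b.exists_pair (pts_mem h) [9, 2, 9, 2] [5, 323, 1, 25, 13, 170, 263, 378] [4, 321, 5, 17,
    29, 394, 71, 250] [0, 516, 4096, 4096, 2048, 2564, 4096, 4096] [0, 517, 4096, 4096, 2048, 2565, 4096, 4096] 3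
    [(0, 0), (513, 513), (2048, 2048), (2561, 2561)] (by decide +kernel)
  obtain ⟨a3, o3, i3⟩ := b.exists_pair (pts_mem h) [10, 1, 10, 1] [3, 1, 325, 41, 156, 11, 263, 380] [2, 3, 321, 33,
    396, 43, 71, 252] [0, 4096, 1026, 4096, 2048, 4096, 3074, 4096] [0, 4096, 1027, 4096, 2048, 4096, 3075, 4096] 3
    [(0, 0), (1025, 1025), (2048, 2048), (3073, 3073)] (by decide +kernel)
  have a : List.Forall₂ (OKL z s1 ψ t) L (sl.map (fun p => ψ p.1) ++ [t, a0, a0⁻¹, a1, a1⁻¹, a2, a2⁻¹, a3, a3⁻¹]) :=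
    List.rel_append (b.ok_sL sl (by decide +kernel)) (.cons b.okT (.cons o0 (.cons i0 (.cons o1 (.cons i1
      (.cons o2 (.cons i2 (.cons o3 (.cons i3 .nil)))))))))
  have e : Env D Q F c s1 ψ t L (ivOf ivl) _ := ⟨b, b.ok_get a, b.ivOK a ivl [13, 14, 15, 16, 17, 18, 19, 20]
    (by decide +kernel) (by
      simp only [List.forall_mem_cons, List.not_mem_nil, false_imp_iff, implies_true, and_true]
      exact ⟨rfl, (inv_inv _).symm, rfl, (inv_inv _).symm, rfl, (inv_inv _).symm, rfl, (inv_inv _).symm⟩)⟩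
  refine ⟨ψ, t, _, e, e.ckA_ok (fun p hp => ?_) ckR, e.Q_le (by decide +kernel),
    e.R_le p1 [[], [9], [10], [10, 9], [11], [11, 9], [11, 10], [11, 10, 9]] (by decide +kernel),
    e.R_le p2 [[], [18, 13, 11, 10], [20, 13, 11, 9], [20, 18, 10, 9], [15, 13, 11], [18, 15, 10], [20, 15, 9], [20,
      18, 15, 13, 11, 10, 9]] (by decide +kernel), e.ex_t (by decide +kernel)⟩
  simp only [YZ, List.mem_cons, List.not_mem_nil, or_false] at hp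
  rcases hp with rfl | rfl | rfl | rfl
  · exact b.cn h.vd h.cs.memS (B := [1, 2, 4, 8, 16, 32]) (bs := [64, 128]) (ws := [0]) (ms := [4, 8, 16, 32, 64,
      128, 2, 1]) (by decide +kernel)
  · exact b.cn h.vd h.cs.memS (B := [1, 2, 4, 8, 48, 80]) (bs := [16, 128]) (ws := [0]) (ms := [4, 8, 16, 32, 2, 66,
      130, 1]) (by decide +kernel)
  · exact b.cn h.vd h.cs.memS (B := [1, 2, 4, 8, 16, 64]) (bs := [32, 128]) (ws := [0]) (ms := [4, 8, 16, 32, 64, 2,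
      128, 1]) (by decide +kernel)
  · exact b.cn h.vd h.cs.memS (B := [1, 2, 4, 8, 32, 64]) (bs := [16, 128]) (ws := [0]) (ms := [4, 8, 16, 32, 2, 64,
      128, 1]) (by decide +kernel)

variable {ψ : ℕ → G} {t : G} {f : ℕ → G} (h : Env D Q F c s1 ψ t L (ivOf ivl) f)
include h

theorem low : ∀ i < 12, f i = ψ (2 ^ i) := fun i hi => by
  interval_cases i <;> exact ((h.ok _).k0 rfl).1

theorem tt : f 12 = t := (h.ok 12).k1 rfl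

/-- the odd letters `13 ≤ i ≤ 20` -/
theorem odd : ∀ i, 13 ≤ i → i < 21 → f i ∈ C{z} ∧ Ac ψ (f i) (L.getD i d0).M ∧ f i ^ 3 = 1 := fun i h1 h2 => by
  interval_cases i <;> exact ⟨((h.ok _).ac (by decide)).1, ((h.ok _).ac (by decide)).2, ((h.ok _).od rfl).2⟩

theorem ac1 : Ac ψ (f 13) [8, 33, 17, 9, 29, 43, 134, 246] := (odd h 13 (by norm_num) (by norm_num)).2.1
theorem ac2 : Ac ψ (f 15) [270, 99, 85, 313, 396, 394, 134, 496] := (odd h 15 (by norm_num) (by norm_num)).2.1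
theorem ac3 : Ac ψ (f 17) [5, 323, 1, 25, 13, 170, 263, 378] := (odd h 17 (by norm_num) (by norm_num)).2.1
theorem ac4 : Ac ψ (f 19) [3, 1, 325, 41, 156, 11, 263, 380] := (odd h 19 (by norm_num) (by norm_num)).2.1

end Z81
end ZR
end H13
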