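import Mathlib
import Cfsg.Agent.H13.ZR81
import Cfsg.Agent.H6.XZ81b

/-!
S1763, case 81: the extra relators.
-/

set_option autoImplicit false
set_option linter.unusedSectionVars false
set_option linter.unusedVariables false

namespace H13
namespace ZR
namespace Z81

open Subgroup H24 H15 H15.XP Module H6.XS H6.XS.ZA H29

def w : List ℕ := [0, 1, 2, 3, 4, 7, 12, 1, 2, 3, 0, 1, 2, 3, 4, 7, 13, 8, 11, 18, 0, 8, 10, 0, 1, 2, 3, 4, 7, 12, 1, 2, 3, 0, 1, 2, 3, 4, 7]

def b1 : List ℕ := [15, 19, 0, 8, 9, 20, 16]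

def b2 : List ℕ := [20, 16, 0, 8, 9, 15, 19]

def aux : List (List ℕ) := [w ++ ([13, 18] ++ (w ++ [17, 14])), w ++ ([0, 2, 3] ++ (w ++ [0, 2, 3])),
  w ++ ([13, 17] ++ (w ++ [13, 17])), w ++ ([8] ++ (w ++ [9, 8, 0])), w ++ w]

def xr (x y : List ℕ) : List ℕ := (x ++ (w ++ (y ++ w))) ++ (x ++ (w ++ (y ++ w)))

def extra : List (List ℕ) := [xr b1 b1, xr b1 b2, xr b2 b1, xr b2 b2]

variable {G : Type*} [Group G] [Finite G] {D : Set G} {Q : G → Subgroup G} {z : G}
variable {V : Type*} [AddCommGroup V] [Module (ZMod 2) V] [Finite V]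
variable {F : Fr z (Q z) V} {E : V → Submodule (ZMod 2) V} {R : V → Subgroup (ofQuad F.q).Isom}
variable {c : ℕ → V} {ψ : ℕ → G} {t : G} {f : ℕ → G}

theorem extra_ok [IsSimpleGroup G] (h : FC D Q z F E R c d81) (e : Env D Q F c s1 ψ t L (ivOf ivl) f)
    (hr : ∀ r ∈ rels, ev f r = 1) (ha : ∀ r ∈ aux, ev f r = 1) : ∀ r ∈ extra, ev f r = 1 := by
  simp only [aux, List.forall_mem_cons, ev_append] at ha
  obtain ⟨x0, x1, x2, x3, x4, -⟩ := ha
  have wi : (ev f w)⁻¹ = ev f w := inv_eq_of_mul_eq_one_right x4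
  have i1 : f 14 = (f 13)⁻¹ := e.iv 13
  have i2 : f 16 = (f 15)⁻¹ := e.iv 15
  have i3 : f 18 = (f 17)⁻¹ := e.iv 17
  have i4 : f 20 = (f 19)⁻¹ := e.iv 19
  have cm : ∀ i j, [i, j, ivOf ivl i, ivOf ivl j] ∈ rels → Commute (f i) (f j) := fun i j m => by
    have := hr _ m
    simp only [ev_cons, ev_nil, e.iv i, e.iv j, mul_one] at this
    exact commutatorElement_eq_one_iff_commute.1 (by rw [commutatorElement_def, ← this]; group)
  have c21 := cm 15 13 (by decide +kernel)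
  have c31 := cm 17 13 (by decide +kernel)
  have c32 := cm 17 15 (by decide +kernel)
  have c41 := cm 19 13 (by decide +kernel)
  have c43 := cm 19 17 (by decide +kernel)
  have ex : ev f [0, 2, 3] = ψ 13 := e.cw_ok [0, 2, 3] (by decide +kernel)
  have ea : ev f [0, 8, 9] = ψ 769 := e.cw_ok [0, 8, 9] (by decide +kernel)
  have ea' : ev f [9, 8, 0] = ψ 769 := e.cw_ok [9, 8, 0] (by decide +kernel)
  have aa : (ψ 769)⁻¹ = ψ 769 := e.inv_eq (by norm_num) (by norm_num) (by decide +kernel)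
  have xx : (ψ 13)⁻¹ = ψ 13 := e.inv_eq (by norm_num) (by norm_num) (by decide +kernel)
  obtain ⟨m1, a1⟩ := e.act_ok [13, 18] (by decide +kernel)
  obtain ⟨m2, a2⟩ := e.act_ok [13, 17] (by decide +kernel)
  obtain ⟨m3, a3⟩ := e.act_ok [15, 19] (by decide +kernel)
  obtain ⟨m4, a4⟩ := e.act_ok [0, 8, 9] (by decide +kernel)
  have k := fun b b' => h.key81 (τ := ⟨_, m1⟩) (σ := ⟨_, m2⟩) (r := ⟨_, m3⟩) (a := ⟨_, m4⟩) (x := ψ 13)
    (a1.rp e.cd e.sb.lf m1) (by
      have := (odd e 13 (by norm_num) (by norm_num)).2.2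
      have := (odd e 17 (by norm_num) (by norm_num)).2.2
      simp [c31.symm.inv_right.mul_pow, *]) (e.sb.lf.mem 13 (by norm_num)) (e.sb.lf.pi 13 (by norm_num))
    (a2.rp e.cd e.sb.lf m2) (a3.rp e.cd e.sb.lf m3) (a4.rp e.cd e.sb.lf m4) (w := ev f w) (b := b) (b' := b')
    ⟨mem_C1.2 (by
      simp only [ev_cons, ev_nil, mul_one, i3]
      exact ((Commute.refl _).mul_right c31.symm.inv_right).mul_left (c31.mul_right (Commute.refl _).inv_right)),
      mem_C1_iff_conj.2 (e.chase_ok [13, 17] (b := 13) (by decide +kernel)).2⟩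
    ⟨mem_C1.2 (by
      simp only [ev_cons, ev_nil, mul_one, i3]
      exact (c21.mul_right c32.symm.inv_right).mul_left (c41.mul_right c43.inv_right)),
      mem_C1_iff_conj.2 (e.chase_ok [15, 19] (b := 13) (by decide +kernel)).2⟩
    ⟨mem_C1_iff_conj.2 (by
      simp only [ev_cons, ev_nil, mul_one, i1, i3] at x0 ⊢
      rw [wi, ← mul_inv_eq_one, ← x0]; group),
      mem_C1_iff_conj.2 (by rw [ex] at x1; rw [wi, ← mul_inv_eq_one, xx, ← x1]; group)⟩
    (by
      simp only [ev_cons, ev_nil, mul_one]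
      exact (c21.mul_right c32.symm).mul_left (c41.mul_right c43))
    (by rw [wi, eq_inv_iff_mul_eq_one, ← x2]; group)
    (by
      rw [ea', ev_cons, ev_nil, low e 8 (by norm_num), show 2 ^ 8 = 256 from rfl, e.sb.lf.zz] at x3
      simp only []
      rw [wi, ea, ← aa, eq_inv_iff_mul_eq_one, ← x3]; group)
  have e1 : ev f b1 = ev f [15, 19] * ev f [0, 8, 9] * (ev f [15, 19])⁻¹ := by
    simp only [b1, ev_cons, ev_nil, i2, i4]
    rw [mul_inv_rev]; group
  have e2 : ev f b2 = (ev f [15, 19])⁻¹ * ev f [0, 8, 9] * ev f [15, 19] := by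
    simp only [b2, ev_cons, ev_nil, i2, i4]
    rw [mul_inv_rev]; group
  have a0 : ψ 769 * ψ 769 = 1 := by nth_rw 1 [← aa]; exact inv_mul_cancel _
  have q1 : ev f b1 * ev f b1 = 1 := by rw [e1, ea, conj_mul, a0]; group
  have q2 : ev f b2 * ev f b2 = 1 := by
    rw [e2, ea]
    calc _ = (ev f [15, 19])⁻¹ * (ψ 769 * ψ 769) * ev f [15, 19] := by group
      _ = 1 := by rw [a0]; group
  have fin : ∀ x y, ev f x * ev f x = 1 → ev f y * ev f y = 1 →
      ev f x * (ev f w * ev f y * (ev f w)⁻¹) = ev f w * ev f y * (ev f w)⁻¹ * ev f x → ev f (xr x y) = 1 := by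
    intro x y hx hy k
    simp only [xr, ev_append]
    nth_rw 2 4 [← wi]
    calc _ = (ev f x * (ev f w * ev f y * (ev f w)⁻¹)) * (ev f x * (ev f w * ev f y * (ev f w)⁻¹)) := by group
      _ = ev f w * ev f y * (ev f w)⁻¹ * (ev f x * ev f x) * (ev f w * ev f y * (ev f w)⁻¹) := by
        nth_rw 1 [k]; group
      _ = 1 := by rw [hx, mul_one, conj_mul, hy]; group
  simp only [extra, List.forall_mem_cons]
  exact ⟨fin _ _ q1 q1 (k _ _ (.inl e1) (.inl e1)), fin _ _ q1 q2 (k _ _ (.inl e1) (.inr e2)),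
    fin _ _ q2 q1 (k _ _ (.inr e2) (.inl e1)), fin _ _ q2 q2 (k _ _ (.inr e2) (.inr e2)), by simp⟩

end Z81
end ZR
end H13
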