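import Mathlib
import Cfsg.Agent.H13.ZR4
import Cfsg.Agent.H6.XZA

/-!
S1763, case 9: the relations of the presentation `P9` hold.
-/

set_option autoImplicit false
set_option linter.unusedSectionVars false
set_option linter.unusedVariables false

namespace H13
namespace ZR
namespace Z9

open Subgroup H24 H15 H15.XP Module H6.XS H6.XS.ZA H29

def ivl : List ℕ := [0, 1, 2, 3, 4, 5, 6, 7, 8, 13, 14, 15, 12, 9, 10, 11, 17, 16, 19, 18]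

def rels : List (List ℕ) := [[1, 0, 1, 0], [2, 0, 2, 0], [2, 1, 2, 1], [3, 0, 3, 0], [3, 1, 3, 1], [3, 2, 3, 2], [4,
  0, 4, 0], [4, 1, 4, 8, 1], [4, 2, 4, 2], [4, 3, 4, 3], [5, 0, 5, 0], [5, 1, 5, 1], [5, 2, 5, 8, 2], [5, 3, 5, 3],
  [5, 4, 5, 4], [6, 0, 6, 0], [6, 1, 6, 1], [6, 2, 6, 2], [6, 3, 6, 8, 3], [6, 4, 6, 4], [6, 5, 6, 5], [7, 0, 7, 8,
  0], [7, 1, 7, 1], [7, 2, 7, 2], [7, 3, 7, 3], [7, 4, 7, 4], [7, 5, 7, 5], [7, 6, 7, 6], [8, 0, 8, 0], [8, 1, 8,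
  1], [8, 2, 8, 2], [8, 3, 8, 3], [8, 4, 8, 4], [8, 5, 8, 5], [8, 6, 8, 6], [8, 7, 8, 7], [9, 9, 0], [9, 0, 13, 0],
  [9, 1, 13, 1, 0], [9, 2, 13, 2], [9, 3, 13, 3], [9, 4, 13, 4, 0], [9, 5, 13, 5, 3], [9, 6, 13, 6, 2], [9, 7, 13,
  7, 4, 1, 0], [9, 8, 13, 8], [10, 10, 0], [10, 0, 14, 0], [10, 1, 14, 1], [10, 2, 14, 2, 0], [10, 3, 14, 3], [10,
  4, 14, 4, 3, 0], [10, 5, 14, 5, 0], [10, 6, 14, 6, 1], [10, 7, 14, 7, 5, 2, 1, 0], [10, 8, 14, 8], [10, 9, 14, 13,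
  0], [11, 11, 0], [11, 0, 15, 0], [11, 1, 15, 1], [11, 2, 15, 2], [11, 3, 15, 3, 0], [11, 4, 15, 4, 2, 0], [11, 5,
  15, 5, 1, 0], [11, 6, 15, 6, 0], [11, 7, 15, 7, 6, 3, 2, 1, 0], [11, 8, 15, 8], [11, 9, 15, 13, 0], [11, 10, 15,
  14, 0], [12, 0, 12, 0], [12, 1, 12, 1], [12, 2, 12, 2], [12, 3, 12, 3], [12, 4, 12, 13, 8, 4, 3, 2], [12, 5, 12,
  14, 8, 5, 3, 1], [12, 6, 12, 15, 8, 6, 2, 1], [12, 8, 12, 8, 0], [12, 9, 12, 13], [12, 10, 12, 14], [12, 11, 12,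
  15], [7, 12, 7, 12, 7, 12, 3, 2, 1], [16, 16, 16, 16, 16, 16, 16], [16, 0, 17, 0], [16, 1, 17, 3, 1, 0], [16, 2,
  17, 3, 2, 1, 0], [16, 3, 17, 2, 1], [16, 4, 17, 5, 4], [16, 5, 17, 6, 5, 4, 2, 1, 0], [16, 6, 17, 6, 4, 3, 2, 1,
  0], [16, 7, 17, 7, 6, 3, 2, 1, 0], [16, 8, 17, 8], [16, 9, 17, 14, 13, 8, 2, 1, 0], [16, 10, 17, 15, 14, 13, 1,
  0], [16, 11, 17, 15, 13, 8, 3, 1], [16, 12, 1, 2, 3, 17, 3, 2, 1, 12], [18, 18, 18], [18, 0, 19, 8, 7, 6, 5, 3, 1,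
  0], [18, 1, 19, 7, 6, 4, 2], [18, 2, 19, 7, 5, 4, 3, 1, 0], [18, 3, 19, 8, 7, 6], [18, 4, 19, 8, 6, 4, 3, 1, 0],
  [18, 5, 19, 7, 6, 4, 3, 2, 0], [18, 6, 19, 3, 2, 1], [18, 7, 19, 7, 6, 4, 3, 0], [18, 8, 19, 8], [13, 18, 9, 1,
  18, 1], [18, 13, 16, 9, 19, 1, 2, 4, 6, 16, 6, 4, 2, 1]]

def hints : List (ℕ × ℕ × ℕ × ℕ) := [(1, 0, 0, 0), (1, 0, 0, 0), (1, 0, 0, 0), (1, 0, 0, 0), (1, 0, 0, 0), (1, 0, 0,
  0), (1, 0, 0, 0), (1, 0, 0, 0), (1, 0, 0, 0), (1, 0, 0, 0), (1, 0, 0, 0), (1, 0, 0, 0), (1, 0, 0, 0), (1, 0, 0,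
  0), (1, 0, 0, 0), (1, 0, 0, 0), (1, 0, 0, 0), (1, 0, 0, 0), (1, 0, 0, 0), (1, 0, 0, 0), (1, 0, 0, 0), (1, 0, 0,
  0), (1, 0, 0, 0), (1, 0, 0, 0), (1, 0, 0, 0), (1, 0, 0, 0), (1, 0, 0, 0), (1, 0, 0, 0), (1, 0, 0, 0), (1, 0, 0,
  0), (1, 0, 0, 0), (1, 0, 0, 0), (1, 0, 0, 0), (1, 0, 0, 0), (1, 0, 0, 0), (1, 0, 0, 0), (1, 0, 0, 0), (1, 0, 0,
  0), (1, 0, 0, 0), (1, 0, 0, 0), (1, 0, 0, 0), (1, 0, 0, 0), (1, 0, 0, 0), (1, 0, 0, 0), (1, 0, 0, 0), (1, 0, 0,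
  0), (1, 0, 0, 0), (1, 0, 0, 0), (1, 0, 0, 0), (1, 0, 0, 0), (1, 0, 0, 0), (1, 0, 0, 0), (1, 0, 0, 0), (1, 0, 0,
  0), (1, 0, 0, 0), (1, 0, 0, 0), (1, 0, 0, 0), (1, 0, 0, 0), (1, 0, 0, 0), (1, 0, 0, 0), (1, 0, 0, 0), (1, 0, 0,
  0), (1, 0, 0, 0), (1, 0, 0, 0), (1, 0, 0, 0), (1, 0, 0, 0), (1, 0, 0, 0), (1, 0, 0, 0), (1, 0, 0, 0), (1, 1, 1,
  0), (1, 1, 1, 0), (1, 1, 1, 0), (1, 1, 1, 0), (1, 1, 1, 0), (1, 1, 1, 0), (1, 1, 1, 0), (1, 1, 1, 0), (1, 1, 1,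
  0), (1, 1, 1, 0), (1, 1, 1, 0), (4, 0, 0, 0), (3, 0, 0, 0), (2, 0, 1, 0), (1, 1, 1, 0), (1, 1, 1, 0), (1, 1, 1,
  0), (1, 1, 1, 0), (1, 1, 1, 0), (1, 1, 1, 0), (1, 1, 1, 0), (2, 0, 1, 0), (1, 1, 1, 0), (1, 1, 1, 0), (1, 1, 1,
  0), (6, 16, 4, 0), (3, 0, 0, 0), (1, 1, 1, 0), (1, 1, 1, 0), (1, 1, 1, 0), (1, 1, 1, 0), (1, 1, 1, 0), (1, 1, 1,
  0), (1, 1, 1, 0), (1, 1, 1, 0), (2, 0, 1, 0), (2, 1, 1, 0), (2, 2, 4, 0)]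

def sl : List (ℕ × ℕ) := [(1, 1), (2, 2), (4, 4), (8, 8), (16, 16), (32, 32), (64, 64), (128, 128), (256, 256),
  (512, 513), (1024, 1025), (2048, 2049)]

def sl2 : List (ℕ × ℕ) := [(513, 512), (1025, 1024), (2049, 2048)]

def L : List Lt := sL s7 sl ++ lT :: (sL s7 sl2 ++ [⟨2, 0, 0, [1, 11, 15, 6, 48, 119, 95, 207], 7, [0, 1799, 3587,
  2308, 2826, 3084, 1289, 527]⟩, ⟨2, 0, 0, [1, 14, 6, 13, 381, 365, 57, 445], 7, [0, 3588, 3340, 777, 1798, 2307,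
  2571, 1039]⟩, ⟨2, 0, 0, [491, 212, 187, 448, 347, 221, 14, 217], 3, [0, 4096, 4096, 4096, 4096, 4096, 4096,
  4096]⟩, ⟨2, 0, 0, [245, 311, 160, 471, 426, 28, 175, 423], 3, [0, 4096, 4096, 4096, 4096, 4096, 4096, 4096]⟩])

def YZ : List (List ℕ × List ℕ) := [([256, 1, 2, 4, 8, 16, 32, 64], [0, 1, 256, 257])]

theorem ckR : ckB s7 L (ivOf ivl) YZ rels hints = true := by decide +kernel

variable {G : Type*} [Group G] [Finite G] {D : Set G} {Q : G → Subgroup G} {z : G}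
variable {V : Type*} [AddCommGroup V] [Module (ZMod 2) V] [Finite V]
variable {F : Fr z (Q z) V} {E : V → Submodule (ZMod 2) V} {R : V → Subgroup (ofQuad F.q).Isom}
variable {c : ℕ → V}

theorem main (h : FC D Q z F E R c d9) : ∃ (ψ : ℕ → G) (t : G) (f : ℕ → G),
    Env D Q F c s7 ψ t L (ivOf ivl) f ∧ (∀ r ∈ rels, ev f r = 1) ∧
    Q z ≤ gen f (List.range 20) ∧ R (c 1) ≤ F.img (gen f (List.range 20)) ∧
    R (c 128) ≤ F.img (gen f (List.range 20)) ∧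
    ∃ v ∈ Q z, F.π v = c 1 ∧ ∃ t ∈ gen f (List.range 20), t ∈ Q v ∧ t ∉ C{z} := by
  have p1 := (h.cs.pt _ (List.mem_cons_self ..)).2
  have p2 := (h.cs.pt _ (List.mem_cons_of_mem _ (List.mem_cons_self ..))).2
  obtain ⟨ψ, t, sb⟩ := h.sit.sb7 h.mem h.vd h.lift h.cs.cd ((h.cs.memS 1 (by norm_num)).2 (by decide)) p1
  have b : Bs D Q F c s7 ψ t := ⟨h.sit, h.mem, h.cs.cd, sb, by decide⟩
  obtain ⟨a0, c0, m0, e0⟩ := b.exists_odd (pts_mem h) [13, 2, 14] [1, 11, 15, 6, 48, 119, 95, 207] 7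
    (by decide +kernel)
  have o0 := b.sigma h.vd h.cs.memS (N := [1, 14, 6, 13, 381, 365, 57, 445]) (W := [0, 1799, 3587, 2308, 2826, 3084,
    1289, 527]) c0 m0 e0 513 1025 2049 1543 1542 3587 3586 2570 2571 [] [2, 28, 12, 26, 250, 218, 114, 1]
    (by decide +kernel)
  have i0 := b.ok_inv (N := [1, 14, 6, 13, 381, 365, 57, 445]) (W' := [0, 3588, 3340, 777, 1798, 2307, 2571, 1039])
    o0 (by decide +kernel)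
  obtain ⟨a1, o1, i1⟩ := b.exists_pair (pts_mem h) [7, 9, 6] [491, 212, 187, 448, 347, 221, 14, 217] [245, 311, 160,
    471, 426, 28, 175, 423] [0, 4096, 4096, 4096, 4096, 4096, 4096, 4096] [0, 4096, 4096, 4096, 4096, 4096, 4096,
    4096] 3 [(0, 0)] (by decide +kernel)
  have a : List.Forall₂ (OKL z s7 ψ t) L (sl.map (fun p => ψ p.1) ++ t :: (sl2.map (fun p => ψ p.1) ++
      [a0, a0⁻¹, a1, a1⁻¹])) :=
    List.rel_append (b.ok_sL sl (by decide +kernel)) (.cons b.okT (List.rel_append (b.ok_sL sl2 (by decide +kernel))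
      (.cons o0 (.cons i0 (.cons o1 (.cons i1 .nil))))))
  have e : Env D Q F c s7 ψ t L (ivOf ivl) _ := ⟨b, b.ok_get a, b.ivOK a ivl [16, 17, 18, 19]
    (by decide +kernel) (by
      simp only [List.forall_mem_cons, List.not_mem_nil, false_imp_iff, implies_true, and_true]
      exact ⟨rfl, (inv_inv _).symm, rfl, (inv_inv _).symm⟩)⟩
  refine ⟨ψ, t, _, e, e.ckB_ok (fun p hp => ?_) ckR, e.Q_le (by decide +kernel),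
    e.R_le p1 [[], [9], [10], [10, 9], [11], [11, 9], [11, 10], [11, 10, 9]] (by decide +kernel),
    e.R_le p2 [[], [16, 10, 18, 16], [17, 19, 10, 18, 9], [16, 18, 9], [16, 11, 16, 18, 11], [17, 11, 18, 10], [19,
      16, 16, 9], [17, 17, 19, 16, 10]] (by decide +kernel), e.ex_t (by decide +kernel)⟩
  simp only [YZ, List.mem_cons, List.not_mem_nil, or_false] at hp
  rcases hp with rfl
  · exact b.cn h.vd h.cs.memS (B := [1, 2, 4, 8, 16, 32, 64]) (bs := [128]) (ws := [0]) (ms := [2, 4, 8, 16, 32, 64,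
      128, 1]) (by decide +kernel)

variable {ψ : ℕ → G} {t : G} {f : ℕ → G} (h : Env D Q F c s7 ψ t L (ivOf ivl) f)
include h

theorem low : ∀ i < 12, f i = ψ (2 ^ i) := fun i hi => by
  interval_cases i <;> exact ((h.ok _).k0 rfl).1

theorem tt : f 12 = t := (h.ok 12).k1 rfl

theorem od16 : f 16 ∈ C{z} ∧ Ac ψ (f 16) [1, 11, 15, 6, 48, 119, 95, 207] ∧ f 16 ^ 7 = 1 :=
  ⟨((h.ok 16).ac (by decide)).1, ((h.ok 16).ac (by decide)).2, ((h.ok 16).od rfl).2⟩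

theorem od18 : f 18 ∈ C{z} ∧ Ac ψ (f 18) [491, 212, 187, 448, 347, 221, 14, 217] ∧ f 18 ^ 3 = 1 :=
  ⟨((h.ok 18).ac (by decide)).1, ((h.ok 18).ac (by decide)).2, ((h.ok 18).od rfl).2⟩

end Z9
end ZR
end H13
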